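import Cfsg.Agent.Lib.Characters.Decomp

/-!
# Generalized characters and norm criteria
-/

set_option autoImplicit false
set_option linter.style.haveILetI false

namespace CfsgLib.Characters

open Cfsg Representation
open scoped ComplexConjugate

variable {G : Type*} [Group G]

theorem isGeneralizedCharacter_of_isCharacter {χ : G → ℂ} (h : IsCharacter G χ) :
    IsGeneralizedCharacter G χ :=
  ⟨χ, 0, h, isCharacter_zero, (sub_zero χ).symm⟩

theorem isGeneralizedCharacter_zero : IsGeneralizedCharacter G (0 : G → ℂ) :=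
  isGeneralizedCharacter_of_isCharacter isCharacter_zero

theorem isGeneralizedCharacter_irr (χ : IrrCharacter G) :
    IsGeneralizedCharacter G (χ : G → ℂ) :=
  isGeneralizedCharacter_of_isCharacter (irr_isCharacter χ)

theorem isGeneralizedCharacter_one : IsGeneralizedCharacter G (1 : G → ℂ) :=
  isGeneralizedCharacter_of_isCharacter isCharacter_one

theorem isClassFunction_of_isGeneralizedCharacter {θ : G → ℂ}
    (h : IsGeneralizedCharacter G θ) : IsClassFunction G θ := by
  obtain ⟨a, b, ha, hb, rfl⟩ := h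
  exact isClassFunction_sub (isClassFunction_of_isCharacter ha) (isClassFunction_of_isCharacter hb)

theorem isGeneralizedCharacter_add {θ η : G → ℂ} (h : IsGeneralizedCharacter G θ)
    (h' : IsGeneralizedCharacter G η) : IsGeneralizedCharacter G (θ + η) := by
  obtain ⟨a, b, ha, hb, rfl⟩ := h
  obtain ⟨c, d, hc, hd, rfl⟩ := h'
  exact ⟨a + c, b + d, isCharacter_add ha hc, isCharacter_add hb hd, by abel⟩

theorem isGeneralizedCharacter_neg {θ : G → ℂ} (h : IsGeneralizedCharacter G θ) :
    IsGeneralizedCharacter G (-θ) := by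
  obtain ⟨a, b, ha, hb, rfl⟩ := h
  exact ⟨b, a, hb, ha, neg_sub a b⟩

theorem isGeneralizedCharacter_sub {θ η : G → ℂ} (h : IsGeneralizedCharacter G θ)
    (h' : IsGeneralizedCharacter G η) : IsGeneralizedCharacter G (θ - η) := by
  rw [sub_eq_add_neg]
  exact isGeneralizedCharacter_add h (isGeneralizedCharacter_neg h')

theorem isGeneralizedCharacter_sum {ι : Type*} (s : Finset ι) {f : ι → G → ℂ}
    (h : ∀ i ∈ s, IsGeneralizedCharacter G (f i)) :
    IsGeneralizedCharacter G (∑ i ∈ s, f i) :=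
  Finset.sum_induction f _ (fun _ _ => isGeneralizedCharacter_add) isGeneralizedCharacter_zero h

theorem isGeneralizedCharacter_zsmul {θ : G → ℂ} (h : IsGeneralizedCharacter G θ) (z : ℤ) :
    IsGeneralizedCharacter G (z • θ) := by
  induction z using Int.induction_on with
  | zero => simpa using isGeneralizedCharacter_zero
  | succ n ih => rw [add_zsmul, one_zsmul]; exact isGeneralizedCharacter_add ih h
  | pred n ih => rw [sub_zsmul, one_zsmul]; exact isGeneralizedCharacter_sub ih h

theorem isGeneralizedCharacter_intCast_smul {θ : G → ℂ} (h : IsGeneralizedCharacter G θ) (z : ℤ) :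
    IsGeneralizedCharacter G ((z : ℂ) • θ) := by
  rw [Int.cast_smul_eq_zsmul]
  exact isGeneralizedCharacter_zsmul h z

theorem isGeneralizedCharacter_natCast_smul {θ : G → ℂ} (h : IsGeneralizedCharacter G θ) (n : ℕ) :
    IsGeneralizedCharacter G ((n : ℂ) • θ) := by
  exact_mod_cast isGeneralizedCharacter_intCast_smul h (n : ℤ)

theorem isGeneralizedCharacter_mul {θ η : G → ℂ} (h : IsGeneralizedCharacter G θ)
    (h' : IsGeneralizedCharacter G η) : IsGeneralizedCharacter G (θ * η) := by
  obtain ⟨a, b, ha, hb, rfl⟩ := h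
  obtain ⟨c, d, hc, hd, rfl⟩ := h'
  exact ⟨a * c + b * d, a * d + b * c, isCharacter_add (isCharacter_mul ha hc) (isCharacter_mul hb hd),
    isCharacter_add (isCharacter_mul ha hd) (isCharacter_mul hb hc), by ring⟩

theorem isGeneralizedCharacter_pow {θ : G → ℂ} (h : IsGeneralizedCharacter G θ) (n : ℕ) :
    IsGeneralizedCharacter G (θ ^ n) := by
  induction n with
  | zero => simpa using isGeneralizedCharacter_one
  | succ n ih => rw [pow_succ]; exact isGeneralizedCharacter_mul ih h

theorem isGeneralizedCharacter_apply_inv [Finite G] {θ : G → ℂ}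
    (h : IsGeneralizedCharacter G θ) (g : G) : θ g⁻¹ = conj (θ g) := by
  obtain ⟨a, b, ha, hb, rfl⟩ := h
  simp [char_apply_inv ha, char_apply_inv hb]

theorem isGeneralizedCharacter_conj [Finite G] {θ : G → ℂ} (h : IsGeneralizedCharacter G θ) :
    IsGeneralizedCharacter G (fun g => conj (θ g)) := by
  obtain ⟨a, b, ha, hb, rfl⟩ := h
  exact ⟨_, _, isCharacter_conj ha, isCharacter_conj hb, funext fun g => by simp⟩

theorem exists_degree_generalized {θ : G → ℂ} (h : IsGeneralizedCharacter G θ) :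
    ∃ z : ℤ, θ 1 = z := by
  obtain ⟨a, b, ha, hb, rfl⟩ := h
  obtain ⟨m, hm⟩ := exists_degree ha
  obtain ⟨n, hn⟩ := exists_degree hb
  exact ⟨(m : ℤ) - n, by simp [hm, hn]⟩

theorem isCharacter_natCast_smul {χ : G → ℂ} (h : IsCharacter G χ) (n : ℕ) :
    IsCharacter G ((n : ℂ) • χ) := by
  rw [Nat.cast_smul_eq_nsmul]
  exact isCharacter_nsmul h n

section
variable [Fintype G]

theorem isCharacter_iff {φ : G → ℂ} :
    IsCharacter G φ ↔ IsClassFunction G φ ∧
      ∀ χ : IrrCharacter G, ∃ n : ℕ, classInner φ (χ : G → ℂ) = n := by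
  refine ⟨fun h => ⟨isClassFunction_of_isCharacter h,
    fun χ => classInner_char_nat h (irr_isCharacter χ)⟩, fun ⟨h, hn⟩ => ?_⟩
  choose m hm using hn
  rw [classFunction_eq_sum h]
  exact isCharacter_sum _ fun χ _ => hm χ ▸ isCharacter_natCast_smul (irr_isCharacter χ) _

theorem classInner_generalized_int {θ η : G → ℂ} (hθ : IsGeneralizedCharacter G θ)
    (hη : IsGeneralizedCharacter G η) : ∃ z : ℤ, classInner θ η = z := by
  obtain ⟨a, b, ha, hb, rfl⟩ := hθ
  obtain ⟨c, d, hc, hd, rfl⟩ := hη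
  obtain ⟨n1, h1⟩ := classInner_char_nat ha hc
  obtain ⟨n2, h2⟩ := classInner_char_nat hb hc
  obtain ⟨n3, h3⟩ := classInner_char_nat ha hd
  obtain ⟨n4, h4⟩ := classInner_char_nat hb hd
  exact ⟨(n1 : ℤ) - n2 - (n3 - n4), by
    simp [classInner_sub_left, classInner_sub_right, h1, h2, h3, h4]⟩

theorem isGeneralizedCharacter_iff {φ : G → ℂ} :
    IsGeneralizedCharacter G φ ↔ IsClassFunction G φ ∧
      ∀ χ : IrrCharacter G, ∃ z : ℤ, classInner φ (χ : G → ℂ) = z := by
  refine ⟨fun h => ⟨isClassFunction_of_isGeneralizedCharacter h,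
    fun χ => classInner_generalized_int h (isGeneralizedCharacter_irr χ)⟩, fun ⟨h, hn⟩ => ?_⟩
  choose m hm using hn
  rw [classFunction_eq_sum h]
  exact isGeneralizedCharacter_sum _ fun χ _ =>
    hm χ ▸ isGeneralizedCharacter_intCast_smul (isGeneralizedCharacter_irr χ) _

/-- The norm of a class function with integral coefficients. -/
theorem classInner_self_eq_sum_sq {φ : G → ℂ} (hφ : IsClassFunction G φ)
    {m : IrrCharacter G → ℤ} (hm : ∀ χ : IrrCharacter G, classInner φ (χ : G → ℂ) = m χ) :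
    classInner φ φ = ((∑ χ, m χ ^ 2 : ℤ) : ℂ) := by
  rw [classInner_eq_sum_mul hφ]
  push_cast
  exact Finset.sum_congr rfl fun χ _ => by rw [hm, map_intCast, sq]

/-- A generalized character of norm one is, up to sign, irreducible. -/
theorem eq_irr_or_neg_of_classInner_self_eq_one {θ : G → ℂ} (h : IsGeneralizedCharacter G θ)
    (h1 : classInner θ θ = 1) :
    ∃ χ : IrrCharacter G, θ = (χ : G → ℂ) ∨ θ = -(χ : G → ℂ) := by
  classical
  have hc := isClassFunction_of_isGeneralizedCharacter h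
  choose m hm using (isGeneralizedCharacter_iff.mp h).2
  rw [classInner_self_eq_sum_sq hc hm] at h1
  have h1' : ∑ χ, m χ ^ 2 = 1 := by exact_mod_cast h1
  obtain ⟨χ, hχ⟩ : ∃ χ, m χ ≠ 0 := by
    by_contra! hz
    simp [hz] at h1'
  have hsplit := Finset.add_sum_erase Finset.univ (fun ψ => m ψ ^ 2) (Finset.mem_univ χ)
  rw [h1'] at hsplit
  have hpos : 0 < m χ ^ 2 := by positivity
  have hnn : 0 ≤ ∑ ψ ∈ Finset.univ.erase χ, m ψ ^ 2 := Finset.sum_nonneg fun ψ _ => sq_nonneg _
  have hsq : m χ ^ 2 = 1 := by linarith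
  have hrest : ∀ ψ, ψ ≠ χ → m ψ = 0 := by
    intro ψ hψ
    have := (Finset.sum_eq_zero_iff_of_nonneg fun ψ _ => sq_nonneg (m ψ)).mp
      (by linarith : ∑ ψ ∈ Finset.univ.erase χ, m ψ ^ 2 = 0) ψ (by simp [hψ])
    exact eq_zero_of_pow_eq_zero this
  have hθ : θ = (m χ : ℂ) • (χ : G → ℂ) := by
    conv_lhs => rw [classFunction_eq_sum hc]
    rw [Finset.sum_eq_single χ (fun ψ _ hψ => by rw [hm, hrest ψ hψ]; simp) (by simp), hm]
  refine ⟨χ, ?_⟩
  rcases sq_eq_one_iff.mp hsq with h2 | h2
  · left; simp [hθ, h2]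
  · right; simp [hθ, h2]

/-- A generalized character of norm one and non-negative degree is irreducible. -/
theorem isIrrCharacter_of_generalized_norm_one {θ : G → ℂ} (h : IsGeneralizedCharacter G θ)
    (h1 : classInner θ θ = 1) (hd : 0 ≤ (θ 1).re) : IsIrrCharacter G θ := by
  obtain ⟨χ, hχ | hχ⟩ := eq_irr_or_neg_of_classInner_self_eq_one h h1
  · exact hχ ▸ χ.2
  · exfalso
    obtain ⟨n, hn, hn'⟩ := irr_exists_degree χ.2
    rw [hχ, Pi.neg_apply, hn', Complex.neg_re, Complex.natCast_re] at hd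
    have : (0 : ℝ) < n := by exact_mod_cast hn
    linarith

theorem isIrrCharacter_iff_classInner_self {χ : G → ℂ} (h : IsCharacter G χ) :
    IsIrrCharacter G χ ↔ classInner χ χ = 1 := by
  refine ⟨classInner_irr_self, fun h1 => ?_⟩
  obtain ⟨n, hn⟩ := exists_degree h
  exact isIrrCharacter_of_generalized_norm_one (isGeneralizedCharacter_of_isCharacter h) h1
    (by simp [hn])

end

end CfsgLib.Characters
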