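import Cfsg.Prelude.Def_Characters
import Mathlib.Data.Matrix.Composition
import Mathlib.LinearAlgebra.Matrix.Reindex
import Mathlib.LinearAlgebra.Trace
import Mathlib.GroupTheory.GroupAction.Quotient

/-!
# Induced class functions and induced characters

Elementary theory of `Cfsg.indFun`: linearity, value formulas, Frobenius reciprocity,
transitivity, the projection formula, and the fact that induced characters are characters.
-/

set_option autoImplicit false

noncomputable section

namespace CfsgLib.Induction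

open scoped ComplexConjugate

universe u

/-! ### Characters from matrix representations -/

section Matrix

variable {G : Type u} [Group G]

/-- The trace function of a matrix representation is a character. -/
theorem isCharacter_of_matrix {ι : Type*} [Fintype ι] [DecidableEq ι]
    (R : G →* Matrix ι ι ℂ) : Cfsg.IsCharacter G (fun g => (R g).trace) := by
  classical
  let e := Fintype.equivFin ι
  refine ⟨Fintype.card ι, ((Matrix.reindexAlgEquiv ℂ ℂ e).trans
      Matrix.toLinAlgEquiv').toAlgHom.toMonoidHom.comp R, ?_⟩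
  funext g
  show LinearMap.trace ℂ (Fin (Fintype.card ι) → ℂ)
      (Matrix.toLin' (Matrix.reindex e e (R g))) = _
  rw [Matrix.trace_toLin'_eq]
  simp only [Matrix.trace, Matrix.reindex_apply, Matrix.submatrix_apply, Matrix.diag]
  exact Equiv.sum_comp e.symm (fun i => R g i i)

/-- A character is the trace function of a matrix representation. -/
theorem exists_matrix_of_isCharacter {χ : G → ℂ} (h : Cfsg.IsCharacter G χ) :
    ∃ (n : ℕ) (R : G →* Matrix (Fin n) (Fin n) ℂ), χ = fun g => (R g).trace := by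
  obtain ⟨n, ρ, rfl⟩ := h
  refine ⟨n, (LinearMap.toMatrixAlgEquiv' : _ ≃ₐ[ℂ] _).toAlgHom.toMonoidHom.comp ρ, ?_⟩
  funext g
  exact LinearMap.trace_eq_matrix_trace ℂ (Pi.basisFun ℂ (Fin n)) (ρ g)

/-- A homomorphism to the multiplicative monoid of complex numbers is a character. -/
theorem isCharacter_monoidHom (f : G →* ℂ) : Cfsg.IsCharacter G f := by
  have := isCharacter_of_matrix
    ((Matrix.scalar (Fin 1) : ℂ →+* Matrix (Fin 1) (Fin 1) ℂ).toMonoidHom.comp f)
  simpa [Matrix.trace] using this

/-- The constant function `1` is a character. -/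
theorem isCharacter_const_one : Cfsg.IsCharacter G (fun _ => (1 : ℂ)) :=
  isCharacter_monoidHom (1 : G →* ℂ)

/-- Characters are class functions. -/
theorem isClassFunction_of_isCharacter {χ : G → ℂ} (h : Cfsg.IsCharacter G χ) :
    Cfsg.IsClassFunction G χ := by
  obtain ⟨n, ρ, rfl⟩ := h
  exact fun g x => Representation.char_conj ρ g x

end Matrix

/-! ### Extension by zero -/

section Ext

variable {G : Type u} [Group G] (H : Subgroup G)

theorem extendByZero_mem (θ : H → ℂ) {g : G} (hg : g ∈ H) :
    Cfsg.extendByZero H θ g = θ ⟨g, hg⟩ :=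
  Subtype.val_injective.extend_apply θ 0 (⟨g, hg⟩ : H)

@[simp] theorem extendByZero_coe (θ : H → ℂ) (h : H) :
    Cfsg.extendByZero H θ (h : G) = θ h :=
  extendByZero_mem H θ h.2

theorem extendByZero_notMem (θ : H → ℂ) {g : G} (hg : g ∉ H) :
    Cfsg.extendByZero H θ g = 0 :=
  Function.extend_apply' _ _ _ (by rintro ⟨a, rfl⟩; exact hg a.2)

theorem extendByZero_conj {θ : H → ℂ} (hθ : Cfsg.IsClassFunction H θ) (h : H) (g : G) :
    Cfsg.extendByZero H θ ((h : G) * g * (h : G)⁻¹) = Cfsg.extendByZero H θ g := by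
  by_cases hg : g ∈ H
  · rw [extendByZero_mem H θ hg, extendByZero_mem H θ (H.mul_mem (H.mul_mem h.2 hg) (H.inv_mem h.2))]
    exact hθ ⟨g, hg⟩ h
  · rw [extendByZero_notMem H θ hg, extendByZero_notMem H θ]
    rwa [Subgroup.mul_mem_cancel_right H (H.inv_mem h.2), Subgroup.mul_mem_cancel_left H h.2]

theorem extendByZero_add (θ φ : H → ℂ) (g : G) :
    Cfsg.extendByZero H (θ + φ) g = Cfsg.extendByZero H θ g + Cfsg.extendByZero H φ g := by
  by_cases hg : g ∈ H
  · simp [extendByZero_mem H _ hg]
  · simp [extendByZero_notMem H _ hg]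

theorem extendByZero_smul (c : ℂ) (θ : H → ℂ) (g : G) :
    Cfsg.extendByZero H (c • θ) g = c * Cfsg.extendByZero H θ g := by
  by_cases hg : g ∈ H
  · simp [extendByZero_mem H _ hg]
  · simp [extendByZero_notMem H _ hg]

/-- Sum of an extended function against any function. -/
theorem sum_extendByZero_mul [Fintype G] [Fintype H] (θ : H → ℂ) (f : G → ℂ) :
    ∑ g : G, Cfsg.extendByZero H θ g * f g = ∑ h : H, θ h * f h := by
  classical
  rw [← Finset.sum_subset (Finset.subset_univ
    ((Finset.univ : Finset H).map (Function.Embedding.subtype _)))]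
  · rw [Finset.sum_map]
    exact Finset.sum_congr rfl fun h _ => by
      rw [Function.Embedding.subtype_apply, extendByZero_coe]
  · intro g _ hg
    rw [extendByZero_notMem H θ (fun h => hg (Finset.mem_map.2 ⟨⟨g, h⟩, Finset.mem_univ _, rfl⟩)),
      zero_mul]

end Ext

/-! ### Induced functions -/

section Ind

variable {G : Type u} [Group G] [Fintype G] (H : Subgroup G)

theorem indFun_apply (θ : H → ℂ) (g : G) :
    Cfsg.indFun H θ g =
      (Nat.card H : ℂ)⁻¹ * ∑ x : G, Cfsg.extendByZero H θ (x⁻¹ * g * x) := rfl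

theorem natCard_ne_zero' {X : Type*} [Nonempty X] [Finite X] : (Nat.card X : ℂ) ≠ 0 :=
  Nat.cast_ne_zero.2 Nat.card_pos.ne'

theorem indFun_add (θ φ : H → ℂ) :
    Cfsg.indFun H (θ + φ) = Cfsg.indFun H θ + Cfsg.indFun H φ := by
  funext g
  simp [indFun_apply, extendByZero_add, Finset.sum_add_distrib, mul_add]

theorem indFun_smul (c : ℂ) (θ : H → ℂ) :
    Cfsg.indFun H (c • θ) = c • Cfsg.indFun H θ := by
  funext g
  simp [indFun_apply, extendByZero_smul, ← Finset.mul_sum]
  ring

/-- Induction as a linear map. -/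
def indLinear : (H → ℂ) →ₗ[ℂ] (G → ℂ) where
  toFun := Cfsg.indFun H
  map_add' := indFun_add H
  map_smul' := indFun_smul H

@[simp] theorem indLinear_apply (θ : H → ℂ) : indLinear H θ = Cfsg.indFun H θ := rfl

@[simp] theorem indFun_zero : Cfsg.indFun H (0 : H → ℂ) = 0 := map_zero (indLinear H)

theorem indFun_sub (θ φ : H → ℂ) :
    Cfsg.indFun H (θ - φ) = Cfsg.indFun H θ - Cfsg.indFun H φ := map_sub (indLinear H) θ φ

theorem indFun_sum {ι : Type*} (s : Finset ι) (θ : ι → H → ℂ) :
    Cfsg.indFun H (∑ i ∈ s, θ i) = ∑ i ∈ s, Cfsg.indFun H (θ i) := map_sum (indLinear H) θ s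

/-- Induced functions are class functions. -/
theorem isClassFunction_indFun (θ : H → ℂ) : Cfsg.IsClassFunction G (Cfsg.indFun H θ) := by
  intro g h
  rw [indFun_apply, indFun_apply]
  congr 1
  rw [← Equiv.sum_comp (Equiv.mulLeft h)]
  exact Finset.sum_congr rfl fun x _ => by congr 1; simp only [Equiv.coe_mulLeft]; group

/-- Value at the identity. -/
theorem indFun_one_apply (θ : H → ℂ) : Cfsg.indFun H θ 1 = (H.index : ℂ) * θ 1 := by
  rw [indFun_apply]
  simp only [mul_one, inv_mul_cancel]
  rw [extendByZero_mem H θ H.one_mem]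
  rw [Finset.sum_const, Finset.card_univ, nsmul_eq_mul, ← Nat.card_eq_fintype_card,
    ← H.card_mul_index]
  have := natCard_ne_zero' (X := H)
  push_cast
  field_simp
  rfl

/-- The induced function vanishes at elements having no conjugate in `H`. -/
theorem indFun_eq_zero_of_forall {θ : H → ℂ} {g : G} (hg : ∀ x : G, x⁻¹ * g * x ∉ H) :
    Cfsg.indFun H θ g = 0 := by
  rw [indFun_apply]
  simp [extendByZero_notMem H θ (hg _)]

/-- Outside a normal subgroup an induced function vanishes. -/
theorem indFun_normal_eq_zero [H.Normal] {θ : H → ℂ} {g : G} (hg : g ∉ H) :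
    Cfsg.indFun H θ g = 0 :=
  indFun_eq_zero_of_forall H fun x hx => hg (by
    have := (inferInstance : H.Normal).conj_mem _ hx x
    simpa [mul_assoc] using this)

/-- Restriction to a normal subgroup of an induced function. -/
theorem indFun_normal_apply [hH : H.Normal] (θ : H → ℂ) (n : H) :
    Cfsg.indFun H θ n =
      (Nat.card H : ℂ)⁻¹ * ∑ x : G, θ ⟨x * n * x⁻¹, hH.conj_mem (n : G) n.2 x⟩ := by
  rw [indFun_apply, ← Equiv.sum_comp (Equiv.inv G)]
  congr 1
  refine Finset.sum_congr rfl fun x _ => ?_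
  rw [Equiv.inv_apply, inv_inv, extendByZero_mem H θ (hH.conj_mem (n : G) n.2 x)]

/-- Value of an induced class function as a sum over cosets. -/
theorem indFun_eq_sum_quotient [Fintype (G ⧸ H)] {θ : H → ℂ} (hθ : Cfsg.IsClassFunction H θ)
    (g : G) : Cfsg.indFun H θ g =
      ∑ q : G ⧸ H, Cfsg.extendByZero H θ (q.out⁻¹ * g * q.out) := by
  classical
  rw [indFun_apply]
  have key : ∀ x : G, Cfsg.extendByZero H θ (x⁻¹ * g * x) =
      Cfsg.extendByZero H θ ((QuotientGroup.mk x : G ⧸ H).out⁻¹ * g *
        (QuotientGroup.mk x : G ⧸ H).out) := by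
    intro x
    obtain ⟨h, hh⟩ := QuotientGroup.mk_out_eq_mul H x
    rw [hh, ← extendByZero_conj H hθ h⁻¹]
    congr 1
    simp only [Subgroup.coe_inv, mul_inv_rev, inv_inv]
    group
  rw [Finset.sum_congr rfl fun x _ => key x]
  rw [← Finset.sum_fiberwise (Finset.univ : Finset G) (fun x => (QuotientGroup.mk x : G ⧸ H))
      (fun x => Cfsg.extendByZero H θ ((QuotientGroup.mk x : G ⧸ H).out⁻¹ * g *
        (QuotientGroup.mk x : G ⧸ H).out)), Finset.mul_sum]
  refine Finset.sum_congr rfl fun q _ => ?_
  rw [Finset.sum_congr rfl (fun x hx => by rw [(Finset.mem_filter.1 hx).2]),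
    Finset.sum_const, nsmul_eq_mul, ← mul_assoc]
  have hcard : (Finset.univ.filter fun x : G => (QuotientGroup.mk x : G ⧸ H) = q).card =
      Nat.card H := by
    let e : {x : G // (QuotientGroup.mk x : G ⧸ H) = q} ≃ H :=
      { toFun := fun x => ⟨q.out⁻¹ * x, QuotientGroup.eq.1 (by rw [QuotientGroup.out_eq', x.2])⟩
        invFun := fun h => ⟨q.out * h, by simp [QuotientGroup.mk_mul_of_mem _ h.2]⟩
        left_inv := fun x => by simp
        right_inv := fun h => by simp }
    rw [← Nat.card_congr e, Nat.card_eq_fintype_card, ← Fintype.card_subtype]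
  rw [hcard, inv_mul_cancel₀ natCard_ne_zero', one_mul]

/-- The projection formula. -/
theorem indFun_mul {ψ : G → ℂ} (hψ : Cfsg.IsClassFunction G ψ) (θ : H → ℂ) :
    Cfsg.indFun H θ * ψ = Cfsg.indFun H (fun h => θ h * ψ h) := by
  funext g
  rw [Pi.mul_apply, indFun_apply, indFun_apply, mul_assoc, Finset.sum_mul]
  congr 1
  refine Finset.sum_congr rfl fun x _ => ?_
  by_cases hx : x⁻¹ * g * x ∈ H
  · rw [extendByZero_mem H _ hx, extendByZero_mem H _ hx]
    congr 1
    simpa using (hψ g x⁻¹).symm
  · rw [extendByZero_notMem H _ hx, extendByZero_notMem H _ hx, zero_mul]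

/-- Sum of an induced function against a class function. -/
theorem sum_indFun_mul [Fintype H] (θ : H → ℂ) {f : G → ℂ} (hf : Cfsg.IsClassFunction G f) :
    (Nat.card G : ℂ)⁻¹ * ∑ g : G, Cfsg.indFun H θ g * f g =
      (Nat.card H : ℂ)⁻¹ * ∑ h : H, θ h * f h := by
  simp_rw [indFun_apply, mul_assoc, ← Finset.mul_sum, Finset.sum_mul]
  rw [Finset.sum_comm]
  have key : ∀ x : G, ∑ g : G, Cfsg.extendByZero H θ (x⁻¹ * (g * x)) * f g =
      ∑ h : H, θ h * f h := by
    intro x
    rw [← sum_extendByZero_mul H θ f, ← Equiv.sum_comp (MulAut.conj x).toEquiv]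
    refine Finset.sum_congr rfl fun y _ => ?_
    simp only [MulEquiv.toEquiv_eq_coe, EquivLike.coe_coe, MulAut.conj_apply]
    rw [hf y x]
    congr 2
    group
  rw [Finset.sum_congr rfl fun x _ => key x, Finset.sum_const, Finset.card_univ, nsmul_eq_mul,
    ← Nat.card_eq_fintype_card]
  have := natCard_ne_zero' (X := G)
  field_simp

/-- **Frobenius reciprocity**. -/
theorem classInner_indFun [Fintype H] (θ : H → ℂ) {ψ : G → ℂ}
    (hψ : Cfsg.IsClassFunction G ψ) :
    Cfsg.classInner (Cfsg.indFun H θ) ψ = Cfsg.classInner θ (fun h : H => ψ h) :=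
  sum_indFun_mul H θ (f := fun g => conj (ψ g)) fun g x => by simp only [hψ g x]

theorem classInner_swap {X : Type u} [Group X] [Fintype X] (φ ψ : X → ℂ) :
    Cfsg.classInner φ ψ = conj (Cfsg.classInner ψ φ) := by
  simp [Cfsg.classInner, map_sum, mul_comm]

/-- **Frobenius reciprocity**, induced function in the second slot. -/
theorem classInner_indFun_right [Fintype H] (θ : H → ℂ) {ψ : G → ℂ}
    (hψ : Cfsg.IsClassFunction G ψ) :
    Cfsg.classInner ψ (Cfsg.indFun H θ) = Cfsg.classInner (fun h : H => ψ h) θ := by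
  rw [classInner_swap, classInner_indFun H θ hψ, ← classInner_swap]

theorem indFun_conj_apply (θ : H → ℂ) (g : G) :
    Cfsg.indFun H (fun h => conj (θ h)) g = conj (Cfsg.indFun H θ g) := by
  rw [indFun_apply, indFun_apply, map_mul, map_inv₀, map_natCast, map_sum]
  congr 1
  refine Finset.sum_congr rfl fun x _ => ?_
  by_cases hx : x⁻¹ * g * x ∈ H
  · rw [extendByZero_mem H _ hx, extendByZero_mem H _ hx]
  · rw [extendByZero_notMem H _ hx, extendByZero_notMem H _ hx, map_zero]

end Ind

/-! ### Induced characters are characters -/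

section IndChar

variable {G : Type u} [Group G] (H : Subgroup G)

/-- Extension by zero of a matrix representation of a subgroup. -/
def extendRep {n : ℕ} (R : H →* Matrix (Fin n) (Fin n) ℂ) (x : G) : Matrix (Fin n) (Fin n) ℂ :=
  haveI := Classical.propDecidable (x ∈ H)
  if h : x ∈ H then R ⟨x, h⟩ else 0

theorem extendRep_mem {n : ℕ} (R : H →* Matrix (Fin n) (Fin n) ℂ) {x : G} (h : x ∈ H) :
    extendRep H R x = R ⟨x, h⟩ := by
  simp [extendRep, h]

theorem extendRep_notMem {n : ℕ} (R : H →* Matrix (Fin n) (Fin n) ℂ) {x : G} (h : x ∉ H) :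
    extendRep H R x = 0 := by
  simp [extendRep, h]

theorem extendRep_mul {n : ℕ} (R : H →* Matrix (Fin n) (Fin n) ℂ) (x : G) {y : G} (hy : y ∈ H) :
    extendRep H R x * extendRep H R y = extendRep H R (x * y) := by
  by_cases hx : x ∈ H
  · rw [extendRep_mem H R hx, extendRep_mem H R hy, extendRep_mem H R (H.mul_mem hx hy), ← map_mul]
    rfl
  · rw [extendRep_notMem H R hx,
      extendRep_notMem H R (fun h => hx ((Subgroup.mul_mem_cancel_right H hy).1 h)), zero_mul]

variable [Fintype (G ⧸ H)] [DecidableEq (G ⧸ H)]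

/-- The induced matrix representation, as a block matrix. -/
def indRep {n : ℕ} (R : H →* Matrix (Fin n) (Fin n) ℂ) :
    G →* Matrix (G ⧸ H) (G ⧸ H) (Matrix (Fin n) (Fin n) ℂ) where
  toFun g := Matrix.of fun a b => extendRep H R (a.out⁻¹ * g * b.out)
  map_one' := by
    refine Matrix.ext fun a b => ?_
    simp only [Matrix.of_apply, mul_one]
    by_cases hab : a = b
    · subst hab
      rw [Matrix.one_apply_eq, inv_mul_cancel, extendRep_mem H R H.one_mem]
      exact map_one R
    · rw [Matrix.one_apply_ne hab, extendRep_notMem H R]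
      intro h
      exact hab (by simpa using QuotientGroup.eq.2 h)
  map_mul' g g' := by
    refine Matrix.ext fun a b => ?_
    simp only [Matrix.of_apply, Matrix.mul_apply]
    rw [Finset.sum_eq_single (QuotientGroup.mk (g' * b.out) : G ⧸ H)]
    · have hy : (QuotientGroup.mk (g' * b.out) : G ⧸ H).out⁻¹ * g' * b.out ∈ H := by
        rw [mul_assoc, ← QuotientGroup.eq, QuotientGroup.out_eq']
      rw [extendRep_mul H R _ hy]
      congr 1
      group
    · intro c _ hc
      rw [extendRep_notMem H R (x := c.out⁻¹ * g' * b.out), mul_zero]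
      intro h
      apply hc
      rw [mul_assoc, ← QuotientGroup.eq, QuotientGroup.out_eq'] at h
      exact h
    · exact fun h => absurd (Finset.mem_univ _) h

end IndChar

/-- **Induced characters are characters.** -/
theorem isCharacter_indFun {G : Type u} [Group G] [Fintype G] (H : Subgroup G) {θ : H → ℂ}
    (hθ : Cfsg.IsCharacter H θ) : Cfsg.IsCharacter G (Cfsg.indFun H θ) := by
  classical
  have : Fintype (G ⧸ H) := Fintype.ofFinite _
  obtain ⟨n, R, hR⟩ := exists_matrix_of_isCharacter hθ
  have h := isCharacter_of_matrix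
    ((Matrix.compRingEquiv (G ⧸ H) (Fin n) ℂ).toRingHom.toMonoidHom.comp (indRep H R))
  convert h using 1
  funext g
  rw [indFun_eq_sum_quotient H (isClassFunction_of_isCharacter hθ) g]
  show _ = Matrix.trace (Matrix.comp _ _ _ _ ℂ (indRep H R g))
  simp only [Matrix.trace, Matrix.diag, Matrix.comp_apply, Fintype.sum_prod_type]
  refine Finset.sum_congr rfl fun q _ => ?_
  simp only [indRep, MonoidHom.coe_mk, OneHom.coe_mk, Matrix.of_apply]
  by_cases hq : q.out⁻¹ * g * q.out ∈ H
  · rw [extendByZero_mem H θ hq, extendRep_mem H R hq, hR]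
    rfl
  · rw [extendByZero_notMem H θ hq, extendRep_notMem H R hq]
    simp

/-! ### Transitivity and conjugation -/

section Trans

variable {G : Type u} [Group G] [Fintype G]

/-- Transitivity of induction. -/
theorem indFun_trans {H K : Subgroup G} (hHK : H ≤ K) [Fintype K] (θ : H → ℂ) :
    Cfsg.indFun K (Cfsg.indFun (H.subgroupOf K) (fun h => θ ⟨((h : K) : G), h.2⟩)) =
      Cfsg.indFun H θ := by
  funext g
  set θ' : H.subgroupOf K → ℂ := fun h => θ ⟨((h : K) : G), h.2⟩ with hθ'
  have hcard : Nat.card (H.subgroupOf K) = Nat.card H :=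
    Nat.card_congr (Subgroup.subgroupOfEquivOfLe hHK).toEquiv
  have key : ∀ y : G, Cfsg.extendByZero K (Cfsg.indFun (H.subgroupOf K) θ') y =
      (Nat.card H : ℂ)⁻¹ * ∑ k : K, Cfsg.extendByZero H θ ((k : G)⁻¹ * y * k) := by
    intro y
    by_cases hy : y ∈ K
    · rw [extendByZero_mem K _ hy, indFun_apply, hcard]
      congr 1
      refine Finset.sum_congr rfl fun k _ => ?_
      by_cases hk : (k : G)⁻¹ * y * k ∈ H
      · rw [extendByZero_mem H θ hk, extendByZero_mem (H.subgroupOf K) θ'
          (g := k⁻¹ * ⟨y, hy⟩ * k) (Subgroup.mem_subgroupOf.2 hk)]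
        rfl
      · rw [extendByZero_notMem H θ hk, extendByZero_notMem (H.subgroupOf K) θ']
        exact fun h => hk (Subgroup.mem_subgroupOf.1 h)
    · rw [extendByZero_notMem K _ hy, Finset.sum_eq_zero, mul_zero]
      intro k _
      refine extendByZero_notMem H θ fun h => hy ?_
      have := K.mul_mem (K.mul_mem k.2 (hHK h)) (K.inv_mem k.2)
      simpa [mul_assoc] using this
  rw [indFun_apply, indFun_apply]
  simp only [key, ← Finset.mul_sum]
  rw [Finset.sum_comm]
  have key2 : ∀ k : K, ∑ x : G, Cfsg.extendByZero H θ ((k : G)⁻¹ * (x⁻¹ * g * x) * k) =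
      ∑ x : G, Cfsg.extendByZero H θ (x⁻¹ * g * x) := by
    intro k
    rw [← Equiv.sum_comp (Equiv.mulRight (k : G)) (fun x => Cfsg.extendByZero H θ (x⁻¹ * g * x))]
    refine Finset.sum_congr rfl fun x _ => ?_
    congr 1
    simp only [Equiv.coe_mulRight]
    group
  rw [Finset.sum_congr rfl fun k _ => key2 k, Finset.sum_const, Finset.card_univ, nsmul_eq_mul,
    ← Nat.card_eq_fintype_card]
  have := natCard_ne_zero' (X := K)
  field_simp

/-- Inducing a conjugate function from a conjugate subgroup. -/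
theorem indFun_map_conj (H : Subgroup G) (a : G) (θ : H → ℂ) :
    Cfsg.indFun (H.map (MulAut.conj a).toMonoidHom)
      (fun y => Cfsg.extendByZero H θ (a⁻¹ * y * a)) = Cfsg.indFun H θ := by
  funext g
  have hcard : Nat.card (H.map (MulAut.conj a).toMonoidHom) = Nat.card H :=
    (Nat.card_congr (Subgroup.equivMapOfInjective H _ (MulAut.conj a).injective).toEquiv).symm
  rw [indFun_apply, indFun_apply, hcard]
  congr 1
  rw [← Equiv.sum_comp (Equiv.mulRight a) (fun x => Cfsg.extendByZero H θ (x⁻¹ * g * x))]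
  refine Finset.sum_congr rfl fun x _ => ?_
  simp only [Equiv.coe_mulRight]
  by_cases hx : x⁻¹ * g * x ∈ H.map (MulAut.conj a).toMonoidHom
  · rw [extendByZero_mem _ _ hx]
    congr 1
    group
  · rw [extendByZero_notMem _ _ hx, extendByZero_notMem H θ]
    intro h
    apply hx
    exact ⟨_, h, by simp [mul_assoc]⟩

end Trans

end CfsgLib.Induction
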