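import Cfsg.Agent.Lib.Characters.Decomp
import Mathlib.LinearAlgebra.Eigenspace.Semisimple
import Mathlib.FieldTheory.Separable
import Mathlib.RingTheory.IntegralClosure.IsIntegralClosure.Basic
import Mathlib.RingTheory.IntegralClosure.IntegrallyClosed
import Mathlib.RingTheory.Polynomial.RationalRoot

/-!
# Character values: eigenvalues, bounds, integrality, central characters
-/

set_option autoImplicit false
set_option linter.style.haveILetI false

namespace CfsgLib.Characters

open Cfsg Representation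
open scoped ComplexConjugate

variable {G : Type*} [Group G]
variable {V : Type*} [AddCommGroup V] [Module ℂ V]

/-- A basis of eigenvectors of `ρ g`, with roots of unity as eigenvalues. -/
theorem exists_eigenbasis [Finite G] [FiniteDimensional ℂ V] (ρ : Representation ℂ G V) (g : G) :
    ∃ (b : Module.Basis (Fin (Module.finrank ℂ V)) ℂ V) (ω : Fin (Module.finrank ℂ V) → ℂ),
      (∀ i, ω i ^ orderOf g = 1) ∧ ∀ i, ρ g (b i) = ω i • b i := by
  classical
  have hpow : (ρ g) ^ orderOf g = 1 := by rw [← map_pow, pow_orderOf_eq_one, map_one]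
  have hne : ((orderOf g : ℕ) : ℂ) ≠ 0 := Nat.cast_ne_zero.mpr (orderOf_pos g).ne'
  have hss : Module.End.IsSemisimple (ρ g) :=
    Module.End.isSemisimple_of_squarefree_aeval_eq_zero
      (Polynomial.X_pow_sub_one_separable_iff.mpr hne).squarefree (by simp [hpow])
  let s : Set V := {v | ∃ μ : ℂ, ρ g v = μ • v}
  have hs : Submodule.span ℂ s = ⊤ := by
    refine top_unique (hss.iSup_eigenspace_eq_top.symm.le.trans (iSup_le fun μ v hv => ?_))
    exact Submodule.subset_span ⟨μ, Module.End.mem_eigenspace_iff.mp hv⟩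
  obtain ⟨t, hts, hspan, hli⟩ := exists_linearIndependent ℂ s
  let b₀ : Module.Basis t ℂ V :=
    Module.Basis.mk hli (by rw [Subtype.range_coe_subtype, Set.ofPred_mem_eq, hspan, hs])
  haveI : Fintype t := FiniteDimensional.fintypeBasisIndex b₀
  let e : t ≃ Fin (Module.finrank ℂ V) :=
    Fintype.equivFinOfCardEq (Module.finrank_eq_card_basis b₀).symm
  let b := b₀.reindex e
  have hb : ∀ i, b i ∈ s := fun i => by
    simp only [b, b₀, Module.Basis.reindex_apply, Module.Basis.coe_mk]
    exact hts (e.symm i).2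
  choose ω hω using hb
  refine ⟨b, ω, fun i => ?_, hω⟩
  have key : ∀ k : ℕ, ((ρ g) ^ k) (b i) = ω i ^ k • b i := by
    intro k
    induction k with
    | zero => simp
    | succ k ih => rw [pow_succ', Module.End.mul_apply, ih, map_smul, hω, smul_smul, pow_succ]
  have h := key (orderOf g)
  rw [hpow, Module.End.one_apply] at h
  exact smul_left_injective ℂ (b.ne_zero i) (h.symm.trans (one_smul ℂ (b i)).symm)

theorem character_eq_sum_of_eigenbasis {ι : Type*} [Fintype ι] (ρ : Representation ℂ G V) (g : G)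
    (b : Module.Basis ι ℂ V) (ω : ι → ℂ) (h : ∀ i, ρ g (b i) = ω i • b i) :
    ρ.character g = ∑ i, ω i := by
  classical
  rw [Representation.character, LinearMap.trace_eq_matrix_trace ℂ b, Matrix.trace]
  simp [Matrix.diag, LinearMap.toMatrix_apply, h]

/-- A character value is a sum of roots of unity. -/
theorem exists_eigenvalues [Finite G] [FiniteDimensional ℂ V] (ρ : Representation ℂ G V) (g : G) :
    ∃ ω : Fin (Module.finrank ℂ V) → ℂ,
      (∀ i, ω i ^ orderOf g = 1) ∧ (∀ i, ‖ω i‖ = 1) ∧ ρ.character g = ∑ i, ω i := by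
  obtain ⟨b, ω, h1, h2⟩ := exists_eigenbasis ρ g
  exact ⟨ω, h1, fun i => Complex.norm_eq_one_of_pow_eq_one (h1 i) (orderOf_pos g).ne',
    character_eq_sum_of_eigenbasis ρ g b ω h2⟩

theorem norm_char_le [Finite G] [FiniteDimensional ℂ V] (ρ : Representation ℂ G V) (g : G) :
    ‖ρ.character g‖ ≤ (Module.finrank ℂ V : ℝ) := by
  obtain ⟨ω, _, h2, h3⟩ := exists_eigenvalues ρ g
  rw [h3]
  exact (norm_sum_le _ _).trans (by simp [h2])

/-- Unimodular numbers whose sum has maximal modulus are all equal. -/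
theorem eq_of_norm_sum_eq {n : ℕ} (ω : Fin n → ℂ) (h1 : ∀ i, ‖ω i‖ = 1)
    (h2 : ‖∑ i, ω i‖ = n) (i : Fin n) : (n : ℂ) * ω i = ∑ j, ω j := by
  set S := ∑ j, ω j with hS
  have hq : ∀ j, Complex.normSq (ω j) = 1 := fun j => by
    rw [Complex.normSq_eq_norm_sq, h1, one_pow]
  have hqS : Complex.normSq S = (n : ℝ) ^ 2 := by rw [Complex.normSq_eq_norm_sq, h2]
  have hterm : ∀ j, Complex.normSq ((n : ℂ) * ω j - S) =
      2 * (n : ℝ) ^ 2 - 2 * n * (ω j * conj S).re := by
    intro j
    rw [Complex.normSq_sub, Complex.normSq_mul, Complex.normSq_natCast, hq, hqS, mul_assoc,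
      Complex.mul_re]
    simp
    ring
  have hsum : ∑ j, (ω j * conj S).re = (n : ℝ) ^ 2 := by
    rw [← Complex.re_sum, ← Finset.sum_mul, ← hS, Complex.mul_conj, Complex.ofReal_re, hqS]
  have h0 : ∑ j, Complex.normSq ((n : ℂ) * ω j - S) = 0 := by
    simp only [hterm, Finset.sum_sub_distrib, ← Finset.mul_sum, hsum]
    simp
    ring
  rw [Finset.sum_eq_zero_iff_of_nonneg fun j _ => Complex.normSq_nonneg _] at h0
  exact sub_eq_zero.mp (Complex.normSq_eq_zero.mp (h0 i (Finset.mem_univ i)))

theorem norm_char_eq_iff_scalar [Finite G] [FiniteDimensional ℂ V] (ρ : Representation ℂ G V)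
    (g : G) : ‖ρ.character g‖ = (Module.finrank ℂ V : ℝ) ↔
      ∃ ω : ℂ, ρ g = ω • (LinearMap.id : V →ₗ[ℂ] V) := by
  obtain ⟨b, ω, h1, h2⟩ := exists_eigenbasis ρ g
  have hn : ∀ i, ‖ω i‖ = 1 := fun i =>
    Complex.norm_eq_one_of_pow_eq_one (h1 i) (orderOf_pos g).ne'
  have hc := character_eq_sum_of_eigenbasis ρ g b ω h2
  constructor
  · intro h
    refine ⟨(∑ i, ω i) / (Module.finrank ℂ V : ℂ), b.ext fun i => ?_⟩
    have he := eq_of_norm_sum_eq ω hn (by rw [← hc, h]) i
    have hne : (Module.finrank ℂ V : ℂ) ≠ 0 := Nat.cast_ne_zero.mpr i.pos.ne'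
    rw [h2, LinearMap.smul_apply, LinearMap.id_apply, ← he, mul_div_cancel_left₀ _ hne]
  · rintro ⟨c, hcc⟩
    have heq : ∀ i, ω i = c := fun i => by
      have := h2 i
      rw [hcc, LinearMap.smul_apply, LinearMap.id_apply] at this
      exact (smul_left_injective ℂ (b.ne_zero i) this).symm
    rcases Nat.eq_zero_or_pos (Module.finrank ℂ V) with h0 | h0
    · haveI : IsEmpty (Fin (Module.finrank ℂ V)) := by rw [h0]; infer_instance
      simp [hc, h0]
    · have := hn ⟨0, h0⟩
      rw [heq] at this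
      rw [hc]
      simp [heq, this]

theorem char_eq_degree_iff [Finite G] [FiniteDimensional ℂ V] (ρ : Representation ℂ G V) (g : G) :
    ρ.character g = (Module.finrank ℂ V : ℂ) ↔ ρ g = LinearMap.id := by
  refine ⟨fun h => ?_, fun h => by simp [Representation.character, h]⟩
  obtain ⟨c, hc⟩ := (norm_char_eq_iff_scalar ρ g).mp (by rw [h, Complex.norm_natCast])
  rcases subsingleton_or_nontrivial V with hV | hV
  · exact Subsingleton.elim _ _
  · have hne : (Module.finrank ℂ V : ℂ) ≠ 0 := Nat.cast_ne_zero.mpr Module.finrank_pos.ne'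
    rw [Representation.character, hc, map_smul, LinearMap.trace_id, smul_eq_mul] at h
    rw [hc, (mul_eq_right₀ hne).mp h, one_smul]

/-- Character values are algebraic integers. -/
theorem isIntegral_char [Finite G] [FiniteDimensional ℂ V] (ρ : Representation ℂ G V) (g : G) :
    IsIntegral ℤ (ρ.character g) := by
  obtain ⟨ω, h1, _, h3⟩ := exists_eigenvalues ρ g
  rw [h3]
  exact IsIntegral.sum _ fun i _ => IsIntegral.of_pow (orderOf_pos g) (h1 i ▸ isIntegral_one)

theorem isIntegral_of_isCharacter [Finite G] {χ : G → ℂ} (h : IsCharacter G χ) (g : G) :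
    IsIntegral ℤ (χ g) := by
  obtain ⟨n, ρ, rfl⟩ := h
  exact isIntegral_char ρ g

theorem norm_le_degree_of_isCharacter [Finite G] {χ : G → ℂ} (h : IsCharacter G χ) (g : G) :
    ‖χ g‖ ≤ ‖χ 1‖ := by
  obtain ⟨n, ρ, rfl⟩ := h
  simpa using norm_char_le ρ g

theorem isIntegral_conj {z : ℂ} (h : IsIntegral ℤ z) : IsIntegral ℤ (conj z) :=
  h.map ((starRingEnd ℂ).toIntAlgHom)

/-- A scalar by which an integral combination of the group acts is an algebraic integer. -/
theorem isIntegral_of_funEnd_eq_smul [Fintype G] [Nontrivial V] (ρ : Representation ℂ G V)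
    {φ : G → ℂ} (hφ : ∀ g, IsIntegral ℤ (φ g)) {c : ℂ}
    (hc : funEnd ρ φ = c • (1 : Module.End ℂ V)) : IsIntegral ℤ c := by
  classical
  let R := integralClosure ℤ ℂ
  let F : MonoidAlgebra R G →ₐ[R] Module.End ℂ V := MonoidAlgebra.lift R _ G ρ
  let x : MonoidAlgebra R G := ∑ g, MonoidAlgebra.single g (⟨φ g, hφ g⟩ : R)
  have hx : F x = algebraMap ℂ (Module.End ℂ V) c := by
    rw [Algebra.algebraMap_eq_smul_one, ← hc]
    simp only [F, x, map_sum, MonoidAlgebra.lift_single, funEnd]
    rfl
  haveI : Module.Finite R (MonoidAlgebra R G) :=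
    Module.Finite.of_basis (MonoidAlgebra.basis G R)
  have h1 : IsIntegral R (F x) := (IsIntegral.of_finite R x).map F
  rw [hx, isIntegral_algebraMap_iff (algebraMap ℂ (Module.End ℂ V)).injective] at h1
  exact isIntegral_trans c h1

theorem isClassFunction_isConj [DecidableRel (IsConj : G → G → Prop)] (g : G) :
    IsClassFunction G (fun x => if IsConj g x then (1 : ℂ) else 0) := fun a b => by
  have h : IsConj a (b * a * b⁻¹) := isConj_iff.mpr ⟨b, rfl⟩
  simp only
  by_cases hc : IsConj g a
  · rw [if_pos hc, if_pos (hc.trans h)]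
  · rw [if_neg hc, if_neg fun h' => hc (h'.trans h.symm)]

/-- The class sum acts on an irreducible representation as `|C| χ(g) / χ(1)`. -/
theorem funEnd_classSum [Fintype G] [DecidableRel (IsConj : G → G → Prop)] [FiniteDimensional ℂ V]
    (ρ : Representation ℂ G V) [ρ.IsIrreducible] (g : G) :
    funEnd ρ (fun x => if IsConj g x then 1 else 0) =
      ((Nat.card {x : G // IsConj g x} : ℂ) * ρ.character g / (Module.finrank ℂ V : ℂ)) •
        (1 : Module.End ℂ V) := by
  rw [funEnd_eq_smul ρ (isClassFunction_isConj g)]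
  congr 2
  simp only [ite_mul, one_mul, zero_mul, ← Finset.sum_filter]
  rw [Finset.sum_congr rfl (fun x hx => (classFunction_eq_of_isConj
      (isClassFunction_of_isCharacter (isCharacter_character ρ))
      (Finset.mem_filter.mp hx).2).symm),
    Finset.sum_const, nsmul_eq_mul, Nat.card_eq_fintype_card, Fintype.card_subtype]

theorem nontrivial_of_irreducible (ρ : Representation ℂ G V) [ρ.IsIrreducible] : Nontrivial V :=
  ((isIrreducible_iff ρ).mp inferInstance).1

theorem isIntegral_class_mul_char_div [Finite G] [FiniteDimensional ℂ V]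
    (ρ : Representation ℂ G V) [ρ.IsIrreducible] (g : G) :
    IsIntegral ℤ ((Nat.card {x : G // IsConj g x} : ℂ) * ρ.character g /
      (Module.finrank ℂ V : ℂ)) := by
  classical
  have : Fintype G := Fintype.ofFinite G
  haveI := nontrivial_of_irreducible ρ
  exact isIntegral_of_funEnd_eq_smul ρ
    (fun x => by split_ifs; exacts [isIntegral_one, isIntegral_zero]) (funEnd_classSum ρ g)

/-- A rational algebraic integer is an integer. -/
theorem exists_int_of_isIntegral_rat {q : ℚ} (h : IsIntegral ℤ (q : ℂ)) : ∃ z : ℤ, (z : ℚ) = q := by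
  have h' : IsIntegral ℤ q :=
    (isIntegral_algHom_iff ((algebraMap ℚ ℂ).toIntAlgHom) (algebraMap ℚ ℂ).injective).mp (by simpa using h)
  obtain ⟨z, hz⟩ := IsIntegrallyClosed.isIntegral_iff.mp h'
  exact ⟨z, by simpa using hz⟩

theorem nat_dvd_of_isIntegral_div {a b : ℕ} (hb : b ≠ 0) (h : IsIntegral ℤ ((a : ℂ) / (b : ℂ))) :
    b ∣ a := by
  obtain ⟨z, hz⟩ := exists_int_of_isIntegral_rat (q := (a : ℚ) / b) (by push_cast; exact h)
  rw [eq_div_iff (Nat.cast_ne_zero.mpr hb)] at hz
  exact Int.natCast_dvd_natCast.mp ⟨z, by rw [mul_comm]; exact_mod_cast hz.symm⟩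

/-- The degree of an irreducible representation divides the group order. -/
theorem degree_dvd_card [Finite G] [FiniteDimensional ℂ V] (ρ : Representation ℂ G V)
    [ρ.IsIrreducible] : Module.finrank ℂ V ∣ Nat.card G := by
  classical
  have : Fintype G := Fintype.ofFinite G
  haveI := nontrivial_of_irreducible ρ
  refine nat_dvd_of_isIntegral_div Module.finrank_pos.ne' ?_
  have hφ : IsClassFunction G (fun g => conj (ρ.character g)) :=
    isClassFunction_conj (isClassFunction_of_isCharacter (isCharacter_character ρ))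
  have h := funEnd_eq_smul ρ hφ
  have horth := classInner_irr_self (isIrrCharacter_character ρ inferInstance)
  have hsum : ∑ g : G, conj (ρ.character g) * ρ.character g = (Nat.card G : ℂ) := by
    rw [classInner, inv_mul_eq_one₀ (Nat.cast_ne_zero.mpr Nat.card_pos.ne')] at horth
    rw [horth]
    exact Finset.sum_congr rfl fun x _ => mul_comm _ _
  rw [hsum] at h
  exact isIntegral_of_funEnd_eq_smul ρ (fun g => isIntegral_conj (isIntegral_char ρ g)) h

theorem irr_degree_dvd_card [Finite G] (χ : IrrCharacter G) :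
    ∃ n : ℕ, (χ : G → ℂ) 1 = n ∧ 0 < n ∧ n ∣ Nat.card G := by
  obtain ⟨_, n, ρ, hρ, rfl⟩ := χ
  haveI := hρ
  haveI := nontrivial_of_irreducible ρ
  have hd := degree_dvd_card ρ
  have hp : 0 < Module.finrank ℂ (Fin n → ℂ) := Module.finrank_pos
  exact ⟨_, ρ.char_one, hp, hd⟩

end CfsgLib.Characters
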