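import Mathlib.RepresentationTheory.Character
import Mathlib.RepresentationTheory.Irreducible
import Mathlib.Analysis.Complex.Polynomial.Basic
import Mathlib.GroupTheory.Index
import Mathlib.GroupTheory.QuotientGroup.Basic
import Mathlib.LinearAlgebra.Eigenspace.Charpoly
import Mathlib.LinearAlgebra.Matrix.Charpoly.Eigs
import Mathlib.RingTheory.IntegralClosure.IsIntegralClosure.Basic
import Mathlib.RingTheory.IntegralClosure.IntegrallyClosed
import Mathlib.RingTheory.RootsOfUnity.Minpoly

/-!
# Schur's lemma, integrality, and the degree of an irreducible representation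

* Schur's lemma for complex irreducible representations in elementary form;
* character values of finite groups are algebraic integers;
* if a normal subgroup acts by scalars, the degree divides its index
  (in particular the degree divides the group order).
-/

set_option autoImplicit false

noncomputable section

namespace CfsgLib.CharScalar

variable {G V : Type*} [Group G] [AddCommGroup V] [Module ℂ V] (ρ : Representation ℂ G V)

/-- A submodule of an irreducible representation that is invariant is trivial. -/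
theorem eq_bot_or_eq_top [ρ.IsIrreducible] (W : Submodule ℂ V)
    (hW : ∀ (g : G), ∀ v ∈ W, ρ g v ∈ W) : W = ⊥ ∨ W = ⊤ :=
  (IsSimpleOrder.eq_bot_or_eq_top (⟨W, fun g _ hv => hW g _ hv⟩ : Subrepresentation ρ)).imp
    (congrArg Subrepresentation.toSubmodule) (congrArg Subrepresentation.toSubmodule)

theorem nontrivial_of_irreducible [ρ.IsIrreducible] : Nontrivial V := by
  rcases subsingleton_or_nontrivial V with hV | hV
  · exfalso
    obtain ⟨a, b, hab⟩ := exists_pair_ne (Subrepresentation ρ)
    exact hab (Subrepresentation.toSubmodule_injective (Subsingleton.elim _ _))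
  · exact hV

theorem finrank_pos [ρ.IsIrreducible] [FiniteDimensional ℂ V] : 0 < Module.finrank ℂ V := by
  have := nontrivial_of_irreducible ρ
  exact Module.finrank_pos

/-- **Schur's lemma.** -/
theorem exists_scalar [FiniteDimensional ℂ V] [ρ.IsIrreducible] (A : Module.End ℂ V)
    (hA : ∀ g, A * ρ g = ρ g * A) : ∃ c : ℂ, A = c • (1 : Module.End ℂ V) := by
  let f : Representation.IntertwiningMap ρ ρ := ⟨A, fun g => hA g⟩
  obtain ⟨c, hc⟩ :=
    (Representation.IsIrreducible.algebraMap_intertwiningMap_bijective_of_isAlgClosed (ρ := ρ)).2 f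
  refine ⟨c, ?_⟩
  have := congrArg Representation.IntertwiningMap.toLinearMap hc
  rw [show f.toLinearMap = A from rfl] at this
  rw [← this]
  rfl

/-- Scalar operators act as scalars, with the scalar given by the trace. -/
theorem trace_smul_one [FiniteDimensional ℂ V] (c : ℂ) :
    LinearMap.trace ℂ V (c • (1 : Module.End ℂ V)) = c * (Module.finrank ℂ V : ℂ) := by
  rw [map_smul, LinearMap.trace_one, smul_eq_mul]

/-- Central elements act as scalars. -/
theorem center_scalar [FiniteDimensional ℂ V] [ρ.IsIrreducible] {z : G}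
    (hz : z ∈ Subgroup.center G) : ∃ c : ℂ, ρ z = c • (1 : Module.End ℂ V) :=
  exists_scalar ρ (ρ z) fun g => by
    rw [← map_mul, ← map_mul, Subgroup.mem_center_iff.1 hz g]

/-- The eigenvalues of a representation of a finite group are roots of unity. -/
theorem pow_card_eq_one_of_hasEigenvalue [Finite G] (g : G) {μ : ℂ}
    (hμ : Module.End.HasEigenvalue (ρ g) μ) : μ ^ Nat.card G = 1 := by
  obtain ⟨v, hv⟩ := hμ.exists_hasEigenvector
  have h := hv.pow_apply (Nat.card G)
  rw [← map_pow, pow_card_eq_one', map_one, Module.End.one_apply] at h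
  by_contra hne
  have h2 : (μ ^ Nat.card G - 1) • v = 0 := by rw [sub_smul, one_smul, ← h, sub_self]
  rcases smul_eq_zero.1 h2 with h3 | h3
  · exact hne (sub_eq_zero.1 h3)
  · exact hv.2 h3

/-- The character is the sum of the roots of the characteristic polynomial. -/
theorem character_eq_roots_sum [FiniteDimensional ℂ V] (g : G) :
    ρ.character g = (LinearMap.charpoly (ρ g)).roots.sum := by
  let b := Module.Free.chooseBasis ℂ V
  classical
  rw [← LinearMap.charpoly_toMatrix (ρ g) b]
  exact (LinearMap.trace_eq_matrix_trace ℂ b (ρ g)).trans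
    (Matrix.trace_eq_sum_roots_charpoly _)

theorem root_pow_card [Finite G] [FiniteDimensional ℂ V] (g : G) {μ : ℂ}
    (hμ : μ ∈ (LinearMap.charpoly (ρ g)).roots) : μ ^ Nat.card G = 1 := by
  refine pow_card_eq_one_of_hasEigenvalue ρ g ?_
  rw [Module.End.hasEigenvalue_iff_isRoot_charpoly]
  exact (Polynomial.mem_roots (LinearMap.charpoly_monic _).ne_zero).1 hμ

/-- Character values are algebraic integers. -/
theorem isIntegral_character [Finite G] [FiniteDimensional ℂ V] (g : G) :
    IsIntegral ℤ (ρ.character g) := by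
  rw [character_eq_roots_sum ρ g]
  refine IsIntegral.multiset_sum fun μ hμ => ?_
  exact IsIntegral.of_pow Nat.card_pos (by rw [root_pow_card ρ g hμ]; exact isIntegral_one)

/-- An operator in the span of the `ρ g` with algebraic integer coefficients, if scalar, is an
algebraic integer scalar. -/
theorem isIntegral_scalar_of_span [Finite G] [Nontrivial V] {ι : Type*} (s : Finset ι)
    (a : ι → ℂ) (ha : ∀ i ∈ s, IsIntegral ℤ (a i)) (x : ι → G) {c : ℂ}
    (hc : ∑ i ∈ s, a i • ρ (x i) = c • (1 : Module.End ℂ V)) : IsIntegral ℤ c := by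
  let O := integralClosure ℤ ℂ
  let S : Subalgebra O (Module.End ℂ V) := Algebra.adjoin O (MonoidHom.mrange ρ : Submonoid _)
  have hS : (Subalgebra.toSubmodule S).FG := by
    rw [Algebra.adjoin_eq_span, Submonoid.closure_eq]
    exact Submodule.fg_span (Set.finite_range _)
  have hmem : c • (1 : Module.End ℂ V) ∈ S := by
    rw [← hc]
    refine S.sum_mem fun i hi => ?_
    have : a i • ρ (x i) = (⟨a i, ha i hi⟩ : O) • ρ (x i) := rfl
    rw [this]
    exact S.smul_mem (Algebra.subset_adjoin (⟨x i, rfl⟩ : ρ (x i) ∈ MonoidHom.mrange ρ)) _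
  have h1 : IsIntegral O (algebraMap ℂ (Module.End ℂ V) c) := by
    rw [Algebra.algebraMap_eq_smul_one]
    exact IsIntegral.of_mem_of_fg S hS _ hmem
  have h2 : IsIntegral O c :=
    (isIntegral_algebraMap_iff (algebraMap ℂ (Module.End ℂ V)).injective).1 h1
  exact isIntegral_trans c h2

/-- A rational algebraic integer quotient of naturals is a divisibility. -/
theorem dvd_of_isIntegral_div {a b : ℕ} (hb : b ≠ 0) (h : IsIntegral ℤ ((a : ℂ) / b)) :
    b ∣ a := by
  have h' : IsIntegral ℤ ((a : ℚ) / b) := by
    refine (isIntegral_algebraMap_iff (algebraMap ℚ ℂ).injective).1 ?_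
    simpa using h
  obtain ⟨n, hn⟩ := IsIntegrallyClosed.isIntegral_iff.1 h'
  rw [eq_intCast, eq_div_iff (Nat.cast_ne_zero.2 hb)] at hn
  have hn' : n * (b : ℤ) = (a : ℤ) := by exact_mod_cast hn
  exact_mod_cast Dvd.intro_left n hn'

section Degree

variable [Finite G] [FiniteDimensional ℂ V] [ρ.IsIrreducible]

open scoped Classical in
/-- If a normal subgroup acts by scalars in an irreducible representation then the degree divides
its index. -/
theorem finrank_dvd_index (Z : Subgroup G) [hZ : Z.Normal]
    (hscal : ∀ z ∈ Z, ∃ c : ℂ, ρ z = c • (1 : Module.End ℂ V)) :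
    Module.finrank ℂ V ∣ Z.index := by
  have := nontrivial_of_irreducible ρ
  have : Fintype G := Fintype.ofFinite G
  have : Fintype (G ⧸ Z) := Fintype.ofFinite _
  have hd0 : Module.finrank ℂ V ≠ 0 := (finrank_pos ρ).ne'
  have hd : (Module.finrank ℂ V : ℂ) ≠ 0 := Nat.cast_ne_zero.2 hd0
  -- the operator-valued function on cosets
  let F : G → Module.End ℂ V := fun y => ρ.character y⁻¹ • ρ y
  have hF : ∀ y : G, ∀ z ∈ Z, F (y * z) = F y := by
    intro y z hz
    obtain ⟨c, hc⟩ := hscal z hz
    obtain ⟨c', hc'⟩ := hscal z⁻¹ (Z.inv_mem hz)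
    have hcc : c' * c = 1 := by
      have h : ρ (z⁻¹ * z) = (c' * c) • (1 : Module.End ℂ V) := by
        rw [map_mul, hc, hc', smul_mul_smul_comm, one_mul]
      rw [inv_mul_cancel, map_one] at h
      have := congrArg (LinearMap.trace ℂ V) h
      rw [LinearMap.trace_one, trace_smul_one] at this
      exact (mul_right_cancel₀ hd (by rw [← this, one_mul]))
    have h1 : ρ.character (y * z)⁻¹ = c' * ρ.character y⁻¹ := by
      show LinearMap.trace ℂ V (ρ (y * z)⁻¹) = _
      rw [mul_inv_rev, map_mul, hc', smul_mul_assoc, one_mul, map_smul]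
      rfl
    show ρ.character (y * z)⁻¹ • ρ (y * z) = ρ.character y⁻¹ • ρ y
    rw [h1, map_mul, hc, mul_smul_comm, mul_one, smul_smul, mul_right_comm, hcc, one_mul]
  have hF' : ∀ y : G, F (QuotientGroup.mk y : G ⧸ Z).out = F y := by
    intro y
    obtain ⟨z, hz⟩ := QuotientGroup.mk_out_eq_mul Z y
    rw [hz, hF y z z.2]
  let A : Module.End ℂ V := ∑ q : G ⧸ Z, F q.out
  have hAcomm : ∀ g, A * ρ g = ρ g * A := by
    intro g
    have hcj : ∀ y : G, F (g * y * g⁻¹) * ρ g = ρ g * F y := by
      intro y
      show (ρ.character (g * y * g⁻¹)⁻¹ • ρ (g * y * g⁻¹)) * ρ g = ρ g * (ρ.character y⁻¹ • ρ y)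
      rw [smul_mul_assoc, mul_smul_comm, ← map_mul, ← map_mul,
        show (g * y * g⁻¹)⁻¹ = g * y⁻¹ * g⁻¹ by group, Representation.char_conj]
      congr 2
      group
    simp only [A, Finset.sum_mul, Finset.mul_sum]
    refine Eq.symm (Fintype.sum_equiv (MulAut.conj (QuotientGroup.mk g : G ⧸ Z)).toEquiv _ _ ?_)
    intro q
    show ρ g * F q.out = F ((MulAut.conj (QuotientGroup.mk g : G ⧸ Z)) q).out * ρ g
    have hq : (MulAut.conj (QuotientGroup.mk g : G ⧸ Z)) q =
        (QuotientGroup.mk (g * q.out * g⁻¹) : G ⧸ Z) := by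
      simp [MulAut.conj_apply]
    rw [hq, hF', hcj]
  obtain ⟨c, hc⟩ := exists_scalar ρ A hAcomm
  have hint : IsIntegral ℤ c := by
    refine isIntegral_scalar_of_span ρ Finset.univ (fun q : G ⧸ Z => ρ.character q.out⁻¹) ?_
      (fun q => q.out) hc
    exact fun q _ => isIntegral_character ρ _
  -- the trace of `A` is the index of `Z`
  have htr : c * (Module.finrank ℂ V : ℂ) = (Z.index : ℂ) := by
    rw [← trace_smul_one (V := V) c, ← hc]
    have hG : (Nat.card G : ℂ) ≠ 0 := Nat.cast_ne_zero.2 Nat.card_pos.ne'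
    have : Invertible (Nat.card G : ℂ) := invertibleOfNonzero hG
    have horth := Representation.char_orthonormal (k := ℂ) ρ ρ
    rw [if_pos ⟨Representation.Equiv.refl ρ⟩, inv_mul_eq_iff_eq_mul₀ hG, mul_one] at horth
    have hfib : ∑ y : G, ρ.character y⁻¹ * ρ.character y =
        ∑ q : G ⧸ Z, (Nat.card Z : ℂ) * LinearMap.trace ℂ V (F q.out) := by
      have hterm : ∀ y : G, ρ.character y⁻¹ * ρ.character y =
          LinearMap.trace ℂ V (F (QuotientGroup.mk y : G ⧸ Z).out) := by
        intro y
        rw [hF']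
        simp [F, Representation.character]
      rw [Finset.sum_congr rfl fun y _ => hterm y, ← Finset.sum_fiberwise (Finset.univ : Finset G)
        (fun y => (QuotientGroup.mk y : G ⧸ Z))
        (fun y => LinearMap.trace ℂ V (F (QuotientGroup.mk y : G ⧸ Z).out))]
      refine Finset.sum_congr rfl fun q _ => ?_
      rw [Finset.sum_congr rfl (fun y hy => by rw [(Finset.mem_filter.1 hy).2]),
        Finset.sum_const, nsmul_eq_mul]
      congr 2
      let e : {x : G // (QuotientGroup.mk x : G ⧸ Z) = q} ≃ Z :=
        { toFun := fun x => ⟨q.out⁻¹ * x, QuotientGroup.eq.1 (by rw [QuotientGroup.out_eq', x.2])⟩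
          invFun := fun h => ⟨q.out * h, by simp [QuotientGroup.mk_mul_of_mem _ h.2]⟩
          left_inv := fun x => by simp
          right_inv := fun h => by simp }
      rw [← Nat.card_congr e, Nat.card_eq_fintype_card, ← Fintype.card_subtype]
    rw [← Finset.mul_sum, ← map_sum] at hfib
    have hsum : (Nat.card G : ℂ) = (Nat.card Z : ℂ) * LinearMap.trace ℂ V A := by
      rw [← horth, ← hfib]
      exact Finset.sum_congr rfl fun y _ => mul_comm _ _
    have hZ0 : (Nat.card Z : ℂ) ≠ 0 := Nat.cast_ne_zero.2 Nat.card_pos.ne'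
    apply mul_left_cancel₀ hZ0
    rw [← hsum, ← Z.card_mul_index, Nat.cast_mul]
  refine dvd_of_isIntegral_div hd0 ?_
  rwa [← htr, mul_div_cancel_right₀ c hd]

include ρ in
/-- The degree of an irreducible representation divides the group order. -/
theorem finrank_dvd_card : Module.finrank ℂ V ∣ Nat.card G := by
  have h := finrank_dvd_index ρ (⊥ : Subgroup G) fun z hz => ⟨1, by
    rw [Subgroup.mem_bot.1 hz, map_one, one_smul]⟩
  rwa [Subgroup.index_bot] at h

end Degree

end CfsgLib.CharScalar
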