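import Cfsg.Agent.Lib.Characters.Decomp
import Cfsg.Agent.Lib.Characters.Induction

/-!
# Constituents, Clifford's theorem and the Clifford correspondence
-/

set_option autoImplicit false

noncomputable section

namespace CfsgLib.Clifford

open Cfsg CfsgLib.Characters
open scoped ComplexConjugate

universe u

variable {G : Type u} [Group G]

/-! ## Pullback along homomorphisms -/

theorem isCharacter_pullback {H : Type*} [Group H] {χ : G → ℂ} (h : IsCharacter G χ) (f : H →* G) :
    IsCharacter H (fun x => χ (f x)) := by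
  obtain ⟨n, ρ, rfl⟩ := h
  exact ⟨n, ρ.comp f, rfl⟩

/-- Pullback of an irreducible character along a surjective homomorphism is irreducible. -/
theorem isIrrCharacter_pullback {H : Type*} [Group H] {χ : G → ℂ} (h : IsIrrCharacter G χ)
    (f : H →* G) (hf : Function.Surjective f) : IsIrrCharacter H (fun x => χ (f x)) := by
  obtain ⟨n, ρ, hρ, rfl⟩ := h
  refine ⟨n, ρ.comp f, ?_, rfl⟩
  rw [isIrreducible_iff] at hρ ⊢
  refine ⟨hρ.1, fun U hU => hρ.2 U fun g v hv => ?_⟩
  obtain ⟨x, rfl⟩ := hf g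
  exact hU x v hv

theorem isCharacter_subtype {χ : G → ℂ} (h : IsCharacter G χ) (H : Subgroup G) :
    IsCharacter H (fun x : H => χ x) := isCharacter_pullback h H.subtype

/-! ## Coefficients of characters -/

variable [Fintype G]

/-- The multiplicity of an irreducible character in a character is a natural number. -/
theorem exists_mult {χ : G → ℂ} (hχ : IsCharacter G χ) :
    ∃ m : IrrCharacter G → ℕ, (∀ ψ : IrrCharacter G, classInner χ (ψ : G → ℂ) = (m ψ : ℂ)) ∧
      χ = ∑ ψ : IrrCharacter G, (m ψ : ℂ) • (ψ : G → ℂ) := by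
  classical
  obtain ⟨n, ρ, rfl⟩ := hχ
  obtain ⟨m, hm⟩ := exists_irr_decomp ρ
  refine ⟨m, fun ψ => ?_, hm⟩
  rw [hm, classInner_irr_sum]
  simp

theorem sum_mult_eq_zero {χ : G → ℂ} (hχ : IsCharacter G χ)
    (h : ∀ ψ : IrrCharacter G, classInner χ (ψ : G → ℂ) = 0) : χ = 0 := by
  obtain ⟨m, hm, hsum⟩ := exists_mult hχ
  rw [hsum]
  refine Finset.sum_eq_zero fun ψ _ => ?_
  rw [← hm ψ, h ψ, zero_smul]

/-- A nonzero character has an irreducible constituent. -/
theorem exists_constituent {χ : G → ℂ} (hχ : IsCharacter G χ) (h0 : χ ≠ 0) :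
    ∃ ψ : IrrCharacter G, classInner χ (ψ : G → ℂ) ≠ 0 := by
  by_contra h
  push Not at h
  exact h0 (sum_mult_eq_zero hχ h)

/-- A character of norm one is irreducible. -/
theorem isIrr_of_norm_one {χ : G → ℂ} (hχ : IsCharacter G χ) (h : classInner χ χ = 1) :
    IsIrrCharacter G χ := by
  classical
  obtain ⟨m, hm, hsum⟩ := exists_mult hχ
  have hnorm : ((∑ ψ : IrrCharacter G, m ψ * m ψ : ℕ) : ℂ) = 1 := by
    rw [← h, classInner_eq_sum_mul (φ := χ) (isClassFunction_of_isCharacter hχ)]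
    push_cast
    exact Finset.sum_congr rfl fun ψ _ => by rw [hm ψ, map_natCast]
  have hn : ∑ ψ : IrrCharacter G, m ψ * m ψ = 1 := by exact_mod_cast hnorm
  obtain ⟨ψ, -, hψ⟩ := Finset.exists_ne_zero_of_sum_ne_zero (hn.trans_ne one_ne_zero)
  have hrest : ∀ ξ, ξ ≠ ψ → m ξ = 0 := by
    intro ξ hξ
    have hle : m ψ * m ψ + m ξ * m ξ ≤ 1 := by
      rw [← hn, ← Finset.sum_pair (f := fun x => m x * m x) (Ne.symm hξ)]
      exact Finset.sum_le_sum_of_subset (Finset.subset_univ _)
    have : m ξ * m ξ = 0 := by omega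
    exact mul_self_eq_zero.1 this
  have hψ1 : m ψ = 1 := by
    have hle : m ψ * m ψ ≤ 1 := by
      rw [← hn]
      exact Finset.single_le_sum (f := fun x => m x * m x) (fun _ _ => Nat.zero_le _)
        (Finset.mem_univ ψ)
    exact Nat.eq_one_of_mul_eq_one_right (n := m ψ) (by omega)
  rw [hsum, Finset.sum_eq_single ψ (fun ξ _ hξ => by rw [hrest ξ hξ, Nat.cast_zero, zero_smul])
    (fun h => absurd (Finset.mem_univ _) h), hψ1, Nat.cast_one, one_smul]
  exact ψ.2

/-- Constituents of constituents. -/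
theorem classInner_ne_zero_of_constituent {χ : G → ℂ} (hχ : IsCharacter G χ)
    {H : Subgroup G} [Fintype H] {α : G → ℂ} (hα : IsIrrCharacter G α) {β : H → ℂ}
    (hβ : IsIrrCharacter H β) (h1 : classInner χ α ≠ 0)
    (h2 : classInner (fun x : H => α x) β ≠ 0) :
    classInner (fun x : H => χ x) β ≠ 0 := by
  classical
  obtain ⟨m, hm, hsum⟩ := exists_mult hχ
  have hk : ∀ ξ : IrrCharacter G, ∃ k : ℕ, classInner (fun x : H => (ξ : G → ℂ) x) β = (k : ℂ) :=
    fun ξ => classInner_char_nat (isCharacter_subtype (irr_isCharacter ξ) H)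
      (isCharacter_of_irr hβ)
  choose k hk using hk
  have hres : (fun x : H => χ x) =
      ∑ ξ : IrrCharacter G, (m ξ : ℂ) • (fun x : H => (ξ : G → ℂ) x) := by
    funext x
    conv_lhs => rw [hsum]
    simp
  rw [hres, classInner_sum_left, Finset.sum_congr rfl fun ξ _ => by
    rw [classInner_smul_left, hk ξ]]
  intro h
  have h' : ∑ ξ : IrrCharacter G, m ξ * k ξ = 0 := by exact_mod_cast h
  rcases mul_eq_zero.1 (Finset.sum_eq_zero_iff.1 h' ⟨α, hα⟩ (Finset.mem_univ _)) with h3 | h3
  · exact h1 (by rw [hm ⟨α, hα⟩, h3, Nat.cast_zero])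
  · exact h2 (by rw [hk ⟨α, hα⟩, h3, Nat.cast_zero])

/-! ## Conjugate functions on a normal subgroup -/

section Normal

variable {H : Subgroup G}

/-- The conjugate `n ↦ θ (g n g⁻¹)` of a function on a normal subgroup. -/
def conjChar (hN : H.Normal) (θ : H → ℂ) (g : G) : H → ℂ :=
  fun n => θ ⟨g * n * g⁻¹, hN.conj_mem n n.2 g⟩

/-- Conjugation by `g` on a normal subgroup. -/
def conjHom (hN : H.Normal) (g : G) : H →* H where
  toFun n := ⟨g * n * g⁻¹, hN.conj_mem n n.2 g⟩
  map_one' := Subtype.ext (by simp)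
  map_mul' a b := Subtype.ext (by simp [mul_assoc])

omit [Fintype G] in
theorem conjHom_surjective (hN : H.Normal) (g : G) : Function.Surjective (conjHom hN g) :=
  fun n => ⟨⟨g⁻¹ * n * g, hN.conj_mem' n n.2 g⟩, Subtype.ext (by simp [conjHom, mul_assoc])⟩

omit [Fintype G] in
theorem isIrrCharacter_conjChar (hN : H.Normal) {θ : H → ℂ} (h : IsIrrCharacter H θ) (g : G) :
    IsIrrCharacter H (conjChar hN θ g) :=
  isIrrCharacter_pullback h (conjHom hN g) (conjHom_surjective hN g)

omit [Fintype G] in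
theorem conjChar_one (hN : H.Normal) (θ : H → ℂ) : conjChar hN θ 1 = θ := by
  funext n
  exact congrArg θ (Subtype.ext (by simp))

omit [Fintype G] in
theorem conjChar_mul (hN : H.Normal) (θ : H → ℂ) (a b : G) :
    conjChar hN (conjChar hN θ a) b = conjChar hN θ (a * b) := by
  funext n
  exact congrArg θ (Subtype.ext (by simp [mul_assoc]))

omit [Fintype G] in
theorem conjChar_apply_one (hN : H.Normal) (θ : H → ℂ) (g : G) : conjChar hN θ g 1 = θ 1 := by
  exact congrArg θ (Subtype.ext (by simp))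

variable [Fintype H]

theorem classInner_conjChar (hN : H.Normal) (φ ψ : H → ℂ) (g : G) :
    classInner (conjChar hN φ g) (conjChar hN ψ g) = classInner φ ψ := by
  unfold classInner
  congr 1
  exact Fintype.sum_bijective (conjHom hN g)
    (Finite.surjective_iff_bijective.1 (conjHom_surjective hN g)) _ _ fun _ => rfl

omit [Fintype G] in
theorem conjChar_res (hN : H.Normal) {χ : G → ℂ} (hχ : IsClassFunction G χ) (g : G) :
    conjChar hN (fun n : H => χ n) g = fun n : H => χ n :=
  funext fun n => hχ (n : G) g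

/-- The restriction of a class function has equal inner product with all conjugates. -/
theorem classInner_res_conjChar (hN : H.Normal) {χ : G → ℂ} (hχ : IsClassFunction G χ)
    (ψ : H → ℂ) (g : G) :
    classInner (fun n : H => χ n) (conjChar hN ψ g) = classInner (fun n : H => χ n) ψ := by
  conv_lhs => rw [← conjChar_res hN hχ g]
  exact classInner_conjChar hN _ _ g

/-- Restriction of an induced function to a normal subgroup. -/
theorem res_indFun (hN : H.Normal) (θ : H → ℂ) :
    (fun n : H => indFun H θ n) = (Nat.card H : ℂ)⁻¹ • ∑ x : G, conjChar hN θ x := by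
  funext n
  haveI := hN
  rw [CfsgLib.Induction.indFun_normal_apply H θ n]
  simp [Finset.sum_apply, conjChar]

theorem classInner_indFun_indFun (hN : H.Normal) {θ φ : H → ℂ} (hθ : IsClassFunction H θ) :
    classInner (indFun H θ) (indFun H φ) =
      (Nat.card H : ℂ)⁻¹ * ∑ x : G, classInner θ (conjChar hN φ x) := by
  rw [CfsgLib.Induction.classInner_indFun H θ (CfsgLib.Induction.isClassFunction_indFun H φ),
    res_indFun hN, classInner_smul_right, classInner_sum_right, map_inv₀, map_natCast]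

/-- Constituents of the restriction of an irreducible character are conjugate. -/
theorem exists_conj_of_constituent (hN : H.Normal) {χ : G → ℂ} (hχ : IsIrrCharacter G χ)
    {θ ψ : H → ℂ} (hθ : IsIrrCharacter H θ) (hψ : IsIrrCharacter H ψ)
    (h1 : classInner (fun n : H => χ n) θ ≠ 0) (h2 : classInner (fun n : H => χ n) ψ ≠ 0) :
    ∃ g : G, ψ = conjChar hN θ g := by
  by_contra hc
  push Not at hc
  have hθc := isCharacter_of_irr hθ
  have hind := CfsgLib.Induction.isCharacter_indFun H hθc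
  have hχcl := isClassFunction_of_isCharacter (isCharacter_of_irr hχ)
  have h3 : classInner (indFun H θ) χ ≠ 0 := by
    rw [CfsgLib.Induction.classInner_indFun H θ hχcl]
    intro h0
    apply h1
    rw [classInner_conj_symm, h0, map_zero]
  apply classInner_ne_zero_of_constituent hind hχ hψ h3 h2
  rw [res_indFun hN, classInner_smul_left, classInner_sum_left, Finset.sum_eq_zero, mul_zero]
  intro x _
  exact classInner_irr_ne (isIrrCharacter_conjChar hN hθ x) hψ (hc x).symm

/-- The set of conjugates of `θ`. -/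
def conjOrbit (hN : H.Normal) (θ : H → ℂ) : Set (H → ℂ) := {ψ | ∃ g : G, ψ = conjChar hN θ g}

theorem conjOrbit_finite (hN : H.Normal) (θ : H → ℂ) : (conjOrbit hN θ).Finite := by
  refine (Set.finite_range (conjChar hN θ)).subset ?_
  rintro ψ ⟨g, rfl⟩
  exact ⟨g, rfl⟩

/-- **Clifford's theorem.** -/
theorem clifford (hN : H.Normal) {χ : G → ℂ} (hχ : IsIrrCharacter G χ)
    {θ : H → ℂ} (hθ : IsIrrCharacter H θ) (h1 : classInner (fun n : H => χ n) θ ≠ 0) :
    (fun n : H => χ n) =
      classInner (fun n : H => χ n) θ • ∑ ψ ∈ (conjOrbit_finite hN θ).toFinset, ψ := by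
  classical
  have hχcl := isClassFunction_of_isCharacter (isCharacter_of_irr hχ)
  have hres := isCharacter_subtype (isCharacter_of_irr hχ) H
  have horb : ∀ ψ ∈ (conjOrbit_finite hN θ).toFinset, IsIrrCharacter H ψ := by
    intro ψ hψ
    obtain ⟨g, rfl⟩ := (conjOrbit_finite hN θ).mem_toFinset.1 hψ
    exact isIrrCharacter_conjChar hN hθ g
  refine classFunction_ext (isClassFunction_of_isCharacter hres) (isClassFunction_smul
    (isClassFunction_sum _ fun ψ hψ => isClassFunction_of_isCharacter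
      (isCharacter_of_irr (horb ψ hψ))) _) fun ξ => ?_
  rw [classInner_smul_left, classInner_sum_left]
  by_cases hmem : (ξ : H → ℂ) ∈ (conjOrbit_finite hN θ).toFinset
  · rw [Finset.sum_eq_single (ξ : H → ℂ) (fun ψ hψ hne => classInner_irr_ne (horb ψ hψ) ξ.2 hne)
      (fun h => absurd hmem h), classInner_irr_self ξ.2, mul_one]
    obtain ⟨g, hg⟩ := (conjOrbit_finite hN θ).mem_toFinset.1 hmem
    rw [hg, classInner_res_conjChar hN hχcl]
  · rw [Finset.sum_eq_zero (fun ψ hψ => classInner_irr_ne (horb ψ hψ) ξ.2 (by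
      rintro rfl; exact hmem hψ)), mul_zero]
    by_contra hne
    exact hmem ((conjOrbit_finite hN θ).mem_toFinset.2
      (exists_conj_of_constituent hN hχ hθ ξ.2 h1 hne))

/-! ## Inertia -/

/-- The inertia subgroup of `θ`. -/
def inertia (hN : H.Normal) (θ : H → ℂ) : Subgroup G where
  carrier := {g | conjChar hN θ g = θ}
  one_mem' := conjChar_one hN θ
  mul_mem' := fun {a b} (ha : conjChar hN θ a = θ) (hb : conjChar hN θ b = θ) => by
    show conjChar hN θ (a * b) = θ
    rw [← conjChar_mul, ha, hb]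
  inv_mem' := fun {a} (ha : conjChar hN θ a = θ) => by
    show conjChar hN θ a⁻¹ = θ
    conv_lhs => rw [← ha]
    rw [conjChar_mul, mul_inv_cancel, conjChar_one]

omit [Fintype G] [Fintype H] in
theorem mem_inertia {hN : H.Normal} {θ : H → ℂ} {g : G} :
    g ∈ inertia hN θ ↔ ∀ n : H, θ ⟨g * n * g⁻¹, hN.conj_mem n n.2 g⟩ = θ n :=
  ⟨fun h n => congrFun (show conjChar hN θ g = θ from h) n,
    fun h => show conjChar hN θ g = θ from funext h⟩

omit [Fintype G] [Fintype H] in
theorem le_inertia (hN : H.Normal) {θ : H → ℂ} (hθ : IsClassFunction H θ) :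
    H ≤ inertia hN θ := fun x hx => mem_inertia.2 fun n => hθ n ⟨x, hx⟩

/-- The orbit of `θ` has as many elements as the index of the inertia group. -/
theorem card_conjOrbit (hN : H.Normal) (θ : H → ℂ) :
    (conjOrbit_finite hN θ).toFinset.card = (inertia hN θ).index := by
  classical
  rw [Subgroup.index_eq_card, ← Set.ncard_eq_toFinset_card _ (conjOrbit_finite hN θ),
    ← Nat.card_coe_set_eq]
  refine (Nat.card_congr (Equiv.ofBijective
    (fun q : G ⧸ inertia hN θ => (⟨conjChar hN θ q.out⁻¹, q.out⁻¹, rfl⟩ : conjOrbit hN θ))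
    ⟨?_, ?_⟩)).symm
  · intro q r h
    have h' : conjChar hN θ q.out⁻¹ = conjChar hN θ r.out⁻¹ := congrArg Subtype.val h
    rw [← q.out_eq', ← r.out_eq', QuotientGroup.eq]
    show conjChar hN θ (q.out⁻¹ * r.out) = θ
    rw [← conjChar_mul, h', conjChar_mul, inv_mul_cancel, conjChar_one]
  · rintro ⟨ψ, g, rfl⟩
    refine ⟨(QuotientGroup.mk g⁻¹ : G ⧸ inertia hN θ), Subtype.ext ?_⟩
    obtain ⟨⟨t, ht⟩, hq⟩ := QuotientGroup.mk_out_eq_mul (inertia hN θ) g⁻¹
    show conjChar hN θ _ = conjChar hN θ g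
    rw [hq]
    show conjChar hN θ (g⁻¹ * t)⁻¹ = _
    rw [mul_inv_rev, inv_inv, ← conjChar_mul,
      show conjChar hN θ t⁻¹ = θ from (inertia hN θ).inv_mem ht]

/-- Degrees in Clifford's theorem. -/
theorem clifford_degree (hN : H.Normal) {χ : G → ℂ} (hχ : IsIrrCharacter G χ)
    {θ : H → ℂ} (hθ : IsIrrCharacter H θ) (h1 : classInner (fun n : H => χ n) θ ≠ 0) :
    χ 1 = classInner (fun n : H => χ n) θ * (inertia hN θ).index * θ 1 := by
  have h := congrFun (clifford hN hχ hθ h1) 1
  rw [Pi.smul_apply, Finset.sum_apply, Finset.sum_congr rfl (fun ψ hψ => show ψ 1 = θ 1 by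
      obtain ⟨g, rfl⟩ := (conjOrbit_finite hN θ).mem_toFinset.1 hψ
      exact conjChar_apply_one hN θ g), Finset.sum_const, card_conjOrbit, nsmul_eq_mul,
    smul_eq_mul, ← mul_assoc] at h
  exact h

end Normal

/-- **Clifford correspondence**: every irreducible character over `θ` is induced from an
irreducible character of the inertia group with the same multiplicity of `θ`. -/
theorem correspondence {H : Subgroup G} [Fintype H] (hN : H.Normal) {θ : H → ℂ}
    (hθ : IsIrrCharacter H θ) (T : Subgroup G) [Fintype T] (hT : T = inertia hN θ)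
    (hHT : H ≤ T) {χ : G → ℂ} (hχ : IsIrrCharacter G χ)
    (hcon : classInner (fun n : H => χ n) θ ≠ 0) :
    ∃ ψ : T → ℂ, IsIrrCharacter T ψ ∧ indFun T ψ = χ ∧
      classInner (fun n : H => ψ ⟨(n : G), hHT n.2⟩) θ =
        classInner (fun n : H => χ n) θ := by
  classical
  have hχc := isCharacter_of_irr hχ
  have hresT := isCharacter_subtype hχc T
  let ι : H →* T := Subgroup.inclusion hHT
  have hresι : ∀ {ξ : T → ℂ}, IsCharacter T ξ → IsCharacter H (fun n : H => ξ (ι n)) :=
    fun h => isCharacter_pullback h ι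
  obtain ⟨m, hm, hsum⟩ := exists_mult hresT
  have hk : ∀ ξ : IrrCharacter T, ∃ k : ℕ,
      classInner (fun n : H => (ξ : T → ℂ) (ι n)) θ = (k : ℂ) :=
    fun ξ => classInner_char_nat (hresι (irr_isCharacter ξ)) (isCharacter_of_irr hθ)
  choose k hk using hk
  have hexp : classInner (fun n : H => χ n) θ = ∑ ξ : IrrCharacter T, (m ξ : ℂ) * (k ξ : ℂ) := by
    have : (fun n : H => χ n) = ∑ ξ : IrrCharacter T, (m ξ : ℂ) • fun n : H => (ξ : T → ℂ) (ι n) := by
      funext n
      have := congrFun hsum (ι n)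
      simp only [Finset.sum_apply, Pi.smul_apply, smul_eq_mul] at this ⊢
      exact this
    rw [this, classInner_sum_left]
    exact Finset.sum_congr rfl fun ξ _ => by rw [classInner_smul_left, hk]
  have hne : ∃ ξ : IrrCharacter T, m ξ * k ξ ≠ 0 := by
    by_contra h
    push Not at h
    apply hcon
    rw [hexp]
    exact Finset.sum_eq_zero fun ξ _ => by rw [← Nat.cast_mul, h ξ, Nat.cast_zero]
  obtain ⟨ψ, hψne⟩ := hne
  obtain ⟨hmψ, hkψ⟩ := mul_ne_zero_iff.1 hψne
  obtain ⟨e, he⟩ := classInner_char_nat (isCharacter_subtype hχc H) (isCharacter_of_irr hθ)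
  have hle : k ψ ≤ e := by
    have h : e = ∑ ξ : IrrCharacter T, m ξ * k ξ := by exact_mod_cast he.symm.trans hexp
    rw [h]
    exact le_trans (Nat.le_mul_of_pos_left _ (Nat.pos_of_ne_zero hmψ))
      (Finset.single_le_sum (f := fun ξ => m ξ * k ξ) (fun _ _ => Nat.zero_le _)
        (Finset.mem_univ ψ))
  -- degree of `ψ`
  have hψ1 : (ψ : T → ℂ) 1 = (k ψ : ℂ) * θ 1 := by
    let H' : Subgroup T := H.subgroupOf T
    have hN' : H'.Normal := hN.subgroupOf T
    let eH : H' ≃* H := Subgroup.subgroupOfEquivOfLe hHT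
    let θ' : H' → ℂ := fun x => θ (eH x)
    have hθ' : IsIrrCharacter H' θ' := isIrrCharacter_pullback hθ eH.toMonoidHom eH.surjective
    have hinner : classInner (fun x : H' => (ψ : T → ℂ) x) θ' = (k ψ : ℂ) := by
      rw [← hk ψ]
      unfold classInner
      rw [Nat.card_congr eH.toEquiv]
      congr 1
      refine Fintype.sum_equiv eH.toEquiv _ _ fun x => ?_
      rfl
    have hin : inertia hN' θ' = ⊤ := by
      rw [eq_top_iff]
      intro t _
      refine mem_inertia.2 fun x => ?_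
      have ht : (t : G) ∈ inertia hN θ := hT ▸ t.2
      have := mem_inertia.1 ht (eH x)
      exact this
    have hd := clifford_degree hN' ψ.2 hθ' (by rw [hinner]; exact Nat.cast_ne_zero.2 hkψ)
    rw [hinner, hin, Subgroup.index_top, Nat.cast_one, mul_one] at hd
    rw [hd]
    exact congrArg (fun z => (k ψ : ℂ) * θ z) (Subtype.ext rfl)
  -- `χ` is a constituent of the induced character
  have hind := CfsgLib.Induction.isCharacter_indFun T (irr_isCharacter ψ)
  obtain ⟨M, hM, hMsum⟩ := exists_mult hind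
  have hMχ : M ⟨χ, hχ⟩ ≠ 0 := by
    intro h0
    have := hM ⟨χ, hχ⟩
    rw [h0, Nat.cast_zero, CfsgLib.Induction.classInner_indFun T _
      (isClassFunction_of_isCharacter hχc), classInner_conj_symm, map_eq_zero, hm ψ] at this
    exact hmψ (by exact_mod_cast this)
  obtain ⟨d, hd0, hd⟩ := irr_exists_degree hθ
  have hidx : χ 1 = (e : ℂ) * (T.index : ℂ) * θ 1 := by
    rw [clifford_degree hN hχ hθ hcon, he, ← hT]
  have hind1 : indFun T (ψ : T → ℂ) 1 = (T.index : ℂ) * ((k ψ : ℂ) * θ 1) := by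
    rw [CfsgLib.Induction.indFun_one_apply, hψ1]
  have hdeg : ∀ ξ : IrrCharacter G, ∃ n : ℕ, 0 < n ∧ (ξ : G → ℂ) 1 = n := fun ξ =>
    irr_exists_degree ξ.2
  choose deg hdeg0 hdeg using hdeg
  have hsumdeg : T.index * (k ψ * d) = ∑ ξ : IrrCharacter G, M ξ * deg ξ := by
    have := congrFun hMsum 1
    rw [hind1, hd] at this
    simp only [Finset.sum_apply, Pi.smul_apply, smul_eq_mul, hdeg] at this
    exact_mod_cast this
  have hχdeg : deg ⟨χ, hχ⟩ = e * T.index * d := by
    have := hdeg ⟨χ, hχ⟩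
    simp only at this
    rw [hidx, hd] at this
    exact_mod_cast this.symm
  have hone : deg ⟨χ, hχ⟩ ≤ M ⟨χ, hχ⟩ * deg ⟨χ, hχ⟩ :=
    Nat.le_mul_of_pos_left _ (Nat.pos_of_ne_zero hMχ)
  have hsingle : M ⟨χ, hχ⟩ * deg ⟨χ, hχ⟩ ≤ ∑ ξ : IrrCharacter G, M ξ * deg ξ :=
    Finset.single_le_sum (f := fun ξ => M ξ * deg ξ) (fun _ _ => Nat.zero_le _)
      (Finset.mem_univ _)
  have hupper : T.index * (k ψ * d) ≤ deg ⟨χ, hχ⟩ := by
    rw [hχdeg, mul_comm e, mul_assoc]
    exact Nat.mul_le_mul_left _ (Nat.mul_le_mul_right _ hle)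
  have hM1 : M ⟨χ, hχ⟩ = 1 := by
    have : M ⟨χ, hχ⟩ * deg ⟨χ, hχ⟩ = 1 * deg ⟨χ, hχ⟩ := by omega
    exact Nat.eq_of_mul_eq_mul_right (hdeg0 _) this
  have hzero : ∀ ξ, ξ ≠ (⟨χ, hχ⟩ : IrrCharacter G) → M ξ = 0 := by
    intro ξ hξ
    have hle2 : M ⟨χ, hχ⟩ * deg ⟨χ, hχ⟩ + M ξ * deg ξ ≤ ∑ η : IrrCharacter G, M η * deg η := by
      rw [← Finset.sum_pair (f := fun η => M η * deg η) (Ne.symm hξ)]
      exact Finset.sum_le_sum_of_subset (Finset.subset_univ _)
    have : M ξ * deg ξ = 0 := by omega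
    exact (mul_eq_zero.1 this).resolve_right (hdeg0 ξ).ne'
  refine ⟨ψ, ψ.2, ?_, ?_⟩
  · rw [hMsum, Finset.sum_eq_single (⟨χ, hχ⟩ : IrrCharacter G)
      (fun ξ _ hξ => by rw [hzero ξ hξ, Nat.cast_zero, zero_smul])
      (fun h => absurd (Finset.mem_univ _) h), hM1, Nat.cast_one, one_smul]
  · rw [he]
    show classInner (fun n : H => (ψ : T → ℂ) (ι n)) θ = _
    rw [hk ψ]
    have heq : T.index * (k ψ * d) = T.index * (e * d) := by
      have : deg ⟨χ, hχ⟩ = T.index * (e * d) := by rw [hχdeg]; ring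
      omega
    have := Nat.eq_of_mul_eq_mul_left (Nat.pos_of_ne_zero Subgroup.index_ne_zero_of_finite) heq
    exact_mod_cast Nat.eq_of_mul_eq_mul_right hd0 this

end CfsgLib.Clifford
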