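import Cfsg.Agent.Lib.Characters.Clifford
import Cfsg.Agent.Lib.Characters.Values
import Cfsg.Agent.Lib.Characters.Scalar

/-!
# Itô's theorem and degree-one characters
-/

set_option autoImplicit false

noncomputable section

namespace CfsgLib.CharIto

open Cfsg CfsgLib.Characters

universe u

variable {G : Type u} [Group G]

/-- A character of degree one is multiplicative. -/
theorem map_mul_of_degree_one {χ : G → ℂ} (h : IsCharacter G χ) (h1 : χ 1 = 1) (a b : G) :
    χ (a * b) = χ a * χ b := by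
  obtain ⟨n, ρ, rfl⟩ := h
  rw [Representation.char_one, Module.finrank_fin_fun, Nat.cast_eq_one] at h1
  subst h1
  simp only [Representation.character, map_mul]
  rw [LinearMap.trace_eq_matrix_trace ℂ (Pi.basisFun ℂ (Fin 1)), LinearMap.toMatrix_mul,
    LinearMap.trace_eq_matrix_trace ℂ (Pi.basisFun ℂ (Fin 1)) (ρ a),
    LinearMap.trace_eq_matrix_trace ℂ (Pi.basisFun ℂ (Fin 1)) (ρ b)]
  simp [Matrix.trace, Matrix.mul_apply]

/-- A character of degree one as a homomorphism to the units. -/
def linearHom {χ : G → ℂ} (h : IsCharacter G χ) (h1 : χ 1 = 1) : G →* ℂˣ :=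
  MonoidHom.toHomUnits { toFun := χ, map_one' := h1, map_mul' := map_mul_of_degree_one h h1 }

@[simp] theorem coe_linearHom {χ : G → ℂ} (h : IsCharacter G χ) (h1 : χ 1 = 1) (g : G) :
    (linearHom h h1 g : ℂ) = χ g := rfl

/-- Degree-one irreducible characters correspond to homomorphisms into the units. -/
def linearIrrEquiv : {χ : IrrCharacter G // (χ : G → ℂ) 1 = 1} ≃ (G →* ℂˣ) where
  toFun χ := linearHom (isCharacter_of_irr χ.1.2) χ.2
  invFun f := ⟨⟨fun g => (f g : ℂ), isIrrCharacter_of_hom f⟩, by simp⟩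
  left_inv χ := Subtype.ext (Subtype.ext (funext fun g => rfl))
  right_inv f := MonoidHom.ext fun g => Units.ext rfl

variable [Finite G]

/-- Irreducible degrees of an abelian group are one. -/
theorem degree_one_of_comm {H : Type*} [Group H] [Finite H] [IsMulCommutative H]
    {θ : H → ℂ} (h : IsIrrCharacter H θ) : θ 1 = 1 := by
  obtain ⟨n, ρ, hρ, rfl⟩ := h
  haveI := hρ
  rw [Representation.char_one,
    Representation.IsIrreducible.finrank_eq_one_of_isMulCommutative ρ, Nat.cast_one]

/-- **Itô's theorem.** The degree of an irreducible character divides the index of any abelian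
normal subgroup. -/
theorem degree_dvd_index_of_abelian_normal {χ : G → ℂ} (hχ : IsIrrCharacter G χ)
    (A : Subgroup G) (hA : A.Normal) (hab : ∀ a ∈ A, ∀ b ∈ A, a * b = b * a) :
    ∃ d : ℕ, χ 1 = d ∧ d ∣ A.index := by
  classical
  have : Fintype G := Fintype.ofFinite G
  have : Fintype A := Fintype.ofFinite A
  have : IsMulCommutative A := ⟨⟨fun a b => Subtype.ext (hab a a.2 b b.2)⟩⟩
  have hχc := isCharacter_of_irr hχ
  obtain ⟨θ, hθ⟩ := CfsgLib.Clifford.exists_constituent
    (CfsgLib.Clifford.isCharacter_subtype hχc A) (fun h => irr_one_ne_zero ⟨χ, hχ⟩ (congrFun h 1))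
  let T := CfsgLib.Clifford.inertia hA (θ : A → ℂ)
  have : Fintype T := Fintype.ofFinite T
  have hAT : A ≤ T := CfsgLib.Clifford.le_inertia hA (irr_isClassFunction θ)
  obtain ⟨ψ, hψ, hind, hres⟩ := CfsgLib.Clifford.correspondence hA θ.2 T rfl hAT hχ hθ
  obtain ⟨f, hf⟩ : ∃ f : ℕ, ψ 1 = (f : ℂ) := exists_degree (isCharacter_of_irr hψ)
  obtain ⟨n, σ, hσ, rfl⟩ := hψ
  haveI := hσ
  let A' : Subgroup T := A.subgroupOf T
  have hA' : A'.Normal := hA.subgroupOf T
  have : Fintype A' := Fintype.ofFinite A'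
  have : IsMulCommutative A' := ⟨⟨fun a b => Subtype.ext (Subtype.ext (hab _ a.2 _ b.2))⟩⟩
  let eA : A' ≃* A := Subgroup.subgroupOfEquivOfLe hAT
  let θ' : A' → ℂ := fun x => (θ : A → ℂ) (eA x)
  have hθ' : IsIrrCharacter A' θ' :=
    CfsgLib.Clifford.isIrrCharacter_pullback θ.2 eA.toMonoidHom eA.surjective
  have hinner : classInner (fun x : A' => σ.character x) θ' ≠ 0 := by
    have : classInner (fun x : A' => σ.character x) θ' =
        classInner (fun n : A => σ.character ⟨(n : G), hAT n.2⟩) (θ : A → ℂ) := by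
      unfold classInner
      rw [Nat.card_congr eA.toEquiv]
      congr 1
      exact Fintype.sum_equiv eA.toEquiv _ _ fun x => rfl
    rw [this, hres]
    exact hθ
  have hclif := CfsgLib.Clifford.clifford hA' ⟨n, σ, hσ, rfl⟩ hθ' hinner
  have horb : (CfsgLib.Clifford.conjOrbit_finite hA' θ').toFinset = {θ'} := by
    refine Finset.eq_singleton_iff_unique_mem.2 ⟨?_, ?_⟩
    · exact (Set.Finite.mem_toFinset _).2 ⟨1, (CfsgLib.Clifford.conjChar_one hA' θ').symm⟩
    · intro ψ hψ
      obtain ⟨t, rfl⟩ := (Set.Finite.mem_toFinset _).1 hψ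
      funext x
      exact CfsgLib.Clifford.mem_inertia.1 (show (t : G) ∈ T from t.2) (eA x)
  rw [horb, Finset.sum_singleton] at hclif
  have hscal : ∀ x ∈ A', ∃ c : ℂ, σ x = c • (1 : Module.End ℂ (Fin n → ℂ)) := by
    intro x hx
    refine (norm_char_eq_iff_scalar σ x).1 ?_
    have h1 := congrFun hclif ⟨x, hx⟩
    have h2 := congrFun hclif 1
    simp only [Pi.smul_apply, smul_eq_mul] at h1 h2
    rw [degree_one_of_comm hθ', mul_one] at h2
    have hdeg : σ.character (((1 : A') : T)) = (Module.finrank ℂ (Fin n → ℂ) : ℂ) := σ.char_one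
    rw [hdeg] at h2
    rw [← h2] at h1
    change σ.character x = _ at h1
    have hroot : ‖θ' ⟨x, hx⟩‖ = 1 := by
      obtain ⟨m, ρ', hρ', hch⟩ := hθ'
      haveI := hρ'
      have hm : Module.finrank ℂ (Fin m → ℂ) = 1 :=
        Representation.IsIrreducible.finrank_eq_one_of_isMulCommutative ρ'
      obtain ⟨ω, -, hω, hsum⟩ := exists_eigenvalues ρ' ⟨x, hx⟩
      rw [← hch, hsum]
      have : Unique (Fin (Module.finrank ℂ (Fin m → ℂ))) := by rw [hm]; infer_instance
      rw [Fintype.sum_unique]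
      exact hω _
    rw [h1, norm_mul, hroot, mul_one, Complex.norm_natCast]
  have hdvd := CfsgLib.CharScalar.finrank_dvd_index σ A' hscal
  refine ⟨T.index * Module.finrank ℂ (Fin n → ℂ), ?_, ?_⟩
  · rw [← hind, CfsgLib.Induction.indFun_one_apply, Representation.char_one, Nat.cast_mul]
  · rw [← Subgroup.relIndex_mul_index hAT, mul_comm T.index]
    exact Nat.mul_dvd_mul_right hdvd _

end CfsgLib.CharIto
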