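import Cfsg.Agent.Lib.Characters.Generalized
import Cfsg.Agent.Lib.Characters.Induction
import Cfsg.Agent.Lib.Characters.Ito
import Mathlib.GroupTheory.SpecificGroups.Cyclic

/-!
# Artin's induction theorem
-/

set_option autoImplicit false

noncomputable section

namespace CfsgLib.CharArtin

open Cfsg CfsgLib.Characters

universe u

variable {G : Type u} [Group G]

/-- Induction preserves generalized characters. -/
theorem isGeneralizedCharacter_indFun [Fintype G] (H : Subgroup G) {θ : H → ℂ}
    (h : IsGeneralizedCharacter H θ) : IsGeneralizedCharacter G (indFun H θ) := by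
  obtain ⟨a, b, ha, hb, rfl⟩ := h
  exact ⟨_, _, CfsgLib.Induction.isCharacter_indFun H ha, CfsgLib.Induction.isCharacter_indFun H hb,
    CfsgLib.Induction.indFun_sub H a b⟩

/-- The function equal to the order of `G` at the generators of `G` and zero elsewhere. -/
def genFun (G : Type u) [Group G] : G → ℂ := fun x =>
  haveI := Classical.propDecidable (Subgroup.zpowers x = ⊤)
  if Subgroup.zpowers x = ⊤ then (Nat.card G : ℂ) else 0

theorem zpowers_mk_eq_top_iff (C : Subgroup G) {x : G} (hx : x ∈ C) :
    Subgroup.zpowers (⟨x, hx⟩ : C) = ⊤ ↔ Subgroup.zpowers x = C := by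
  constructor
  · intro h
    have := congrArg (Subgroup.map C.subtype) h
    rwa [MonoidHom.map_zpowers, ← MonoidHom.range_eq_map, Subgroup.range_subtype] at this
  · intro h
    apply Subgroup.map_injective (f := C.subtype) Subtype.val_injective
    rw [MonoidHom.map_zpowers, ← MonoidHom.range_eq_map, Subgroup.range_subtype]
    exact h

open scoped Classical in
theorem indFun_genFun [Fintype G] (C : Subgroup G) (g : G) :
    indFun C (genFun C) g =
      ∑ x : G, if Subgroup.zpowers (x⁻¹ * g * x) = C then (1 : ℂ) else 0 := by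
  rw [CfsgLib.Induction.indFun_apply, Finset.mul_sum]
  refine Finset.sum_congr rfl fun x _ => ?_
  by_cases hm : x⁻¹ * g * x ∈ C
  · rw [CfsgLib.Induction.extendByZero_mem C _ hm, genFun]
    simp only [zpowers_mk_eq_top_iff C hm]
    split_ifs
    · rw [inv_mul_cancel₀ (Nat.cast_ne_zero.2 Nat.card_pos.ne')]
    · rw [mul_zero]
  · rw [CfsgLib.Induction.extendByZero_notMem C _ hm, mul_zero, if_neg]
    intro h
    exact hm (h ▸ Subgroup.mem_zpowers _)

open scoped Classical in
/-- The sum over all subgroups of the induced generator functions is the order of `G`. -/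
theorem sum_indFun_genFun [Fintype G] :
    ∑ C : Subgroup G, indFun C (genFun C) = fun _ : G => (Nat.card G : ℂ) := by
  funext g
  rw [Finset.sum_apply, Finset.sum_congr rfl fun C _ => indFun_genFun C g, Finset.sum_comm]
  simp [Finset.sum_ite_eq, Nat.card_eq_fintype_card]

/-- The generator function of a subgroup is a generalized character. -/
theorem isGeneralizedCharacter_genFun_aux (n : ℕ) : ∀ (G : Type u) [Group G] [Finite G],
    Nat.card G = n → IsGeneralizedCharacter G (genFun G) := by
  induction n using Nat.strong_induction_on with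
  | _ n ih =>
    intro G _ _ hn
    classical
    have : Fintype G := Fintype.ofFinite G
    have hsum := sum_indFun_genFun (G := G)
    rw [← Finset.add_sum_erase _ _ (Finset.mem_univ (⊤ : Subgroup G))] at hsum
    have htop : indFun (⊤ : Subgroup G) (genFun (⊤ : Subgroup G)) = genFun G := by
      funext g
      rw [indFun_genFun, genFun]
      have hiff : ∀ x : G, Subgroup.zpowers (x⁻¹ * g * x) = ⊤ ↔ Subgroup.zpowers g = ⊤ := by
        intro x
        have hmap : (Subgroup.zpowers g).map (MulAut.conj x⁻¹).toMonoidHom =
            Subgroup.zpowers (x⁻¹ * g * x) := by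
          rw [MonoidHom.map_zpowers]
          simp
        rw [← hmap]
        constructor
        · intro h
          apply Subgroup.map_injective (f := (MulAut.conj x⁻¹).toMonoidHom) (MulAut.conj x⁻¹).injective
          rw [h, Subgroup.map_top_of_surjective _ (MulAut.conj x⁻¹).surjective]
        · intro h
          rw [h, Subgroup.map_top_of_surjective _ (MulAut.conj x⁻¹).surjective]
      simp only [hiff]
      split_ifs <;> simp [Nat.card_eq_fintype_card]
    rw [htop] at hsum
    rw [eq_sub_of_add_eq hsum]
    refine isGeneralizedCharacter_sub ?_ (isGeneralizedCharacter_sum _ fun C hC => ?_)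
    · have := isGeneralizedCharacter_natCast_smul (isGeneralizedCharacter_one (G := G)) (Nat.card G)
      convert this using 1
      funext g
      simp
    · refine isGeneralizedCharacter_indFun C (ih _ ?_ C rfl)
      rw [← hn]
      have hne : C ≠ ⊤ := (Finset.mem_erase.1 hC).1
      exact lt_of_le_of_ne C.card_le_card_group fun h => hne (C.eq_top_of_card_eq h)

theorem isGeneralizedCharacter_genFun [Finite G] : IsGeneralizedCharacter G (genFun G) :=
  isGeneralizedCharacter_genFun_aux _ G rfl

theorem sum_subtype_of_support {ι M : Type*} [Fintype ι] [AddCommMonoid M] (F : ι → M)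
    (p : ι → Prop) [Fintype {i // p i}] (h : ∀ i, F i ≠ 0 → p i) :
    ∑ i, F i = ∑ i : {i // p i}, F i.1 := by
  classical
  rw [← Finset.sum_filter_of_ne (p := p) fun i _ => h i]
  exact Finset.sum_subtype _ (by simp) F

/-- **Artin's induction theorem.** -/
theorem artin [Fintype G] {χ : G → ℂ} (hχ : IsCharacter G χ) :
    ∃ l : List ((A : Subgroup G) × ((A →* ℂˣ) × ℤ)), (∀ t ∈ l, IsCyclic t.1) ∧
      (Nat.card G : ℂ) • χ =
        (l.map fun t => (t.2.2 : ℂ) • indFun t.1 (fun a => (t.2.1 a : ℂ))).sum := by
  classical
  let S := {C : Subgroup G // IsCyclic C}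
  have hS : ∀ C : S, IsGeneralizedCharacter C.1 (fun a : C.1 => genFun C.1 a * χ a) := fun C =>
    isGeneralizedCharacter_mul isGeneralizedCharacter_genFun
      (isGeneralizedCharacter_of_isCharacter (by
        obtain ⟨n, ρ, rfl⟩ := hχ
        exact ⟨n, ρ.comp C.1.subtype, rfl⟩))
  have hlin : ∀ (C : S) (ψ : IrrCharacter C.1), ∃ f : C.1 →* ℂˣ,
      (fun a => (f a : ℂ)) = (ψ : C.1 → ℂ) := by
    intro C ψ
    have := C.2
    have : IsMulCommutative C.1 := inferInstance
    exact ⟨CfsgLib.CharIto.linearHom (irr_isCharacter ψ) (CfsgLib.CharIto.degree_one_of_comm ψ.2),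
      funext fun a => rfl⟩
  choose f hf using hlin
  have hcoef : ∀ (C : S) (ψ : IrrCharacter C.1), ∃ z : ℤ,
      classInner (fun a : C.1 => genFun C.1 a * χ a) (ψ : C.1 → ℂ) = z :=
    fun C => (isGeneralizedCharacter_iff.1 (hS C)).2
  choose z hz using hcoef
  let L : List ((A : Subgroup G) × ((A →* ℂˣ) × ℤ)) :=
    (Finset.univ : Finset (Σ C : S, IrrCharacter C.1)).toList.map
      fun p => ⟨p.1.1, f p.1 p.2, z p.1 p.2⟩
  refine ⟨L, ?_, ?_⟩
  · intro t ht
    obtain ⟨p, -, rfl⟩ := List.mem_map.1 ht
    exact p.1.2
  · rw [List.map_map, Finset.sum_map_toList, Fintype.sum_sigma]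
    have hexp : (Nat.card G : ℂ) • χ = ∑ C : S, indFun C.1 (fun a : C.1 => genFun C.1 a * χ a) := by
      have h1 : (Nat.card G : ℂ) • χ = (∑ C : Subgroup G, indFun C (genFun C)) * χ := by
        rw [sum_indFun_genFun]
        funext g
        simp
      rw [h1, Finset.sum_mul, Finset.sum_congr rfl fun C _ =>
        CfsgLib.Induction.indFun_mul C (isClassFunction_of_isCharacter hχ) (genFun C)]
      refine sum_subtype_of_support (fun C : Subgroup G => indFun C fun a => genFun C a * χ a)
        (fun C : Subgroup G => IsCyclic C) fun C hne => ?_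
      by_contra hC
      apply hne
      have h0 : (fun a : C => genFun C a * χ a) = 0 := by
        funext a
        rw [genFun, if_neg, zero_mul]
        · rfl
        · intro h
          exact hC ⟨a, fun y => Subgroup.mem_zpowers_iff.1 (show y ∈ Subgroup.zpowers a by rw [h]; exact Subgroup.mem_top y)⟩
      rw [h0, CfsgLib.Induction.indFun_zero]
    rw [hexp]
    refine Finset.sum_congr rfl fun C _ => ?_
    conv_lhs => rw [classFunction_eq_sum (isClassFunction_of_isGeneralizedCharacter (hS C)),
      CfsgLib.Induction.indFun_sum]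
    refine Finset.sum_congr rfl fun ψ _ => ?_
    simp only [Function.comp_apply]
    rw [CfsgLib.Induction.indFun_smul, hz C ψ, hf C ψ]

end CfsgLib.CharArtin
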