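import Cfsg.Agent.Lib.Characters.Generalized

/-!
# Exceptional characters from isometries
-/

set_option autoImplicit false

noncomputable section

namespace CfsgLib.CharExceptional

open Cfsg CfsgLib.Characters

universe u

variable {G : Type u} [Group G] [Fintype G]

/-- A generalized character of norm two vanishing at the identity is a difference of two distinct
irreducible characters. -/
theorem exists_diff_of_norm_two {τ : G → ℂ} (hgen : IsGeneralizedCharacter G τ) (h1 : τ 1 = 0)
    (h2 : classInner τ τ = 2) :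
    ∃ a b : IrrCharacter G, a ≠ b ∧ τ = (a : G → ℂ) - (b : G → ℂ) := by
  classical
  have hc := isClassFunction_of_isGeneralizedCharacter hgen
  choose m hm using (isGeneralizedCharacter_iff.1 hgen).2
  have hexp : τ = ∑ χ : IrrCharacter G, (m χ : ℂ) • (χ : G → ℂ) := by
    conv_lhs => rw [classFunction_eq_sum hc]
    simp only [hm]
  rw [classInner_self_eq_sum_sq hc hm] at h2
  have hsum : ∑ χ, m χ ^ 2 = 2 := by exact_mod_cast h2
  let s := Finset.univ.filter fun χ : IrrCharacter G => m χ ≠ 0
  have hs : ∑ χ ∈ s, m χ ^ 2 = 2 := by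
    rw [← hsum]
    exact Finset.sum_subset (Finset.subset_univ _) (fun χ _ hχ => by simpa [s] using hχ)
  have hsq : ∀ χ ∈ s, m χ ^ 2 = 1 := by
    intro χ hχ
    have hle : m χ ^ 2 ≤ 2 := hs ▸ Finset.single_le_sum (fun _ _ => sq_nonneg _) hχ
    have hne : m χ ≠ 0 := (Finset.mem_filter.1 hχ).2
    have h3 : m χ ≤ 1 := by nlinarith
    have h4 : -1 ≤ m χ := by nlinarith
    have : m χ = 1 ∨ m χ = -1 := by omega
    rcases this with h | h <;> rw [h] <;> norm_num
  have hcard : s.card = 2 := by
    rw [Finset.sum_congr rfl hsq, Finset.sum_const, nsmul_one] at hs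
    exact_mod_cast hs
  obtain ⟨a, b, hab, hsab⟩ := Finset.card_eq_two.1 hcard
  have hτ : τ = (m a : ℂ) • (a : G → ℂ) + (m b : ℂ) • (b : G → ℂ) := by
    rw [hexp, ← Finset.sum_subset (Finset.subset_univ s), hsab, Finset.sum_pair hab]
    intro χ _ hχ
    rw [show m χ = 0 by simpa [s] using hχ, Int.cast_zero, zero_smul]
  obtain ⟨da, hda0, hda⟩ := irr_exists_degree a.2
  obtain ⟨db, hdb0, hdb⟩ := irr_exists_degree b.2
  have hdeg := congrFun hτ 1
  rw [h1, Pi.add_apply, Pi.smul_apply, Pi.smul_apply, hda, hdb, smul_eq_mul, smul_eq_mul] at hdeg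
  have hdeg' : (0 : ℤ) = m a * da + m b * db := by exact_mod_cast hdeg
  have ha := hsq a (hsab ▸ Finset.mem_insert_self a _)
  have hb := hsq b (hsab ▸ Finset.mem_insert_of_mem (Finset.mem_singleton_self b))
  rcases sq_eq_one_iff.1 ha with ha | ha <;> rcases sq_eq_one_iff.1 hb with hb | hb <;>
    rw [ha, hb] at hdeg' hτ
  · omega
  · exact ⟨a, b, hab, by simp [hτ, sub_eq_add_neg]⟩
  · exact ⟨b, a, hab.symm, by simp [hτ, sub_eq_add_neg, add_comm]⟩
  · omega

/-- Inner product of two differences of irreducible characters. -/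
theorem classInner_diff [DecidableEq (IrrCharacter G)] (a b c d : IrrCharacter G) :
    classInner ((a : G → ℂ) - (b : G → ℂ)) ((c : G → ℂ) - (d : G → ℂ)) =
      (((if a = c then 1 else 0) - (if b = c then 1 else 0) -
        ((if a = d then 1 else 0) - (if b = d then 1 else 0)) : ℤ) : ℂ) := by
  rw [classInner_sub_right, classInner_sub_left, classInner_sub_left]
  simp only [classInner_irr]
  push_cast
  rfl

/-- **Exceptional characters**: an isometric family of differences comes from a family of
irreducible characters up to a common sign. -/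
theorem exceptional_family {ι : Type*} (i₀ : ι) (τ : ι → G → ℂ) (h0 : τ i₀ = 0)
    (hgen : ∀ i, IsGeneralizedCharacter G (τ i)) (hone : ∀ i, τ i 1 = 0)
    (hnorm : ∀ i, i ≠ i₀ → classInner (τ i) (τ i) = 2)
    (hinner : ∀ i j, i ≠ i₀ → j ≠ i₀ → i ≠ j → classInner (τ i) (τ j) = 1) :
    ∃ ε : ℂ, (ε = 1 ∨ ε = -1) ∧ ∃ μ : ι → IrrCharacter G,
      Function.Injective μ ∧ ∀ i, τ i = ε • ((μ i : G → ℂ) - (μ i₀ : G → ℂ)) := by
  classical
  have hex : ∀ i : {i // i ≠ i₀}, ∃ a b : IrrCharacter G,
      a ≠ b ∧ τ i = (a : G → ℂ) - (b : G → ℂ) :=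
    fun i => exists_diff_of_norm_two (hgen i) (hone i) (hnorm i i.2)
  choose a b hab hτ using hex
  have hpair : ∀ i j, i ≠ j → (a i = a j ∧ b i ≠ b j) ∨ (a i ≠ a j ∧ b i = b j) := by
    intro i j hij
    have h := hinner i j i.2 j.2 (fun h => hij (Subtype.ext h))
    rw [hτ, hτ, classInner_diff] at h
    have h' : ((if a i = a j then 1 else 0) - (if b i = a j then 1 else 0) -
        ((if a i = b j then 1 else 0) - (if b i = b j then 1 else 0)) : ℤ) = 1 := by
      exact_mod_cast h
    by_cases h1 : a i = a j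
    · refine Or.inl ⟨h1, fun h4 => ?_⟩
      have h2 : ¬ b i = a j := fun e => hab i (h1.trans e.symm)
      have h3 : ¬ a i = b j := fun e => hab j (h1.symm.trans e)
      rw [if_pos h1, if_neg h2, if_neg h3, if_pos h4] at h'
      omega
    · refine Or.inr ⟨h1, ?_⟩
      by_contra h4
      simp [h1, h4] at h'
      split_ifs at h' <;> omega
  have hall : (∀ i j, a i = a j) ∨ (∀ i j, b i = b j) := by
    by_contra h
    push Not at h
    obtain ⟨⟨i, j, hij⟩, k, l, hkl⟩ := h
    have hbij : b i = b j := by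
      rcases hpair i j (fun e => hij (congrArg a e)) with h | h
      · exact absurd h.1 hij
      · exact h.2
    have hb : ∀ x, b x = b i := by
      intro x
      by_contra hx
      have hxi : a x = a i := by
        rcases hpair x i (fun e => hx (congrArg b e)) with h | h
        · exact h.1
        · exact absurd h.2 hx
      have hxj : a x = a j := by
        rcases hpair x j (fun e => hx ((congrArg b e).trans hbij.symm)) with h | h
        · exact h.1
        · exact absurd (h.2.trans hbij.symm) hx
      exact hij (hxi.symm.trans hxj)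
    exact hkl ((hb k).trans (hb l).symm)
  by_cases hne : Nonempty {i // i ≠ i₀}
  swap
  · refine ⟨1, Or.inl rfl, fun _ => principalIrr G, ?_, fun i => ?_⟩
    · intro i j _
      by_contra hij
      rcases eq_or_ne i i₀ with rfl | hi
      · exact hne ⟨⟨j, Ne.symm hij⟩⟩
      · exact hne ⟨⟨i, hi⟩⟩
    · rw [show i = i₀ from by_contra fun h => hne ⟨⟨i, h⟩⟩, h0, sub_self, smul_zero]
  obtain ⟨w⟩ := hne
  rcases hall with hA | hB
  · refine ⟨-1, Or.inr rfl, fun i => if h : i = i₀ then a w else b ⟨i, h⟩, ?_, fun i => ?_⟩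
    · intro i j hij
      by_cases hi : i = i₀ <;> by_cases hj : j = i₀
      · rw [hi, hj]
      · simp only [dif_pos hi, dif_neg hj] at hij
        exact absurd ((hA _ w).trans hij) (hab ⟨j, hj⟩)
      · simp only [dif_neg hi, dif_pos hj] at hij
        exact absurd ((hA _ w).trans hij.symm) (hab ⟨i, hi⟩)
      · simp only [dif_neg hi, dif_neg hj] at hij
        by_contra hne
        rcases hpair ⟨i, hi⟩ ⟨j, hj⟩ (fun e => hne (congrArg Subtype.val e)) with h | h
        · exact h.2 hij
        · exact h.1 (hA _ _)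
    · by_cases hi : i = i₀
      · simp [hi, h0]
      · simp only [dif_neg hi, dif_pos]
        rw [hτ ⟨i, hi⟩, hA ⟨i, hi⟩ w, neg_smul, one_smul, neg_sub]
  · refine ⟨1, Or.inl rfl, fun i => if h : i = i₀ then b w else a ⟨i, h⟩, ?_, fun i => ?_⟩
    · intro i j hij
      by_cases hi : i = i₀ <;> by_cases hj : j = i₀
      · rw [hi, hj]
      · simp only [dif_pos hi, dif_neg hj] at hij
        exact absurd ((hB _ w).trans hij) (hab ⟨j, hj⟩).symm
      · simp only [dif_neg hi, dif_pos hj] at hij
        exact absurd ((hB _ w).trans hij.symm) (hab ⟨i, hi⟩).symm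
      · simp only [dif_neg hi, dif_neg hj] at hij
        by_contra hne
        rcases hpair ⟨i, hi⟩ ⟨j, hj⟩ (fun e => hne (congrArg Subtype.val e)) with h | h
        · exact h.2 (hB _ _)
        · exact h.1 hij
    · by_cases hi : i = i₀
      · simp [hi, h0]
      · simp only [dif_neg hi, dif_pos]
        rw [hτ ⟨i, hi⟩, hB ⟨i, hi⟩ w, one_smul]

end CfsgLib.CharExceptional
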