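import Cfsg.Agent.Lib.Characters.Decomp
import Mathlib.GroupTheory.GroupAction.Quotient

/-!
# Brauer's permutation lemma and the action of automorphisms on irreducible characters
-/

set_option autoImplicit false
set_option linter.unusedSectionVars false
set_option linter.style.haveILetI false

namespace CfsgLib.BrauerPerm

open Cfsg CfsgLib.Characters
open scoped ComplexConjugate

universe u

section Perm

variable {K : Type u} [Group K] [Finite K]

theorem sum_card_centralizer_eq [Fintype K] (P : ConjClasses K → Prop) [DecidablePred P] :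
    ∑ k : K, (if P (ConjClasses.mk k) then (Nat.card (Subgroup.centralizer ({k} : Set K)) : ℂ)
      else 0) = (Nat.card K : ℂ) * (Nat.card {c : ConjClasses K // P c} : ℂ) := by
  classical
  haveI : Finite (ConjClasses K) := Finite.of_surjective _ ConjClasses.mk_surjective
  haveI : Fintype (ConjClasses K) := Fintype.ofFinite _
  rw [← Finset.sum_fiberwise Finset.univ ConjClasses.mk]
  rw [Finset.sum_congr rfl (fun c _ => show _ = if P c then (Nat.card K : ℂ) else 0 from ?_)]
  · rw [← Finset.sum_filter, Finset.sum_const, nsmul_eq_mul, mul_comm,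
      Nat.card_eq_fintype_card (α := {c : ConjClasses K // P c}), Fintype.card_subtype]
  obtain ⟨g, rfl⟩ := ConjClasses.exists_rep c
  by_cases hP : P (ConjClasses.mk g)
  · rw [if_pos hP]
    have hterm : ∀ k ∈ Finset.univ.filter (fun k => ConjClasses.mk k = ConjClasses.mk g),
        (if P (ConjClasses.mk k) then (Nat.card (Subgroup.centralizer ({k} : Set K)) : ℂ) else 0) =
          (Nat.card (Subgroup.centralizer ({g} : Set K)) : ℂ) := by
      intro k hk
      have hk' : ConjClasses.mk k = ConjClasses.mk g := (Finset.mem_filter.mp hk).2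
      rw [if_pos (hk' ▸ hP)]
      have hc : IsConj g k := (ConjClasses.mk_eq_mk_iff_isConj.mp hk').symm
      have h1 := card_isConj_mul_card_centralizer g
      have h2 := card_isConj_mul_card_centralizer k
      have h3 : Nat.card {x : K // IsConj k x} = Nat.card {x : K // IsConj g x} :=
        Nat.card_congr (Equiv.subtypeEquivRight fun x => ⟨hc.trans, hc.symm.trans⟩)
      haveI : Nonempty {x : K // IsConj g x} := ⟨⟨g, IsConj.refl g⟩⟩
      rw [h3] at h2
      exact_mod_cast Nat.eq_of_mul_eq_mul_left Nat.card_pos (h2.trans h1.symm)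
    rw [Finset.sum_congr rfl hterm, Finset.sum_const, nsmul_eq_mul]
    have h4 : (Finset.univ.filter (fun k => ConjClasses.mk k = ConjClasses.mk g)).card =
        Nat.card {x : K // IsConj g x} := by
      rw [Nat.card_eq_fintype_card, Fintype.card_subtype]
      congr 1
      ext x
      simp only [Finset.mem_filter, Finset.mem_univ, true_and, ConjClasses.mk_eq_mk_iff_isConj]
      exact isConj_comm
    rw [h4, ← Nat.cast_mul, card_isConj_mul_card_centralizer]
  · rw [if_neg hP]
    exact Finset.sum_eq_zero fun k hk => if_neg ((Finset.mem_filter.mp hk).2 ▸ hP)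

/-- Brauer's permutation lemma for a single permutation. -/
theorem card_fixed_eq (σ : IrrCharacter K → IrrCharacter K) (τ : K → K) (hτ : Function.Bijective τ)
    (h : ∀ χ k, (σ χ : K → ℂ) (τ k) = (χ : K → ℂ) k) :
    Nat.card {χ : IrrCharacter K // σ χ = χ} =
      Nat.card {c : ConjClasses K // ∀ k : K, ConjClasses.mk k = c → ConjClasses.mk (τ k) = c} := by
  classical
  haveI := Fintype.ofFinite K
  have hcompat : ∀ a b : K, IsConj a b → IsConj (τ a) (τ b) := fun a b hab =>
    (isConj_iff_irr _ _).mpr fun χ => by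
      have hσ : Function.Surjective σ := Finite.surjective_of_injective fun χ₁ χ₂ he =>
        Subtype.ext (funext fun k => by rw [← h χ₁ k, ← h χ₂ k, he])
      obtain ⟨ψ, rfl⟩ := hσ χ
      rw [h, h]
      exact classFunction_eq_of_isConj (irr_isClassFunction ψ) hab
  have h1 : ∑ χ : IrrCharacter K, ∑ k : K, (σ χ : K → ℂ) (τ k) * conj ((χ : K → ℂ) (τ k)) =
      (Nat.card K : ℂ) * (Nat.card {χ : IrrCharacter K // σ χ = χ} : ℂ) := by
    have h2 : ∀ χ : IrrCharacter K,
        ∑ k : K, (σ χ : K → ℂ) (τ k) * conj ((χ : K → ℂ) (τ k)) =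
          if σ χ = χ then (Nat.card K : ℂ) else 0 := by
      intro χ
      rw [hτ.sum_comp (fun k => (σ χ : K → ℂ) k * conj ((χ : K → ℂ) k))]
      have h3 := classInner_irr (σ χ) χ
      rw [classInner, inv_mul_eq_iff_eq_mul₀ (Nat.cast_ne_zero.mpr Nat.card_pos.ne')] at h3
      simpa using h3
    rw [Finset.sum_congr rfl fun χ _ => h2 χ, ← Finset.sum_filter, Finset.sum_const,
      nsmul_eq_mul, mul_comm, Nat.card_eq_fintype_card (α := {χ : IrrCharacter K // σ χ = χ}),
      Fintype.card_subtype]
  simp only [h] at h1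
  rw [Finset.sum_comm] at h1
  simp only [column_orth] at h1
  have h4 : ∀ k : K, IsConj k (τ k) ↔
      (∀ x : K, ConjClasses.mk x = ConjClasses.mk k → ConjClasses.mk (τ x) = ConjClasses.mk k) := by
    intro k
    simp only [ConjClasses.mk_eq_mk_iff_isConj]
    exact ⟨fun hk x hx => ((hcompat _ _ hx).trans hk.symm), fun hk => (hk k (IsConj.refl k)).symm⟩
  simp only [h4] at h1
  rw [sum_card_centralizer_eq (fun c => ∀ k : K, ConjClasses.mk k = c → ConjClasses.mk (τ k) = c)]
    at h1
  exact_mod_cast (mul_left_cancel₀ (Nat.cast_ne_zero.mpr Nat.card_pos.ne') h1).symm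

end Perm

section Twist

variable {K K' : Type*} [Group K] [Group K']

/-- Composition with an isomorphism preserves irreducibility. -/
theorem isIrrCharacter_comp_equiv {χ : K' → ℂ} (h : IsIrrCharacter K' χ) (e : K ≃* K') :
    IsIrrCharacter K (fun k => χ (e k)) := by
  obtain ⟨n, ρ, hρ, rfl⟩ := h
  refine ⟨n, ρ.comp e.toMonoidHom, (isIrreducible_iff _).mpr ?_, rfl⟩
  obtain ⟨h1, h2⟩ := (isIrreducible_iff ρ).mp hρ
  refine ⟨h1, fun U hU => h2 U fun g v hv => ?_⟩
  simpa using hU (e.symm g) v hv

/-- A character of norm one is irreducible. -/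
theorem isIrrCharacter_of_norm_one [Fintype K] {φ : K → ℂ} (hφ : IsCharacter K φ)
    (h1 : classInner φ φ = 1) : IsIrrCharacter K φ := by
  classical
  obtain ⟨n, ρ, rfl⟩ := hφ
  obtain ⟨m, hm⟩ := exists_irr_decomp ρ
  have hc : ∀ ψ : IrrCharacter K, classInner ρ.character (ψ : K → ℂ) = (m ψ : ℂ) := fun ψ => by
    rw [hm, classInner_irr_sum, if_pos (Finset.mem_univ _)]
  rw [classInner_eq_sum_mul (isClassFunction_of_isCharacter ⟨n, ρ, rfl⟩)] at h1
  simp only [hc, Complex.conj_natCast] at h1
  have h2 : ∑ ψ : IrrCharacter K, m ψ * m ψ = 1 := by exact_mod_cast h1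
  have hex : ∃ ψ₀, m ψ₀ ≠ 0 := by
    by_contra hne
    push Not at hne
    simp [hne] at h2
  obtain ⟨ψ₀, hψ₀⟩ := hex
  have h3 : 1 ≤ m ψ₀ * m ψ₀ := Nat.one_le_iff_ne_zero.mpr (mul_ne_zero hψ₀ hψ₀)
  have h4 := Finset.add_sum_erase Finset.univ (fun ψ => m ψ * m ψ) (Finset.mem_univ ψ₀)
  rw [h2] at h4
  have h5 : ∀ ψ, ψ ≠ ψ₀ → m ψ = 0 := fun ψ hne => by
    have h6 : ∑ x ∈ Finset.univ.erase ψ₀, m x * m x = 0 := by omega
    exact mul_self_eq_zero.mp
      (Finset.sum_eq_zero_iff.mp h6 ψ (Finset.mem_erase.mpr ⟨hne, Finset.mem_univ _⟩))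
  have h7 : m ψ₀ = 1 := Nat.eq_one_of_dvd_one (Dvd.intro (m ψ₀) (by omega))
  have : ρ.character = (ψ₀ : K → ℂ) := by
    rw [hm, Finset.sum_eq_single ψ₀ (fun ψ _ hne => by simp [h5 ψ hne]) (by simp), h7]
    simp
  exact this ▸ ψ₀.2

/-- Complex conjugation preserves irreducibility. -/
theorem isIrrCharacter_conj [Finite K] {χ : K → ℂ} (h : IsIrrCharacter K χ) :
    IsIrrCharacter K (fun k => conj (χ k)) := by
  classical
  haveI := Fintype.ofFinite K
  refine isIrrCharacter_of_norm_one (isCharacter_conj (isCharacter_of_irr h)) ?_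
  have h1 := congrArg conj (classInner_irr_self h)
  simpa [classInner, map_sum, mul_comm] using h1

/-- The twist of an irreducible character by an automorphism. -/
def twistIrr (e : K ≃* K) (χ : IrrCharacter K) : IrrCharacter K :=
  ⟨fun k => (χ : K → ℂ) (e.symm k), isIrrCharacter_comp_equiv χ.2 e.symm⟩

@[simp] theorem twistIrr_apply (e : K ≃* K) (χ : IrrCharacter K) (k : K) :
    (twistIrr e χ : K → ℂ) k = (χ : K → ℂ) (e.symm k) := rfl

/-- The conjugate of an irreducible character. -/
noncomputable def conjIrr [Finite K] (χ : IrrCharacter K) : IrrCharacter K :=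
  ⟨fun k => conj ((χ : K → ℂ) k), isIrrCharacter_conj χ.2⟩

@[simp] theorem conjIrr_apply [Finite K] (χ : IrrCharacter K) (k : K) :
    (conjIrr χ : K → ℂ) k = conj ((χ : K → ℂ) k) := rfl

theorem conjIrr_eq_self_iff [Finite K] (χ : IrrCharacter K) :
    conjIrr χ = χ ↔ ∀ k, ((χ : K → ℂ) k).im = 0 := by
  simp [Subtype.ext_iff, funext_iff, Complex.conj_eq_iff_im]

/-- The action of the automorphism group on the irreducible characters. -/
@[reducible] def irrAction (K : Type*) [Group K] : MulAction (MulAut K) (IrrCharacter K) where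
  smul := twistIrr
  one_smul _ := rfl
  mul_smul _ _ _ := rfl

end Twist

end CfsgLib.BrauerPerm
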