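import Cfsg.Agent.Lib.Characters.Values
import Cfsg.Agent.Lib.Characters.BrauerPerm
import Mathlib.GroupTheory.FiniteAbelian.Duality
import Mathlib.GroupTheory.Abelianization.Finite
import Mathlib.Analysis.Complex.Polynomial.Basic
import Mathlib.RingTheory.RootsOfUnity.AlgebraicallyClosed

/-!
# Linear characters, convolution, and counting solutions of equations with characters
-/

set_option autoImplicit false
set_option linter.style.haveILetI false

namespace CfsgLib.Characters

open Cfsg Representation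
open scoped ComplexConjugate

variable {G : Type*} [Group G]

/-- A linear character as an irreducible character. -/
noncomputable def linearIrr (f : G →* ℂˣ) : IrrCharacter G :=
  ⟨fun g => (f g : ℂ), isIrrCharacter_of_hom f⟩

theorem linearIrr_injective : Function.Injective (linearIrr (G := G)) := fun _ _ h =>
  MonoidHom.ext fun g => Units.ext (congrFun (congrArg Subtype.val h) g)

/-- An irreducible character of degree one is a homomorphism. -/
theorem exists_linearIrr_eq (χ : IrrCharacter G) (h : (χ : G → ℂ) 1 = 1) :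
    ∃ f : G →* ℂˣ, linearIrr f = χ := by
  obtain ⟨_, n, ρ, hρ, rfl⟩ := χ
  have hn : n = 1 := by
    simpa [Representation.char_one] using h
  subst hn
  let f : G →* ℂˣ := MonoidHom.toHomUnits ((LinearMap.det (M := Fin 1 → ℂ)).comp ρ)
  refine ⟨f, Subtype.ext (funext fun g => ?_)⟩
  change (f g : ℂ) = ρ.character g
  simp only [f, MonoidHom.coe_toHomUnits, MonoidHom.coe_comp, Function.comp_apply,
    Representation.character]
  rw [LinearMap.trace_eq_matrix_trace ℂ (Pi.basisFun ℂ (Fin 1)),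
    ← LinearMap.det_toMatrix (Pi.basisFun ℂ (Fin 1))]
  simp [Matrix.trace]

theorem card_linear_irr [Finite G] :
    Nat.card {χ : IrrCharacter G // (χ : G → ℂ) 1 = 1} = (commutator G).index := by
  have h1 : Nat.card (G →* ℂˣ) = Nat.card {χ : IrrCharacter G // (χ : G → ℂ) 1 = 1} :=
    Nat.card_eq_of_bijective (fun f => ⟨linearIrr f, by simp [linearIrr]⟩)
      ⟨fun f f' h => linearIrr_injective (congrArg Subtype.val h),
        fun χ => (exists_linearIrr_eq χ.1 χ.2).imp fun f hf => Subtype.ext hf⟩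
  rw [← h1, Nat.card_congr (Abelianization.lift (G := G) (A := ℂˣ))]
  haveI : NeZero (Monoid.exponent (Abelianization G) : ℂ) :=
    ⟨Nat.cast_ne_zero.mpr Monoid.exponent_ne_zero_of_finite⟩
  rw [CommGroup.card_monoidHom_of_hasEnoughRootsOfUnity (Abelianization G) ℂ,
    Subgroup.index_eq_card]
  rfl

section
variable [Fintype G]

/-- Convolution of an irreducible character with itself. -/
theorem sum_conj_mul_irr_mul (χ : IrrCharacter G) (g : G) :
    ∑ a : G, conj ((χ : G → ℂ) a) * (χ : G → ℂ) (a * g) =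
      (Nat.card G : ℂ) * (χ : G → ℂ) g / (χ : G → ℂ) 1 := by
  obtain ⟨_, n, ρ, hρ, rfl⟩ := χ
  haveI := hρ
  have hφ : IsClassFunction G (fun a => conj (ρ.character a)) :=
    isClassFunction_conj (fun a b => ρ.char_conj a b)
  have h := funEnd_eq_smul ρ hφ
  have h1 : ∑ a : G, conj (ρ.character a) * ρ.character a = (Nat.card G : ℂ) := by
    have horth := classInner_irr_self (isIrrCharacter_character ρ hρ)
    rw [classInner, inv_mul_eq_one₀ (Nat.cast_ne_zero.mpr Nat.card_pos.ne')] at horth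
    rw [horth]
    exact Finset.sum_congr rfl fun a _ => mul_comm _ _
  have h2 := congrArg (fun T => LinearMap.trace ℂ _ (T * ρ g)) h
  simp only [funEnd, Finset.sum_mul, smul_mul_assoc, map_sum, map_smul, smul_eq_mul, ← map_mul,
    one_mul, h1] at h2
  dsimp only
  rw [Representation.char_one]
  simp only [Representation.character] at h2 ⊢
  rw [h2]
  ring

/-- Frobenius' count of the ways to write an element as a commutator. -/
theorem card_commutator_eq (g : G) :
    (Nat.card {p : G × G // g = p.1 * p.2 * p.1⁻¹ * p.2⁻¹} : ℂ) =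
      (Nat.card G : ℂ) * ∑ χ : IrrCharacter G, (χ : G → ℂ) g / (χ : G → ℂ) 1 := by
  classical
  have hfib : ∀ a : G, (Nat.card {b : G // g = a * b * a⁻¹ * b⁻¹} : ℂ) =
      if IsConj a (g⁻¹ * a) then (Nat.card (Subgroup.centralizer ({a} : Set G)) : ℂ) else 0 := by
    intro a
    have hiff : ∀ b : G, g = a * b * a⁻¹ * b⁻¹ ↔ b * a * b⁻¹ = g⁻¹ * a := fun b => by
      constructor
      · intro h; rw [h]; group
      · intro h
        have : g⁻¹ = b * a * b⁻¹ * a⁻¹ := by rw [h]; group
        rw [← inv_inv g, this]; group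
    rw [Nat.card_congr (Equiv.subtypeEquivRight hiff)]
    split_ifs with hc
    · obtain ⟨b₀, hb₀⟩ := isConj_iff.mp hc
      congr 1
      refine Nat.card_congr (Equiv.subtypeEquiv (Equiv.mulLeft b₀⁻¹) fun b => ?_)
      rw [Subgroup.mem_centralizer_singleton_iff, Equiv.coe_mulLeft, ← hb₀]
      constructor
      · intro h
        calc b₀⁻¹ * b * a = b₀⁻¹ * (b * a * b⁻¹) * b := by group
          _ = a * (b₀⁻¹ * b) := by rw [h]; group
      · intro h
        calc b * a * b⁻¹ = b₀ * (b₀⁻¹ * b * a) * b⁻¹ := by group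
          _ = b₀ * a * b₀⁻¹ := by rw [h]; group
    · haveI : IsEmpty {b : G // b * a * b⁻¹ = g⁻¹ * a} :=
        ⟨fun b => hc (isConj_iff.mpr ⟨b.1, b.2⟩)⟩
      simp
  have hsum : (Nat.card {p : G × G // g = p.1 * p.2 * p.1⁻¹ * p.2⁻¹} : ℂ) =
      ∑ a : G, (Nat.card {b : G // g = a * b * a⁻¹ * b⁻¹} : ℂ) := by
    rw [← Nat.cast_sum, ← Nat.card_sigma]
    exact congrArg Nat.cast (Nat.card_congr
      (Equiv.subtypeProdEquivSigmaSubtype (fun a b : G => g = a * b * a⁻¹ * b⁻¹)))
  rw [hsum]
  simp only [hfib, ← column_orth]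
  rw [Finset.sum_comm, Finset.mul_sum]
  refine Finset.sum_congr rfl fun χ _ => ?_
  rw [← mul_div_assoc, ← sum_conj_mul_irr_mul χ g]
  refine Fintype.sum_equiv (Equiv.inv G) _ _ fun a => ?_
  rw [Equiv.inv_apply, irr_apply_inv χ a, Complex.conj_conj,
    ← irr_apply_inv χ (g⁻¹ * a), mul_inv_rev, inv_inv]

theorem exists_commutator_iff (g : G) :
    (∃ a b : G, g = a * b * a⁻¹ * b⁻¹) ↔
      ∑ χ : IrrCharacter G, (χ : G → ℂ) g / (χ : G → ℂ) 1 ≠ 0 := by
  have hG : (Nat.card G : ℂ) ≠ 0 := Nat.cast_ne_zero.mpr Nat.card_pos.ne'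
  constructor
  · rintro ⟨a, b, h⟩ h0
    haveI : Nonempty {p : G × G // g = p.1 * p.2 * p.1⁻¹ * p.2⁻¹} := ⟨⟨(a, b), h⟩⟩
    have := card_commutator_eq g
    rw [h0, mul_zero, Nat.cast_eq_zero] at this
    exact Nat.card_pos.ne' this
  · intro h
    by_contra hne
    haveI : IsEmpty {p : G × G // g = p.1 * p.2 * p.1⁻¹ * p.2⁻¹} :=
      ⟨fun p => hne ⟨p.1.1, p.1.2, p.2⟩⟩
    have := card_commutator_eq g
    rw [Nat.card_of_isEmpty, Nat.cast_zero] at this
    exact h ((mul_eq_zero.mp this.symm).resolve_left hG)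

/-- Square roots of an element counted by characters. -/
theorem card_sqrt_one_eq :
    (Nat.card {s : G // s * s = 1} : ℂ) = ∑ χ : IrrCharacter G,
      ((Nat.card G : ℂ)⁻¹ * ∑ s : G, (χ : G → ℂ) (s * s)) * (χ : G → ℂ) 1 := by
  classical
  have hG : (Nat.card G : ℂ) ≠ 0 := Nat.cast_ne_zero.mpr Nat.card_pos.ne'
  calc (Nat.card {s : G // s * s = 1} : ℂ)
      = (Nat.card G : ℂ)⁻¹ * ∑ s : G, if s * s = 1 then (Nat.card G : ℂ) else 0 := by
        rw [← Finset.sum_filter, Finset.sum_const, nsmul_eq_mul, Nat.card_eq_fintype_card,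
          Fintype.card_subtype]
        field_simp
    _ = (Nat.card G : ℂ)⁻¹ * ∑ s : G, ∑ χ : IrrCharacter G,
          (χ : G → ℂ) 1 * (χ : G → ℂ) (s * s) := by
        simp only [sum_degree_mul_irr]
    _ = _ := by
        rw [Finset.sum_comm, Finset.mul_sum]
        refine Finset.sum_congr rfl fun χ _ => ?_
        rw [← Finset.mul_sum]
        ring

end

/-! ## Odd order -/

theorem eq_one_of_isConj_inv [Finite G] (hodd : Odd (Nat.card G)) {g : G} (h : IsConj g g⁻¹) :
    g = 1 := by
  obtain ⟨x, hx⟩ := isConj_iff.mp h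
  have ho : ∀ y : G, Odd (orderOf y) := fun y => hodd.of_dvd_nat (orderOf_dvd_natCard y)
  have h2 : Commute (x ^ 2) g := by
    have e : x ^ 2 * g * (x ^ 2)⁻¹ = g := by
      calc x ^ 2 * g * (x ^ 2)⁻¹ = x * (x * g * x⁻¹) * x⁻¹ := by rw [sq]; group
        _ = x * g⁻¹ * x⁻¹ := by rw [hx]
        _ = (x * g * x⁻¹)⁻¹ := by group
        _ = g := by rw [hx, inv_inv]
    exact mul_inv_eq_iff_eq_mul.mp e
  obtain ⟨k, hk⟩ := ho x
  have hxk : x = (x ^ 2) ^ (k + 1) := by
    rw [← pow_mul, show 2 * (k + 1) = orderOf x + 1 by omega, pow_succ, pow_orderOf_eq_one, one_mul]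
  have hc : Commute x g := hxk ▸ h2.pow_left (k + 1)
  rw [hc.eq, mul_inv_cancel_right] at hx
  have hsq : g ^ 2 = 1 := by
    rw [sq]
    calc g * g = g⁻¹ * g := by rw [← hx]
      _ = 1 := inv_mul_cancel g
  have hd := orderOf_dvd_of_pow_eq_one hsq
  rcases (Nat.dvd_prime Nat.prime_two).mp hd with h1 | h1
  · exact orderOf_eq_one_iff.mp h1
  · have := ho g
    rw [h1] at this
    exact absurd this (by decide)

theorem card_real_irr [Finite G] :
    Nat.card {χ : IrrCharacter G // ∀ g : G, ((χ : G → ℂ) g).im = 0} =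
      Nat.card {C : ConjClasses G // ∀ g : G, ConjClasses.mk g = C → IsConj g g⁻¹} := by
  have h := CfsgLib.BrauerPerm.card_fixed_eq (CfsgLib.BrauerPerm.conjIrr (K := G)) (fun k : G => k⁻¹)
    inv_involutive.bijective (fun χ k => by
      simp [irr_apply_inv])
  rw [Nat.card_congr (Equiv.subtypeEquivRight CfsgLib.BrauerPerm.conjIrr_eq_self_iff)] at h
  rw [h]
  refine Nat.card_congr (Equiv.subtypeEquivRight fun C =>
    forall_congr' fun g => imp_congr_right fun hg => ?_)
  subst hg
  exact ConjClasses.mk_eq_mk_iff_isConj.trans isConj_comm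

theorem real_irr_eq_one [Finite G] (hodd : Odd (Nat.card G)) (χ : IrrCharacter G)
    (hreal : ∀ g : G, ((χ : G → ℂ) g).im = 0) : χ = principalIrr G := by
  haveI : Finite (ConjClasses G) := Finite.of_surjective _ ConjClasses.mk_surjective
  have h1 : Nat.card {C : ConjClasses G // ∀ g : G, ConjClasses.mk g = C → IsConj g g⁻¹} ≤ 1 := by
    rw [Finite.card_le_one_iff_subsingleton]
    refine ⟨fun a b => Subtype.ext ?_⟩
    obtain ⟨x, hx⟩ := ConjClasses.mk_surjective a.1
    obtain ⟨y, hy⟩ := ConjClasses.mk_surjective b.1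
    rw [← hx, ← hy, eq_one_of_isConj_inv hodd (a.2 x hx), eq_one_of_isConj_inv hodd (b.2 y hy)]
  rw [← card_real_irr, Finite.card_le_one_iff_subsingleton] at h1
  exact congrArg Subtype.val (Subsingleton.elim
    (⟨χ, hreal⟩ : {χ : IrrCharacter G // ∀ g : G, ((χ : G → ℂ) g).im = 0})
    ⟨principalIrr G, fun g => by simp⟩)

theorem card_modEq_card_conjClasses [Finite G] (hodd : Odd (Nat.card G)) :
    Nat.card G ≡ Nat.card (ConjClasses G) [MOD 16] := by
  classical
  have : Fintype G := Fintype.ofFinite G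
  have hdeg : ∀ χ : IrrCharacter G, ∃ n : ℕ, (χ : G → ℂ) 1 = n ∧ Odd n := fun χ => by
    obtain ⟨n, h1, _, h3⟩ := irr_degree_dvd_card χ
    exact ⟨n, h1, hodd.of_dvd_nat h3⟩
  choose d hd hdodd using hdeg
  have hsum : ∑ χ, d χ ^ 2 = Nat.card G := by
    have := sum_sq_degrees (G := G)
    simp only [hd] at this
    exact_mod_cast this
  rw [← card_irr_eq_card_conjClasses, ← ZMod.natCast_eq_natCast_iff, ← hsum,
    Nat.card_eq_fintype_card, ← sub_eq_zero]
  push_cast
  rw [← Finset.card_univ, Finset.card_eq_sum_ones, Nat.cast_sum, ← Finset.sum_sub_distrib]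
  simp only [Nat.cast_one]
  have h8 : ∀ χ, ((d χ : ZMod 16) ^ 2 - 1) + ((d χ : ZMod 16) ^ 2 - 1) = 0 := by
    intro χ
    obtain ⟨k, hk⟩ := hdodd χ
    rw [hk]
    push_cast
    generalize (k : ZMod 16) = z
    revert z
    decide
  refine Finset.sum_involution (fun χ _ => CfsgLib.BrauerPerm.conjIrr χ) (fun χ _ => ?_)
    (fun χ _ hne => ?_) (fun _ _ => Finset.mem_univ _) (fun χ _ => ?_)
  · have : d (CfsgLib.BrauerPerm.conjIrr χ) = d χ := by
      have h := hd (CfsgLib.BrauerPerm.conjIrr χ)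
      rw [CfsgLib.BrauerPerm.conjIrr_apply, hd χ, map_natCast] at h
      exact_mod_cast h.symm
    rw [this]
    exact h8 χ
  · intro heq
    apply hne
    have := real_irr_eq_one hodd χ ((CfsgLib.BrauerPerm.conjIrr_eq_self_iff χ).mp heq)
    have h1 : d χ = 1 := by
      have h := hd χ
      rw [this, principalIrr_apply] at h
      have : (1 : ℕ) = d χ := by rw [this]; exact_mod_cast h
      exact this.symm
    simp [h1]
  · exact Subtype.ext (funext fun g => by simp)

end CfsgLib.Characters
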