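import Cfsg.Prelude.Def_Characters
import Mathlib.RepresentationTheory.Character
import Mathlib.LinearAlgebra.Matrix.PosDef
import Mathlib.Analysis.Matrix.PosDef
import Mathlib.Analysis.Complex.Polynomial.Basic

/-!
# Basic character theory on the vocabulary of `Def_Characters`
-/

set_option autoImplicit false
set_option linter.style.haveILetI false

namespace CfsgLib.Characters

open Cfsg Representation
open scoped ComplexConjugate

variable {G : Type*} [Group G]
variable {V : Type*} [AddCommGroup V] [Module ℂ V]
variable {W : Type*} [AddCommGroup W] [Module ℂ W]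

/-! ## Transport and irreducibility -/

/-- Transport a representation along a linear equivalence. -/
noncomputable def transportRep (ρ : Representation ℂ G V) (e : V ≃ₗ[ℂ] W) :
    Representation ℂ G W where
  toFun g := e.conj (ρ g)
  map_one' := by ext; simp [LinearEquiv.conj_apply]
  map_mul' g h := by ext; simp [LinearEquiv.conj_apply]

@[simp] theorem transportRep_apply (ρ : Representation ℂ G V) (e : V ≃ₗ[ℂ] W) (g : G) :
    transportRep ρ e g = e.conj (ρ g) := rfl

/-- A representation is equivalent to its transport. -/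
noncomputable def transportRepEquiv (ρ : Representation ℂ G V) (e : V ≃ₗ[ℂ] W) :
    ρ.Equiv (transportRep ρ e) :=
  Representation.Equiv.mk e (fun g => by ext; simp [LinearEquiv.conj_apply])

theorem character_transportRep (ρ : Representation ℂ G V) (e : V ≃ₗ[ℂ] W) :
    (transportRep ρ e).character = ρ.character := by
  funext g
  exact LinearMap.trace_conj' (ρ g) e

/-- Irreducibility in terms of invariant submodules. -/
theorem isIrreducible_iff (ρ : Representation ℂ G V) :
    ρ.IsIrreducible ↔ Nontrivial V ∧
      ∀ U : Submodule ℂ V, (∀ g : G, ∀ v ∈ U, ρ g v ∈ U) → U = ⊥ ∨ U = ⊤ := by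
  constructor
  · intro h
    refine ⟨?_, fun U hU => ?_⟩
    · by_contra hV
      rw [not_nontrivial_iff_subsingleton] at hV
      obtain ⟨a, b, hab⟩ := h.toNontrivial
      exact hab (Subrepresentation.toSubmodule_injective (Subsingleton.elim _ _))
    · rcases h.eq_bot_or_eq_top ⟨U, fun g v hv => hU g v hv⟩ with h1 | h1
      · exact Or.inl (congrArg Subrepresentation.toSubmodule h1)
      · exact Or.inr (congrArg Subrepresentation.toSubmodule h1)
  · rintro ⟨hV, h⟩
    have : Nontrivial (Subrepresentation ρ) :=
      ⟨⊥, ⊤, fun hbt => bot_ne_top (α := Submodule ℂ V)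
        (congrArg Subrepresentation.toSubmodule hbt)⟩
    refine ⟨fun U => ?_⟩
    rcases h U.toSubmodule (fun g v hv => U.apply_mem_toSubmodule g hv) with h1 | h1
    · exact Or.inl (Subrepresentation.toSubmodule_injective h1)
    · exact Or.inr (Subrepresentation.toSubmodule_injective h1)

/-- Equivalent representations are simultaneously irreducible. -/
theorem isIrreducible_of_equiv {ρ : Representation ℂ G V} {σ : Representation ℂ G W}
    (φ : ρ.Equiv σ) (h : ρ.IsIrreducible) : σ.IsIrreducible := by
  rw [isIrreducible_iff] at h ⊢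
  obtain ⟨hV, h⟩ := h
  refine ⟨φ.toLinearEquiv.injective.nontrivial, fun U hU => ?_⟩
  have key := h (U.comap φ.toLinearEquiv.toLinearMap) (fun g v hv => by
    have h1 : φ.toLinearEquiv (ρ g v) = σ g (φ.toLinearEquiv v) :=
      LinearMap.congr_fun (φ.toIntertwiningMap.isIntertwining' g) v
    change φ.toLinearEquiv (ρ g v) ∈ U
    rw [h1]
    exact hU g _ hv)
  have hs : U = (U.comap φ.toLinearEquiv.toLinearMap).map φ.toLinearEquiv.toLinearMap :=
    (Submodule.map_comap_eq_of_surjective φ.toLinearEquiv.surjective U).symm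
  rcases key with h1 | h1
  · left; rw [hs, h1, Submodule.map_bot]
  · right
    rw [hs, h1, Submodule.map_top, LinearMap.range_eq_top]
    exact φ.toLinearEquiv.surjective

/-! ## Characters -/

section
variable [FiniteDimensional ℂ V]

theorem exists_fin_rep (ρ : Representation ℂ G V) :
    ∃ σ : Representation ℂ G (Fin (Module.finrank ℂ V) → ℂ),
      Nonempty (ρ.Equiv σ) ∧ σ.character = ρ.character :=
  ⟨transportRep ρ (Module.finBasis ℂ V).equivFun,
    ⟨transportRepEquiv ρ _⟩, character_transportRep ρ _⟩

/-- The character of any finite-dimensional representation is a character. -/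
theorem isCharacter_character (ρ : Representation ℂ G V) : IsCharacter G ρ.character := by
  obtain ⟨σ, _, hσ⟩ := exists_fin_rep ρ
  exact ⟨_, σ, hσ⟩

/-- The character of any finite-dimensional irreducible representation is irreducible. -/
theorem isIrrCharacter_character (ρ : Representation ℂ G V) (h : ρ.IsIrreducible) :
    IsIrrCharacter G ρ.character := by
  obtain ⟨σ, ⟨e⟩, hσ⟩ := exists_fin_rep ρ
  exact ⟨_, σ, isIrreducible_of_equiv e h, hσ⟩

end

theorem isCharacter_of_irr {χ : G → ℂ} (h : IsIrrCharacter G χ) : IsCharacter G χ := by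
  obtain ⟨n, ρ, _, hρ⟩ := h
  exact ⟨n, ρ, hρ⟩

theorem irr_isCharacter (χ : IrrCharacter G) : IsCharacter G (χ : G → ℂ) :=
  isCharacter_of_irr χ.2

theorem isClassFunction_of_isCharacter {χ : G → ℂ} (h : IsCharacter G χ) : IsClassFunction G χ := by
  obtain ⟨n, ρ, rfl⟩ := h
  exact fun g h => ρ.char_conj g h

theorem irr_isClassFunction (χ : IrrCharacter G) : IsClassFunction G (χ : G → ℂ) :=
  isClassFunction_of_isCharacter (irr_isCharacter χ)

theorem classFunction_eq_of_isConj {φ : G → ℂ} (h : IsClassFunction G φ) {a b : G}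
    (hab : IsConj a b) : φ a = φ b := by
  obtain ⟨c, hc⟩ := isConj_iff.mp hab
  rw [← hc, h]

theorem classFunction_mul_comm {φ : G → ℂ} (h : IsClassFunction G φ) (a b : G) :
    φ (a * b) = φ (b * a) := by
  conv_lhs => rw [← h (a * b) b]
  congr 1; group

theorem exists_degree {χ : G → ℂ} (h : IsCharacter G χ) : ∃ n : ℕ, χ 1 = n := by
  obtain ⟨n, ρ, rfl⟩ := h
  exact ⟨n, by simp⟩

theorem irr_exists_degree {χ : G → ℂ} (h : IsIrrCharacter G χ) :
    ∃ n : ℕ, 0 < n ∧ χ 1 = n := by
  obtain ⟨n, ρ, hρ, rfl⟩ := h
  refine ⟨n, ?_, by simp⟩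
  rcases n.eq_zero_or_pos with rfl | hn
  · exact absurd ((isIrreducible_iff ρ).mp hρ).1
      (not_nontrivial_iff_subsingleton.mpr inferInstance)
  · exact hn

theorem irr_one_ne_zero (χ : IrrCharacter G) : (χ : G → ℂ) 1 ≠ 0 := by
  obtain ⟨n, hn, h⟩ := irr_exists_degree χ.2
  rw [h]; exact_mod_cast hn.ne'

theorem isCharacter_zero : IsCharacter G (0 : G → ℂ) := by
  refine ⟨0, 1, ?_⟩
  funext g
  rw [Representation.character, Subsingleton.elim ((1 : Representation ℂ G (Fin 0 → ℂ)) g) 0,
    map_zero, Pi.zero_apply]

theorem isCharacter_add {χ ψ : G → ℂ} (hχ : IsCharacter G χ) (hψ : IsCharacter G ψ) :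
    IsCharacter G (χ + ψ) := by
  obtain ⟨n, ρ, rfl⟩ := hχ
  obtain ⟨m, σ, rfl⟩ := hψ
  have h : (ρ.prod σ).character = ρ.character + σ.character := by
    funext g
    exact LinearMap.trace_prodMap' (ρ g) (σ g)
  exact h ▸ isCharacter_character _

theorem isCharacter_sum {ι : Type*} (s : Finset ι) {f : ι → G → ℂ}
    (h : ∀ i ∈ s, IsCharacter G (f i)) : IsCharacter G (∑ i ∈ s, f i) := by
  classical
  induction s using Finset.induction with
  | empty => simpa using isCharacter_zero
  | insert a s ha ih =>
    rw [Finset.sum_insert ha]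
    exact isCharacter_add (h a (Finset.mem_insert_self a s))
      (ih fun i hi => h i (Finset.mem_insert_of_mem hi))

theorem isCharacter_nsmul {χ : G → ℂ} (h : IsCharacter G χ) (n : ℕ) : IsCharacter G (n • χ) := by
  induction n with
  | zero => simpa using isCharacter_zero
  | succ n ih => rw [succ_nsmul]; exact isCharacter_add ih h

theorem isCharacter_mul {χ ψ : G → ℂ} (hχ : IsCharacter G χ) (hψ : IsCharacter G ψ) :
    IsCharacter G (χ * ψ) := by
  obtain ⟨n, ρ, rfl⟩ := hχ
  obtain ⟨m, σ, rfl⟩ := hψ
  exact (Representation.char_tensor ρ σ) ▸ isCharacter_character _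

theorem isIrrCharacter_of_hom (f : G →* ℂˣ) : IsIrrCharacter G (fun g => (f g : ℂ)) := by
  let ρ : Representation ℂ G ℂ :=
    { toFun := fun g => (f g : ℂ) • LinearMap.id
      map_one' := by ext; simp
      map_mul' := fun a b => by ext; simp [mul_comm] }
  have hc : ρ.character = fun g => (f g : ℂ) := by
    funext g
    simp [ρ, Representation.character]
  rw [← hc]
  refine isIrrCharacter_character ρ ((isIrreducible_iff ρ).mpr ⟨inferInstance, fun U _ => ?_⟩)
  exact eq_bot_or_eq_top U

theorem isIrrCharacter_one : IsIrrCharacter G (fun _ => (1 : ℂ)) := by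
  simpa using isIrrCharacter_of_hom (1 : G →* ℂˣ)

theorem isCharacter_one : IsCharacter G (1 : G → ℂ) :=
  isCharacter_of_irr (isIrrCharacter_one (G := G))

/-- The principal character. -/
def principalIrr (G : Type*) [Group G] : IrrCharacter G := ⟨fun _ => 1, isIrrCharacter_one⟩

@[simp] theorem principalIrr_apply (g : G) : (principalIrr G : G → ℂ) g = 1 := rfl

/-! ## Inverse is complex conjugation -/

section
variable [FiniteDimensional ℂ V]

open scoped ComplexOrder in
open Matrix in
/-- A character value at an inverse is the complex conjugate. -/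
theorem char_inv_eq_conj [Finite G] (ρ : Representation ℂ G V) (g : G) :
    ρ.character g⁻¹ = conj (ρ.character g) := by
  classical
  have : Fintype G := Fintype.ofFinite G
  let b := Module.finBasis ℂ V
  let A : G →* Matrix (Fin (Module.finrank ℂ V)) (Fin (Module.finrank ℂ V)) ℂ :=
    (LinearMap.toMatrixAlgEquiv b).toAlgHom.toRingHom.toMonoidHom.comp ρ
  have hA : ∀ x, ρ.character x = (A x).trace := fun x =>
    LinearMap.trace_eq_matrix_trace ℂ b (ρ x)
  let P := ∑ x : G, (A x)ᴴ * A x
  have hP : P.PosDef := by
    have : P = 1 + ∑ x ∈ Finset.univ.erase (1 : G), (A x)ᴴ * A x := by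
      simp only [P]
      rw [← Finset.add_sum_erase _ _ (Finset.mem_univ (1 : G)), map_one, conjTranspose_one, one_mul]
    rw [this]
    exact Matrix.PosDef.one.add_posSemidef
      (posSemidef_sum _ fun x _ => posSemidef_conjTranspose_mul_self _)
  have hu : IsUnit P.det := (Matrix.isUnit_iff_isUnit_det P).mp hP.isUnit
  have hinv : (A g)ᴴ * P * A g = P := by
    simp only [P, Finset.mul_sum, Finset.sum_mul]
    refine Fintype.sum_equiv (Equiv.mulRight g) _ _ fun x => ?_
    simp [conjTranspose_mul, Matrix.mul_assoc]
  have h1 : (A g)ᴴ * P = P * A g⁻¹ := by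
    calc (A g)ᴴ * P = (A g)ᴴ * P * (A g * A g⁻¹) := by
          rw [← map_mul, mul_inv_cancel, map_one, mul_one]
      _ = P * A g⁻¹ := by rw [← Matrix.mul_assoc, hinv]
  have h2 : A g⁻¹ = P⁻¹ * ((A g)ᴴ * P) := by
    rw [h1, ← Matrix.mul_assoc, Matrix.nonsing_inv_mul _ hu, Matrix.one_mul]
  rw [hA, hA, h2, ← Matrix.mul_assoc, Matrix.trace_mul_comm, ← Matrix.mul_assoc,
    Matrix.mul_nonsing_inv _ hu, Matrix.one_mul, Matrix.trace_conjTranspose]
  rfl

end

theorem char_apply_inv [Finite G] {χ : G → ℂ} (h : IsCharacter G χ) (g : G) :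
    χ g⁻¹ = conj (χ g) := by
  obtain ⟨n, ρ, rfl⟩ := h
  exact char_inv_eq_conj ρ g

theorem irr_apply_inv [Finite G] (χ : IrrCharacter G) (g : G) :
    (χ : G → ℂ) g⁻¹ = conj ((χ : G → ℂ) g) :=
  char_apply_inv (irr_isCharacter χ) g

theorem isCharacter_conj [Finite G] {χ : G → ℂ} (h : IsCharacter G χ) :
    IsCharacter G (fun g => (starRingEnd ℂ) (χ g)) := by
  obtain ⟨n, ρ, rfl⟩ := h
  have : ρ.dual.character = fun g => (starRingEnd ℂ) (ρ.character g) := by
    funext g
    rw [Representation.char_dual, char_inv_eq_conj]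
  exact this ▸ isCharacter_character _

/-! ## The inner product -/

section
variable [Fintype G]

theorem classInner_add_left (a b c : G → ℂ) :
    classInner (a + b) c = classInner a c + classInner b c := by
  simp [classInner, Finset.sum_add_distrib, add_mul, mul_add]

theorem classInner_sub_left (a b c : G → ℂ) :
    classInner (a - b) c = classInner a c - classInner b c := by
  simp [classInner, Finset.sum_sub_distrib, sub_mul, mul_sub]

theorem classInner_smul_left (r : ℂ) (a c : G → ℂ) :
    classInner (r • a) c = r * classInner a c := by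
  simp [classInner, Finset.mul_sum, mul_left_comm, mul_assoc]

theorem classInner_conj_symm (a b : G → ℂ) :
    classInner b a = conj (classInner a b) := by
  simp [classInner, map_sum, mul_comm]

theorem classInner_add_right (a b c : G → ℂ) :
    classInner a (b + c) = classInner a b + classInner a c := by
  simp [classInner, Finset.sum_add_distrib, mul_add]

theorem classInner_sub_right (a b c : G → ℂ) :
    classInner a (b - c) = classInner a b - classInner a c := by
  simp [classInner, Finset.sum_sub_distrib, mul_sub]

theorem classInner_smul_right (r : ℂ) (a c : G → ℂ) :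
    classInner a (r • c) = conj r * classInner a c := by
  simp [classInner, Finset.mul_sum, mul_left_comm]

@[simp] theorem classInner_zero_left (a : G → ℂ) : classInner (0 : G → ℂ) a = 0 := by
  simp [classInner]

@[simp] theorem classInner_zero_right (a : G → ℂ) : classInner a (0 : G → ℂ) = 0 := by
  simp [classInner]

theorem classInner_neg_left (a b : G → ℂ) : classInner (-a) b = -classInner a b := by
  simp [classInner]

theorem classInner_neg_right (a b : G → ℂ) : classInner a (-b) = -classInner a b := by
  simp [classInner]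

theorem classInner_sum_left {ι : Type*} (s : Finset ι) (f : ι → G → ℂ) (c : G → ℂ) :
    classInner (∑ i ∈ s, f i) c = ∑ i ∈ s, classInner (f i) c := by
  simp only [classInner, Finset.sum_apply, Finset.sum_mul]
  rw [Finset.sum_comm, Finset.mul_sum]

theorem classInner_sum_right {ι : Type*} (s : Finset ι) (a : G → ℂ) (f : ι → G → ℂ) :
    classInner a (∑ i ∈ s, f i) = ∑ i ∈ s, classInner a (f i) := by
  simp only [classInner, Finset.sum_apply, map_sum, Finset.mul_sum]
  rw [Finset.sum_comm]

/-- The inner product of two characters is the dimension of the intertwining space. -/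
theorem classInner_char_eq_finrank [FiniteDimensional ℂ V] [FiniteDimensional ℂ W]
    (ρ : Representation ℂ G V) (σ : Representation ℂ G W) :
    classInner σ.character ρ.character = (Module.finrank ℂ (IntertwiningMap ρ σ) : ℂ) := by
  haveI : Invertible (Nat.card G : ℂ) := invertibleOfNonzero (by simp)
  rw [← Representation.card_inv_mul_sum_char_mul_char_eq_finrank ρ σ]
  simp [classInner, char_inv_eq_conj]

theorem classInner_char_nat {χ ψ : G → ℂ} (hχ : IsCharacter G χ)
    (hψ : IsCharacter G ψ) : ∃ n : ℕ, classInner χ ψ = n := by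
  obtain ⟨n, ρ, rfl⟩ := hχ
  obtain ⟨m, σ, rfl⟩ := hψ
  exact ⟨_, classInner_char_eq_finrank σ ρ⟩

theorem classInner_irr_self {χ : G → ℂ} (h : IsIrrCharacter G χ) : classInner χ χ = 1 := by
  obtain ⟨n, ρ, hρ, rfl⟩ := h
  haveI := hρ
  rw [classInner_char_eq_finrank, IsIrreducible.finrank_intertwiningMap_self]
  simp

/-- Irreducible representations with non-orthogonal characters are equivalent. -/
theorem classInner_irreducible_eq_zero [FiniteDimensional ℂ V] [FiniteDimensional ℂ W]
    (ρ : Representation ℂ G V) (σ : Representation ℂ G W) [ρ.IsIrreducible] [σ.IsIrreducible]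
    (h : IsEmpty (ρ.Equiv σ)) : classInner σ.character ρ.character = 0 := by
  rw [classInner_char_eq_finrank, Module.finrank_zero_of_subsingleton, Nat.cast_zero]

theorem classInner_irr [DecidableEq (IrrCharacter G)] (χ ψ : IrrCharacter G) :
    classInner (χ : G → ℂ) ψ = if χ = ψ then 1 else 0 := by
  split_ifs with h
  · subst h; exact classInner_irr_self χ.2
  · obtain ⟨⟨c, n, ρ, hρ, rfl⟩, d, m, σ, hσ, rfl⟩ := χ, ψ
    haveI := hρ; haveI := hσ
    refine classInner_irreducible_eq_zero σ ρ ⟨fun e => h (Subtype.ext ?_)⟩
    exact (Representation.char_iso e).symm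

theorem classInner_irr_ne {χ ψ : G → ℂ} (hχ : IsIrrCharacter G χ) (hψ : IsIrrCharacter G ψ)
    (h : χ ≠ ψ) : classInner χ ψ = 0 := by
  classical
  simpa [h] using classInner_irr ⟨χ, hχ⟩ ⟨ψ, hψ⟩

theorem classInner_irr_sum [DecidableEq (IrrCharacter G)] (s : Finset (IrrCharacter G))
    (c : IrrCharacter G → ℂ) (ψ : IrrCharacter G) :
    classInner (∑ χ ∈ s, c χ • (χ : G → ℂ)) (ψ : G → ℂ) = if ψ ∈ s then c ψ else 0 := by
  simp [classInner_sum_left, classInner_smul_left, classInner_irr, Finset.sum_ite_eq']

end

/-- The irreducible characters are linearly independent. -/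
theorem irr_linearIndependent [Finite G] :
    LinearIndependent ℂ (fun χ : IrrCharacter G => (χ : G → ℂ)) := by
  classical
  have : Fintype G := Fintype.ofFinite G
  rw [linearIndependent_iff']
  intro s c h χ hχ
  have := classInner_irr_sum s c χ
  rw [h, classInner_zero_left, if_pos hχ] at this
  exact this.symm

instance instFiniteIrrCharacter [Finite G] : Finite (IrrCharacter G) :=
  (irr_linearIndependent (G := G)).finite

/-- The irreducible characters form a finite type. -/
noncomputable instance instFintypeIrrCharacter [Finite G] : Fintype (IrrCharacter G) :=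
  Fintype.ofFinite _

end CfsgLib.Characters
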