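import Cfsg.Agent.Lib.Characters.Values
import Cfsg.Agent.Lib.Characters.Generalized
import Cfsg.Agent.Lib.KGV.CharTools
import Mathlib.GroupTheory.Solvable
import Mathlib.GroupTheory.Sylow
import Mathlib.GroupTheory.Nilpotent
import Mathlib.GroupTheory.SpecificGroups.Cyclic

/-!
# Burnside: prime power class sizes and groups of order `p^a q^b`
-/

set_option autoImplicit false
set_option linter.style.haveILetI false

namespace CfsgLib.Burnside

open Cfsg Representation CfsgLib.Characters CfsgLib.KGV
open scoped ComplexConjugate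

universe u

/-- A nonzero cyclotomic integer with all conjugates in the closed disc has modulus one. -/
theorem norm_eq_one_of_integral {N : ℕ} (hN : 0 < N) {θ : ℂ} (hmem : θ ∈ rootField N)
    (hint : IsIntegral ℤ θ) (hne : θ ≠ 0)
    (hb : ∀ σ : rootField N →ₐ[ℚ] ℂ, ‖σ ⟨θ, hmem⟩‖ ≤ 1) : ‖θ‖ = 1 := by
  classical
  haveI := finiteDimensional_rootField hN
  set b : rootField N := ⟨θ, hmem⟩ with hb'
  have hnorm := Algebra.norm_eq_prod_embeddings ℚ ℂ b
  have hi' : IsIntegral ℤ b :=
    (isIntegral_algebraMap_iff (algebraMap (rootField N) ℂ).injective).1 hint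
  obtain ⟨m, hm⟩ := IsIntegrallyClosed.isIntegral_iff.1 (Algebra.isIntegral_norm ℚ hi')
  have hbne : b ≠ 0 := fun h => hne (congrArg Subtype.val h)
  have hm0 : m ≠ 0 := by
    rintro rfl
    rw [map_zero] at hm
    rw [← hm, map_zero, eq_comm, Finset.prod_eq_zero_iff] at hnorm
    obtain ⟨σ, _, hσ⟩ := hnorm
    exact hbne ((map_eq_zero_iff σ σ.toRingHom.injective).mp hσ)
  have hprod : (1 : ℝ) ≤ ∏ σ : rootField N →ₐ[ℚ] ℂ, ‖σ b‖ := by
    rw [← norm_prod, ← hnorm, ← hm]
    simp only [eq_intCast, map_intCast]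
    rw [Complex.norm_intCast]
    exact_mod_cast Int.one_le_abs hm0
  refine le_antisymm (hb (rootField N).val) ?_
  rw [← Finset.mul_prod_erase Finset.univ (fun σ : rootField N →ₐ[ℚ] ℂ => ‖σ b‖)
    (Finset.mem_univ (rootField N).val)] at hprod
  refine hprod.trans (mul_le_of_le_one_right (norm_nonneg _) ?_)
  exact Finset.prod_le_one (fun σ _ => norm_nonneg _) fun σ _ => hb σ

variable {G : Type u} [Group G] [Finite G]

/-- Burnside's coprimality lemma. -/
theorem eq_zero_or_norm_eq_of_coprime {V : Type*} [AddCommGroup V] [Module ℂ V]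
    [FiniteDimensional ℂ V] (ρ : Representation ℂ G V) [ρ.IsIrreducible] (g : G)
    (hcop : Nat.Coprime (Module.finrank ℂ V) (Nat.card {x : G // IsConj g x})) :
    ρ.character g = 0 ∨ ‖ρ.character g‖ = (Module.finrank ℂ V : ℝ) := by
  haveI := CfsgLib.Characters.nontrivial_of_irreducible ρ
  set n := Module.finrank ℂ V with hn
  set c := Nat.card {x : G // IsConj g x} with hc
  have hn0 : 0 < n := Module.finrank_pos
  have hn' : (n : ℂ) ≠ 0 := Nat.cast_ne_zero.mpr hn0.ne'
  set θ := ρ.character g / (n : ℂ) with hθ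
  obtain ⟨u, v, huv⟩ := Int.isCoprime_iff_gcd_eq_one.mpr
    (show Int.gcd (n : ℤ) (c : ℤ) = 1 from hcop)
  have hint : IsIntegral ℤ θ := by
    have h2 : θ = (u : ℂ) * ρ.character g + (v : ℂ) * ((c : ℂ) * ρ.character g / (n : ℂ)) := by
      have huv' : (u : ℂ) * n + v * c = 1 := by exact_mod_cast huv
      rw [hθ]
      field_simp
      linear_combination -(ρ.character g) * huv'
    rw [h2]
    exact (isIntegral_algebraMap (A := ℂ) |>.mul (isIntegral_char ρ g)).add
      (isIntegral_algebraMap (A := ℂ) |>.mul (isIntegral_class_mul_char_div ρ g))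
  by_cases h0 : ρ.character g = 0
  · exact Or.inl h0
  right
  obtain ⟨ω, hω, _, hsum⟩ := exists_eigenvalues ρ g
  have hωmem : ∀ i, ω i ∈ rootField (Nat.card G) := fun i => by
    obtain ⟨k, hk⟩ := orderOf_dvd_natCard (x := g)
    exact mem_rootField_of_pow_eq_one (by rw [hk, pow_mul, hω i, one_pow])
  have hmem : θ ∈ rootField (Nat.card G) := by
    rw [hθ, hsum]
    exact div_mem (sum_mem fun i _ => hωmem i) (natCast_mem _ _)
  have h1 := norm_eq_one_of_integral Nat.card_pos hmem hint (div_ne_zero h0 hn') (fun σ => by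
    have he : (⟨θ, hmem⟩ : rootField (Nat.card G)) =
        (∑ i, (⟨ω i, hωmem i⟩ : rootField (Nat.card G))) / (n : rootField (Nat.card G)) :=
      Subtype.ext (by push_cast; simp [hθ, hsum])
    rw [he, map_div₀, map_sum, map_natCast, norm_div, Complex.norm_natCast,
      div_le_one (Nat.cast_pos.mpr hn0)]
    refine (norm_sum_le _ _).trans (le_of_eq ?_)
    rw [Finset.sum_congr rfl fun i _ => ?_, Finset.sum_const, Finset.card_univ, Fintype.card_fin,
      nsmul_eq_mul, mul_one]
    refine Complex.norm_eq_one_of_pow_eq_one ?_ (orderOf_pos g).ne'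
    rw [← map_pow, show (⟨ω i, hωmem i⟩ : rootField (Nat.card G)) ^ orderOf g = 1 from
      Subtype.ext (by simpa using hω i), map_one])
  rw [hθ, norm_div, Complex.norm_natCast, div_eq_one_iff_eq (Nat.cast_ne_zero.mpr hn0.ne')] at h1
  exact h1

theorem eq_one_of_irr_const {χ : IrrCharacter G} {c : ℂ} (h : ∀ g, (χ : G → ℂ) g = c) :
    χ = principalIrr G := by
  classical
  have : Fintype G := Fintype.ofFinite G
  by_contra hne
  have h1 := classInner_irr χ (principalIrr G)
  rw [if_neg hne] at h1
  have hc : c ≠ 0 := h 1 ▸ irr_one_ne_zero χ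
  simp [classInner, h, hc] at h1

omit [Finite G] in
theorem isMulCommutative_of_mem_center [IsSimpleGroup G] {g : G} (hg : g ≠ 1)
    (h : g ∈ Subgroup.center G) : ∀ a b : G, a * b = b * a := by
  rcases (inferInstance : (Subgroup.center G).Normal).eq_bot_or_eq_top with h' | h'
  · rw [h', Subgroup.mem_bot] at h
    exact absurd h hg
  · intro a b
    exact (Subgroup.mem_center_iff.mp (h' ▸ Subgroup.mem_top b) a)

omit [Finite G] in
theorem prime_card_of_comm [IsSimpleGroup G] (h : ∀ a b : G, a * b = b * a) :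
    (Nat.card G).Prime := by
  letI : CommGroup G := { ‹Group G› with mul_comm := h }
  exact IsSimpleGroup.prime_card

/-- Burnside's theorem on prime power classes. -/
theorem prime_card_of_prime_power_class [IsSimpleGroup G] {p k : ℕ} (hp : p.Prime) {g : G}
    (hg : g ≠ 1) (hclass : (Subgroup.centralizer ({g} : Set G)).index = p ^ k) :
    (Nat.card G).Prime := by
  classical
  have : Fintype G := Fintype.ofFinite G
  by_cases hcomm : ∀ a b : G, a * b = b * a
  · exact prime_card_of_comm hcomm
  exfalso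
  have hcent : ∀ x : G, x ∈ Subgroup.center G → x = 1 := fun x hx =>
    by_contra fun hx1 => hcomm (isMulCommutative_of_mem_center hx1 hx)
  rcases Nat.eq_zero_or_pos k with rfl | hk
  · rw [pow_zero, Subgroup.index_eq_one] at hclass
    exact hg (hcent g (Subgroup.mem_center_iff.mpr fun x =>
      Subgroup.mem_centralizer_singleton_iff.mp (hclass ▸ Subgroup.mem_top x)))
  have hvan : ∀ χ : IrrCharacter G, χ ≠ principalIrr G → ∀ d : ℕ, (χ : G → ℂ) 1 = d → ¬ p ∣ d →
      (χ : G → ℂ) g = 0 := by
    intro χ hne d hd hpd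
    obtain ⟨_, n, ρ, hρ, rfl⟩ := χ
    haveI := hρ
    have hd' : d = Module.finrank ℂ (Fin n → ℂ) := by
      change ρ.character 1 = _ at hd
      rw [Representation.char_one] at hd; exact_mod_cast hd.symm
    have hcop : Nat.Coprime (Module.finrank ℂ (Fin n → ℂ)) (Nat.card {x : G // IsConj g x}) := by
      rw [card_isConj_eq_index, hclass, ← hd']
      exact ((hp.coprime_iff_not_dvd.mpr hpd).symm).pow_right k
    rcases eq_zero_or_norm_eq_of_coprime ρ g hcop with h | h
    · exact h
    exfalso
    obtain ⟨c, hc⟩ := (norm_char_eq_iff_scalar ρ g).mp h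
    rcases (MonoidHom.normal_ker (ρ : G →* _)).eq_bot_or_eq_top with hk' | hk'
    · refine hg (hcent g (Subgroup.mem_center_iff.mpr fun x => ?_))
      refine (MonoidHom.ker_eq_bot_iff _).mp hk' ?_
      rw [map_mul, map_mul, hc]
      ext v
      simp
    · refine hne (eq_one_of_irr_const (c := (n : ℂ)) fun x => ?_)
      change ρ.character x = n
      have : ρ x = 1 := MonoidHom.mem_ker.mp (hk' ▸ Subgroup.mem_top x)
      simp [Representation.character, this]
  have hcol : ∑ χ : IrrCharacter G, (χ : G → ℂ) 1 * (χ : G → ℂ) g = 0 := by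
    rw [sum_degree_mul_irr, if_neg hg]
  rw [← Finset.add_sum_erase _ _ (Finset.mem_univ (principalIrr G))] at hcol
  simp only [principalIrr_apply, mul_one] at hcol
  have hint : ∀ χ ∈ Finset.univ.erase (principalIrr G),
      IsIntegral ℤ ((χ : G → ℂ) 1 * (χ : G → ℂ) g / (p : ℂ)) := by
    intro χ hχ
    obtain ⟨d, hd, _, _⟩ := irr_degree_dvd_card χ
    by_cases hpd : p ∣ d
    · obtain ⟨e, rfl⟩ := hpd
      rw [hd, Nat.cast_mul, mul_assoc, mul_div_cancel_left₀ _ (Nat.cast_ne_zero.mpr hp.ne_zero)]
      have he : IsIntegral ℤ (e : ℂ) := by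
        simpa using (isIntegral_algebraMap (R := ℤ) (A := ℂ) (x := (e : ℤ)))
      exact he.mul
        (isIntegral_of_isCharacter (irr_isCharacter χ) g)
    · rw [hvan χ (Finset.ne_of_mem_erase hχ) d hd hpd, mul_zero, zero_div]
      exact isIntegral_zero
  have h1 : IsIntegral ℤ ((1 : ℕ) / (p : ℕ) : ℂ) := by
    have := (IsIntegral.sum _ hint).neg
    rw [← Finset.sum_div, eq_neg_of_add_eq_zero_right hcol] at this
    simpa [neg_div] using this
  exact hp.one_lt.ne' (Nat.dvd_one.mp (nat_dvd_of_isIntegral_div hp.ne_zero h1))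

/-- Burnside's `p^a q^b` theorem. -/
theorem isSolvable_of_card_eq {p q : ℕ} (hp : p.Prime) (hq : q.Prime) (a b : ℕ)
    (hcard : Nat.card G = p ^ a * q ^ b) : Group.IsSolvable G := by
  induction hn : Nat.card G using Nat.strong_induction_on generalizing G a b with
  | _ n ih =>
    subst hn
    rcases subsingleton_or_nontrivial G with hG | hG
    · infer_instance
    by_cases hN : ∃ N : Subgroup G, N.Normal ∧ N ≠ ⊥ ∧ N ≠ ⊤
    · obtain ⟨N, hNn, hN1, hN2⟩ := hN
      have hsplit : ∀ d, d ∣ Nat.card G → ∃ i j, d = p ^ i * q ^ j := by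
        intro d hd
        rw [hcard] at hd
        obtain ⟨x, y, hx, hy, rfl⟩ := exists_dvd_and_dvd_of_dvd_mul hd
        obtain ⟨i, _, rfl⟩ := (Nat.dvd_prime_pow hp).mp hx
        obtain ⟨j, _, rfl⟩ := (Nat.dvd_prime_pow hq).mp hy
        exact ⟨i, j, rfl⟩
      have hmul := N.card_mul_index
      have h1N : 1 < Nat.card N := N.one_lt_card_iff_ne_bot.mpr hN1
      have h1i : 1 < N.index := by
        rcases Nat.lt_or_ge 1 N.index with h | h
        · exact h
        · exfalso
          have hpos : 0 < N.index := Nat.pos_of_ne_zero Subgroup.index_ne_zero_of_finite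
          exact hN2 (Subgroup.index_eq_one.mp (by omega))
      have hlt1 : Nat.card N < Nat.card G := by nlinarith
      have hlt2 : Nat.card (G ⧸ N) < Nat.card G := by
        rw [← Subgroup.index_eq_card]; nlinarith
      obtain ⟨i, j, hij⟩ := hsplit _ N.card_subgroup_dvd_card
      obtain ⟨i', j', hij'⟩ := hsplit (Nat.card (G ⧸ N)) N.card_quotient_dvd_card
      haveI := ih _ hlt1 (G := N) i j hij rfl
      haveI := ih _ hlt2 (G := G ⧸ N) i' j' hij' rfl
      exact Group.isSolvable_of_ker_le_range N.subtype (QuotientGroup.mk' N) (by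
        rw [QuotientGroup.ker_mk', Subgroup.range_subtype])
    push Not at hN
    haveI : IsSimpleGroup G :=
      ⟨fun H hH => (em (H = ⊥)).imp id (fun h => hN H hH h)⟩
    by_cases ha : a = 0
    · haveI := Fact.mk hq
      haveI : Group.IsNilpotent G :=
        (IsPGroup.of_card (p := q) (n := b) (by rw [hcard, ha, pow_zero, one_mul])).isNilpotent
      infer_instance
    by_cases hpq : p = q
    · haveI := Fact.mk hp
      haveI : Group.IsNilpotent G :=
        (IsPGroup.of_card (p := p) (n := a + b) (by rw [hcard, ← hpq, pow_add])).isNilpotent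
      infer_instance
    haveI := Fact.mk hp
    let P : Sylow p G := default
    have hPcard : Nat.card P = p ^ a := by
      rw [P.card_eq_multiplicity, hcard, Nat.factorization_mul (pow_ne_zero _ hp.ne_zero)
        (pow_ne_zero _ hq.ne_zero), hp.factorization_pow, hq.factorization_pow]
      simp [Finsupp.single_eq_of_ne, hpq]
    haveI : Nontrivial P := by
      rw [← Finite.one_lt_card_iff_nontrivial, hPcard]
      exact Nat.one_lt_pow ha hp.one_lt
    haveI := P.isPGroup'.center_nontrivial
    obtain ⟨z, hz⟩ := exists_ne (1 : Subgroup.center P)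
    have hzG : ((z : P) : G) ≠ 1 := fun h => hz (Subtype.ext (Subtype.ext h))
    have hle : (P : Subgroup G) ≤ Subgroup.centralizer {((z : P) : G)} := fun x hx =>
      Subgroup.mem_centralizer_singleton_iff.mpr
        (congrArg Subtype.val (Subgroup.mem_center_iff.mp z.2 ⟨x, hx⟩))
    have hidx : (Subgroup.centralizer {((z : P) : G)}).index ∣ q ^ b := by
      have h1 := Subgroup.index_dvd_of_le hle
      have h2 := (P : Subgroup G).card_mul_index
      rw [show Nat.card (P : Subgroup G) = p ^ a from hPcard, hcard] at h2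
      rwa [Nat.eq_of_mul_eq_mul_left (pow_pos hp.pos a) h2] at h1
    obtain ⟨k, _, hk⟩ := (Nat.dvd_prime_pow hq).mp hidx
    have hprime := prime_card_of_prime_power_class hq hzG hk
    haveI := Fact.mk hprime
    haveI : IsCyclic G := isCyclic_of_prime_card rfl
    exact Group.isSolvable_of_comm fun x y =>
      (IsCyclic.isMulCommutative (α := G)).is_comm.comm x y

end CfsgLib.Burnside
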