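import Cfsg.Agent.Lib.Characters.Basic
import Mathlib.LinearAlgebra.Matrix.ToLin
import Mathlib.LinearAlgebra.Trace
import Mathlib.LinearAlgebra.Eigenspace.Triangularizable
import Mathlib.LinearAlgebra.Matrix.Kronecker

/-!
# The Frobenius–Schur indicator

`fsInd χ` is the average of `χ (g * g)`.  For an irreducible character it is `0`, `1` or `-1`, it is
nonzero exactly when `χ` is real valued, and its sign is the symmetry of the invariant bilinear
forms.
-/

set_option autoImplicit false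
set_option linter.unusedSectionVars false
set_option linter.unusedSimpArgs false
set_option linter.style.haveILetI false

namespace CfsgLib.FrobSchur

open Cfsg Matrix CfsgLib.Characters
open scoped ComplexConjugate Kronecker

universe u

/-- The Frobenius–Schur indicator of a function on a group. -/
noncomputable def fsInd {G : Type u} [Group G] (χ : G → ℂ) : ℂ :=
  (Nat.card G : ℂ)⁻¹ * ∑ᶠ g : G, χ (g * g)

theorem fsInd_eq_sum {G : Type u} [Group G] [Fintype G] (χ : G → ℂ) :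
    fsInd χ = (Nat.card G : ℂ)⁻¹ * ∑ g : G, χ (g * g) := by
  rw [fsInd, finsum_eq_sum_of_fintype]

section Forms

variable {G : Type u} [Group G] [Fintype G] {ι : Type*} [Fintype ι] [DecidableEq ι]
variable (A : G →* Matrix ι ι ℂ)

/-- A bilinear form, given by its matrix, is invariant. -/
def IsInvForm (B : Matrix ι ι ℂ) : Prop :=
  ∀ g : G, (A g)ᵀ * B * A g = B

theorem IsInvForm.transpose {B : Matrix ι ι ℂ} (h : IsInvForm A B) : IsInvForm A Bᵀ := by
  intro g
  conv_rhs => rw [← h g]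
  simp [Matrix.transpose_mul, Matrix.mul_assoc]

theorem IsInvForm.sub_smul {B C : Matrix ι ι ℂ} (hB : IsInvForm A B) (hC : IsInvForm A C) (c : ℂ) :
    IsInvForm A (C - c • B) := by
  intro g
  rw [Matrix.mul_sub, Matrix.sub_mul, hC g, Matrix.mul_smul, Matrix.smul_mul, hB g]

theorem mul_map_inv_cancel (g : G) : A g * A g⁻¹ = 1 := by
  rw [← map_mul, mul_inv_cancel, map_one]

theorem IsInvForm.transpose_mul_eq {B : Matrix ι ι ℂ} (h : IsInvForm A B) (g : G) :
    (A g)ᵀ * B = B * A g⁻¹ := by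
  calc (A g)ᵀ * B = (A g)ᵀ * B * (A g * A g⁻¹) := by rw [mul_map_inv_cancel, Matrix.mul_one]
    _ = B * A g⁻¹ := by rw [← Matrix.mul_assoc, h g]

theorem IsInvForm.mul_eq {B : Matrix ι ι ℂ} (h : IsInvForm A B) (g : G) :
    B * A g = (A g⁻¹)ᵀ * B := by
  rw [h.transpose_mul_eq, inv_inv]

/-- The kernel of an invariant form is invariant. -/
theorem IsInvForm.ker_invariant {B : Matrix ι ι ℂ} (h : IsInvForm A B) (g : G) {v : ι → ℂ}
    (hv : B *ᵥ v = 0) : B *ᵥ (A g *ᵥ v) = 0 := by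
  rw [Matrix.mulVec_mulVec, h.mul_eq, ← Matrix.mulVec_mulVec, hv, Matrix.mulVec_zero]

/-- Averaging a form over the group. -/
noncomputable def avgForm : Matrix ι ι ℂ →ₗ[ℂ] Matrix ι ι ℂ :=
  (Nat.card G : ℂ)⁻¹ • ∑ g : G, (LinearMap.mulRight ℂ (A g)).comp (LinearMap.mulLeft ℂ (A g)ᵀ)

theorem avgForm_apply (X : Matrix ι ι ℂ) :
    avgForm A X = (Nat.card G : ℂ)⁻¹ • ∑ g : G, (A g)ᵀ * X * A g := by
  simp [avgForm, LinearMap.sum_apply]

theorem avgForm_isInvForm (X : Matrix ι ι ℂ) : IsInvForm A (avgForm A X) := by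
  intro h
  rw [avgForm_apply, Matrix.mul_smul, Matrix.smul_mul, Matrix.mul_sum, Matrix.sum_mul]
  congr 1
  refine Fintype.sum_equiv (Equiv.mulRight h) _ _ fun g => ?_
  simp [Matrix.transpose_mul, Matrix.mul_assoc]

theorem natCard_cast_ne_zero : (Nat.card G : ℂ) ≠ 0 :=
  Nat.cast_ne_zero.mpr Nat.card_pos.ne'

theorem avgForm_of_isInvForm {X : Matrix ι ι ℂ} (h : IsInvForm A X) : avgForm A X = X := by
  rw [avgForm_apply, Finset.sum_congr rfl (fun g _ => h g), Finset.sum_const, Finset.card_univ,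
    ← Nat.card_eq_fintype_card, ← Nat.cast_smul_eq_nsmul ℂ, smul_smul,
    inv_mul_cancel₀ natCard_cast_ne_zero, one_smul]

/-- Transposition as a linear map. -/
def transposeMap : Matrix ι ι ℂ →ₗ[ℂ] Matrix ι ι ℂ where
  toFun X := Xᵀ
  map_add' X Y := Matrix.transpose_add X Y
  map_smul' c X := Matrix.transpose_smul c X

theorem trace_conjMap (M : Matrix ι ι ℂ) :
    LinearMap.trace ℂ (Matrix ι ι ℂ) ((LinearMap.mulRight ℂ M).comp (LinearMap.mulLeft ℂ Mᵀ)) =
      M.trace * M.trace := by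
  have key : ∀ i j, (Mᵀ * Matrix.single i j (1 : ℂ) * M) i j = M i i * M j j := fun i j => by
    simp [Matrix.mul_apply, Matrix.single_apply, ite_and, Finset.sum_ite_eq, Finset.sum_ite_eq']
  have key' : ∀ i : ι × ι, (Mᵀ * Matrix.stdBasis ℂ ι ι i * M) i.1 i.2 = M i.1 i.1 * M i.2 i.2 :=
    fun i => by rw [Matrix.stdBasis_eq_single]; exact key i.1 i.2
  rw [LinearMap.trace_eq_matrix_trace ℂ (Matrix.stdBasis ℂ ι ι), Matrix.trace, Matrix.trace,
    Finset.sum_mul_sum, Fintype.sum_prod_type]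
  refine Finset.sum_congr rfl fun i _ => Finset.sum_congr rfl fun j _ => ?_
  rw [Matrix.diag_apply, LinearMap.toMatrix_apply]
  exact key' (i, j)

theorem trace_conjTransposeMap (M : Matrix ι ι ℂ) :
    LinearMap.trace ℂ (Matrix ι ι ℂ)
      (((LinearMap.mulRight ℂ M).comp (LinearMap.mulLeft ℂ Mᵀ)).comp transposeMap) =
      (M * M).trace := by
  have key : ∀ i j, (Mᵀ * Matrix.single j i (1 : ℂ) * M) i j = M j i * M i j := fun i j => by
    simp [Matrix.mul_apply, Matrix.single_apply, ite_and, Finset.sum_ite_eq, Finset.sum_ite_eq']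
  have key' : ∀ i : ι × ι, (Mᵀ * (Matrix.stdBasis ℂ ι ι i)ᵀ * M) i.1 i.2 =
      M i.2 i.1 * M i.1 i.2 :=
    fun i => by rw [Matrix.stdBasis_eq_single, Matrix.transpose_single]; exact key i.1 i.2
  rw [LinearMap.trace_eq_matrix_trace ℂ (Matrix.stdBasis ℂ ι ι), Matrix.trace, Matrix.trace]
  simp only [Matrix.diag_apply, Matrix.mul_apply]
  rw [Finset.sum_comm, Fintype.sum_prod_type]
  refine Finset.sum_congr rfl fun i _ => Finset.sum_congr rfl fun j _ => ?_
  rw [LinearMap.toMatrix_apply]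
  exact key' (i, j)

theorem trace_avgForm :
    LinearMap.trace ℂ (Matrix ι ι ℂ) (avgForm A) =
      (Nat.card G : ℂ)⁻¹ * ∑ g : G, (A g).trace * (A g).trace := by
  simp [avgForm, map_sum, trace_conjMap]

theorem trace_avgForm_transpose :
    LinearMap.trace ℂ (Matrix ι ι ℂ) ((avgForm A).comp transposeMap) =
      (Nat.card G : ℂ)⁻¹ * ∑ g : G, (A (g * g)).trace := by
  have h : (avgForm A).comp transposeMap = (Nat.card G : ℂ)⁻¹ • ∑ g : G,
      ((LinearMap.mulRight ℂ (A g)).comp (LinearMap.mulLeft ℂ (A g)ᵀ)).comp transposeMap :=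
    LinearMap.ext fun X => by simp [avgForm]
  simp [h, map_sum, trace_conjTransposeMap]

theorem trace_conj_of_invForm {B : Matrix ι ι ℂ} (h : IsInvForm A B) (hB : IsUnit B.det) (g : G) :
    (A g⁻¹).trace = (A g).trace := by
  have h1 : A g⁻¹ = B⁻¹ * ((A g)ᵀ * B) := by
    rw [h.transpose_mul_eq, ← Matrix.mul_assoc, Matrix.nonsing_inv_mul _ hB, Matrix.one_mul]
  rw [h1, Matrix.trace_mul_comm, Matrix.mul_assoc, Matrix.mul_nonsing_inv _ hB, Matrix.mul_one,
    Matrix.trace_transpose]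

end Forms

section Parity

variable {H : Type*} [Group H] [Fintype H] {ι : Type*} [Fintype ι] [DecidableEq ι]

theorem even_card_of_skew {B : Matrix ι ι ℂ} (hB : Bᵀ = -B) (hdet : B.det ≠ 0) :
    Even (Fintype.card ι) := by
  rcases Nat.even_or_odd (Fintype.card ι) with he | ho
  · exact he
  · exfalso
    apply hdet
    have h := congrArg Matrix.det hB
    rw [Matrix.det_transpose, Matrix.det_neg, ho.neg_one_pow, neg_one_mul, eq_neg_iff_add_eq_zero,
      ← two_mul] at h
    simpa using h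

/-- A representation with a nondegenerate invariant alternating form has a fixed space of even
dimension. -/
theorem even_avg_trace_of_skew (A : H →* Matrix ι ι ℂ) {B : Matrix ι ι ℂ} (hinv : IsInvForm A B)
    (hskew : Bᵀ = -B) (hdet : B.det ≠ 0) :
    ∃ k : ℕ, Even k ∧ (Nat.card H : ℂ)⁻¹ * ∑ h : H, (A h).trace = (k : ℂ) := by
  classical
  set P : Matrix ι ι ℂ := (Nat.card H : ℂ)⁻¹ • ∑ h : H, A h with hP
  have hAP : ∀ g : H, A g * P = P := by
    intro g
    rw [hP, Matrix.mul_smul, Matrix.mul_sum]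
    congr 1
    exact Fintype.sum_equiv (Equiv.mulLeft g) _ _ fun h => by simp
  have hPP : P * P = P := by
    conv_lhs => arg 1; rw [hP]
    rw [Matrix.smul_mul, Matrix.sum_mul, Finset.sum_congr rfl (fun g _ => hAP g),
      Finset.sum_const, Finset.card_univ, ← Nat.card_eq_fintype_card, ← Nat.cast_smul_eq_nsmul ℂ,
      smul_smul, inv_mul_cancel₀ natCard_cast_ne_zero, one_smul]
  have hBP : B * P = Pᵀ * B := by
    rw [hP, Matrix.mul_smul, Matrix.mul_sum, Matrix.transpose_smul, Matrix.transpose_sum,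
      Matrix.smul_mul, Matrix.sum_mul]
    congr 1
    exact Fintype.sum_equiv (Equiv.inv H) _ _ fun h => hinv.mul_eq A h
  set f : (ι → ℂ) →ₗ[ℂ] (ι → ℂ) := Matrix.toLin' P with hf
  set k := Module.finrank ℂ (LinearMap.range f)
  let b := Module.finBasis ℂ (LinearMap.range f)
  let Q : Matrix ι (Fin k) ℂ := LinearMap.toMatrix b (Pi.basisFun ℂ ι) (LinearMap.range f).subtype
  let R : Matrix (Fin k) ι ℂ := LinearMap.toMatrix (Pi.basisFun ℂ ι) b f.rangeRestrict
  have hQR : Q * R = P := by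
    rw [← LinearMap.toMatrix_comp, show (LinearMap.range f).subtype.comp f.rangeRestrict = f from rfl, hf,
      LinearMap.toMatrix_eq_toMatrix', LinearMap.toMatrix'_toLin']
  have hRQ : R * Q = 1 := by
    rw [← LinearMap.toMatrix_comp, ← LinearMap.toMatrix_id b]
    congr 1
    apply LinearMap.ext
    rintro ⟨v, w, rfl⟩
    apply Subtype.ext
    simp [hf, Matrix.mulVec_mulVec, hPP]
  refine ⟨k, ?_, ?_⟩
  · have hskew' : (Qᵀ * B * Q)ᵀ = -(Qᵀ * B * Q) := by
      simp [Matrix.transpose_mul, hskew, Matrix.mul_assoc]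
    have hdet' : (Qᵀ * B * Q).det ≠ 0 := by
      intro h0
      obtain ⟨x, hx0, hx⟩ := Matrix.exists_mulVec_eq_zero_iff.mpr h0
      apply hx0
      have hPQ : P * Q = Q := by rw [← hQR, Matrix.mul_assoc, hRQ, Matrix.mul_one]
      have h1 : Rᵀ * (Qᵀ * B * Q) = B * Q := by
        rw [← Matrix.mul_assoc, ← Matrix.mul_assoc, ← Matrix.transpose_mul, hQR, ← hBP,
          Matrix.mul_assoc, hPQ]
      have h2 : B *ᵥ (Q *ᵥ x) = 0 := by
        rw [Matrix.mulVec_mulVec, ← h1, ← Matrix.mulVec_mulVec, hx, Matrix.mulVec_zero]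
      have h3 : Q *ᵥ x = 0 := Matrix.eq_zero_of_mulVec_eq_zero hdet h2
      have h4 : R *ᵥ (Q *ᵥ x) = 0 := by rw [h3, Matrix.mulVec_zero]
      rwa [Matrix.mulVec_mulVec, hRQ, Matrix.one_mulVec] at h4
    simpa using even_card_of_skew hskew' hdet'
  · have h1 : (Nat.card H : ℂ)⁻¹ * ∑ h : H, (A h).trace = P.trace := by
      rw [hP, Matrix.trace_smul, Matrix.trace_sum, smul_eq_mul]
    rw [h1, ← hQR, Matrix.trace_mul_comm, hRQ, Matrix.trace_one, Fintype.card_fin]

end Parity

section Irreducible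

variable {G : Type u} [Group G] [Fintype G] {n : ℕ} (ρ : Representation ℂ G (Fin n → ℂ))

/-- The matrix representation of a representation on a coordinate space. -/
noncomputable def matHom : G →* Matrix (Fin n) (Fin n) ℂ where
  toFun g := LinearMap.toMatrix' (ρ g)
  map_one' := by rw [map_one]; exact LinearMap.toMatrix'_id
  map_mul' g h := by rw [map_mul]; exact LinearMap.toMatrix'_mul _ _

theorem trace_matHom (g : G) : (matHom ρ g).trace = ρ.character g := by
  rw [Representation.character, LinearMap.trace_eq_matrix_trace ℂ (Pi.basisFun ℂ (Fin n)),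
    LinearMap.toMatrix_eq_toMatrix']
  rfl

theorem isUnit_det_of_invForm (hρ : ρ.IsIrreducible) {B : Matrix (Fin n) (Fin n) ℂ}
    (h : IsInvForm (matHom ρ) B) (hB : B ≠ 0) : IsUnit B.det := by
  rw [isUnit_iff_ne_zero]
  intro h0
  obtain ⟨x, hx0, hx⟩ := Matrix.exists_mulVec_eq_zero_iff.mpr h0
  rcases ((isIrreducible_iff ρ).mp hρ).2 (LinearMap.ker (Matrix.toLin' B)) (fun g v hv => by
    have h1 := h.ker_invariant (matHom ρ) g (v := v) (by simpa using hv)
    simpa [matHom, LinearMap.toMatrix'_mulVec] using h1) with h1 | h1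
  · exact hx0 ((Submodule.eq_bot_iff _).mp h1 x (by simpa using hx))
  · refine hB (Matrix.toLin'.injective ?_)
    rw [map_zero]
    exact LinearMap.ker_eq_top.mp h1

theorem invForm_unique (hρ : ρ.IsIrreducible) {B C : Matrix (Fin n) (Fin n) ℂ}
    (hB : IsInvForm (matHom ρ) B) (hB0 : B ≠ 0) (hC : IsInvForm (matHom ρ) C) :
    ∃ c : ℂ, C = c • B := by
  have hu := isUnit_det_of_invForm ρ hρ hB hB0
  haveI : Nontrivial (Fin n → ℂ) := ((isIrreducible_iff ρ).mp hρ).1
  obtain ⟨c, hc⟩ := Module.End.exists_eigenvalue (K := ℂ) (V := Fin n → ℂ) (Matrix.toLin' (B⁻¹ * C))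
  obtain ⟨v, hv⟩ := hc.exists_hasEigenvector
  refine ⟨c, sub_eq_zero.mp ?_⟩
  by_contra h0
  have hu' := isUnit_det_of_invForm ρ hρ (hB.sub_smul (matHom ρ) hC c) h0
  refine hv.2 (Matrix.eq_zero_of_mulVec_eq_zero hu'.ne_zero ?_)
  have h1 : (B⁻¹ * C) *ᵥ v = c • v := by simpa using hv.apply_eq_smul
  have h2 : C *ᵥ v = c • (B *ᵥ v) := by
    rw [← Matrix.mulVec_smul, ← h1, Matrix.mulVec_mulVec, ← Matrix.mul_assoc,
      Matrix.mul_nonsing_inv _ hu, Matrix.one_mul]
  rw [Matrix.sub_mulVec, Matrix.smul_mulVec, h2, sub_self]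

/-- The symmetry of an invariant form is the indicator. -/
theorem transpose_eq_fsInd_smul (hρ : ρ.IsIrreducible) {B : Matrix (Fin n) (Fin n) ℂ}
    (hB : IsInvForm (matHom ρ) B) :
    Bᵀ = fsInd ρ.character • B := by
  rcases eq_or_ne B 0 with rfl | hB0
  · simp
  obtain ⟨ε, hε⟩ := invForm_unique ρ hρ hB hB0 (hB.transpose (matHom ρ))
  suffices h : fsInd ρ.character = ε by rw [h, hε]
  have hT : ∀ X, ∃ c : ℂ, avgForm (matHom ρ) (transposeMap X) = c • B := fun X =>
    invForm_unique ρ hρ hB hB0 (avgForm_isInvForm _ _)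
  choose f hf using hT
  let F : Matrix (Fin n) (Fin n) ℂ →ₗ[ℂ] ℂ :=
    { toFun := f
      map_add' := fun X Y => smul_left_injective ℂ hB0 (by
        simp only [add_smul, ← hf, map_add])
      map_smul' := fun c X => smul_left_injective ℂ hB0 (by
        simp only [RingHom.id_apply, smul_eq_mul, mul_smul, ← hf, map_smul]) }
  have hF : (avgForm (matHom ρ)).comp transposeMap = F.smulRight B := LinearMap.ext hf
  have h1 := congrArg (LinearMap.trace ℂ _) hF
  rw [trace_avgForm_transpose, LinearMap.trace_smulRight] at h1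
  have h2 : F B • B = ε • B := by
    change f B • B = _
    rw [← hf, ← hε]
    exact avgForm_of_isInvForm _ (hB.transpose (matHom ρ))
  rw [smul_left_injective ℂ hB0 h2] at h1
  rw [fsInd_eq_sum, ← h1]
  simp [← trace_matHom, -map_mul]

theorem exists_invForm_iff_real (hρ : ρ.IsIrreducible) :
    (∃ B, B ≠ 0 ∧ IsInvForm (matHom ρ) B) ↔ ∀ g : G, (ρ.character g).im = 0 := by
  constructor
  · rintro ⟨B, hB0, hB⟩ g
    have h := trace_conj_of_invForm (matHom ρ) hB (isUnit_det_of_invForm ρ hρ hB hB0) g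
    rw [trace_matHom, trace_matHom, char_inv_eq_conj, Complex.conj_eq_iff_im] at h
    exact h
  · intro hreal
    by_contra hne
    push Not at hne
    have h0 : avgForm (matHom ρ) = 0 := LinearMap.ext fun X => by
      by_contra h
      exact hne _ h (avgForm_isInvForm _ X)
    have h1 := trace_avgForm (matHom ρ)
    rw [h0, map_zero] at h1
    have h2 : classInner ρ.character ρ.character = 0 := by
      rw [classInner, h1]
      simp [trace_matHom, Complex.conj_eq_iff_im.mpr (hreal _)]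
    rw [classInner_irr_self ⟨n, ρ, hρ, rfl⟩] at h2
    exact one_ne_zero h2

theorem fsInd_eq_zero_of_no_form (h : ∀ B, IsInvForm (matHom ρ) B → B = 0) :
    fsInd ρ.character = 0 := by
  have h0 : avgForm (matHom ρ) = 0 := LinearMap.ext fun X => h _ (avgForm_isInvForm _ X)
  have h1 := trace_avgForm_transpose (matHom ρ)
  rw [h0, LinearMap.zero_comp, map_zero] at h1
  rw [fsInd_eq_sum, h1]
  simp [← trace_matHom, -map_mul]

theorem fsInd_sq_of_form (hρ : ρ.IsIrreducible) {B : Matrix (Fin n) (Fin n) ℂ}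
    (hB : IsInvForm (matHom ρ) B) (hB0 : B ≠ 0) :
    fsInd ρ.character = 1 ∨ fsInd ρ.character = -1 := by
  have h := transpose_eq_fsInd_smul ρ hρ hB
  have h2 := congrArg Matrix.transpose h
  rw [Matrix.transpose_transpose, Matrix.transpose_smul, h, smul_smul] at h2
  have h3 : (1 : ℂ) = fsInd ρ.character * fsInd ρ.character :=
    smul_left_injective ℂ hB0 (by simpa using h2)
  exact mul_self_eq_one_iff.mp h3.symm

end Irreducible

section Characters

variable {G : Type u} [Group G] [Finite G]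

theorem fsInd_cases {χ : G → ℂ} (h : IsIrrCharacter G χ) :
    ((∀ g, (χ g).im = 0) ∧ (fsInd χ = 1 ∨ fsInd χ = -1)) ∨
      ((¬ ∀ g, (χ g).im = 0) ∧ fsInd χ = 0) := by
  haveI := Fintype.ofFinite G
  obtain ⟨n, ρ, hρ, rfl⟩ := h
  by_cases hr : ∀ g, (ρ.character g).im = 0
  · obtain ⟨B, hB0, hB⟩ := (exists_invForm_iff_real ρ hρ).mpr hr
    exact Or.inl ⟨hr, fsInd_sq_of_form ρ hρ hB hB0⟩
  · refine Or.inr ⟨hr, fsInd_eq_zero_of_no_form ρ fun B hB => ?_⟩
    by_contra hB0
    exact hr ((exists_invForm_iff_real ρ hρ).mp ⟨B, hB0, hB⟩)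

theorem fsInd_eq_zero_iff {χ : G → ℂ} (h : IsIrrCharacter G χ) :
    fsInd χ = 0 ↔ ¬ ∀ g, (χ g).im = 0 := by
  rcases fsInd_cases h with ⟨h1, h2 | h2⟩ | ⟨h1, h2⟩ <;> simp [h1, h2]

theorem real_of_fsInd_ne_zero {χ : G → ℂ} (h : IsIrrCharacter G χ) (h0 : fsInd χ ≠ 0) :
    ∀ g, (χ g).im = 0 := by
  by_contra hr
  exact h0 ((fsInd_eq_zero_iff h).mpr hr)

/-- An irreducible character of indicator `-1` contains the pull back of an irreducible character
of indicator `1` with even multiplicity. -/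
theorem even_classInner_of_fsInd {H : Type*} [Group H] [Fintype H] (f : H →* G) {χ : G → ℂ}
    (hχ : IsIrrCharacter G χ) (hneg : fsInd χ = -1) {ψ : H → ℂ} (hψ : IsIrrCharacter H ψ)
    (hpos : fsInd ψ = 1) :
    ∃ k : ℕ, Even k ∧ classInner (fun h => χ (f h)) ψ = (k : ℂ) := by
  haveI := Fintype.ofFinite G
  have hr : ∀ g, (χ g).im = 0 := real_of_fsInd_ne_zero hχ (by rw [hneg]; norm_num)
  have hr' : ∀ h, (ψ h).im = 0 := real_of_fsInd_ne_zero hψ (by rw [hpos]; norm_num)
  obtain ⟨n, ρ, hρ, rfl⟩ := hχ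
  obtain ⟨m, σ, hσ, rfl⟩ := hψ
  obtain ⟨B, hB0, hB⟩ := (exists_invForm_iff_real ρ hρ).mpr hr
  obtain ⟨C, hC0, hC⟩ := (exists_invForm_iff_real σ hσ).mpr hr'
  have hBs : Bᵀ = -B := by rw [transpose_eq_fsInd_smul ρ hρ hB, hneg, neg_one_smul]
  have hCs : Cᵀ = C := by rw [transpose_eq_fsInd_smul σ hσ hC, hpos, one_smul]
  let A : H →* Matrix (Fin n × Fin m) (Fin n × Fin m) ℂ :=
    { toFun := fun h => matHom ρ (f h) ⊗ₖ matHom σ h
      map_one' := by simp
      map_mul' := fun a b => by simp [Matrix.mul_kronecker_mul] }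
  have hA : IsInvForm A (B ⊗ₖ C) := by
    intro h
    change (matHom ρ (f h) ⊗ₖ matHom σ h)ᵀ * _ * _ = _
    rw [← Matrix.kroneckerMap_transpose, ← Matrix.mul_kronecker_mul]
    change _ * (matHom ρ (f h) ⊗ₖ matHom σ h) = _
    rw [← Matrix.mul_kronecker_mul, hB (f h), hC h]
  have hskew : (B ⊗ₖ C)ᵀ = -(B ⊗ₖ C) := by
    rw [← Matrix.kroneckerMap_transpose, hBs, hCs]
    ext ⟨a, b⟩ ⟨c, d⟩
    simp
  have hdet : (B ⊗ₖ C).det ≠ 0 := by
    rw [Matrix.det_kronecker]
    exact mul_ne_zero (pow_ne_zero _ (isUnit_det_of_invForm ρ hρ hB hB0).ne_zero)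
      (pow_ne_zero _ (isUnit_det_of_invForm σ hσ hC hC0).ne_zero)
  obtain ⟨k, hk, hk'⟩ := even_avg_trace_of_skew A hA hskew hdet
  refine ⟨k, hk, ?_⟩
  rw [← hk', classInner]
  congr 1
  refine Finset.sum_congr rfl fun h _ => ?_
  change _ = (matHom ρ (f h) ⊗ₖ matHom σ h).trace
  rw [Matrix.trace_kronecker, trace_matHom, trace_matHom, Complex.conj_eq_iff_im.mpr (hr' h)]

end Characters

end CfsgLib.FrobSchur
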