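import Cfsg.Prelude.Def_Characters
import Mathlib.GroupTheory.Transfer
import Mathlib.GroupTheory.SpecificGroups.Cyclic
import Mathlib.RingTheory.Int.Basic
import Mathlib.Analysis.Complex.Polynomial.Basic
import Mathlib.LinearAlgebra.Matrix.Determinant.Basic
import Mathlib.LinearAlgebra.Determinant

/-!
# Extension of invariant linear characters

A homomorphism from a normal subgroup to a commutative group that is invariant under conjugation:
powers of it extend by transfer, and extensions of powers with coprime exponents combine.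
-/

set_option autoImplicit false

noncomputable section

namespace CfsgLib.LinearExt

variable {G : Type*} [Group G] {A : Type*} [CommGroup A]

/-- Invariance of a homomorphism on a normal subgroup under conjugation. -/
def InvHom (N : Subgroup G) [N.Normal] (f : N →* A) : Prop :=
  ∀ (g : G) (n : N), f ⟨g * n * g⁻¹, (inferInstance : N.Normal).conj_mem (n : G) n.2 g⟩ = f n

/-- `k` is the exponent of a power of `f` that extends to `G`. -/
def PowExtends (N : Subgroup G) (f : N →* A) (k : ℤ) : Prop :=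
  ∃ μ : G →* A, ∀ n : N, μ n = f n ^ k

/-- The transfer of an extension to a subgroup extends the index-th power. -/
theorem powExtends_index {N : Subgroup G} [hN : N.Normal] {f : N →* A} (hf : InvHom N f)
    {H : Subgroup G} [H.FiniteIndex] (hNH : N ≤ H) (ν : H →* A)
    (hν : ∀ n : N, ν ⟨n, hNH n.2⟩ = f n) : PowExtends N f H.index := by
  classical
  refine ⟨MonoidHom.transfer ν, fun n => ?_⟩
  let _ := H.fintypeQuotientOfFiniteIndex
  rw [MonoidHom.transfer_def ν default, zpow_natCast]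
  set T : H.LeftTransversal := default
  have key : ∀ q : G ⧸ H, ((T.2.leftQuotientEquiv ((n : G)⁻¹ • q) : G)) = T.2.leftQuotientEquiv q := by
    intro q
    congr 2
    refine QuotientGroup.induction_on q fun x => ?_
    show (QuotientGroup.mk ((n : G)⁻¹ * x) : G ⧸ H) = QuotientGroup.mk x
    refine QuotientGroup.eq.2 (hNH ?_)
    simpa [mul_assoc] using hN.conj_mem' (n : G) n.2 x
  simp only [Subgroup.leftTransversals.diff]
  rw [Finset.prod_congr rfl (g := fun _ => f n)]
  · rw [Finset.prod_const, Finset.card_univ, Subgroup.index_eq_card, Nat.card_eq_fintype_card]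
  · intro q _
    rw [← hν, ]
    have hmem := hN.conj_mem' (n : G) n.2 (T.2.leftQuotientEquiv q : G)
    have := hf (T.2.leftQuotientEquiv q : G)⁻¹ n
    rw [← hν, ← hν] at this
    rw [← this]
    congr 1
    apply Subtype.ext
    show _ = (T.2.leftQuotientEquiv q : G)⁻¹ * n * (T.2.leftQuotientEquiv q : G)⁻¹⁻¹
    simp only [Subgroup.smul_apply_eq_smul_apply_inv_smul, key, inv_inv, smul_eq_mul, mul_assoc]

/-- The exponents of extendible powers form a subgroup of `ℤ`. -/
def extSubgroup (N : Subgroup G) (f : N →* A) : AddSubgroup ℤ where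
  carrier := {k | PowExtends N f k}
  zero_mem' := ⟨1, fun n => by simp⟩
  add_mem' := by
    rintro a b ⟨μ, hμ⟩ ⟨ν, hν⟩
    exact ⟨μ * ν, fun n => by simp [hμ n, hν n, zpow_add]⟩
  neg_mem' := by
    rintro a ⟨μ, hμ⟩
    exact ⟨μ⁻¹, fun n => by simp [hμ n, zpow_neg]⟩

/-- Coprime exponents combine. -/
theorem extends_of_forall_prime {N : Subgroup G} {f : N →* A}
    (h : ∀ p : ℕ, p.Prime → ∃ k : ℤ, ¬ (p : ℤ) ∣ k ∧ PowExtends N f k) :
    ∃ μ : G →* A, ∀ n : N, μ n = f n := by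
  obtain ⟨a, ha⟩ := Int.subgroup_cyclic (extSubgroup N f)
  have ha1 : a.natAbs = 1 := by
    by_contra hne
    obtain ⟨p, hp, hpd⟩ := Nat.exists_prime_and_dvd hne
    obtain ⟨k, hk, hke⟩ := h p hp
    have : k ∈ AddSubgroup.closure ({a} : Set ℤ) := ha ▸ hke
    obtain ⟨c, rfl⟩ := AddSubgroup.mem_closure_singleton.1 this
    exact hk (dvd_mul_of_dvd_right (Int.natCast_dvd.2 hpd) c)
  have h1 : (1 : ℤ) ∈ extSubgroup N f := by
    rw [ha, AddSubgroup.mem_closure_singleton]
    rcases Int.natAbs_eq_iff.1 ha1 with h | h <;> [exact ⟨1, by simp [h]⟩; exact ⟨-1, by simp [h]⟩]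
  obtain ⟨μ, hμ⟩ := h1
  exact ⟨μ, fun n => by simpa using hμ n⟩

/-- Two coprime exponents combine. -/
theorem extends_of_coprime {N : Subgroup G} {f : N →* A} {a b : ℕ} (hab : Nat.Coprime a b)
    (ha : PowExtends N f a) (hb : PowExtends N f b) : ∃ μ : G →* A, ∀ n : N, μ n = f n := by
  refine extends_of_forall_prime fun p hp => ?_
  by_cases hpa : p ∣ a
  · refine ⟨b, fun h => hp.one_lt.ne' (Nat.dvd_one.1 ?_), hb⟩
    exact hab ▸ Nat.dvd_gcd hpa (Int.natCast_dvd_natCast.1 h)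
  · exact ⟨a, fun h => hpa (Int.natCast_dvd_natCast.1 h), ha⟩

/-- A finite power relation gives an extendible exponent. -/
theorem powExtends_of_pow_eq_one {N : Subgroup G} {f : N →* A} {k : ℕ} (hk : f ^ k = 1) :
    PowExtends N f k :=
  ⟨1, fun n => by rw [MonoidHom.one_apply, zpow_natCast, ← MonoidHom.pow_apply, hk,
    MonoidHom.one_apply]⟩

/-- Extension over a cyclic quotient, given roots in the target. -/
theorem extends_of_cyclic {N : Subgroup G} [hN : N.Normal] [N.FiniteIndex] {f : N →* A}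
    (hf : InvHom N f) [IsCyclic (G ⧸ N)]
    (hroot : ∀ a : A, ∃ b : A, b ^ N.index = a) :
    ∃ μ : G →* A, ∀ n : N, μ n = f n := by
  obtain ⟨q, hq⟩ := IsCyclic.exists_generator (α := G ⧸ N)
  obtain ⟨t, rfl⟩ := QuotientGroup.mk_surjective q
  have hm : orderOf (QuotientGroup.mk t : G ⧸ N) = N.index := by
    rw [orderOf_eq_card_of_forall_mem_zpowers hq, Subgroup.index_eq_card]
  obtain ⟨r, hr⟩ := hroot (f ⟨t ^ N.index, N.pow_index_mem t⟩)
  have hex : ∀ g : G, ∃ k : ℤ, (t ^ k)⁻¹ * g ∈ N := fun g => by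
    obtain ⟨k, hk⟩ := Subgroup.mem_zpowers_iff.1 (hq (QuotientGroup.mk g))
    exact ⟨k, QuotientGroup.eq.1 (by rw [QuotientGroup.mk_zpow, hk])⟩
  have htpow : ∀ (j : ℤ) (hj : t ^ j ∈ N), f ⟨t ^ j, hj⟩ = r ^ j := by
    intro j hj
    have h1 : (QuotientGroup.mk t : G ⧸ N) ^ j = 1 := by
      rw [← QuotientGroup.mk_zpow]; exact (QuotientGroup.eq_one_iff _).2 hj
    obtain ⟨c, hc⟩ := orderOf_dvd_iff_zpow_eq_one.2 h1
    rw [hm] at hc
    subst hc
    rw [zpow_mul r, zpow_natCast, hr, ← map_zpow]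
    congr 1
    exact Subtype.ext (by simp [zpow_mul])
  have hwd : ∀ (g : G) (k l : ℤ) (hk : (t ^ k)⁻¹ * g ∈ N) (hl : (t ^ l)⁻¹ * g ∈ N),
      r ^ k * f ⟨(t ^ k)⁻¹ * g, hk⟩ = r ^ l * f ⟨(t ^ l)⁻¹ * g, hl⟩ := by
    intro g k l hk hl
    have hj : t ^ (l - k) ∈ N := by
      have h := N.mul_mem hk (N.inv_mem hl)
      have e : (t ^ k)⁻¹ * g * ((t ^ l)⁻¹ * g)⁻¹ = t ^ (l - k) := by group
      rwa [e] at h
    have e : (⟨(t ^ k)⁻¹ * g, hk⟩ : N) = ⟨t ^ (l - k), hj⟩ * ⟨(t ^ l)⁻¹ * g, hl⟩ :=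
      Subtype.ext (by simp only [Subgroup.coe_mul]; group)
    rw [e, map_mul, htpow _ hj, ← mul_assoc, ← zpow_add, add_sub_cancel]
  choose k hk using hex
  let φ : G → A := fun g => r ^ k g * f ⟨(t ^ k g)⁻¹ * g, hk g⟩
  have hmul : ∀ a b, φ (a * b) = φ a * φ b := by
    intro a b
    have h1 : (t ^ (k a + k b))⁻¹ * (a * b) ∈ N := by
      have e : (t ^ (k a + k b))⁻¹ * (a * b) =
          (t ^ k b)⁻¹ * ((t ^ k a)⁻¹ * a) * (t ^ k b)⁻¹⁻¹ * ((t ^ k b)⁻¹ * b) := by group
      rw [e]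
      exact N.mul_mem (hN.conj_mem _ (hk a) _) (hk b)
    show r ^ k (a * b) * _ = _
    rw [hwd _ _ _ (hk _) h1]
    have e : (⟨(t ^ (k a + k b))⁻¹ * (a * b), h1⟩ : N) =
        ⟨(t ^ k b)⁻¹ * ((⟨_, hk a⟩ : N) : G) * (t ^ k b)⁻¹⁻¹, hN.conj_mem _ (hk a) _⟩ *
          ⟨_, hk b⟩ :=
      Subtype.ext (by simp only [Subgroup.coe_mul]; group)
    rw [e, map_mul, hf, zpow_add]
    exact mul_mul_mul_comm _ _ _ _
  refine ⟨MonoidHom.mk' φ hmul, fun n => ?_⟩
  show r ^ k n * _ = _
  rw [hwd _ _ 0 (hk _) (by simp [n.2]), zpow_zero, one_mul]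
  congr 1
  exact Subtype.ext (by simp)

/-! ### Linear characters as homomorphisms to `ℂˣ` -/

section Complex

universe u
variable {G : Type u} [Group G]

/-- A character of degree one is a homomorphism. -/
theorem exists_unitsHom {χ : G → ℂ} (h : Cfsg.IsCharacter G χ) (h1 : χ 1 = 1) :
    ∃ f : G →* ℂˣ, χ = fun g => (f g : ℂ) := by
  obtain ⟨n, ρ, rfl⟩ := h
  rw [Representation.char_one, Module.finrank_fin_fun, Nat.cast_eq_one] at h1
  subst h1
  refine ⟨(LinearMap.det.comp ρ).toHomUnits, funext fun g => ?_⟩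
  rw [MonoidHom.coe_toHomUnits, MonoidHom.comp_apply, ← LinearMap.det_toMatrix',
    Representation.character, LinearMap.trace_eq_matrix_trace ℂ (Pi.basisFun ℂ (Fin 1)),
    Matrix.det_fin_one, Matrix.trace_fin_one]
  rfl

/-- The function attached to a homomorphism to `ℂˣ`, as a monoid homomorphism. -/
def coeUnitsFun : (G →* ℂˣ) →* (G → ℂ) where
  toFun f g := (f g : ℂ)
  map_one' := rfl
  map_mul' _ _ := rfl

theorem coeUnitsFun_injective : Function.Injective (coeUnitsFun (G := G)) :=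
  fun _ _ h => MonoidHom.ext fun g => Units.ext (congrFun h g)

theorem orderOf_coeUnitsFun (f : G →* ℂˣ) :
    orderOf (fun g => (f g : ℂ)) = orderOf f :=
  orderOf_injective coeUnitsFun coeUnitsFun_injective f

/-- Roots exist in `ℂˣ`. -/
theorem exists_root (m : ℕ) (hm : 0 < m) (a : ℂˣ) : ∃ b : ℂˣ, b ^ m = a := by
  obtain ⟨z, hz⟩ := IsAlgClosed.exists_pow_nat_eq (a : ℂ) hm
  have hz0 : z ≠ 0 := by
    rintro rfl
    rw [zero_pow hm.ne'] at hz
    exact a.ne_zero hz.symm
  exact ⟨Units.mk0 z hz0, Units.ext hz⟩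

end Complex

end CfsgLib.LinearExt
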