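import Cfsg.Prelude.Def_CharExt
import Cfsg.Agent.Lib.Characters.LinearExt
import Cfsg.Agent.Lib.Characters.Induction
import Mathlib.RepresentationTheory.Character
import Mathlib.GroupTheory.Index
import Mathlib.Analysis.Complex.Polynomial.Basic

/-!
# Extension of invariant irreducible characters

For an irreducible representation `ρ` of a normal subgroup `N` with invariant character, the
pairs `(g, T)` with `T` intertwining `ρ` and its `g`-conjugate form a central extension of `G`
by `ℂˣ`.  An extension of `ρ` to `G` is the same as an extension of a certain invariant linear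
character of the preimage of `N`, so the theory of linear characters applies.
-/

set_option autoImplicit false

noncomputable section

namespace CfsgLib.CharExtension

open CfsgLib.LinearExt

universe u

/-! ### Schur's lemma and comparison of representations -/

section Schur

variable {X : Type u} [Group X] {n m : ℕ}

/-- A representation commuting with an irreducible one is scalar. -/
theorem exists_scalar_of_commute (ρ : Representation ℂ X (Fin n → ℂ)) [ρ.IsIrreducible]
    (T : Module.End ℂ (Fin n → ℂ)) (h : ∀ x, T * ρ x = ρ x * T) :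
    ∃ c : ℂ, T = algebraMap ℂ _ c := by
  let f : Representation.IntertwiningMap ρ ρ :=
    { toLinearMap := T, isIntertwining' := fun x => h x }
  obtain ⟨c, hc⟩ :=
    (Representation.IsIrreducible.algebraMap_intertwiningMap_bijective_of_isAlgClosed
      (ρ := ρ) (k := ℂ)).2 f
  refine ⟨c, ?_⟩
  have := congrArg Representation.IntertwiningMap.toLinearMap hc
  exact this.symm.trans rfl

theorem pos_of_irreducible (ρ : Representation ℂ X (Fin n → ℂ)) [h : ρ.IsIrreducible] : 0 < n := by
  rcases Nat.eq_zero_or_pos n with rfl | hn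
  · exfalso
    have := h.toNontrivial
    obtain ⟨a, b, hab⟩ := exists_pair_ne (Subrepresentation ρ)
    exact hab (Subrepresentation.toSubmodule_injective (Subsingleton.elim _ _))
  · exact hn

/-- Two representations with equal characters, one of them irreducible, are equivalent. -/
theorem nonempty_equiv_of_char_eq [Finite X] (ρ : Representation ℂ X (Fin n → ℂ))
    [ρ.IsIrreducible] (σ : Representation ℂ X (Fin m → ℂ)) (h : σ.character = ρ.character) :
    Nonempty (Representation.Equiv ρ σ) := by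
  classical
  have := Fintype.ofFinite X
  have : Invertible (Nat.card X : ℂ) := invertibleOfNonzero (Nat.cast_ne_zero.2 Nat.card_pos.ne')
  have hnm : n = m := by
    have := congrFun h 1
    simp only [Representation.char_one, Module.finrank_fin_fun] at this
    exact_mod_cast this.symm
  subst hnm
  have h1 := Representation.card_inv_mul_sum_char_mul_char_eq_finrank ρ σ
  rw [h, Representation.char_orthonormal ρ ρ, if_pos ⟨Representation.Equiv.refl ρ⟩] at h1
  have h2 : Module.finrank ℂ (Representation.IntertwiningMap ρ σ) = 1 := by exact_mod_cast h1.symm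
  have : Nontrivial (Representation.IntertwiningMap ρ σ) :=
    Module.nontrivial_of_finrank_eq_succ h2
  obtain ⟨f, hf⟩ := exists_ne (0 : Representation.IntertwiningMap ρ σ)
  have hinj := (Representation.IsIrreducible.injective_or_eq_zero f).resolve_right hf
  have hbij : Function.Bijective f :=
    ⟨hinj, LinearMap.surjective_of_injective (f := f.toLinearMap) hinj⟩
  exact ⟨f.ofBijective hbij⟩

/-- An equivalence, as a unit conjugating one representation into the other. -/
theorem exists_unit_conj [Finite X] (ρ : Representation ℂ X (Fin n → ℂ)) [ρ.IsIrreducible]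
    (σ : Representation ℂ X (Fin n → ℂ)) (h : σ.character = ρ.character) :
    ∃ T : (Module.End ℂ (Fin n → ℂ))ˣ, ∀ x, T.1 * ρ x = σ x * T.1 := by
  obtain ⟨φ⟩ := nonempty_equiv_of_char_eq ρ σ h
  refine ⟨LinearMap.GeneralLinearGroup.ofLinearEquiv φ.toLinearEquiv, fun x => ?_⟩
  exact φ.toIntertwiningMap.isIntertwining' x

/-- The determinant character of an irreducible representation. -/
theorem detChar_eq [Finite X] (ρ : Representation ℂ X (Fin n → ℂ)) [ρ.IsIrreducible] :
    Cfsg.detChar ρ.character = fun x => LinearMap.det (ρ x) := by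
  classical
  have hC : Cfsg.IsCharacter X ρ.character := ⟨n, ρ, rfl⟩
  funext x
  rw [Cfsg.detChar, dif_pos hC]
  obtain ⟨φ⟩ := nonempty_equiv_of_char_eq ρ (Classical.choose (Classical.choose_spec hC))
    (Classical.choose_spec (Classical.choose_spec hC))
  rw [← LinearMap.det_conj (ρ x) φ.toLinearEquiv]
  congr 1
  refine LinearMap.ext fun v => ?_
  have h := LinearMap.congr_fun (φ.toIntertwiningMap.isIntertwining' x) (φ.toLinearEquiv.symm v)
  have e : φ.toLinearEquiv (φ.toLinearEquiv.symm v) = v := φ.toLinearEquiv.apply_symm_apply v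
  exact (h.trans (congrArg (Classical.choose (Classical.choose_spec hC) x) e)).symm

end Schur

/-! ### The central extension of intertwiners -/

section Gamma

variable {G : Type u} [Group G] (N : Subgroup G) [hN : N.Normal] {d : ℕ}
  (ρ : Representation ℂ N (Fin d → ℂ))

/-- Invertible endomorphisms of the coordinate space. -/
abbrev GLd (d : ℕ) := (Module.End ℂ (Fin d → ℂ))ˣ

/-- `ρ` as a homomorphism to units. -/
def rhoU : N →* GLd d := ρ.toHomUnits

omit hN in
@[simp] theorem coe_rhoU (n : N) : ((rhoU N ρ n : GLd d) : Module.End ℂ (Fin d → ℂ)) = ρ n := rfl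

/-- Conjugation of `N` by an element of `G`. -/
def conjN (g : G) (n : N) : N := ⟨g * n * g⁻¹, hN.conj_mem (n : G) n.2 g⟩

theorem conjN_mul (g h : G) (n : N) : conjN N (g * h) n = conjN N g (conjN N h n) :=
  Subtype.ext (by simp only [conjN]; group)

theorem conjN_inv (g : G) (n : N) : conjN N g (conjN N g⁻¹ n) = n :=
  Subtype.ext (by simp only [conjN]; group)

/-- The group of pairs `(g, T)` with `T` intertwining `ρ` with its conjugate by `g`. -/
def interGroup : Subgroup (G × GLd d) where
  carrier := {x | ∀ n : N, x.2 * rhoU N ρ n = rhoU N ρ (conjN N x.1 n) * x.2}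
  one_mem' n := by
    have : conjN N (1 : G) n = n := Subtype.ext (by simp [conjN])
    simp [this]
  mul_mem' {a b} ha hb n := by
    show a.2 * b.2 * _ = rhoU N ρ (conjN N (a.1 * b.1) n) * (a.2 * b.2)
    rw [mul_assoc, hb n, ← mul_assoc, ha, conjN_mul, mul_assoc]
  inv_mem' {a} ha n := by
    show a.2⁻¹ * _ = rhoU N ρ (conjN N a.1⁻¹ n) * a.2⁻¹
    rw [eq_mul_inv_iff_mul_eq, mul_assoc, inv_mul_eq_iff_eq_mul]
    conv_lhs => rw [← conjN_inv N a.1 n]
    exact (ha _).symm

/-- Projection to `G`. -/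
def proj : interGroup N ρ →* G := (MonoidHom.fst G (GLd d)).comp (interGroup N ρ).subtype

/-- The second component. -/
def op : interGroup N ρ →* GLd d := (MonoidHom.snd G (GLd d)).comp (interGroup N ρ).subtype

theorem op_spec (γ : interGroup N ρ) (n : N) :
    op N ρ γ * rhoU N ρ n = rhoU N ρ (conjN N (proj N ρ γ) n) * op N ρ γ := γ.2 n

/-- Scalar units. -/
def sc (d : ℕ) : ℂˣ →* GLd d := Units.map (algebraMap ℂ (Module.End ℂ (Fin d → ℂ))).toMonoidHom

theorem sc_commute (c : ℂˣ) (T : GLd d) : sc d c * T = T * sc d c :=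
  Units.ext (Algebra.commutes (c : ℂ) (T : Module.End ℂ (Fin d → ℂ)))

theorem sc_injective (hd : 0 < d) : Function.Injective (sc d) := by
  have : NeZero d := ⟨hd.ne'⟩
  intro a b h
  have h' := congrArg (fun T : GLd d => (T : Module.End ℂ (Fin d → ℂ)) (fun _ => 1) 0) h
  simpa [sc, Units.ext_iff] using h'

theorem det_sc (c : ℂˣ) :
    LinearMap.det ((sc d c : GLd d) : Module.End ℂ (Fin d → ℂ)) = (c : ℂ) ^ d := by
  show LinearMap.det (algebraMap ℂ (Module.End ℂ (Fin d → ℂ)) (c : ℂ)) = _
  rw [Algebra.algebraMap_eq_smul_one, LinearMap.det_smul, map_one, Module.finrank_fin_fun, mul_one]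

theorem sc_mem (c : ℂˣ) (n : N) :
    ((n : G), sc d c * rhoU N ρ n) ∈ interGroup N ρ := by
  intro m
  show sc d c * rhoU N ρ n * rhoU N ρ m = rhoU N ρ (conjN N n m) * (sc d c * rhoU N ρ n)
  rw [← mul_assoc, ← sc_commute, mul_assoc, mul_assoc, ← map_mul, ← map_mul]
  congr 2
  exact Subtype.ext (by simp [conjN, mul_assoc])

/-- `(n, ρ n)`. -/
def liftN : N →* interGroup N ρ :=
  MonoidHom.codRestrict (N.subtype.prod (rhoU N ρ)) _ fun n => by
    simpa using sc_mem N ρ 1 n

@[simp] theorem proj_liftN (n : N) : proj N ρ (liftN N ρ n) = n := rfl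
@[simp] theorem op_liftN (n : N) : op N ρ (liftN N ρ n) = rhoU N ρ n := rfl

variable [Finite G] [hρ : ρ.IsIrreducible] (hinv : ∀ g n, ρ.character (conjN N g n) = ρ.character n)

include hinv in
theorem proj_surjective : Function.Surjective (proj N ρ) := by
  intro g
  let c : N →* N :=
    { toFun := conjN N g
      map_one' := Subtype.ext (by simp [conjN])
      map_mul' := fun a b => Subtype.ext (by simp [conjN, mul_assoc]) }
  let σ : Representation ℂ N (Fin d → ℂ) := ρ.comp c
  obtain ⟨T, hT⟩ := exists_unit_conj ρ σ (funext fun n => hinv g n)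
  exact ⟨⟨(g, T), fun n => Units.ext (hT n)⟩, rfl⟩

omit [Finite G] hN in
theorem scalar_of_commute (T : GLd d) (h : ∀ n, T * rhoU N ρ n = rhoU N ρ n * T) :
    ∃ c : ℂˣ, T = sc d c := by
  have : NeZero d := ⟨(pos_of_irreducible ρ).ne'⟩
  obtain ⟨c, hc⟩ := exists_scalar_of_commute ρ T.1 fun n => congrArg Units.val (h n)
  have hc0 : c ≠ 0 := by
    rintro rfl
    rw [map_zero] at hc
    exact T.ne_zero hc
  exact ⟨Units.mk0 c hc0, Units.ext hc⟩

omit [Finite G] in
theorem exists_coord {γ : interGroup N ρ} (h : proj N ρ γ ∈ N) :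
    ∃ c : ℂˣ, op N ρ γ = sc d c * rhoU N ρ ⟨proj N ρ γ, h⟩ := by
  obtain ⟨c, hc⟩ := scalar_of_commute N ρ (op N ρ γ * (rhoU N ρ ⟨proj N ρ γ, h⟩)⁻¹) fun n => by
    set m : N := ⟨proj N ρ γ, h⟩ with hm
    have e : conjN N (proj N ρ γ) (m⁻¹ * n * m) = n := Subtype.ext (by simp [conjN, hm]; group)
    have h2 := op_spec N ρ γ (m⁻¹ * n * m)
    rw [e, map_mul, map_mul, map_inv] at h2
    rw [← mul_assoc (rhoU N ρ n), ← h2]
    group
  exact ⟨c, by rw [← hc]; group⟩

/-- The preimage of a subgroup. -/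
def preim (H : Subgroup G) : Subgroup (interGroup N ρ) := H.comap (proj N ρ)

omit [Finite G] in
/-- The scalar coordinate on the preimage of a subgroup `H` to which `ρ` extends. -/
theorem exists_coordHom {H : Subgroup G} (hNH : N ≤ H) (s : H →* GLd d)
    (hs : ∀ n : N, s ⟨n, hNH n.2⟩ = rhoU N ρ n) :
    ∃ ν : preim N ρ H →* ℂˣ, ∀ γ : preim N ρ H, op N ρ γ = sc d (ν γ) * s ⟨proj N ρ γ, γ.2⟩ := by
  have hinj := sc_injective (pos_of_irreducible ρ)
  have hex : ∀ γ : preim N ρ H, ∃ c : ℂˣ, op N ρ γ = sc d c * s ⟨proj N ρ γ, γ.2⟩ := by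
    intro γ
    set h : H := ⟨proj N ρ γ, γ.2⟩ with hh
    obtain ⟨c, hc⟩ := scalar_of_commute N ρ ((s h)⁻¹ * op N ρ γ) fun n => by
      rw [mul_assoc, op_spec, ← hs, ← hs]
      have e : (⟨(conjN N (proj N ρ γ) n : G), hNH (conjN N (proj N ρ γ) n).2⟩ : H) =
          h * ⟨n, hNH n.2⟩ * h⁻¹ := Subtype.ext rfl
      rw [e, map_mul, map_mul, map_inv]
      group
    exact ⟨c, by rw [sc_commute, ← hc]; group⟩
  choose ν hν using hex
  refine ⟨MonoidHom.mk' ν fun a b => hinj ?_, hν⟩
  have h := hν (a * b)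
  have e : (⟨proj N ρ ↑(a * b), (a * b).2⟩ : H) = ⟨proj N ρ a, a.2⟩ * ⟨proj N ρ b, b.2⟩ :=
    Subtype.ext rfl
  rw [e, map_mul] at h
  simp only [Subgroup.coe_mul, map_mul] at h
  rw [hν a, hν b] at h
  rw [map_mul]
  have h2 : ∀ (x y : ℂˣ) (S T : GLd d), sc d x * S * (sc d y * T) = sc d x * sc d y * (S * T) := by
    intro x y S T
    rw [mul_assoc, mul_assoc, ← mul_assoc S, ← sc_commute, mul_assoc]
  rw [h2] at h
  exact mul_right_cancel h.symm

/-- The scalar coordinate on the preimage of `N`. -/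
def coordN : preim N ρ N →* ℂˣ :=
  (exists_coordHom N ρ le_rfl (rhoU N ρ) (fun _ => rfl)).choose

omit [Finite G] in
theorem coordN_spec (γ : preim N ρ N) :
    op N ρ γ = sc d (coordN N ρ γ) * rhoU N ρ ⟨proj N ρ γ, γ.2⟩ :=
  (exists_coordHom N ρ le_rfl (rhoU N ρ) (fun _ => rfl)).choose_spec γ

instance preim_normal : (preim N ρ N).Normal := hN.comap _

omit [Finite G] in
theorem coordN_inv : InvHom (preim N ρ N) (coordN N ρ) := by
  intro t γ
  refine sc_injective (pos_of_irreducible ρ) ?_
  have h1 := coordN_spec N ρ ⟨t * γ * t⁻¹, (preim_normal N ρ).conj_mem _ γ.2 t⟩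
  simp only [map_mul, map_inv, coordN_spec N ρ γ] at h1
  have h2 := op_spec N ρ t ⟨proj N ρ γ, γ.2⟩
  rw [← mul_assoc (op N ρ t), ← sc_commute, mul_assoc (sc d (coordN N ρ γ)), h2] at h1
  rw [← mul_assoc, mul_inv_cancel_right] at h1
  refine (mul_right_cancel (h1.trans ?_)).symm
  congr 2

omit hρ in
theorem preim_finiteIndex (H : Subgroup G) : (preim N ρ H).FiniteIndex :=
  ⟨fun h => Subgroup.FiniteIndex.index_ne_zero (H := H.subgroupOf (proj N ρ).range) (by
    rwa [preim, Subgroup.index_comap] at h)⟩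

include hinv in
theorem index_preim (H : Subgroup G) : (preim N ρ H).index = H.index :=
  Subgroup.index_comap_of_surjective _ (proj_surjective N ρ hinv)

include hinv in
/-- An extension of the scalar coordinate gives an extension of `ρ`. -/
theorem extends_of_linear (μ : interGroup N ρ →* ℂˣ)
    (hμ : ∀ γ : preim N ρ N, μ γ = coordN N ρ γ) :
    ∃ s : G →* GLd d, ∀ n : N, s n = rhoU N ρ n := by
  have hker : ∀ γ, proj N ρ γ = 1 → μ γ = 1 → γ = 1 := by
    intro γ h1 h2
    have hm : γ ∈ preim N ρ N := by simp [preim, h1]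
    have h := coordN_spec N ρ ⟨γ, hm⟩
    rw [← hμ ⟨γ, hm⟩, h2, map_one, one_mul] at h
    have e : (⟨proj N ρ γ, hm⟩ : N) = 1 := Subtype.ext h1
    rw [show (⟨proj N ρ ((⟨γ, hm⟩ : preim N ρ N) : interGroup N ρ), hm⟩ : N) = 1 from e, map_one]
      at h
    exact Subtype.ext (Prod.ext h1 h)
  let π : μ.ker →* G := (proj N ρ).comp μ.ker.subtype
  have hbij : Function.Bijective π := by
    refine ⟨(injective_iff_map_eq_one π).2 fun γ h => Subtype.ext (hker γ h γ.2), fun g => ?_⟩
    obtain ⟨γ, hγ⟩ := proj_surjective N ρ hinv g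
    let z : interGroup N ρ :=
      ⟨(((1 : N) : G), sc d (μ γ)⁻¹ * rhoU N ρ 1), sc_mem N ρ _ 1⟩
    have hz : proj N ρ z = 1 := rfl
    have hzm : z ∈ preim N ρ N := by simp [preim, hz]
    have hμz : μ z = (μ γ)⁻¹ := by
      refine (hμ ⟨z, hzm⟩).trans (sc_injective (pos_of_irreducible ρ)
        (mul_right_cancel (b := rhoU N ρ ⟨proj N ρ z, hzm⟩) ?_))
      exact (coordN_spec N ρ ⟨z, hzm⟩).symm
    refine ⟨⟨γ * z, MonoidHom.mem_ker.2 (by rw [map_mul, hμz, mul_inv_cancel])⟩, ?_⟩
    show proj N ρ (γ * z) = g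
    rw [map_mul, hz, mul_one, hγ]
  let e := MulEquiv.ofBijective π hbij
  refine ⟨((op N ρ).comp μ.ker.subtype).comp e.symm.toMonoidHom, fun n => ?_⟩
  have hmem : liftN N ρ n ∈ μ.ker := by
    have hm : liftN N ρ n ∈ preim N ρ N := n.2
    refine MonoidHom.mem_ker.2 ((hμ ⟨_, hm⟩).trans (sc_injective (pos_of_irreducible ρ) ?_))
    refine mul_right_cancel ((coordN_spec N ρ ⟨_, hm⟩).symm.trans ?_)
    rw [map_one, one_mul]
    rfl
  have he : e.symm (n : G) = ⟨_, hmem⟩ := e.symm_apply_eq.2 rfl
  show op N ρ ↑(e.symm (n : G)) = _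
  rw [he]
  rfl

include hinv in
/-- An extension of `ρ` to a subgroup extends the index-th power of the scalar coordinate. -/
theorem powExtends_of_extension {H : Subgroup G} (hNH : N ≤ H) (s : H →* GLd d)
    (hs : ∀ n : N, s ⟨n, hNH n.2⟩ = rhoU N ρ n) :
    PowExtends (preim N ρ N) (coordN N ρ) H.index := by
  have := preim_finiteIndex N ρ H
  obtain ⟨ν, hν⟩ := exists_coordHom N ρ hNH s hs
  rw [← index_preim N ρ hinv H]
  refine powExtends_index (coordN_inv N ρ) (Subgroup.comap_mono hNH) ν fun γ => ?_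
  refine sc_injective (pos_of_irreducible ρ)
    (mul_right_cancel (b := rhoU N ρ ⟨proj N ρ γ, γ.2⟩) ?_)
  refine Eq.trans ?_ ((hν ⟨γ, Subgroup.comap_mono hNH γ.2⟩).symm.trans (coordN_spec N ρ γ))
  rw [← hs]

include hinv in
theorem powExtends_index_top : PowExtends (preim N ρ N) (coordN N ρ) N.index :=
  powExtends_of_extension N ρ hinv le_rfl (rhoU N ρ) fun _ => rfl

omit [Finite G] in
/-- An extension of the determinant extends the degree-th power of the scalar coordinate. -/
theorem powExtends_degree (μ : G →* ℂˣ) (hμ : ∀ n : N, (μ n : ℂ) = LinearMap.det (ρ n)) :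
    PowExtends (preim N ρ N) (coordN N ρ) d := by
  let D : interGroup N ρ →* ℂˣ :=
    ((Units.map LinearMap.det).comp (op N ρ)) * (μ.comp (proj N ρ))⁻¹
  refine ⟨D, fun γ => ?_⟩
  rw [zpow_natCast]
  show Units.map LinearMap.det (op N ρ γ) * (μ (proj N ρ γ))⁻¹ = _
  rw [mul_inv_eq_iff_eq_mul, coordN_spec N ρ γ, map_mul]
  congr 1
  · exact Units.ext ((det_sc _).trans (by simp))
  · exact Units.ext (hμ ⟨proj N ρ γ, γ.2⟩).symm

end Gamma

/-! ### Statements about characters -/

section Char

variable {G : Type u} [Group G] [Finite G] (N : Subgroup G) [hN : N.Normal]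

/-- Representation from a homomorphism into units. -/
def repOfUnits {d : ℕ} (s : G →* GLd d) : Representation ℂ G (Fin d → ℂ) := (Units.coeHom _).comp s

omit [Finite G] hN in
/-- A representation whose restriction to a subgroup is irreducible is irreducible. -/
theorem isIrreducible_of_restrict {d : ℕ} (σ : Representation ℂ G (Fin d → ℂ))
    (h : Representation.IsIrreducible (σ.comp N.subtype : Representation ℂ N (Fin d → ℂ))) :
    σ.IsIrreducible := by
  let f : Subrepresentation σ → Subrepresentation (σ.comp N.subtype : Representation ℂ N _) :=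
    fun S => ⟨S.toSubmodule, fun n v hv => S.apply_mem_toSubmodule (n : G) hv⟩
  refine { exists_pair_ne := ⟨⊥, ⊤, ?_⟩, eq_bot_or_eq_top := fun S => ?_ }
  · intro hbt
    obtain ⟨a, b, hab⟩ := h.toNontrivial.exists_pair_ne
    have hbt' : (⊥ : Submodule ℂ (Fin d → ℂ)) = ⊤ := congrArg Subrepresentation.toSubmodule hbt
    have := (Submodule.subsingleton_iff ℂ).1 (subsingleton_of_bot_eq_top hbt')
    exact hab (Subrepresentation.toSubmodule_injective (Subsingleton.elim _ _))
  · rcases h.eq_bot_or_eq_top (f S) with h1 | h1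
    · exact Or.inl (Subrepresentation.toSubmodule_injective
        (congrArg Subrepresentation.toSubmodule h1 :))
    · exact Or.inr (Subrepresentation.toSubmodule_injective
        (congrArg Subrepresentation.toSubmodule h1 :))

omit hN in
/-- A character whose restriction is irreducible is irreducible. -/
theorem isIrrCharacter_of_restrict {χ : G → ℂ} (hχ : Cfsg.IsCharacter G χ)
    (h : Cfsg.IsIrrCharacter N (fun n : N => χ n)) : Cfsg.IsIrrCharacter G χ := by
  obtain ⟨m, σ, rfl⟩ := hχ
  obtain ⟨d, ρ, hρ, hρc⟩ := h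
  obtain ⟨φ⟩ := nonempty_equiv_of_char_eq ρ (σ.comp N.subtype) hρc.symm
  refine ⟨m, σ, isIrreducible_of_restrict N σ ?_, rfl⟩
  exact (OrderIso.isSimpleOrder_iff (subOrderIso φ)).1 hρ
where
  subOrderIso {X : Type u} [Group X] {d m : ℕ} {ρ : Representation ℂ X (Fin d → ℂ)}
      {σ : Representation ℂ X (Fin m → ℂ)} (φ : Representation.Equiv ρ σ) :
      Subrepresentation ρ ≃o Subrepresentation σ :=
    { toFun := fun S => ⟨S.toSubmodule.map φ.toLinearEquiv.toLinearMap, fun x v hv => by
        obtain ⟨w, hw, rfl⟩ := hv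
        exact ⟨ρ x w, S.apply_mem_toSubmodule x hw,
          LinearMap.congr_fun (φ.toIntertwiningMap.isIntertwining' x) w⟩⟩
      invFun := fun S => ⟨S.toSubmodule.comap φ.toLinearEquiv.toLinearMap, fun x v hv => by
        have h := LinearMap.congr_fun (φ.toIntertwiningMap.isIntertwining' x) v
        show φ.toLinearEquiv.toLinearMap (ρ x v) ∈ S.toSubmodule
        rw [show φ.toLinearEquiv.toLinearMap (ρ x v) = σ x (φ.toLinearEquiv.toLinearMap v) from h]
        exact S.apply_mem_toSubmodule x hv⟩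
      left_inv := fun S => Subrepresentation.toSubmodule_injective
        (Submodule.comap_map_eq_of_injective φ.toLinearEquiv.injective _)
      right_inv := fun S => Subrepresentation.toSubmodule_injective
        (Submodule.map_comap_eq_of_surjective φ.toLinearEquiv.surjective _)
      map_rel_iff' := fun {a b} => Submodule.map_le_map_iff_of_injective φ.toLinearEquiv.injective _ _ }

omit [Finite G] hN in
theorem repOfUnits_apply {d : ℕ} (s : G →* GLd d) (g : G) :
    repOfUnits s g = ((s g : GLd d) : Module.End ℂ (Fin d → ℂ)) := rfl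

omit [Finite G] hN in
/-- An extension of `ρ` as a homomorphism gives an extension of its character. -/
theorem exists_irr_of_hom {d : ℕ} (ρ : Representation ℂ N (Fin d → ℂ)) [hρ : ρ.IsIrreducible]
    (h : ∃ s : G →* GLd d, ∀ n : N, s n = rhoU N ρ n) :
    ∃ χ : G → ℂ, Cfsg.IsIrrCharacter G χ ∧ ∀ n : N, χ n = ρ.character n := by
  obtain ⟨s, hs⟩ := h
  have e : (repOfUnits s).comp N.subtype = ρ := MonoidHom.ext fun n => congrArg Units.val (hs n)
  refine ⟨_, ⟨d, repOfUnits s, isIrreducible_of_restrict N _ (e ▸ hρ), rfl⟩, fun n => ?_⟩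
  rw [← e]
  rfl

omit hN in
/-- A character extending an irreducible character comes from an extending homomorphism. -/
theorem exists_hom_of_char {d : ℕ} (ρ : Representation ℂ N (Fin d → ℂ)) [ρ.IsIrreducible]
    {H : Subgroup G} (hNH : N ≤ H) {η : H → ℂ} (hη : Cfsg.IsCharacter H η)
    (h : ∀ n : N, η ⟨n, hNH n.2⟩ = ρ.character n) :
    ∃ s : H →* GLd d, ∀ n : N, s ⟨n, hNH n.2⟩ = rhoU N ρ n := by
  obtain ⟨m, σ, rfl⟩ := hη
  have hdm : m = d := by
    have := h 1
    rw [Representation.char_one] at this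
    have e : (⟨((1 : N) : G), hNH (1 : N).2⟩ : H) = 1 := rfl
    rw [e, Representation.char_one, Module.finrank_fin_fun, Module.finrank_fin_fun] at this
    exact_mod_cast this
  subst hdm
  obtain ⟨T, hT⟩ := exists_unit_conj ρ (σ.comp (Subgroup.inclusion hNH)) (funext h)
  refine ⟨(MulAut.conj T⁻¹).toMonoidHom.comp σ.toHomUnits, fun n => ?_⟩
  have h1 : T * rhoU N ρ n = σ.toHomUnits ⟨n, hNH n.2⟩ * T := Units.ext (hT n)
  show T⁻¹ * σ.toHomUnits ⟨n, hNH n.2⟩ * T⁻¹⁻¹ = _
  rw [inv_inv, mul_assoc, ← h1, inv_mul_cancel_left]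

variable {ϑ : N → ℂ} (hϑ : Cfsg.IsIrrCharacter N ϑ)
  (hinv : ∀ (g : G) (n : N), ϑ ⟨g * n * g⁻¹, hN.conj_mem (n : G) n.2 g⟩ = ϑ n)

include hϑ hinv in
/-- **Extension by primes**: extensions to subgroups of index prime to each prime combine. -/
theorem extends_of_forall_prime_subgroup
    (hsyl : ∀ p : ℕ, p.Prime → ∃ (P : Subgroup G) (hNP : N ≤ P) (η : P → ℂ),
      ¬ p ∣ P.index ∧ Cfsg.IsCharacter P η ∧ ∀ n : N, η ⟨n, hNP n.2⟩ = ϑ n) :
    ∃ χ : G → ℂ, Cfsg.IsIrrCharacter G χ ∧ ∀ n : N, χ n = ϑ n := by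
  obtain ⟨d, ρ, hρ, rfl⟩ := hϑ
  obtain ⟨μ, hμ⟩ := extends_of_forall_prime (f := coordN N ρ) fun p hp => by
    obtain ⟨P, hNP, η, hP, hη, hηn⟩ := hsyl p hp
    obtain ⟨s, hs⟩ := exists_hom_of_char N ρ hNP hη hηn
    exact ⟨P.index, fun hd => hP (Int.natCast_dvd_natCast.1 hd),
      powExtends_of_extension N ρ hinv hNP s hs⟩
  exact exists_irr_of_hom N ρ (extends_of_linear N ρ hinv μ hμ)

include hϑ hinv in
/-- **Gallagher**: for degree coprime to the index it is enough that the determinant extends. -/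
theorem extends_of_det (d : ℕ) (hd : ϑ 1 = d) (hcop : Nat.Coprime N.index d)
    (μ : G → ℂ) (hμ : Cfsg.IsCharacter G μ) (hμ1 : μ 1 = 1)
    (hμn : ∀ n : N, μ n = Cfsg.detChar ϑ n) :
    ∃ χ : G → ℂ, Cfsg.IsIrrCharacter G χ ∧ ∀ n : N, χ n = ϑ n := by
  obtain ⟨m, ρ, hρ, rfl⟩ := hϑ
  rw [Representation.char_one, Module.finrank_fin_fun, Nat.cast_inj] at hd
  subst hd
  obtain ⟨f, rfl⟩ := exists_unitsHom hμ hμ1
  obtain ⟨ν, hν⟩ := extends_of_coprime hcop (powExtends_index_top N ρ hinv)
    (powExtends_degree N ρ f fun n => (hμn n).trans (congrFun (detChar_eq ρ) n))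
  exact exists_irr_of_hom N ρ (extends_of_linear N ρ hinv ν hν)

include hϑ hinv in
/-- An invariant character extends over a cyclic quotient. -/
theorem extends_of_isCyclic [IsCyclic (G ⧸ N)] :
    ∃ χ : G → ℂ, Cfsg.IsIrrCharacter G χ ∧ ∀ n : N, χ n = ϑ n := by
  obtain ⟨d, ρ, hρ, rfl⟩ := hϑ
  have := preim_finiteIndex N ρ N
  let q : interGroup N ρ →* G ⧸ N := (QuotientGroup.mk' N).comp (proj N ρ)
  have hker : q.ker = preim N ρ N := by
    ext γ
    simp [q, preim, QuotientGroup.eq_one_iff]
  have hinj : Function.Injective (QuotientGroup.lift (preim N ρ N) q hker.ge) := by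
    rw [injective_iff_map_eq_one]
    intro x
    refine QuotientGroup.induction_on x fun γ hγ => ?_
    exact (QuotientGroup.eq_one_iff γ).2 (hker ▸ hγ)
  have : IsCyclic (interGroup N ρ ⧸ preim N ρ N) := isCyclic_of_injective _ hinj
  obtain ⟨μ, hμ⟩ := extends_of_cyclic (coordN_inv N ρ) fun a => exists_root (preim N ρ N).index
    (Nat.pos_of_ne_zero Subgroup.FiniteIndex.index_ne_zero) a
  exact exists_irr_of_hom N ρ (extends_of_linear N ρ hinv μ hμ)

end Char

/-! ### Determinants of extensions -/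

/-- The determinant of an extension extends the determinant. -/
theorem det_restrict {G : Type u} [Group G] [Finite G] {N : Subgroup G} {d m : ℕ}
    (ρ : Representation ℂ N (Fin d → ℂ)) [ρ.IsIrreducible]
    (σ : Representation ℂ G (Fin m → ℂ)) (h : ∀ n : N, σ.character n = ρ.character n) (n : N) :
    LinearMap.det (σ (n : G)) = LinearMap.det (ρ n) := by
  let τ : Representation ℂ N (Fin m → ℂ) := σ.comp N.subtype
  have h1 : τ.character = ρ.character := funext h
  obtain ⟨φ⟩ := nonempty_equiv_of_char_eq ρ τ h1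
  rw [← LinearMap.det_conj (ρ n) φ.toLinearEquiv]
  congr 1
  refine LinearMap.ext fun v => ?_
  have hh := LinearMap.congr_fun (φ.toIntertwiningMap.isIntertwining' n) (φ.toLinearEquiv.symm v)
  have e : φ.toLinearEquiv (φ.toLinearEquiv.symm v) = v := φ.toLinearEquiv.apply_symm_apply v
  exact (hh.trans (congrArg (σ (n : G)) e)).symm

end CfsgLib.CharExtension
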