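import Cfsg.Agent.Lib.Characters.Clifford
import Cfsg.Agent.Lib.Characters.Extension
import Cfsg.Agent.Lib.Characters.LinearExt
import Cfsg.Agent.Lib.Characters.Values
import Cfsg.Agent.Lib.Characters.FrobSchur
import Cfsg.Prelude.Def_Blocks

/-!
# Twisting by linear characters and inducing from inertia groups
-/

set_option autoImplicit false
set_option linter.unusedSectionVars false
set_option linter.style.haveILetI false

namespace CfsgLib.LinearTwist

open Cfsg CfsgLib.Characters CfsgLib.Clifford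
open scoped commutatorElement
open scoped ComplexConjugate

universe u

theorem charDegree_eq_of_apply_one {G : Type u} [Group G] {χ : G → ℂ} {n : ℕ} (h : χ 1 = n) :
    Cfsg.charDegree χ = n := by
  simp [Cfsg.charDegree, h]

theorem apply_one_eq_charDegree {G : Type u} [Group G] {χ : G → ℂ} (h : IsCharacter G χ) :
    χ 1 = (Cfsg.charDegree χ : ℂ) := by
  obtain ⟨n, hn⟩ := exists_degree h
  rw [charDegree_eq_of_apply_one hn, hn]

theorem exists_hom_of_charDegree_one {G : Type u} [Group G] {χ : G → ℂ} (h : IsCharacter G χ)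
    (h1 : Cfsg.charDegree χ = 1) : ∃ f : G →* ℂˣ, χ = fun g => (f g : ℂ) :=
  CfsgLib.LinearExt.exists_unitsHom h (by rw [apply_one_eq_charDegree h, h1, Nat.cast_one])

/-- The product of an irreducible character with a linear one is irreducible. -/
theorem isIrr_mul_hom {G : Type u} [Group G] [Finite G] {ψ : G → ℂ} (hψ : IsIrrCharacter G ψ)
    (f : G →* ℂˣ) : IsIrrCharacter G (fun g => ψ g * (f g : ℂ)) := by
  haveI := Fintype.ofFinite G
  have hf := isIrrCharacter_of_hom f
  refine isIrr_of_norm_one (isCharacter_mul (isCharacter_of_irr hψ) (isCharacter_of_irr hf)) ?_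
  rw [← classInner_irr_self hψ]
  unfold classInner
  congr 1
  refine Finset.sum_congr rfl fun g _ => ?_
  have h1 : (f g : ℂ) * conj (f g : ℂ) = 1 := by
    rw [← irr_apply_inv ⟨_, hf⟩ g]
    simp
  rw [map_mul]
  linear_combination (ψ g * conj (ψ g)) * h1

/-- Linear twists of an extension are distinct (the elementary part of Gallagher's theorem). -/
theorem hom_eq_of_mul_eq {G : Type u} [Group G] [Finite G] (N : Subgroup G) {ψ : G → ℂ}
    (hψ : IsCharacter G ψ) (hres : IsIrrCharacter N (fun n : N => ψ n)) (f f' : G →* ℂˣ)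
    (hN : ∀ n : N, f n = f' n) (heq : ∀ g, ψ g * (f g : ℂ) = ψ g * (f' g : ℂ)) : f = f' := by
  haveI := Fintype.ofFinite G
  obtain ⟨m, hm⟩ := exists_degree hψ
  let ν : G →* ℂˣ := f' / f
  have hν : ∀ g, ψ g * (ν g : ℂ) = ψ g := by
    intro g
    simp only [ν, MonoidHom.div_apply, Units.val_div_eq_div_val]
    rw [← mul_div_assoc, ← heq, mul_div_assoc, div_self (Units.ne_zero _), mul_one]
  obtain ⟨n, ρ, rfl⟩ := hψ
  obtain ⟨k, τ, hτ, hτc⟩ := hres
  haveI := hτ
  have hirrN : Representation.IsIrreducible (ρ.comp N.subtype) := by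
    obtain ⟨φ⟩ := CfsgLib.CharExtension.nonempty_equiv_of_char_eq τ (ρ.comp N.subtype) hτc.symm
    exact isIrreducible_of_equiv φ hτ
  haveI : ρ.IsIrreducible :=
    (isIrreducible_iff ρ).mpr ⟨((isIrreducible_iff _).mp hirrN).1, fun U hU =>
      ((isIrreducible_iff _).mp hirrN).2 U fun x v hv => hU x v hv⟩
  let σ : Representation ℂ G (Fin n → ℂ) :=
    { toFun := fun g => (ν g : ℂ) • ρ g
      map_one' := by simp
      map_mul' := fun a b => by
        rw [map_mul, map_mul, Units.val_mul, smul_mul_smul_comm] }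
  have hσ : σ.character = ρ.character := by
    funext g
    change LinearMap.trace ℂ _ ((ν g : ℂ) • ρ g) = _
    rw [map_smul, smul_eq_mul, mul_comm]
    exact hν g
  obtain ⟨T, hT⟩ := CfsgLib.CharExtension.exists_unit_conj ρ σ hσ
  haveI := hirrN
  obtain ⟨c, hc⟩ := CfsgLib.CharExtension.exists_scalar_of_commute (ρ.comp N.subtype) T.1
    (fun x => by
      have := hT (x : G)
      have hνx : ν (x : G) = 1 := by simp [ν, hN x]
      change T.1 * ρ x = ρ x * T.1
      rw [this]
      change ((ν (x : G) : ℂ) • ρ x) * T.1 = _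
      rw [hνx, Units.val_one, one_smul])
  ext g
  have h1 := hT g
  change T.1 * ρ g = ((ν g : ℂ) • ρ g) * T.1 at h1
  rw [hc, Algebra.algebraMap_eq_smul_one, smul_mul_assoc, one_mul, mul_smul_comm, mul_one] at h1
  rw [smul_smul] at h1
  haveI : Nontrivial (Fin n → ℂ) := ((isIrreducible_iff ρ).mp inferInstance).1
  have hT0 : c ≠ 0 := by
    rintro rfl
    rw [map_zero] at hc
    exact T.ne_zero hc
  have hρ0 : ρ g ≠ 0 := by
    intro h0
    have := congrArg (fun A => A * ρ g⁻¹) h0
    simp [← map_mul] at this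
  have h2 : c = c * (ν g : ℂ) := smul_left_injective ℂ hρ0 h1
  have h3 : (ν g : ℂ) = 1 := mul_left_cancel₀ hT0 (by rw [mul_one]; exact h2.symm)
  simp only [ν, MonoidHom.div_apply, Units.val_div_eq_div_val] at h3
  exact ((div_eq_one_iff_eq (Units.ne_zero _)).mp h3).symm

/-- There are at most `[G : H]` linear characters trivial on `H`. -/
theorem card_hom_trivial_le {G : Type u} [Group G] [Finite G] (H : Subgroup G) :
    Nat.card {f : G →* ℂˣ // ∀ h ∈ H, f h = 1} ≤ H.index := by
  classical
  haveI := Fintype.ofFinite G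
  let F : {f : G →* ℂˣ // ∀ h ∈ H, f h = 1} → (G ⧸ H → ℂ) := fun f =>
    Quotient.lift (fun g : G => (f.1 g : ℂ)) fun a b hab => by
      have h1 : a⁻¹ * b ∈ H := QuotientGroup.leftRel_apply.mp hab
      have h2 := f.2 _ h1
      rw [map_mul, map_inv, inv_mul_eq_one] at h2
      simp [h2]
  have hli : LinearIndependent ℂ F := by
    have h0 : LinearIndependent ℂ (fun f : G →* ℂ => (f : G → ℂ)) := linearIndependent_monoidHom G ℂ
    have h1 := h0.comp (fun f : {f : G →* ℂˣ // ∀ h ∈ H, f h = 1} => (Units.coeHom ℂ).comp f.1) (by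
      intro a b hab
      exact Subtype.ext (MonoidHom.ext fun g => Units.ext (DFunLike.congr_fun hab g)))
    exact LinearIndependent.of_comp (LinearMap.funLeft ℂ ℂ (QuotientGroup.mk : G → G ⧸ H)) h1
  haveI : Fintype (G ⧸ H) := Fintype.ofFinite _
  haveI := hli.finite
  haveI : Fintype {f : G →* ℂˣ // ∀ h ∈ H, f h = 1} := Fintype.ofFinite _
  have := hli.fintype_card_le_finrank
  rwa [Module.finrank_fintype_fun_eq_card, ← Nat.card_eq_fintype_card, ← Nat.card_eq_fintype_card,
    ← Subgroup.index_eq_card] at this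

/-- A map of finite types with fibres of size at most `m`. -/
theorem card_le_mul_of_fibres {α β : Type*} [Finite α] [Finite β] (f : α → β) (m : ℕ)
    (h : ∀ b, Nat.card {a // f a = b} ≤ m) : Nat.card α ≤ m * Nat.card β := by
  haveI := Fintype.ofFinite β
  rw [← Nat.card_congr (Equiv.sigmaFiberEquiv f), Nat.card_sigma]
  refine (Finset.sum_le_sum fun b _ => h b).trans (le_of_eq ?_)
  rw [Finset.sum_const, Finset.card_univ, smul_eq_mul, mul_comm, Nat.card_eq_fintype_card]

instance finite_unitsHom {G : Type u} [Group G] [Finite G] : Finite (G →* ℂˣ) := by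
  refine Finite.of_injective
    (fun f => (⟨_, isIrrCharacter_of_hom f⟩ : IrrCharacter G)) fun a b hab => ?_
  exact MonoidHom.ext fun g => Units.ext (congrFun (congrArg Subtype.val hab) g)

/-- Characters extending `φ` to its inertia group induce irreducibly. -/
theorem indFun_irr_of_inertia {G : Type u} [Group G] [Fintype G] {N : Subgroup G} [Fintype N]
    (hN : N.Normal) {φ : N → ℂ} (hφ : IsIrrCharacter N φ) (I : Subgroup G) [Fintype I]
    (hI : I = inertia hN φ) (hNI : N ≤ I) {θ : I → ℂ} (hθ : IsIrrCharacter I θ)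
    (hres : ∀ n : N, θ (Subgroup.inclusion hNI n) = φ n) :
    IsIrrCharacter G (indFun I θ) ∧ indFun I θ 1 = (I.index : ℂ) * φ 1 ∧
      classInner (fun n : N => indFun I θ n) φ = 1 ∧
      ∀ θ' : I → ℂ, IsIrrCharacter I θ' → (∀ n : N, θ' (Subgroup.inclusion hNI n) = φ n) →
        indFun I θ' = indFun I θ → θ' = θ := by
  classical
  have hθc := isCharacter_of_irr hθ
  have hind := CfsgLib.Induction.isCharacter_indFun I hθc
  have hdeg : indFun I θ 1 = (I.index : ℂ) * φ 1 := by
    rw [CfsgLib.Induction.indFun_one_apply]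
    congr 1
    rw [← hres 1, map_one]
  obtain ⟨m, hm0, hm1⟩ := irr_exists_degree hφ
  have hidx : 0 < I.index := Nat.pos_of_ne_zero Subgroup.index_ne_zero_of_finite
  have hne : indFun I θ ≠ 0 := by
    intro h
    rw [h] at hdeg
    simp [hm1, hm0.ne', hidx.ne'] at hdeg
  obtain ⟨χ, hχ⟩ := exists_constituent hind hne
  -- `θ` occurs in the restriction of `χ`
  have hχI : classInner (fun x : I => (χ : G → ℂ) x) θ ≠ 0 := by
    intro h
    apply hχ
    rw [CfsgLib.Induction.classInner_indFun I θ (irr_isClassFunction χ), classInner_conj_symm, h,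
      map_zero]
  obtain ⟨mI, hmI, hsumI⟩ := exists_mult (isCharacter_subtype (irr_isCharacter χ) I)
  have hk : ∀ ξ : IrrCharacter I, ∃ k : ℕ,
      classInner (fun n : N => (ξ : I → ℂ) (Subgroup.inclusion hNI n)) φ = (k : ℂ) :=
    fun ξ => classInner_char_nat (isCharacter_pullback (irr_isCharacter ξ) _) (isCharacter_of_irr hφ)
  choose k hk using hk
  have hexp : classInner (fun n : N => (χ : G → ℂ) n) φ = ((∑ ξ, mI ξ * k ξ : ℕ) : ℂ) := by
    have : (fun n : N => (χ : G → ℂ) n) = ∑ ξ : IrrCharacter I,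
        (mI ξ : ℂ) • fun n : N => (ξ : I → ℂ) (Subgroup.inclusion hNI n) := by
      funext n
      have := congrFun hsumI (Subgroup.inclusion hNI n)
      simp only [Finset.sum_apply, Pi.smul_apply, smul_eq_mul] at this ⊢
      exact this
    rw [this, classInner_sum_left]
    push_cast
    exact Finset.sum_congr rfl fun ξ _ => by rw [classInner_smul_left, hk]
  have hkθ : ∀ (η : I → ℂ) (hη : IsIrrCharacter I η),
      (∀ n : N, η (Subgroup.inclusion hNI n) = φ n) → k ⟨η, hη⟩ = 1 := by
    intro η hη h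
    have h1 := hk ⟨η, hη⟩
    rw [show (fun n : N => η (Subgroup.inclusion hNI n)) = φ from funext h,
      classInner_irr_self hφ] at h1
    exact_mod_cast h1.symm
  have hmθ : mI ⟨θ, hθ⟩ ≠ 0 := by
    intro h
    exact hχI (by rw [hmI ⟨θ, hθ⟩, h, Nat.cast_zero])
  set e := ∑ ξ, mI ξ * k ξ
  have he1 : 1 ≤ e := le_trans (Nat.one_le_iff_ne_zero.mpr (by rw [hkθ θ hθ hres, mul_one]; exact hmθ))
    (Finset.single_le_sum (f := fun ξ => mI ξ * k ξ) (fun _ _ => Nat.zero_le _)
      (Finset.mem_univ ⟨θ, hθ⟩))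
  have hχdeg := clifford_degree hN χ.2 hφ (by
    rw [hexp]; exact Nat.cast_ne_zero.mpr (by omega))
  rw [hexp, ← hI] at hχdeg
  -- degree comparison
  obtain ⟨M, hM, hMsum⟩ := exists_mult hind
  have hdegs : ∀ ξ : IrrCharacter G, ∃ n : ℕ, 0 < n ∧ (ξ : G → ℂ) 1 = n := fun ξ =>
    irr_exists_degree ξ.2
  choose deg hdeg0 hdegeq using hdegs
  have h1 : I.index * m = ∑ ξ : IrrCharacter G, M ξ * deg ξ := by
    have := congrFun hMsum 1
    rw [hdeg, hm1] at this
    simp only [Finset.sum_apply, Pi.smul_apply, smul_eq_mul, hdegeq] at this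
    exact_mod_cast this
  have h2 : deg χ = e * I.index * m := by
    rw [hdegeq χ, hm1] at hχdeg
    exact_mod_cast hχdeg
  have hMχ : M χ ≠ 0 := fun h => hχ (by rw [hM χ, h, Nat.cast_zero])
  have h3 : M χ * deg χ ≤ I.index * m := by
    rw [h1]
    exact Finset.single_le_sum (f := fun ξ => M ξ * deg ξ) (fun _ _ => Nat.zero_le _)
      (Finset.mem_univ χ)
  have hpos : 0 < I.index * m := Nat.mul_pos hidx hm0
  have h2' : deg χ = e * (I.index * m) := by rw [h2, mul_assoc]
  have he : e = 1 := by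
    have h4 : M χ * e * (I.index * m) ≤ 1 * (I.index * m) := by
      rw [mul_assoc, ← h2', one_mul]; exact h3
    have h5 := Nat.le_of_mul_le_mul_right h4 hpos
    have h6 : e ≤ M χ * e := Nat.le_mul_of_pos_left _ (Nat.pos_of_ne_zero hMχ)
    omega
  have hMχ1 : M χ = 1 := by
    have h4 : M χ * (I.index * m) ≤ 1 * (I.index * m) := by
      rw [one_mul]; rw [h2', he, one_mul] at h3; exact h3
    have := Nat.le_of_mul_le_mul_right h4 hpos
    omega
  have hrest : ∀ ξ, ξ ≠ χ → M ξ = 0 := by
    intro ξ hξ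
    have hle2 : M χ * deg χ + M ξ * deg ξ ≤ ∑ η : IrrCharacter G, M η * deg η := by
      rw [← Finset.sum_pair (f := fun η => M η * deg η) (Ne.symm hξ)]
      exact Finset.sum_le_sum_of_subset (Finset.subset_univ _)
    rw [← h1, hMχ1, one_mul, h2', he, one_mul] at hle2
    have h7 : M ξ * deg ξ = 0 := by omega
    exact (mul_eq_zero.1 h7).resolve_right (hdeg0 ξ).ne'
  have heq : indFun I θ = (χ : G → ℂ) := by
    rw [hMsum, Finset.sum_eq_single χ (fun ξ _ hξ => by rw [hrest ξ hξ, Nat.cast_zero, zero_smul])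
      (fun h => absurd (Finset.mem_univ _) h), hMχ1, Nat.cast_one, one_smul]
  refine ⟨heq ▸ χ.2, hdeg, by rw [heq, hexp, he, Nat.cast_one], fun θ' hθ' hres' heq' => ?_⟩
  by_contra hne'
  have hm' : mI ⟨θ', hθ'⟩ ≠ 0 := by
    intro h
    have h8 := hmI ⟨θ', hθ'⟩
    rw [h, Nat.cast_zero, classInner_conj_symm, map_eq_zero,
      ← CfsgLib.Induction.classInner_indFun I θ' (irr_isClassFunction χ), heq', heq,
      classInner_irr_self χ.2] at h8
    exact one_ne_zero h8
  have hsum2 : mI ⟨θ, hθ⟩ * k ⟨θ, hθ⟩ + mI ⟨θ', hθ'⟩ * k ⟨θ', hθ'⟩ ≤ e := by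
    rw [← Finset.sum_pair (f := fun ξ => mI ξ * k ξ)
      (fun h => hne' (congrArg Subtype.val h).symm)]
    exact Finset.sum_le_sum_of_subset (Finset.subset_univ _)
  rw [hkθ θ hθ hres, hkθ θ' hθ' hres'] at hsum2
  omega

/-- An irreducible real induced character from an inertia group has the indicator of the
character inducing it, provided the latter is `1`. -/
theorem fsInd_indFun_of_inertia {G : Type u} [Group G] [Fintype G] {N : Subgroup G} [Fintype N]
    (hN : N.Normal) {φ : N → ℂ} (hφ : IsIrrCharacter N φ) (I : Subgroup G) [Fintype I]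
    (hI : I = inertia hN φ) (hNI : N ≤ I) {θ : I → ℂ} (hθ : IsIrrCharacter I θ)
    (hres : ∀ n : N, θ (Subgroup.inclusion hNI n) = φ n) (h1 : FrobSchur.fsInd θ = 1) :
    FrobSchur.fsInd (indFun I θ) = 1 := by
  classical
  obtain ⟨hirr, -, hmult, -⟩ := indFun_irr_of_inertia hN hφ I hI hNI hθ hres
  have hreal : ∀ g, (indFun I θ g).im = 0 := by
    intro g
    have hr := FrobSchur.real_of_fsInd_ne_zero hθ (by rw [h1]; exact one_ne_zero)
    rw [← Complex.conj_eq_iff_im, ← CfsgLib.Induction.indFun_conj_apply]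
    simp [Complex.conj_eq_iff_im.mpr (hr _)]
  rcases FrobSchur.fsInd_cases hirr with ⟨-, h | h⟩ | ⟨h, -⟩
  · exact h
  · exfalso
    obtain ⟨a, ha, ha'⟩ := FrobSchur.even_classInner_of_fsInd I.subtype hirr h hθ h1
    have h2 : classInner (fun x : I => indFun I θ x) θ = 1 := by
      rw [classInner_conj_symm, ← CfsgLib.Induction.classInner_indFun I θ
        (isClassFunction_of_isCharacter (isCharacter_of_irr hirr)), classInner_irr_self hirr, map_one]
    change classInner (fun x : I => indFun I θ x) θ = _ at ha'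
    rw [h2] at ha'
    have : a = 1 := by exact_mod_cast ha'.symm
    subst this
    exact (Nat.not_even_one ha)
  · exact absurd hreal h

/-- A subgroup that is minimal normal and nonabelian lies in every kernel of a linear character. -/
theorem hom_trivial_of_minimal {G : Type u} [Group G] {N : Subgroup G} (hN : N.Normal)
    (hmin : ∀ M : Subgroup G, M.Normal → M ≤ N → M = ⊥ ∨ M = N) (hna : ¬ IsMulCommutative N)
    {A : Type*} [CommGroup A] (f : G →* A) : ∀ n ∈ N, f n = 1 := by
  haveI := hN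
  have hle : ⁅N, N⁆ ≤ f.ker := by
    rw [Subgroup.commutator_le]
    intro a _ b _
    rw [MonoidHom.mem_ker]
    simp [commutatorElement_def]
  rcases hmin ⁅N, N⁆ (Subgroup.commutator_normal N N) (Subgroup.commutator_le_left N N) with h | h
  · exfalso
    apply hna
    refine ⟨⟨fun a b => Subtype.ext ?_⟩⟩
    have h2 : ⁅(a : G), (b : G)⁆ ∈ ⁅N, N⁆ := Subgroup.commutator_mem_commutator a.2 b.2
    rw [h, Subgroup.mem_bot, commutatorElement_eq_one_iff_mul_comm] at h2
    exact h2
  · intro n hn
    rw [h] at hle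
    exact hle hn

end CfsgLib.LinearTwist
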