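import Cfsg.Agent.Lib.Characters.Basic
import Mathlib.RepresentationTheory.Maschke
import Mathlib.RepresentationTheory.Equiv
import Mathlib.LinearAlgebra.Projection
import Mathlib.GroupTheory.GroupAction.ConjAct
import Mathlib.GroupTheory.Rank

/-!
# Complete reducibility, completeness of the irreducible characters, orthogonality
-/

set_option autoImplicit false
set_option linter.style.haveILetI false

namespace CfsgLib.Characters

open Cfsg Representation
open scoped ComplexConjugate

universe u v

variable {G : Type u} [Group G]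
variable {V : Type v} [AddCommGroup V] [Module ℂ V]

/-- Scalar action of a function on a representation. -/
noncomputable def funEnd [Fintype G] (ρ : Representation ℂ G V) (φ : G → ℂ) : Module.End ℂ V :=
  ∑ g : G, φ g • ρ g

theorem funEnd_commute [Fintype G] (ρ : Representation ℂ G V) {φ : G → ℂ}
    (hφ : IsClassFunction G φ) (h : G) : funEnd ρ φ * ρ h = ρ h * funEnd ρ φ := by
  simp only [funEnd, Finset.sum_mul, Finset.mul_sum, smul_mul_assoc, mul_smul_comm, ← map_mul]
  refine Fintype.sum_equiv ((Equiv.mulLeft h⁻¹).trans (Equiv.mulRight h)) _ _ fun g => ?_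
  simp only [Equiv.trans_apply, Equiv.coe_mulLeft, Equiv.coe_mulRight]
  rw [show h⁻¹ * g * h = h⁻¹ * g * h⁻¹⁻¹ by rw [inv_inv], hφ g h⁻¹]
  congr 2; group

/-- Schur: an endomorphism commuting with an irreducible representation is a scalar. -/
theorem schur_scalar [FiniteDimensional ℂ V] (ρ : Representation ℂ G V) [ρ.IsIrreducible]
    (T : Module.End ℂ V) (hT : ∀ g, T * ρ g = ρ g * T) : ∃ c : ℂ, T = c • (1 : Module.End ℂ V) := by
  let f : IntertwiningMap ρ ρ := ⟨T, hT⟩
  obtain ⟨c, hc⟩ := (IsIrreducible.algebraMap_intertwiningMap_bijective_of_isAlgClosed (ρ := ρ) (k := ℂ)).2 f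
  refine ⟨c, LinearMap.ext fun v => ?_⟩
  have := DFunLike.congr_fun hc v
  simpa [f] using this.symm

theorem trace_funEnd [Fintype G] (ρ : Representation ℂ G V) (φ : G → ℂ) :
    LinearMap.trace ℂ V (funEnd ρ φ) = ∑ g : G, φ g * ρ.character g := by
  simp [funEnd, map_sum, Representation.character]

/-- The action of a class function on an irreducible representation. -/
theorem funEnd_eq_smul [Fintype G] [FiniteDimensional ℂ V] (ρ : Representation ℂ G V)
    [ρ.IsIrreducible] {φ : G → ℂ} (hφ : IsClassFunction G φ) :
    funEnd ρ φ =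
      ((∑ g : G, φ g * ρ.character g) / (Module.finrank ℂ V : ℂ)) • (1 : Module.End ℂ V) := by
  obtain ⟨c, hc⟩ := schur_scalar ρ _ (funEnd_commute ρ hφ)
  have hn : (Module.finrank ℂ V : ℂ) ≠ 0 := by
    haveI := ((isIrreducible_iff ρ).mp inferInstance).1
    exact_mod_cast Module.finrank_pos.ne'
  have h := trace_funEnd ρ φ
  rw [hc, map_smul, LinearMap.trace_one, smul_eq_mul] at h
  rw [hc, ← h, mul_div_assoc, div_self hn, mul_one]

/-- The sum of two complementary subrepresentations. -/
noncomputable def equivOfIsCompl (ρ : Representation ℂ G V) (U U' : Subrepresentation ρ)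
    (h : IsCompl U.toSubmodule U'.toSubmodule) :
    (U.toRepresentation.prod U'.toRepresentation).Equiv ρ :=
  Representation.Equiv.mk (Submodule.prodEquivOfIsCompl U.toSubmodule U'.toSubmodule h)
    (fun g => by
      refine LinearMap.ext fun x => ?_
      simp only [LinearMap.coe_comp, LinearEquiv.coe_coe, Function.comp_apply,
        Submodule.coe_prodEquivOfIsCompl', Representation.prod_apply_apply, map_add]
      rfl)

theorem character_of_isCompl [FiniteDimensional ℂ V] (ρ : Representation ℂ G V)
    (U U' : Subrepresentation ρ) (h : IsCompl U.toSubmodule U'.toSubmodule) :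
    ρ.character = U.toRepresentation.character + U'.toRepresentation.character := by
  rw [← Representation.char_iso (equivOfIsCompl ρ U U' h)]
  funext g
  exact LinearMap.trace_prodMap' (U.toRepresentation g) (U'.toRepresentation g)

/-- A representation is zero, irreducible, or a sum of two smaller subrepresentations. -/
theorem rep_trichotomy [Finite G] [FiniteDimensional ℂ V] (ρ : Representation ℂ G V) :
    Subsingleton V ∨ ρ.IsIrreducible ∨ ∃ U U' : Subrepresentation ρ,
      IsCompl U.toSubmodule U'.toSubmodule ∧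
      Module.finrank ℂ U.toSubmodule < Module.finrank ℂ V ∧
      Module.finrank ℂ U'.toSubmodule < Module.finrank ℂ V := by
  rcases subsingleton_or_nontrivial V with hV | hV
  · exact Or.inl hV
  right
  by_cases hirr : ρ.IsIrreducible
  · exact Or.inl hirr
  right
  rw [isIrreducible_iff] at hirr
  push Not at hirr
  obtain ⟨W, hW, hb, ht⟩ := hirr hV
  haveI : NeZero (Nat.card G : ℂ) := ⟨Nat.cast_ne_zero.mpr Nat.card_pos.ne'⟩
  obtain ⟨U', hU'⟩ := exists_isCompl (⟨W, fun g v hv => hW g v hv⟩ : Subrepresentation ρ)
  have hc : IsCompl W U'.toSubmodule :=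
    ⟨disjoint_iff.mpr (congrArg Subrepresentation.toSubmodule hU'.inf_eq_bot),
      codisjoint_iff.mpr (congrArg Subrepresentation.toSubmodule hU'.sup_eq_top)⟩
  refine ⟨⟨W, fun g v hv => hW g v hv⟩, U', hc, Submodule.finrank_lt ht, ?_⟩
  refine Submodule.finrank_lt fun h => hb ?_
  have := hc.inf_eq_bot
  rwa [h, inf_top_eq] at this

/-- Induction over finite-dimensional representations of a finite group. -/
theorem rep_induction [Finite G]
    {P : ∀ (V : Type v) [AddCommGroup V] [Module ℂ V] [FiniteDimensional ℂ V],
      Representation ℂ G V → Prop}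
    (zero : ∀ (V : Type v) [AddCommGroup V] [Module ℂ V] [FiniteDimensional ℂ V]
      (ρ : Representation ℂ G V), Subsingleton V → P V ρ)
    (irred : ∀ (V : Type v) [AddCommGroup V] [Module ℂ V] [FiniteDimensional ℂ V]
      (ρ : Representation ℂ G V), ρ.IsIrreducible → P V ρ)
    (compl : ∀ (V : Type v) [AddCommGroup V] [Module ℂ V] [FiniteDimensional ℂ V]
      (ρ : Representation ℂ G V) (U U' : Subrepresentation ρ),
      IsCompl U.toSubmodule U'.toSubmodule → P U.toSubmodule U.toRepresentation →
      P U'.toSubmodule U'.toRepresentation → P V ρ)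
    (V : Type v) [AddCommGroup V] [Module ℂ V] [FiniteDimensional ℂ V]
    (ρ : Representation ℂ G V) : P V ρ := by
  suffices h : ∀ (n : ℕ) (V : Type v) [AddCommGroup V] [Module ℂ V] [FiniteDimensional ℂ V]
      (ρ : Representation ℂ G V), Module.finrank ℂ V = n → P V ρ from h _ V ρ rfl
  intro n
  induction n using Nat.strong_induction_on with
  | _ n ih =>
    intro V _ _ _ ρ hn
    rcases rep_trichotomy ρ with h | h | ⟨U, U', h, h1, h2⟩
    · exact zero V ρ h
    · exact irred V ρ h
    · exact compl V ρ U U' h (ih _ (hn ▸ h1) _ _ rfl) (ih _ (hn ▸ h2) _ _ rfl)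

/-- Every character is a natural combination of irreducible characters. -/
theorem exists_irr_decomp [Finite G] [FiniteDimensional ℂ V] (ρ : Representation ℂ G V) :
    ∃ m : IrrCharacter G → ℕ, ρ.character = ∑ χ, (m χ : ℂ) • (χ : G → ℂ) := by
  classical
  refine rep_induction (P := fun V _ _ _ ρ =>
    ∃ m : IrrCharacter G → ℕ, ρ.character = ∑ χ, (m χ : ℂ) • (χ : G → ℂ)) ?_ ?_ ?_ V ρ
  · intro V _ _ _ ρ hV
    refine ⟨0, funext fun g => ?_⟩
    simp [Representation.character, Subsingleton.elim (ρ g) 0]
  · intro V _ _ _ ρ hρ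
    refine ⟨fun χ => if χ = ⟨_, isIrrCharacter_character ρ hρ⟩ then 1 else 0, ?_⟩
    simp [ite_smul]
  · rintro V _ _ _ ρ U U' h ⟨m, hm⟩ ⟨m', hm'⟩
    refine ⟨m + m', ?_⟩
    rw [character_of_isCompl ρ U U' h, hm, hm', ← Finset.sum_add_distrib]
    simp [add_smul]

theorem isClassFunction_smul {φ : G → ℂ} (h : IsClassFunction G φ) (c : ℂ) :
    IsClassFunction G (c • φ) := fun a b => by simp [h a b]

theorem isClassFunction_add {φ ψ : G → ℂ} (h : IsClassFunction G φ) (h' : IsClassFunction G ψ) :
    IsClassFunction G (φ + ψ) := fun a b => by simp [h a b, h' a b]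

theorem isClassFunction_sub {φ ψ : G → ℂ} (h : IsClassFunction G φ) (h' : IsClassFunction G ψ) :
    IsClassFunction G (φ - ψ) := fun a b => by simp [h a b, h' a b]

theorem isClassFunction_sum {ι : Type*} (s : Finset ι) {f : ι → G → ℂ}
    (h : ∀ i ∈ s, IsClassFunction G (f i)) : IsClassFunction G (∑ i ∈ s, f i) := fun a b => by
  simp only [Finset.sum_apply]
  exact Finset.sum_congr rfl fun i hi => h i hi a b

theorem isClassFunction_mul {φ ψ : G → ℂ} (h : IsClassFunction G φ) (h' : IsClassFunction G ψ) :
    IsClassFunction G (φ * ψ) := fun a b => by simp [h a b, h' a b]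

theorem isClassFunction_conj {φ : G → ℂ} (h : IsClassFunction G φ) :
    IsClassFunction G (fun g => conj (φ g)) := fun a b => by simp [h a b]

section
variable [Fintype G]

/-- The regular representation pairs with a representation to give its degree. -/
theorem classInner_leftRegular [FiniteDimensional ℂ V] (σ : Representation ℂ G V) :
    classInner σ.character (Representation.leftRegular ℂ G).character =
      (Module.finrank ℂ V : ℂ) := by
  rw [classInner_char_eq_finrank, (leftRegularMapEquiv σ).finrank_eq]

/-- A class function orthogonal to all irreducible characters vanishes. -/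
theorem eq_zero_of_forall_classInner_eq_zero {φ : G → ℂ} (hφ : IsClassFunction G φ)
    (h : ∀ χ : IrrCharacter G, classInner φ (χ : G → ℂ) = 0) : φ = 0 := by
  have hψ : IsClassFunction G (fun g => conj (φ g)) := isClassFunction_conj hφ
  have hsum : ∀ χ : IrrCharacter G, ∑ g : G, conj (φ g) * (χ : G → ℂ) g = 0 := by
    intro χ
    have := h χ
    rw [classInner, mul_eq_zero] at this
    rcases this with h0 | h0
    · simp at h0
    · simpa [map_sum] using congrArg (starRingEnd ℂ) h0
  have key : ∀ (V : Type u) [AddCommGroup V] [Module ℂ V] [FiniteDimensional ℂ V]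
      (ρ : Representation ℂ G V), funEnd ρ (fun g => conj (φ g)) = 0 := by
    intro V _ _ _ ρ
    refine rep_induction (P := fun V _ _ _ ρ => funEnd ρ (fun g => conj (φ g)) = 0) ?_ ?_ ?_ V ρ
    · intro V _ _ _ ρ hV; exact Subsingleton.elim _ _
    · intro V _ _ _ ρ hρ
      rw [funEnd_eq_smul ρ hψ, hsum ⟨_, isIrrCharacter_character ρ hρ⟩]
      simp
    · intro V _ _ _ ρ U U' hc h1 h2
      refine LinearMap.ext fun v => ?_
      obtain ⟨⟨a, b⟩, rfl⟩ := (Submodule.prodEquivOfIsCompl _ _ hc).surjective v
      have e1 := congrArg Subtype.val (LinearMap.congr_fun h1 a)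
      have e2 := congrArg Subtype.val (LinearMap.congr_fun h2 b)
      simp [funEnd, Subrepresentation.toRepresentation] at e1 e2
      simp [funEnd, Submodule.coe_prodEquivOfIsCompl', e1, e2, Finset.sum_add_distrib]
  have h1 := LinearMap.congr_fun (key _ (Representation.leftRegular ℂ G))
    (MonoidAlgebra.single 1 1)
  funext g
  have h2 := congrArg (fun x => MonoidAlgebra.coeff x g) h1
  classical
  simpa [funEnd, MonoidAlgebra.coeff_single, Finsupp.single_apply] using h2

/-- Every class function is the combination of irreducible characters given by inner products. -/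
theorem classFunction_eq_sum {φ : G → ℂ} (hφ : IsClassFunction G φ) :
    φ = ∑ χ : IrrCharacter G, classInner φ (χ : G → ℂ) • (χ : G → ℂ) := by
  classical
  rw [← sub_eq_zero]
  refine eq_zero_of_forall_classInner_eq_zero (isClassFunction_sub hφ
    (isClassFunction_sum _ fun χ _ => isClassFunction_smul (irr_isClassFunction χ) _)) fun ψ => ?_
  rw [classInner_sub_left, classInner_irr_sum, if_pos (Finset.mem_univ _), sub_self]

/-- Parseval for class functions. -/
theorem classInner_eq_sum_mul {φ ψ : G → ℂ} (hψ : IsClassFunction G ψ) :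
    classInner φ ψ =
      ∑ χ : IrrCharacter G, classInner φ (χ : G → ℂ) * conj (classInner ψ (χ : G → ℂ)) := by
  conv_lhs => rw [classFunction_eq_sum hψ]
  simp [classInner_sum_right, classInner_smul_right, mul_comm]

theorem classFunction_ext {φ ψ : G → ℂ} (hφ : IsClassFunction G φ) (hψ : IsClassFunction G ψ)
    (h : ∀ χ : IrrCharacter G, classInner φ (χ : G → ℂ) = classInner ψ (χ : G → ℂ)) : φ = ψ := by
  rw [classFunction_eq_sum hφ, classFunction_eq_sum hψ]
  simp [h]

theorem leftRegular_character [DecidableEq G] (g : G) :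
    (Representation.leftRegular ℂ G).character g = if g = 1 then (Nat.card G : ℂ) else 0 := by
  rw [Representation.character,
    LinearMap.trace_eq_matrix_trace ℂ (MonoidAlgebra.basis G ℂ), Matrix.trace]
  rw [Finset.sum_congr rfl (fun i _ => show
      (LinearMap.toMatrix (MonoidAlgebra.basis G ℂ) (MonoidAlgebra.basis G ℂ)
        (Representation.leftRegular ℂ G g)).diag i = if g = 1 then (1 : ℂ) else 0 by
    rw [Matrix.diag_apply, LinearMap.toMatrix_apply]
    simp [MonoidAlgebra.basis, Finsupp.single_apply, mul_eq_right])]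
  split_ifs <;> simp

theorem leftRegular_eq_sum :
    (Representation.leftRegular ℂ G).character =
      ∑ χ : IrrCharacter G, (χ : G → ℂ) 1 • (χ : G → ℂ) := by
  conv_lhs => rw [classFunction_eq_sum
    (isClassFunction_of_isCharacter (isCharacter_character (Representation.leftRegular ℂ G)))]
  refine Finset.sum_congr rfl fun χ _ => ?_
  obtain ⟨_, n, ρ, hρ, rfl⟩ := χ
  dsimp only
  rw [classInner_conj_symm, classInner_leftRegular, Representation.char_one]
  simp

theorem sum_sq_degrees : ∑ χ : IrrCharacter G, (χ : G → ℂ) 1 ^ 2 = (Nat.card G : ℂ) := by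
  classical
  have := congrFun (leftRegular_eq_sum (G := G)) 1
  rw [leftRegular_character, if_pos rfl] at this
  simp [sq] at this ⊢
  exact this.symm

/-- `∑ χ, χ(1) χ(g) = |G| δ_{g,1}`. -/
theorem sum_degree_mul_irr [DecidableEq G] (g : G) :
    ∑ χ : IrrCharacter G, (χ : G → ℂ) 1 * (χ : G → ℂ) g =
      if g = 1 then (Nat.card G : ℂ) else 0 := by
  rw [← leftRegular_character, leftRegular_eq_sum]
  simp

end

/-! ## Classes -/

/-- Orbit–stabilizer for conjugation. -/
theorem card_isConj_mul_card_centralizer (g : G) :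
    Nat.card {x : G // IsConj g x} * Nat.card (Subgroup.centralizer ({g} : Set G)) = Nat.card G := by
  rw [Subgroup.nat_card_centralizer_nat_card_stabilizer]
  have h : Nat.card {x : G // IsConj g x} = Nat.card (MulAction.orbit (ConjAct G) g) :=
    Nat.card_congr (Equiv.subtypeEquivRight fun x => by
      rw [isConj_comm]; exact ConjAct.mem_orbit_conjAct.symm)
  rw [h, Nat.card_congr (MulAction.orbitEquivQuotientStabilizer (ConjAct G) g)]
  exact (Subgroup.card_eq_card_quotient_mul_card_subgroup _).symm

theorem card_isConj_eq_index [Finite G] (g : G) :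
    Nat.card {x : G // IsConj g x} = (Subgroup.centralizer ({g} : Set G)).index := by
  refine Nat.eq_of_mul_eq_mul_right (Nat.card_pos (α := Subgroup.centralizer ({g} : Set G))) ?_
  rw [card_isConj_mul_card_centralizer, Subgroup.index_mul_card]

/-- Second orthogonality. -/
theorem column_orth [Finite G] (g h : G) [Decidable (IsConj g h)] :
    ∑ χ : IrrCharacter G, (χ : G → ℂ) g * conj ((χ : G → ℂ) h) =
      if IsConj g h then (Nat.card (Subgroup.centralizer ({g} : Set G)) : ℂ) else 0 := by
  classical
  have : Fintype G := Fintype.ofFinite G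
  let δ : G → ℂ := fun x => if IsConj h x then 1 else 0
  have hδ : IsClassFunction G δ := fun a b => by
    have : IsConj a (b * a * b⁻¹) := isConj_iff.mpr ⟨b, rfl⟩
    simp only [δ]
    by_cases hc : IsConj h a
    · rw [if_pos hc, if_pos (hc.trans this)]
    · rw [if_neg hc, if_neg fun h' => hc (h'.trans this.symm)]
  have hin : ∀ χ : IrrCharacter G, classInner δ (χ : G → ℂ) =
      (Nat.card G : ℂ)⁻¹ * (Nat.card {x : G // IsConj h x} : ℂ) * conj ((χ : G → ℂ) h) := by
    intro χ
    simp only [classInner, δ, ite_mul, one_mul, zero_mul, ← Finset.sum_filter, mul_assoc]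
    congr 1
    rw [Finset.sum_congr rfl (fun x hx => by
      rw [← classFunction_eq_of_isConj (irr_isClassFunction χ) (Finset.mem_filter.mp hx).2]),
      Finset.sum_const, nsmul_eq_mul, Nat.card_eq_fintype_card, Fintype.card_subtype]
  have hexp := congrFun (classFunction_eq_sum hδ) g
  simp only [Finset.sum_apply, Pi.smul_apply, smul_eq_mul, hin, mul_assoc, ← Finset.mul_sum] at hexp
  have hcz := card_isConj_mul_card_centralizer h
  have hG : (Nat.card G : ℂ) ≠ 0 := by simp
  have hcomm : ∀ χ : IrrCharacter G,
      (χ : G → ℂ) g * conj ((χ : G → ℂ) h) = conj ((χ : G → ℂ) h) * (χ : G → ℂ) g :=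
    fun χ => mul_comm _ _
  simp only [hcomm]
  have hne : (Nat.card {x : G // IsConj h x} : ℂ) ≠ 0 := by
    haveI : Nonempty {x : G // IsConj h x} := ⟨⟨h, IsConj.refl h⟩⟩
    exact_mod_cast Nat.card_pos.ne'
  by_cases hgh : IsConj g h
  · have hcc : Nat.card {x : G // IsConj h x} = Nat.card {x : G // IsConj g x} :=
      Nat.card_congr (Equiv.subtypeEquivRight fun x => ⟨fun H => hgh.trans H, hgh.symm.trans⟩)
    have hval : δ g = 1 := if_pos hgh.symm
    rw [if_pos hgh]
    rw [hval] at hexp
    rw [hcc] at hexp hne
    rw [← mul_right_inj' hne, ← Nat.cast_mul, card_isConj_mul_card_centralizer]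
    rw [← mul_right_inj' hG, ← mul_assoc, mul_inv_cancel₀ hG] at hexp
    linear_combination (hexp.symm)
  · have hval : δ g = 0 := if_neg fun H => hgh H.symm
    rw [if_neg hgh]
    rw [hval] at hexp
    simpa [hG, hne] using hexp.symm

theorem isConj_iff_irr [Finite G] (g h : G) :
    IsConj g h ↔ ∀ χ : IrrCharacter G, (χ : G → ℂ) g = (χ : G → ℂ) h := by
  classical
  refine ⟨fun H χ => classFunction_eq_of_isConj (irr_isClassFunction χ) H, fun H => ?_⟩
  by_contra hgh
  have h1 := column_orth g h
  have h2 := column_orth h h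
  simp only [H] at h1
  rw [h2, if_pos (IsConj.refl h), if_neg hgh] at h1
  exact (Nat.cast_ne_zero.mpr Nat.card_pos.ne') h1

theorem card_irr_eq_card_conjClasses [Finite G] :
    Nat.card (IrrCharacter G) = Nat.card (ConjClasses G) := by
  classical
  have : Fintype G := Fintype.ofFinite G
  let o : ConjClasses G → G := fun C => Quotient.out C
  let L : (IrrCharacter G → ℂ) →ₗ[ℂ] (ConjClasses G → ℂ) :=
    LinearMap.funLeft ℂ ℂ o ∘ₗ Fintype.linearCombination ℂ
      (fun χ : IrrCharacter G => (χ : G → ℂ))
  have hcl : ∀ c : IrrCharacter G → ℂ,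
      IsClassFunction G (∑ χ, c χ • (χ : G → ℂ)) := fun c =>
    isClassFunction_sum _ fun χ _ => isClassFunction_smul (irr_isClassFunction χ) _
  have hout : ∀ x : G, IsConj x (Quotient.out (ConjClasses.mk x) : G) := fun x =>
    IsConj.symm (ConjClasses.mk_eq_mk_iff_isConj.mp (Quotient.out_eq (ConjClasses.mk x)))
  have hL : Function.Bijective L := by
    refine ⟨?_, fun f => ?_⟩
    · rw [injective_iff_map_eq_zero]
      intro c hc
      have h0 : ∑ χ : IrrCharacter G, c χ • (χ : G → ℂ) = 0 := by
        funext x
        rw [classFunction_eq_of_isConj (hcl c) (hout x)]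
        simpa [L, o, Fintype.linearCombination_apply] using congrFun hc (ConjClasses.mk x)
      funext χ
      exact Fintype.linearIndependent_iff.mp irr_linearIndependent c h0 χ
    · have hf : IsClassFunction G (fun x => f (ConjClasses.mk x)) := fun a b => by
        simp only
        rw [ConjClasses.mk_eq_mk_iff_isConj.mpr (isConj_iff.mpr ⟨b, rfl⟩ : IsConj a (b * a * b⁻¹))]
      refine ⟨fun χ => classInner (fun x => f (ConjClasses.mk x)) (χ : G → ℂ), funext fun C => ?_⟩
      have := (congrFun (classFunction_eq_sum hf) (Quotient.out C)).symm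
      simp only [L, o, LinearMap.coe_comp, Function.comp_apply, LinearMap.funLeft_apply,
        Fintype.linearCombination_apply]
      rw [this]
      exact congrArg f (Quotient.out_eq C)
  have : Finite (ConjClasses G) := Finite.of_surjective _ ConjClasses.mk_surjective
  have := Fintype.ofFinite (ConjClasses G)
  have hfr := (LinearEquiv.ofBijective L hL).finrank_eq
  rw [Module.finrank_pi ℂ, Module.finrank_pi ℂ] at hfr
  rw [Nat.card_eq_fintype_card, Nat.card_eq_fintype_card, hfr]

end CfsgLib.Characters
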