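import Cfsg.Agent.Lib.Characters.Decomp

/-!
# A representation is determined by its character
-/

set_option autoImplicit false
set_option linter.style.haveILetI false

namespace CfsgLib.Characters

open Cfsg Representation

variable {G : Type*} [Group G]

/-- A nonzero representation contains an irreducible subrepresentation with a complement. -/
theorem exists_irreducible_summand [Finite G] {V : Type*} [AddCommGroup V] [Module ℂ V]
    [FiniteDimensional ℂ V] [Nontrivial V] (ρ : Representation ℂ G V) :
    ∃ U U' : Subrepresentation ρ, IsCompl U.toSubmodule U'.toSubmodule ∧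
      U.toRepresentation.IsIrreducible := by
  classical
  have hex : ∃ n, ∃ U : Subrepresentation ρ,
      U.toSubmodule ≠ ⊥ ∧ Module.finrank ℂ U.toSubmodule = n :=
    ⟨_, ⊤, top_ne_bot, rfl⟩
  obtain ⟨U, hU, hn⟩ := Nat.find_spec hex
  haveI : NeZero (Nat.card G : ℂ) := ⟨Nat.cast_ne_zero.mpr Nat.card_pos.ne'⟩
  obtain ⟨U', hU'⟩ := exists_isCompl U
  refine ⟨U, U', ⟨disjoint_iff.mpr (congrArg Subrepresentation.toSubmodule hU'.inf_eq_bot),
    codisjoint_iff.mpr (congrArg Subrepresentation.toSubmodule hU'.sup_eq_top)⟩, ?_⟩
  rw [isIrreducible_iff]
  refine ⟨Submodule.nontrivial_iff_ne_bot.mpr hU, fun X hX => ?_⟩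
  by_contra hc
  push Not at hc
  have hinv : ∀ g : G, ∀ v ∈ X.map U.toSubmodule.subtype, ρ g v ∈ X.map U.toSubmodule.subtype := by
    rintro g v ⟨x, hx, rfl⟩
    exact ⟨_, hX g x hx, rfl⟩
  refine Nat.find_min hex (m := Module.finrank ℂ X) (hn ▸ Submodule.finrank_lt hc.2)
    ⟨⟨X.map U.toSubmodule.subtype, fun g v hv => hinv g v hv⟩, ?_, ?_⟩
  · intro hb
    exact hc.1 (Submodule.map_injective_of_injective U.toSubmodule.subtype_injective
      (hb.trans (Submodule.map_bot _).symm))
  · exact (Submodule.equivMapOfInjective _ U.toSubmodule.subtype_injective X).finrank_eq.symm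

/-- Products of equivalences of representations. -/
noncomputable def prodEquiv {A B A' B' : Type*} [AddCommGroup A] [Module ℂ A] [AddCommGroup B]
    [Module ℂ B] [AddCommGroup A'] [Module ℂ A'] [AddCommGroup B'] [Module ℂ B']
    {α : Representation ℂ G A} {β : Representation ℂ G B} {α' : Representation ℂ G A'}
    {β' : Representation ℂ G B'} (e : α.Equiv α') (f : β.Equiv β') :
    (α.prod β).Equiv (α'.prod β') :=
  Representation.Equiv.mk (e.toLinearEquiv.prodCongr f.toLinearEquiv) (fun g => by
    refine LinearMap.ext fun x => Prod.ext ?_ ?_
    · exact LinearMap.congr_fun (e.toIntertwiningMap.isIntertwining' g) x.1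
    · exact LinearMap.congr_fun (f.toIntertwiningMap.isIntertwining' g) x.2)

/-- Two representations with the same character are equivalent. -/
theorem nonempty_equiv_of_character_eq [Finite G] {V W : Type*} [AddCommGroup V] [Module ℂ V]
    [FiniteDimensional ℂ V] [AddCommGroup W] [Module ℂ W] [FiniteDimensional ℂ W]
    (ρ : Representation ℂ G V) (σ : Representation ℂ G W) (h : ρ.character = σ.character) :
    Nonempty (ρ.Equiv σ) := by
  classical
  have : Fintype G := Fintype.ofFinite G
  induction hn : Module.finrank ℂ V using Nat.strong_induction_on generalizing V W with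
  | _ n ih =>
    subst hn
    have hdim : Module.finrank ℂ V = Module.finrank ℂ W := by
      have := congrFun h 1
      simpa using this
    rcases subsingleton_or_nontrivial V with hV | hV
    · haveI : Subsingleton W :=
        Module.finrank_zero_iff.mp (hdim ▸ Module.finrank_zero_of_subsingleton)
      exact ⟨Representation.Equiv.mk (LinearEquiv.ofSubsingleton V W)
        (fun g => LinearMap.ext fun x => Subsingleton.elim _ _)⟩
    · obtain ⟨U, U', hc, hU⟩ := exists_irreducible_summand ρ
      haveI := hU
      haveI : Nontrivial U.toSubmodule := ((isIrreducible_iff _).mp hU).1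
      have hpos : classInner σ.character U.toRepresentation.character ≠ 0 := by
        rw [← h, character_of_isCompl ρ U U' hc, classInner_add_left,
          classInner_irr_self (isIrrCharacter_character _ hU)]
        obtain ⟨m, hm⟩ := classInner_char_nat (isCharacter_character U'.toRepresentation)
          (isCharacter_character U.toRepresentation)
        rw [hm]
        exact_mod_cast (by omega : 1 + m ≠ 0)
      rw [classInner_char_eq_finrank] at hpos
      haveI : Nontrivial (IntertwiningMap U.toRepresentation σ) :=
        Module.nontrivial_of_finrank_pos (R := ℂ) (Nat.pos_of_ne_zero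
          fun e => hpos (by rw [e, Nat.cast_zero]))
      obtain ⟨f, hf⟩ := exists_ne (0 : IntertwiningMap U.toRepresentation σ)
      have hinj : Function.Injective f :=
        (IsIrreducible.injective_or_eq_zero f).resolve_right hf
      let R : Subrepresentation σ := ⟨LinearMap.range f.toLinearMap, by
        rintro g v ⟨x, rfl⟩
        exact ⟨U.toRepresentation g x, LinearMap.congr_fun (f.isIntertwining' g) x⟩⟩
      haveI : NeZero (Nat.card G : ℂ) := ⟨Nat.cast_ne_zero.mpr Nat.card_pos.ne'⟩
      obtain ⟨R', hR'⟩ := exists_isCompl R
      have hcR : IsCompl R.toSubmodule R'.toSubmodule :=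
        ⟨disjoint_iff.mpr (congrArg Subrepresentation.toSubmodule hR'.inf_eq_bot),
          codisjoint_iff.mpr (congrArg Subrepresentation.toSubmodule hR'.sup_eq_top)⟩
      let e : U.toRepresentation.Equiv R.toRepresentation :=
        Representation.Equiv.mk (LinearEquiv.ofInjective f.toLinearMap hinj) (fun g =>
          LinearMap.ext fun x => Subtype.ext (LinearMap.congr_fun (f.isIntertwining' g) x))
      have hrest : U'.toRepresentation.character = R'.toRepresentation.character := by
        have h2 := h
        rw [character_of_isCompl ρ U U' hc, character_of_isCompl σ R R' hcR,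
          ← Representation.char_iso e] at h2
        exact add_left_cancel h2
      have hlt : Module.finrank ℂ U'.toSubmodule < Module.finrank ℂ V := by
        have hs := Submodule.finrank_add_eq_of_isCompl hc
        have : 0 < Module.finrank ℂ U.toSubmodule := Module.finrank_pos
        omega
      obtain ⟨e'⟩ := ih _ hlt U'.toRepresentation R'.toRepresentation hrest rfl
      exact ⟨(equivOfIsCompl ρ U U' hc).symm.trans
        ((prodEquiv e e').trans (equivOfIsCompl σ R R' hcR))⟩

end CfsgLib.Characters
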