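import Cfsg.Agent.Lib.Characters.QuasiElementary
import Cfsg.Agent.Lib.Characters.Clifford
import Cfsg.Agent.Lib.Characters.Generalized
import Cfsg.Agent.Lib.Characters.Equivalence
import Cfsg.Agent.Lib.Characters.Values
import Cfsg.Agent.Lib.Characters.Counting
import Mathlib.GroupTheory.Nilpotent
import Mathlib.GroupTheory.Complement
import Mathlib.GroupTheory.NoncommCoprod

/-!
# Brauer's induction theorem and the characterization of characters
-/

set_option autoImplicit false
set_option linter.style.haveILetI false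

namespace CfsgLib.Brauer

open Cfsg Representation CfsgLib.Characters CfsgLib.Induction
open scoped ComplexConjugate

universe u

variable {G : Type u} [Group G] [Fintype G]

/-- Functions induced from linear characters of elementary subgroups. -/
def brauerGen (G : Type u) [Group G] [Fintype G] : Set (G → ℂ) :=
  {f | ∃ (E : Subgroup G) (p : ℕ) (l : E →* ℂˣ),
    p.Prime ∧ IsElementary p E ∧ f = indFun E (fun e => (l e : ℂ))}

/-- Their integral span. -/
noncomputable def brauerSpan (G : Type u) [Group G] [Fintype G] : AddSubgroup (G → ℂ) :=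
  AddSubgroup.closure (brauerGen G)

/-- Functions induced from characters of proper subgroups. -/
def properGen (G : Type u) [Group G] [Fintype G] : Set (G → ℂ) :=
  {f | ∃ H : Subgroup G, H ≠ ⊤ ∧ ∃ θ : H → ℂ, IsCharacter H θ ∧ f = indFun H θ}

/-- Their integral span. -/
noncomputable def properInd (G : Type u) [Group G] [Fintype G] : AddSubgroup (G → ℂ) :=
  AddSubgroup.closure (properGen G)

theorem properInd_mul {f : G → ℂ} (hf : f ∈ properInd G) {χ : G → ℂ} (hχ : IsCharacter G χ) :
    f * χ ∈ properInd G := by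
  induction hf using AddSubgroup.closure_induction with
  | mem x hx =>
    obtain ⟨H, hH, θ, hθ, rfl⟩ := hx
    refine AddSubgroup.subset_closure ⟨H, hH, fun h => θ h * χ h, ?_,
      indFun_mul H (CfsgLib.Characters.isClassFunction_of_isCharacter hχ) θ⟩
    exact isCharacter_mul hθ (CfsgLib.Clifford.isCharacter_subtype hχ H)
  | zero => rw [zero_mul]; exact zero_mem _
  | add a b _ _ ha hb => rw [add_mul]; exact add_mem ha hb
  | neg a _ ha => rw [neg_mul]; exact neg_mem ha

theorem indFun_congr {H H' : Subgroup G} (h : H = H') {θ : H → ℂ} {θ' : H' → ℂ}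
    (hθ : ∀ (g : G) (hg : g ∈ H) (hg' : g ∈ H'), θ ⟨g, hg⟩ = θ' ⟨g, hg'⟩) :
    indFun H θ = indFun H' θ' := by
  subst h
  exact congrArg (indFun H) (funext fun x => hθ x x.2 x.2)

theorem isElementary_congr {p : ℕ} {E F : Type u} [Group E] [Group F] (e : E ≃* F)
    (h : IsElementary p E) : IsElementary p F := by
  obtain ⟨x, hx, hcop, k, hk⟩ := h
  refine ⟨e x, ?_, by rwa [e.orderOf_eq], k, ?_⟩
  · rw [Subgroup.mem_center_iff] at hx ⊢
    intro y
    obtain ⟨z, rfl⟩ := e.surjective y
    rw [← map_mul, ← map_mul, hx z]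
  · rw [← hk, ← Subgroup.index_map_equiv (Subgroup.zpowers x) e, MonoidHom.map_zpowers]
    rfl

/-- Induction maps the Brauer span of a subgroup into that of the group. -/
theorem indFun_mem_brauerSpan {H : Subgroup G} [Fintype H] {f : H → ℂ} (hf : f ∈ brauerSpan H) :
    indFun H f ∈ brauerSpan G := by
  induction hf using AddSubgroup.closure_induction with
  | mem x hx =>
    obtain ⟨E, p, l, hp, hE, rfl⟩ := hx
    refine AddSubgroup.subset_closure ⟨E.map H.subtype, p,
      l.comp (E.equivMapOfInjective H.subtype H.subtype_injective).symm.toMonoidHom, hp,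
      isElementary_congr (E.equivMapOfInjective H.subtype H.subtype_injective) hE, ?_⟩
    rw [← indFun_trans (Subgroup.map_subtype_le E)]
    congr 1
    refine indFun_congr (Subgroup.comap_map_eq_self_of_injective H.subtype_injective E).symm
      fun g hg hg' => ?_
    have : (E.equivMapOfInjective H.subtype H.subtype_injective).symm ⟨(g : G), hg'⟩ = ⟨g, hg⟩ :=
      (MulEquiv.symm_apply_eq _).mpr (Subtype.ext rfl)
    simp [this]
  | zero =>
    have h0 : indFun H (0 : H → ℂ) = 0 := map_zero (indLinear H)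
    rw [h0]; exact zero_mem _
  | add a b _ _ ha hb => rw [indFun_add]; exact add_mem ha hb
  | neg a _ ha =>
    have h0 : indFun H (-a) = -indFun H a := map_neg (indLinear H) a
    rw [h0]; exact neg_mem ha

/-- Permutation characters without fixed points lie in `properInd`. -/
theorem permFun_mem_properInd {f : G → ℤ} (hf : f ∈ properPermFun G) :
    (fun g => (f g : ℂ)) ∈ properInd G := by
  classical
  obtain ⟨X, aX, hX, hs, rfl⟩ := hf
  letI := aX
  haveI := Fintype.ofFinite X
  let Ω := Quotient (MulAction.orbitRel G X)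
  haveI : Fintype Ω := Fintype.ofFinite _
  let F : (Σ ω : Ω, G ⧸ MulAction.stabilizer G ω.out) → X := fun a => a.2.out • a.1.out
  have hF : Function.Bijective F := by
    refine ⟨fun ⟨ω, q⟩ ⟨ω', q'⟩ h => ?_, fun x => ?_⟩
    · have hω : ω = ω' := by
        rw [← ω.out_eq, ← ω'.out_eq]
        refine Quotient.sound ?_
        refine MulAction.orbitRel_apply.mpr ⟨q.out⁻¹ * q'.out, ?_⟩
        simp only [F] at h
        show (q.out⁻¹ * q'.out) • ω'.out = ω.out
        rw [mul_smul, ← h, inv_smul_smul]
      subst hω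
      refine Sigma.ext rfl (heq_of_eq ?_)
      rw [← q.out_eq', ← q'.out_eq', QuotientGroup.eq, MulAction.mem_stabilizer_iff, mul_smul]
      simp only [F] at h
      rw [← h, inv_smul_smul]
    · obtain ⟨g, hg⟩ : x ∈ MulAction.orbit G (Quotient.mk (MulAction.orbitRel G X) x).out :=
        MulAction.orbitRel_apply.mp (Quotient.exact (Quotient.out_eq _).symm)
      refine ⟨⟨Quotient.mk _ x, QuotientGroup.mk g⟩, ?_⟩
      obtain ⟨h0, he⟩ := QuotientGroup.mk_out_eq_mul
        (MulAction.stabilizer G (Quotient.mk (MulAction.orbitRel G X) x).out) g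
      simp only [F]
      rw [he, mul_smul, show ((h0 : G) • _) = _ from MulAction.mem_stabilizer_iff.mp h0.2]
      exact hg
  have key : (fun g => ((Nat.card (MulAction.fixedBy X g) : ℤ) : ℂ)) =
      ∑ ω : Ω, indFun (MulAction.stabilizer G ω.out) (fun _ => (1 : ℂ)) := by
    funext g
    rw [Finset.sum_apply, Int.cast_natCast, Nat.card_eq_fintype_card,
      show Fintype.card (MulAction.fixedBy X g) = (Finset.univ.filter fun x : X => g • x = x).card
        from Fintype.card_subtype _, Finset.card_filter, Nat.cast_sum,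
      ← hF.sum_comp, Fintype.sum_sigma]
    refine Finset.sum_congr rfl fun ω _ => ?_
    rw [indFun_eq_sum_quotient _ (fun _ _ => rfl)]
    refine Finset.sum_congr rfl fun q _ => ?_
    have hiff : q.out⁻¹ * g * q.out ∈ MulAction.stabilizer G ω.out ↔ g • F ⟨ω, q⟩ = F ⟨ω, q⟩ := by
      rw [MulAction.mem_stabilizer_iff, mul_smul, mul_smul, inv_smul_eq_iff]
    by_cases hm : q.out⁻¹ * g * q.out ∈ MulAction.stabilizer G ω.out
    · rw [extendByZero_mem _ _ hm, if_pos (hiff.mp hm)]; norm_num
    · rw [extendByZero_notMem _ _ hm, if_neg (hm ∘ hiff.mpr)]; norm_num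
  rw [key]
  exact AddSubgroup.sum_mem _ fun ω _ => AddSubgroup.subset_closure
    ⟨_, hs _, _, CfsgLib.Induction.isCharacter_const_one, rfl⟩

theorem one_mem_properInd_of_not_qe (hG : ∀ p : ℕ, p.Prime → ¬ IsQE p G) :
    (1 : G → ℂ) ∈ properInd G := by
  have h := one_mem_closure_properPermFun hG
  have hmap : ∀ f ∈ AddSubgroup.closure (properPermFun G), (fun g => (f g : ℂ)) ∈ properInd G := by
    intro f hf
    induction hf using AddSubgroup.closure_induction with
    | mem x hx => exact permFun_mem_properInd hx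
    | zero => simp only [Pi.zero_apply, Int.cast_zero]; exact zero_mem _
    | add a b _ _ ha hb =>
      simp only [Pi.add_apply, Int.cast_add]; exact add_mem ha hb
    | neg a _ ha => simp only [Pi.neg_apply, Int.cast_neg]; exact neg_mem ha
  have h1 := hmap _ h
  simp only [Pi.one_apply, Int.cast_one] at h1
  exact h1

/-- An irreducible character is induced from a proper subgroup, or a normal subgroup with
commutative image acts by scalars. -/
theorem mem_properInd_or_scalar {n : ℕ} (ρ : Representation ℂ G (Fin n → ℂ))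
    (hρ : ρ.IsIrreducible) (A : Subgroup G) (hA : A.Normal)
    (hcomm : ∀ a ∈ A, ∀ b ∈ A, ρ a * ρ b = ρ b * ρ a) :
    ρ.character ∈ properInd G ∨
      ∀ a ∈ A, ∃ c : ℂ, ρ a = c • (LinearMap.id : (Fin n → ℂ) →ₗ[ℂ] (Fin n → ℂ)) := by
  classical
  haveI := hρ
  haveI : Nontrivial (Fin n → ℂ) := ((isIrreducible_iff ρ).mp hρ).1
  let σ : Representation ℂ A (Fin n → ℂ) := ρ.comp A.subtype
  obtain ⟨U, U', hc, hU⟩ := exists_irreducible_summand σ
  haveI := hU
  haveI : Nontrivial U.toSubmodule := ((isIrreducible_iff _).mp hU).1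
  have hscal : ∀ a : A, ∃ c : ℂ, U.toRepresentation a = c • (1 : Module.End ℂ U.toSubmodule) := by
    intro a
    refine schur_scalar U.toRepresentation _ fun b => LinearMap.ext fun v => Subtype.ext ?_
    exact LinearMap.congr_fun (hcomm a a.2 b b.2) (v : Fin n → ℂ)
  have hdim : Module.finrank ℂ U.toSubmodule = 1 := by
    obtain ⟨v, hv⟩ := exists_ne (0 : U.toSubmodule)
    rcases ((isIrreducible_iff _).mp hU).2 (Submodule.span ℂ {v}) (fun a w hw => by
      obtain ⟨c, hc⟩ := hscal a
      rw [hc]
      exact Submodule.smul_mem _ c hw) with h | h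
    · exact absurd (Submodule.span_singleton_eq_bot.mp h) hv
    · rw [← finrank_top ℂ U.toSubmodule, ← h, finrank_span_singleton hv]
  set θ := U.toRepresentation.character with hθdef
  have hθ : IsIrrCharacter A θ := isIrrCharacter_character _ hU
  have hθ1 : θ 1 = 1 := by rw [hθdef, Representation.char_one, hdim, Nat.cast_one]
  have hin : classInner (fun a : A => ρ.character a) θ ≠ 0 := by
    rw [show (fun a : A => ρ.character a) = σ.character from rfl, character_of_isCompl σ U U' hc,
      classInner_add_left, classInner_irr_self hθ]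
    obtain ⟨m, hm⟩ := classInner_char_nat (isCharacter_character U'.toRepresentation)
      (isCharacter_character U.toRepresentation)
    rw [hm]
    exact_mod_cast (by omega : 1 + m ≠ 0)
  have hχ : IsIrrCharacter G ρ.character := ⟨n, ρ, hρ, rfl⟩
  by_cases hT : CfsgLib.Clifford.inertia hA θ = ⊤
  · right
    intro a ha
    refine (norm_char_eq_iff_scalar ρ a).mp ?_
    have hcl := CfsgLib.Clifford.clifford hA hχ hθ hin
    have horb : (CfsgLib.Clifford.conjOrbit_finite hA θ).toFinset = {θ} := by
      refine Finset.eq_singleton_iff_unique_mem.2 ⟨?_, ?_⟩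
      · exact (Set.Finite.mem_toFinset _).2 ⟨1, (CfsgLib.Clifford.conjChar_one hA θ).symm⟩
      · intro ψ hψ
        obtain ⟨t, rfl⟩ := (Set.Finite.mem_toFinset _).1 hψ
        exact (hT ▸ Subgroup.mem_top t : t ∈ CfsgLib.Clifford.inertia hA θ)
    rw [horb, Finset.sum_singleton] at hcl
    have h1 := congrFun hcl 1
    have h2 := congrFun hcl ⟨a, ha⟩
    simp only [Pi.smul_apply, smul_eq_mul, hθ1, mul_one, Subgroup.coe_one,
      Representation.char_one] at h1
    simp only [Pi.smul_apply, smul_eq_mul, ← h1] at h2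
    obtain ⟨ω, _, hω, hsum⟩ := exists_eigenvalues U.toRepresentation ⟨a, ha⟩
    rw [h2, norm_mul, Complex.norm_natCast, hθdef, hsum]
    haveI : Unique (Fin (Module.finrank ℂ U.toSubmodule)) := by rw [hdim]; infer_instance
    rw [Fintype.sum_unique, hω, mul_one]
  · left
    obtain ⟨ψ, hψ, hind, _⟩ := CfsgLib.Clifford.correspondence hA hθ
      (CfsgLib.Clifford.inertia hA θ) rfl
      (CfsgLib.Clifford.le_inertia hA
        (CfsgLib.Characters.isClassFunction_of_isCharacter (isCharacter_of_irr hθ))) hχ hin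
    rw [← hind]
    exact AddSubgroup.subset_closure ⟨_, hT, ψ, isCharacter_of_irr hψ, rfl⟩

omit [Fintype G] in
theorem normal_of_le_center {H : Subgroup G} (h : H ≤ Subgroup.center G) : H.Normal :=
  ⟨fun n hn g => by
    rw [Subgroup.mem_center_iff.mp (h hn) g, mul_inv_cancel_right]; exact hn⟩

theorem indFun_top_eq {χ : G → ℂ} (h : IsClassFunction G χ) :
    indFun (⊤ : Subgroup G) (fun x => χ x) = χ := by
  funext g
  rw [indFun_apply, Subgroup.card_top]
  have : ∀ x : G, extendByZero (⊤ : Subgroup G) (fun x => χ x) (x⁻¹ * g * x) = χ g := fun x => by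
    rw [extendByZero_mem _ _ (Subgroup.mem_top _)]
    simpa using h g x⁻¹
  rw [Finset.sum_congr rfl fun x _ => this x, Finset.sum_const, Finset.card_univ, nsmul_eq_mul,
    ← Nat.card_eq_fintype_card, inv_mul_cancel_left₀ natCard_ne_zero']

/-- Irreducible characters of elementary groups: linear or induced from a proper subgroup. -/
theorem mem_of_elementary {p : ℕ} (hp : p.Prime) (hE : IsElementary p G) {χ : G → ℂ}
    (hχ : IsIrrCharacter G χ) : χ ∈ properInd G ∨ χ ∈ brauerGen G := by
  classical
  obtain ⟨n, ρ, hρ, rfl⟩ := hχ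
  haveI := hρ
  haveI : Nontrivial (Fin n → ℂ) := ((isIrreducible_iff ρ).mp hρ).1
  haveI := Fact.mk hp
  obtain ⟨x, hx, _, k, hk⟩ := hE
  have hxn : (Subgroup.zpowers x).Normal :=
    normal_of_le_center (Subgroup.zpowers_le.mpr hx)
  haveI : Group.IsNilpotent G := by
    haveI : Group.IsNilpotent (G ⧸ Subgroup.zpowers x) :=
      (IsPGroup.of_card (p := p) (n := k) (by rw [← Subgroup.index_eq_card, hk])).isNilpotent
    exact Subgroup.isNilpotent_of_ker_le_center (QuotientGroup.mk' (Subgroup.zpowers x))
      (by rw [QuotientGroup.ker_mk']; exact Subgroup.zpowers_le.mpr hx)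
  let r := ρ.asGroupHom
  let Z : Subgroup G := (Subgroup.center r.range).comap r.rangeRestrict
  have hZ : ∀ g : G, g ∈ Z ↔ ∀ h : G, ρ g * ρ h = ρ h * ρ g := by
    intro g
    simp only [Z, Subgroup.mem_comap, Subgroup.mem_center_iff]
    constructor
    · intro H h
      have := congrArg (fun z : r.range => ((z : (Module.End ℂ (Fin n → ℂ))ˣ) : Module.End ℂ (Fin n → ℂ)))
        (H (r.rangeRestrict h))
      simp only [MonoidHom.coe_rangeRestrict, Subgroup.coe_mul, Units.val_mul] at this
      exact this.symm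
    · rintro H ⟨_, h, rfl⟩
      exact Subtype.ext (Units.ext (H h).symm)
  by_cases hZt : Z = ⊤
  · right
    have hall : ∀ g, ∃ c : ℂ, ρ g = c • (1 : Module.End ℂ (Fin n → ℂ)) := fun g =>
      schur_scalar ρ _ ((hZ g).mp (hZt ▸ Subgroup.mem_top g))
    have hn : Module.finrank ℂ (Fin n → ℂ) = 1 := by
      obtain ⟨v, hv⟩ := exists_ne (0 : Fin n → ℂ)
      rcases ((isIrreducible_iff ρ).mp hρ).2 (Submodule.span ℂ {v}) (fun a w hw => by
        obtain ⟨c, hc⟩ := hall a
        rw [hc]
        exact Submodule.smul_mem _ c hw) with h | h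
      · exact absurd (Submodule.span_singleton_eq_bot.mp h) hv
      · rw [← finrank_top ℂ (Fin n → ℂ), ← h, finrank_span_singleton hv]
    obtain ⟨f, hf⟩ := exists_linearIrr_eq ⟨ρ.character, n, ρ, hρ, rfl⟩
      (show ρ.character 1 = 1 by rw [Representation.char_one, hn, Nat.cast_one])
    have hf' : ∀ g, (f g : ℂ) = ρ.character g := fun g =>
      congrFun (congrArg Subtype.val hf) g
    refine ⟨⊤, p, f.comp (⊤ : Subgroup G).subtype, hp,
      isElementary_congr (Subgroup.topEquiv (G := G)).symm ⟨x, hx, ‹_›, k, hk⟩, ?_⟩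
    simp only [MonoidHom.coe_comp, Subgroup.coe_subtype, Function.comp_apply, hf']
    exact (indFun_top_eq (CfsgLib.Characters.isClassFunction_of_isCharacter
      ⟨n, ρ, rfl⟩)).symm
  · left
    haveI : Nontrivial (G ⧸ Z) := QuotientGroup.nontrivial_iff.mpr hZt
    obtain ⟨z, hz⟩ : ∃ z : G ⧸ Z, z ∈ Subgroup.center (G ⧸ Z) ∧ z ≠ 1 := by
      haveI : Nontrivial (Subgroup.center (G ⧸ Z)) :=
        (Subgroup.nontrivial_iff_ne_bot _).mpr (Group.IsNilpotent.center_ne_bot _)
      obtain ⟨z, hz⟩ := exists_ne (1 : Subgroup.center (G ⧸ Z))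
      exact ⟨z, z.2, fun h => hz (Subtype.ext h)⟩
    obtain ⟨g, rfl⟩ := QuotientGroup.mk_surjective z
    let A : Subgroup G := (Subgroup.zpowers (QuotientGroup.mk g : G ⧸ Z)).comap (QuotientGroup.mk' Z)
    haveI : (Subgroup.zpowers (QuotientGroup.mk g : G ⧸ Z)).Normal :=
      normal_of_le_center (Subgroup.zpowers_le.mpr hz.1)
    have hA : A.Normal := Subgroup.Normal.comap inferInstance _
    have hmemA : ∀ a ∈ A, ∃ (i : ℤ), (g ^ i)⁻¹ * a ∈ Z := by
      intro a ha
      obtain ⟨i, hi⟩ := Subgroup.mem_zpowers_iff.mp ha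
      refine ⟨i, (QuotientGroup.eq (s := Z)).mp ?_⟩
      rw [QuotientGroup.mk_zpow]
      exact hi
    have hcomm : ∀ a ∈ A, ∀ b ∈ A, ρ a * ρ b = ρ b * ρ a := by
      intro a ha b hb
      obtain ⟨i, hi⟩ := hmemA a ha
      obtain ⟨j, hj⟩ := hmemA b hb
      obtain ⟨w, hw, rfl⟩ : ∃ w ∈ Z, a = g ^ i * w := ⟨_, hi, by group⟩
      obtain ⟨w', hw', rfl⟩ : ∃ w' ∈ Z, b = g ^ j * w' := ⟨_, hj, by group⟩
      have hij : Commute (ρ (g ^ i)) (ρ (g ^ j)) := by
        show ρ (g ^ i) * ρ (g ^ j) = ρ (g ^ j) * ρ (g ^ i)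
        rw [← map_mul, ← map_mul, (Commute.zpow_zpow_self g i j).eq]
      have c1 : ∀ h : G, Commute (ρ w) (ρ h) := (hZ w).mp hw
      have c2 : ∀ h : G, Commute (ρ w') (ρ h) := (hZ w').mp hw'
      rw [map_mul ρ (g ^ i) w, map_mul ρ (g ^ j) w']
      exact ((hij.mul_right (c2 (g ^ i)).symm).mul_left
        ((c1 (g ^ j)).mul_right (c2 w).symm)).eq
    rcases mem_properInd_or_scalar ρ hρ A hA hcomm with h | h
    · exact h
    · exfalso
      obtain ⟨c, hc⟩ := h g (Subgroup.mem_zpowers _)
      refine hz.2 ((QuotientGroup.eq_one_iff g).mpr ((hZ g).mpr fun h' => ?_))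
      rw [hc]; ext v; simp

/-- In a quasi-elementary group that is not elementary, one is induced from proper subgroups. -/
theorem one_mem_properInd_of_qe {p : ℕ} (hp : p.Prime) (x : G) (hn : (Subgroup.zpowers x).Normal)
    (hcop : (orderOf x).Coprime p) {k : ℕ} (hk : (Subgroup.zpowers x).index = p ^ k)
    (hx : x ∉ Subgroup.center G) : (1 : G → ℂ) ∈ properInd G := by
  classical
  haveI := Fact.mk hp
  haveI := hn
  set C := Subgroup.zpowers x with hCdef
  have hCcard : Nat.card C = orderOf x := Nat.card_zpowers x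
  let P : Sylow p G := default
  have hPcard : Nat.card (P : Subgroup G) = p ^ k := by
    rw [P.card_eq_multiplicity, ← C.card_mul_index, hk, hCcard,
      Nat.factorization_mul (orderOf_pos x).ne' (pow_ne_zero _ hp.ne_zero), hp.factorization_pow,
      Finsupp.add_apply, Finsupp.single_eq_same, Nat.factorization_eq_zero_of_not_dvd
        ((hp.coprime_iff_not_dvd).mp hcop.symm), zero_add]
  have hCP : Subgroup.IsComplement' C (P : Subgroup G) :=
    Subgroup.isComplement'_of_coprime (by rw [hPcard, ← hk]; exact C.card_mul_index)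
      (by rw [hCcard, hPcard]; exact hcop.pow_right k)
  have hbij : Function.Bijective (fun a : C × (P : Subgroup G) => (a.1 : G) * a.2) := hCP
  have hCcomm : ∀ a ∈ C, ∀ b ∈ C, a * b = b * a := by
    intro a ha b hb
    obtain ⟨i, rfl⟩ := Subgroup.mem_zpowers_iff.mp ha
    obtain ⟨j, rfl⟩ := Subgroup.mem_zpowers_iff.mp hb
    exact (Commute.zpow_zpow_self x i j).eq
  -- the elementary subgroup
  let Z : Subgroup G := C ⊓ Subgroup.centralizer (P : Set G)
  let e : Z × (P : Subgroup G) →* G :=
    MonoidHom.noncommCoprod Z.subtype (P : Subgroup G).subtype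
      (fun z u => ((Subgroup.mem_centralizer_iff.mp z.2.2) u u.2).symm)
  let E : Subgroup G := e.range
  have he : ∀ a, e a = (a.1 : G) * a.2 := fun a => rfl
  have heinj : Function.Injective e := fun a b h => by
    have := hbij.1 (a₁ := (⟨a.1, a.1.2.1⟩, a.2)) (a₂ := (⟨b.1, b.1.2.1⟩, b.2)) h
    exact Prod.ext (Subtype.ext (congrArg (fun q => (q.1 : G)) this)) (congrArg Prod.snd this :)
  have hEne : E ≠ ⊤ := by
    intro hE
    apply hx
    have hxZ : x ∈ Z := by
      obtain ⟨a, ha⟩ : x ∈ E := hE ▸ Subgroup.mem_top x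
      have := hbij.1 (a₁ := (⟨a.1, a.1.2.1⟩, a.2)) (a₂ := (⟨x, Subgroup.mem_zpowers x⟩, 1))
        (by simpa [he] using ha)
      rw [← show (a.1 : G) = x from congrArg (fun q => (q.1 : G)) this]
      exact a.1.2
    rw [Subgroup.mem_center_iff]
    intro g
    obtain ⟨⟨c, u⟩, rfl⟩ := hbij.2 g
    have h1 : Commute (c : G) x := hCcomm c c.2 x (Subgroup.mem_zpowers x)
    have h2 : Commute (u : G) x := (Subgroup.mem_centralizer_iff.mp hxZ.2) u u.2
    exact (h1.mul_left h2).eq
  -- sums
  have hsumG : ∀ f : G → ℂ, ∑ g, f g = ∑ c : C, ∑ u : (P : Subgroup G), f (c * u) := fun f => by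
    rw [← hbij.sum_comp, Fintype.sum_prod_type]
  have hsumE : ∀ f : G → ℂ, ∑ g : E, f g = ∑ z : Z, ∑ u : (P : Subgroup G), f (z * u) := fun f => by
    rw [← (MonoidHom.ofInjective heinj).bijective.sum_comp, Fintype.sum_prod_type]
    rfl
  have hone : classInner (indFun E (fun _ => (1 : ℂ))) (fun _ => (1 : ℂ)) = 1 := by
    rw [classInner_indFun E _ (fun _ _ => rfl)]
    simp [classInner]
  have key : ∀ θ : IrrCharacter G, θ ≠ principalIrr G →
      classInner (indFun E (fun _ => (1 : ℂ))) (θ : G → ℂ) ≠ 0 → (θ : G → ℂ) ∈ properInd G := by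
    rintro ⟨_, n, ρ, hρ, rfl⟩ hne hm
    haveI := hρ
    haveI : Nontrivial (Fin n → ℂ) := ((isIrreducible_iff ρ).mp hρ).1
    rcases mem_properInd_or_scalar ρ hρ C hn (fun a ha b hb => by
      rw [← map_mul, ← map_mul, hCcomm a ha b hb]) with h | h
    · exact h
    exfalso
    choose lam hlam using h
    have hmul : ∀ (c : C) (g : G), ρ.character (c * g) = lam c c.2 * ρ.character g := by
      intro c g
      simp only [Representation.character, map_mul]
      rw [hlam c c.2, smul_mul_assoc, map_smul, smul_eq_mul]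
      rfl
    rw [classInner_indFun E _ (fun a b => ρ.char_conj a b)] at hm
    have hS : ∑ g : E, ρ.character g ≠ 0 := by
      intro h0
      apply hm
      simp [classInner, ← map_sum, h0]
    rw [hsumE] at hS
    simp only [show ∀ (z : Z) (u : G), ρ.character ((z : G) * u) = lam z z.2.1 * ρ.character u from
      fun z u => hmul ⟨z, z.2.1⟩ u, ← Finset.mul_sum, ← Finset.sum_mul] at hS
    obtain ⟨hS1, hS2⟩ := mul_ne_zero_iff.mp hS
    have hlmul : ∀ (a b : G) (ha : a ∈ C) (hb : b ∈ C) (hab : a * b ∈ C),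
        lam (a * b) hab = lam a ha * lam b hb := by
      intro a b ha hb hab
      have h1 := hlam (a * b) hab
      rw [map_mul, hlam a ha, hlam b hb] at h1
      have h2 := congrArg (LinearMap.trace ℂ (Fin n → ℂ)) h1
      have hn0 : (Module.finrank ℂ (Fin n → ℂ) : ℂ) ≠ 0 :=
        Nat.cast_ne_zero.mpr Module.finrank_pos.ne'
      rw [smul_mul_smul_comm, map_smul, map_smul, show (LinearMap.id : (Fin n → ℂ) →ₗ[ℂ] _) *
        LinearMap.id = LinearMap.id from rfl, LinearMap.trace_id, smul_eq_mul, smul_eq_mul] at h2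
      exact (mul_right_cancel₀ hn0 h2).symm
    have hlZ : ∀ (z : G) (hz : z ∈ Z), lam z hz.1 = 1 := by
      intro z hz
      have hinv : lam z hz.1 * ∑ y : Z, lam y y.2.1 = ∑ y : Z, lam y y.2.1 := by
        rw [Finset.mul_sum]
        exact Fintype.sum_equiv (Equiv.mulLeft (⟨z, hz⟩ : Z)) _ _ fun y =>
          (hlmul z y hz.1 y.2.1 _).symm
      by_contra hne1
      exact hS1 (by
        have : (lam z hz.1 - 1) * ∑ y : Z, lam y y.2.1 = 0 := by rw [sub_mul, hinv, one_mul, sub_self]
        exact (mul_eq_zero.mp this).resolve_left (sub_ne_zero.mpr hne1))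
    have hl1 : ∀ (c : G) (hc : c ∈ C), lam c hc = 1 := by
      intro c hc
      let X := {y : C // lam y y.2 = lam c hc}
      have hconj : ∀ (u : G) (y : G) (hy : y ∈ C), lam (u * y * u⁻¹) (hn.conj_mem y hy u) = lam y hy := by
        intro u y hy
        have h1 := hlam (u * y * u⁻¹) (hn.conj_mem y hy u)
        have h2 := congrArg (LinearMap.trace ℂ (Fin n → ℂ)) h1
        have h3 := ρ.char_conj y u
        rw [Representation.character, Representation.character, hlam y hy, h1, map_smul, map_smul,
          LinearMap.trace_id, smul_eq_mul, smul_eq_mul] at h3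
        exact mul_right_cancel₀ (Nat.cast_ne_zero.mpr Module.finrank_pos.ne') h3
      letI : MulAction (P : Subgroup G) X :=
        { smul := fun u y => ⟨⟨u * y.1 * (u : G)⁻¹, hn.conj_mem _ y.1.2 u⟩,
            (hconj u y.1 y.1.2).trans y.2⟩
          one_smul := fun y => Subtype.ext (Subtype.ext (by
            show ((1 : (P : Subgroup G)) : G) * y.1 * ((1 : (P : Subgroup G)) : G)⁻¹ = y.1
            simp))
          mul_smul := fun a b y => Subtype.ext (Subtype.ext (by
            show ((a * b : (P : Subgroup G)) : G) * y.1 * ((a * b : (P : Subgroup G)) : G)⁻¹ =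
              (a : G) * ((b : G) * y.1 * (b : G)⁻¹) * (a : G)⁻¹
            simp [mul_assoc])) }
      let K : Subgroup C :=
        { carrier := {y | lam y y.2 = 1}
          one_mem' := by
            show lam ((1 : C) : G) (1 : C).2 = 1
            exact hlZ 1 Z.one_mem
          mul_mem' := fun {a b} ha hb => by
            show lam ((a : G) * (b : G)) (C.mul_mem a.2 b.2) = 1
            rw [hlmul a b a.2 b.2 (C.mul_mem a.2 b.2), show lam (a : G) a.2 = 1 from ha,
              show lam (b : G) b.2 = 1 from hb, one_mul]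
          inv_mem' := fun {a} ha => by
            show lam ((a : G)⁻¹) (C.inv_mem a.2) = 1
            have := hlmul a (a : G)⁻¹ a.2 (C.inv_mem a.2) (by simp)
            rw [show lam (a : G) a.2 = 1 from ha, one_mul] at this
            rw [← this]
            convert hlZ 1 Z.one_mem using 2
            simp }
      have hcardX : Nat.card X = Nat.card K := by
        refine (Nat.card_congr (Equiv.subtypeEquiv (Equiv.mulLeft (⟨c, hc⟩ : C)) fun y => ?_)).symm
        show lam y y.2 = 1 ↔ lam (c * y) (C.mul_mem hc y.2) = lam c hc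
        rw [hlmul c y hc y.2 (C.mul_mem hc y.2)]
        refine ⟨fun h => by rw [h, mul_one], fun h => ?_⟩
        refine mul_left_cancel₀ (fun h0 => ?_) (h.trans (mul_one _).symm)
        have := hlmul c c⁻¹ hc (C.inv_mem hc) (by simp)
        rw [h0, zero_mul] at this
        refine one_ne_zero (α := ℂ) ?_
        rw [← this]
        convert (hlZ 1 Z.one_mem).symm using 2
        simp
      obtain ⟨y, hy⟩ := P.isPGroup'.nonempty_fixed_point_of_prime_not_dvd_card (G := (P : Subgroup G)) X
        (by
          rw [hcardX]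
          intro hd
          exact (hp.coprime_iff_not_dvd.mp hcop.symm)
            (hCcard ▸ hd.trans K.card_subgroup_dvd_card))
      rw [← y.2]
      refine hlZ _ ⟨y.1.2, Subgroup.mem_centralizer_iff.mpr fun u hu => ?_⟩
      have := congrArg (fun q : X => ((q.1 : C) : G)) (hy ⟨u, hu⟩)
      exact mul_inv_eq_iff_eq_mul.mp this
    -- the sum over the group vanishes
    have hsum0 : ∑ g : G, ρ.character g = 0 := by
      have h1 := classInner_irr_ne (χ := ρ.character) (ψ := fun _ : G => (1 : ℂ))
        ⟨n, ρ, hρ, rfl⟩ isIrrCharacter_one (fun h => hne (Subtype.ext h))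
      simpa [classInner] using h1
    rw [hsumG] at hsum0
    simp only [hmul, hl1, one_mul, Finset.sum_const, Finset.card_univ, nsmul_eq_mul] at hsum0
    exact hS2 ((mul_eq_zero.mp hsum0).resolve_left (Nat.cast_ne_zero.mpr Fintype.card_ne_zero))
  have hchar : IsCharacter G (indFun E (fun _ => (1 : ℂ))) :=
    CfsgLib.Induction.isCharacter_indFun E CfsgLib.Induction.isCharacter_const_one
  have hexp := classFunction_eq_sum (CfsgLib.Characters.isClassFunction_of_isCharacter hchar)
  rw [← Finset.add_sum_erase _ _ (Finset.mem_univ (principalIrr G))] at hexp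
  rw [show classInner (indFun E (fun _ => (1 : ℂ))) ((principalIrr G : IrrCharacter G) : G → ℂ) = 1
    from hone, one_smul] at hexp
  have h1 : ((principalIrr G : IrrCharacter G) : G → ℂ) ∈ properInd G := by
    rw [eq_sub_of_add_eq hexp.symm]
    refine sub_mem (AddSubgroup.subset_closure
      ⟨E, hEne, _, CfsgLib.Induction.isCharacter_const_one, rfl⟩)
      (AddSubgroup.sum_mem _ fun θ hθ => ?_)
    obtain ⟨m, hm⟩ := classInner_char_nat hchar (irr_isCharacter θ)
    by_cases h0 : m = 0
    · simp [hm, h0]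
    · rw [hm, Nat.cast_smul_eq_nsmul]
      exact nsmul_mem (key θ (Finset.ne_of_mem_erase hθ) (by rw [hm]; exact_mod_cast h0)) m
  exact h1

omit [Fintype G] in
/-- Brauer's induction theorem, as membership in the span. -/
theorem irr_mem_brauerSpan : ∀ (G : Type u) [Group G] [Fintype G] (χ : G → ℂ),
    IsIrrCharacter G χ → χ ∈ brauerSpan G := by
  intro G _ _ χ hχ
  induction hn : Nat.card G using Nat.strong_induction_on generalizing G with
  | _ n ih =>
    subst hn
    classical
    have hproper : properInd G ≤ brauerSpan G := by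
      rw [properInd, AddSubgroup.closure_le]
      rintro _ ⟨H, hH, θ, hθ, rfl⟩
      have : Fintype H := Fintype.ofFinite H
      refine indFun_mem_brauerSpan ?_
      have hlt : Nat.card H < Nat.card G := by
        refine lt_of_le_of_ne (Subgroup.card_le_card_group H) fun h => hH ?_
        exact Subgroup.eq_top_of_card_eq H h
      obtain ⟨m, hm⟩ := (CfsgLib.Clifford.exists_mult hθ)
      rw [hm.2]
      exact AddSubgroup.sum_mem _ fun ψ _ => by
        rw [Nat.cast_smul_eq_nsmul]
        exact nsmul_mem (ih _ hlt (G := H) ψ ψ.2 rfl) _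
    have hvia : (1 : G → ℂ) ∈ properInd G → χ ∈ brauerSpan G := fun h1 => by
      have := properInd_mul h1 (isCharacter_of_irr hχ)
      rw [one_mul] at this
      exact hproper this
    by_cases hqe : ∃ p : ℕ, p.Prime ∧ IsQE p G
    · obtain ⟨p, hp, x, hn, hcop, k, hk⟩ := hqe
      by_cases hx : x ∈ Subgroup.center G
      · rcases mem_of_elementary hp ⟨x, hx, hcop, k, hk⟩ hχ with h | h
        · exact hproper h
        · exact AddSubgroup.subset_closure h
      · exact hvia (one_mem_properInd_of_qe hp x hn hcop hk hx)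
    · exact hvia (one_mem_properInd_of_not_qe fun p hp h => hqe ⟨p, hp, h⟩)

/-- Every character lies in the Brauer span. -/
theorem character_mem_brauerSpan {χ : G → ℂ} (hχ : IsCharacter G χ) : χ ∈ brauerSpan G := by
  obtain ⟨m, _, hm⟩ := CfsgLib.Clifford.exists_mult hχ
  rw [hm]
  exact AddSubgroup.sum_mem _ fun ψ _ => by
    rw [Nat.cast_smul_eq_nsmul]
    exact nsmul_mem (irr_mem_brauerSpan G ψ ψ.2) _

/-- Brauer's induction theorem in list form. -/
theorem exists_list {f : G → ℂ} (hf : f ∈ brauerSpan G) :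
    ∃ l : List ((E : Subgroup G) × ((E →* ℂˣ) × ℤ)),
      (∀ t ∈ l, ∃ p : ℕ, p.Prime ∧ IsElementary p t.1) ∧
      f = (l.map fun t => (t.2.2 : ℂ) • indFun t.1 (fun e => (t.2.1 e : ℂ))).sum := by
  induction hf using AddSubgroup.closure_induction with
  | mem x hx =>
    obtain ⟨E, p, l, hp, hE, rfl⟩ := hx
    exact ⟨[⟨E, l, 1⟩], fun t ht => by
      rw [List.mem_singleton] at ht; subst ht; exact ⟨p, hp, hE⟩, by simp⟩
  | zero => exact ⟨[], by simp, by simp⟩
  | add a b _ _ ha hb =>
    obtain ⟨l, hl, rfl⟩ := ha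
    obtain ⟨l', hl', rfl⟩ := hb
    exact ⟨l ++ l', fun t ht => (List.mem_append.mp ht).elim (hl t) (hl' t), by simp⟩
  | neg a hmem ha =>
    obtain ⟨l, hl, rfl⟩ := ha
    refine ⟨l.map fun t => ⟨t.1, t.2.1, -t.2.2⟩, fun t ht => ?_, ?_⟩
    · obtain ⟨s, hs, rfl⟩ := List.mem_map.mp ht
      exact hl s hs
    · clear hl hmem
      induction l with
      | nil => simp
      | cons t l ihl => simp [ihl, neg_add_rev, add_comm]

/-- Brauer's characterization of generalized characters. -/
theorem isGeneralizedCharacter_of_restrictions {θ : G → ℂ} (hθ : IsClassFunction G θ)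
    (hE : ∀ (E : Subgroup G) (p : ℕ), p.Prime → IsElementary p E →
      IsGeneralizedCharacter E (fun e : E => θ e)) : IsGeneralizedCharacter G θ := by
  have key : ∀ f ∈ brauerSpan G, IsGeneralizedCharacter G (f * θ) := by
    intro f hf
    induction hf using AddSubgroup.closure_induction with
    | mem x hx =>
      obtain ⟨E, p, l, hp, hEl, rfl⟩ := hx
      rw [indFun_mul E hθ]
      have hl : IsGeneralizedCharacter E (fun e : E => (l e : ℂ)) :=
        isGeneralizedCharacter_of_isCharacter (isCharacter_of_irr (isIrrCharacter_of_hom l))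
      obtain ⟨a, b, ha, hb, hab⟩ := isGeneralizedCharacter_mul hl (hE E p hp hEl)
      refine ⟨indFun E a, indFun E b, CfsgLib.Induction.isCharacter_indFun E ha,
        CfsgLib.Induction.isCharacter_indFun E hb, ?_⟩
      rw [← indFun_sub, ← hab]
      rfl
    | zero => rw [zero_mul]; exact isGeneralizedCharacter_zero
    | add a b _ _ ha hb => rw [add_mul]; exact isGeneralizedCharacter_add ha hb
    | neg a _ ha => rw [neg_mul]; exact isGeneralizedCharacter_neg ha
  have := key 1 (character_mem_brauerSpan CfsgLib.Characters.isCharacter_one)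
  rwa [one_mul] at this

end CfsgLib.Brauer
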