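import Cfsg.Agent.Lib.Characters.Clifford
import Cfsg.Agent.Lib.Characters.Values
import Cfsg.Agent.Lib.Characters.Ito
import Mathlib.GroupTheory.Nilpotent
import Mathlib.GroupTheory.Solvable

/-!
# Monomial characters
-/

set_option autoImplicit false

noncomputable section

namespace CfsgLib.CharMonomial

open Cfsg CfsgLib.Characters
open scoped ComplexConjugate commutatorElement

universe u

/-- The constituents of a character are trivial wherever the character is. -/
theorem constituent_eq_degree {G : Type u} [Group G] [Fintype G] {χ : G → ℂ}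
    (hχ : IsCharacter G χ) {θ : IrrCharacter G} (hθ : classInner χ (θ : G → ℂ) ≠ 0) {g : G}
    (hg : χ g = χ 1) : (θ : G → ℂ) g = (θ : G → ℂ) 1 := by
  classical
  obtain ⟨m, hm, hsum⟩ := CfsgLib.Clifford.exists_mult hχ
  have hd : ∀ ψ : IrrCharacter G, ∃ d : ℕ, (ψ : G → ℂ) 1 = d :=
    fun ψ => exists_degree (irr_isCharacter ψ)
  choose d hd using hd
  have hnorm : ∀ ψ : IrrCharacter G, ‖(ψ : G → ℂ) g‖ ≤ (d ψ : ℝ) := fun ψ => by
    have := norm_le_degree_of_isCharacter (irr_isCharacter ψ) g
    rwa [hd, Complex.norm_natCast] at this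
  have h1 := congrFun hsum g
  have h2 := congrFun hsum 1
  simp only [Finset.sum_apply, Pi.smul_apply, smul_eq_mul] at h1 h2
  have h3 : ∑ ψ : IrrCharacter G, (m ψ : ℝ) * ((d ψ : ℝ) - ((ψ : G → ℂ) g).re) = 0 := by
    have h4 := congrArg Complex.re (h1.symm.trans (hg.trans h2))
    simp only [Complex.re_sum, hd, Complex.mul_re, Complex.natCast_re, Complex.natCast_im,
      zero_mul, sub_zero, mul_zero] at h4
    simp only [mul_sub, Finset.sum_sub_distrib, h4, sub_self]
  have hnn : ∀ ψ : IrrCharacter G, 0 ≤ (m ψ : ℝ) * ((d ψ : ℝ) - ((ψ : G → ℂ) g).re) := fun ψ =>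
    mul_nonneg (Nat.cast_nonneg _) (sub_nonneg.2 ((Complex.re_le_norm _).trans (hnorm ψ)))
  have h5 := (Finset.sum_eq_zero_iff_of_nonneg fun ψ _ => hnn ψ).1 h3 θ (Finset.mem_univ _)
  have hmθ : (m θ : ℝ) ≠ 0 := fun h => hθ (by
    rw [hm, Nat.cast_eq_zero.1 h, Nat.cast_zero])
  have hre : ((θ : G → ℂ) g).re = d θ :=
    (sub_eq_zero.1 ((mul_eq_zero.1 h5).resolve_left hmθ)).symm
  have hsq := pow_le_pow_left₀ (norm_nonneg _) (hnorm θ) 2
  rw [Complex.sq_norm, Complex.normSq_apply, hre] at hsq
  have him : ((θ : G → ℂ) g).im = 0 := by nlinarith [sq_nonneg ((θ : G → ℂ) g).im]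
  rw [hd θ]
  apply Complex.ext <;> simp [hre, him]

/-- An irreducible character trivial on all commutators has degree one. -/
theorem degree_one_of_commutator {G : Type u} [Group G] [Finite G] {θ : G → ℂ}
    (hθ : IsIrrCharacter G θ) (h : ∀ a b : G, θ (a * b * (b * a)⁻¹) = θ 1) : θ 1 = 1 := by
  obtain ⟨n, ρ, hρ, rfl⟩ := hθ
  haveI := hρ
  have hcomm : ∀ a b : G, ρ a * ρ b = ρ b * ρ a := by
    intro a b
    have h1 : ρ (a * b * (b * a)⁻¹) = 1 :=
      (char_eq_degree_iff ρ _).1 ((h a b).trans ρ.char_one)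
    calc ρ a * ρ b = ρ (a * b * (b * a)⁻¹) * ρ (b * a) := by
          rw [← map_mul, ← map_mul, inv_mul_cancel_right]
      _ = ρ b * ρ a := by rw [h1, one_mul, map_mul]
  have hscal : ∀ g, ∃ c : ℂ, ρ g = c • (1 : Module.End ℂ (Fin n → ℂ)) := fun g =>
    schur_scalar ρ (ρ g) fun x => hcomm g x
  have hnt := CfsgLib.Characters.nontrivial_of_irreducible ρ
  obtain ⟨v, hv⟩ := exists_ne (0 : Fin n → ℂ)
  have hspan : Submodule.span ℂ {v} = (⊤ : Submodule ℂ (Fin n → ℂ)) := by
    refine (((isIrreducible_iff ρ).1 hρ).2 _ fun g w hw => ?_).resolve_left (by simpa using hv)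
    obtain ⟨c, hc⟩ := hscal g
    rw [hc, LinearMap.smul_apply, Module.End.one_apply]
    exact Submodule.smul_mem _ _ hw
  rw [Representation.char_one, ← finrank_top ℂ (Fin n → ℂ), ← hspan, finrank_span_singleton hv,
    Nat.cast_one]

/-- Induced functions depend only on the extension by zero. -/
theorem indFun_congr {G : Type u} [Group G] [Fintype G] {S S' : Subgroup G} (h : S = S')
    {θ : S → ℂ} {θ' : S' → ℂ} (hθ : ∀ (x : G) (hx : x ∈ S) (hx' : x ∈ S'), θ ⟨x, hx⟩ = θ' ⟨x, hx'⟩) :
    indFun S θ = indFun S' θ' := by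
  subst h
  exact congrArg _ (funext fun x => hθ x.1 x.2 x.2)

/-- Inducing a monomial character from a subgroup gives a monomial character. -/
theorem exists_monomial_of_indFun {G : Type u} [Group G] [Fintype G] (T : Subgroup G) [Fintype T]
    {ψ : T → ℂ} (h : ∃ (H : Subgroup T) (lam : H →* ℂˣ), ψ = indFun H (fun h => (lam h : ℂ))) :
    ∃ (H : Subgroup G) (lam : H →* ℂˣ), indFun T ψ = indFun H (fun h => (lam h : ℂ)) := by
  obtain ⟨H', lam', rfl⟩ := h
  let e := H'.equivMapOfInjective T.subtype Subtype.val_injective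
  refine ⟨H'.map T.subtype, lam'.comp e.symm.toMonoidHom, ?_⟩
  rw [← CfsgLib.Induction.indFun_trans (Subgroup.map_subtype_le H')]
  have hS : H' = (H'.map T.subtype).subgroupOf T :=
    (Subgroup.comap_map_eq_self_of_injective Subtype.val_injective H').symm
  refine congrArg _ (indFun_congr hS fun x hx hx' => ?_)
  show (lam' ⟨x, hx⟩ : ℂ) = (lam' (e.symm ⟨(x : G), hx'⟩) : ℂ)
  refine congrArg (fun z => (lam' z : ℂ)) ?_
  apply e.injective
  rw [MulEquiv.apply_symm_apply]
  exact Subtype.ext rfl

theorem monomial_of_degree_one {G : Type u} [Group G] [Fintype G] {χ : G → ℂ}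
    (hχ : IsCharacter G χ) (h1 : χ 1 = 1) :
    ∃ (H : Subgroup G) (lam : H →* ℂˣ), χ = indFun H (fun h => (lam h : ℂ)) := by
  refine ⟨⊤, (CfsgLib.CharIto.linearHom hχ h1).comp (Subgroup.subtype ⊤), ?_⟩
  funext g
  rw [CfsgLib.Induction.indFun_apply]
  have hterm : ∀ x : G, extendByZero (⊤ : Subgroup G)
      (fun h => (((CfsgLib.CharIto.linearHom hχ h1).comp (Subgroup.subtype ⊤)) h : ℂ)) (x⁻¹ * g * x) = χ g := by
    intro x
    rw [CfsgLib.Induction.extendByZero_mem _ _ (Subgroup.mem_top _)]
    simpa using (isClassFunction_of_isCharacter hχ) g x⁻¹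
  rw [Finset.sum_congr rfl fun x _ => hterm x, Finset.sum_const, Finset.card_univ, nsmul_eq_mul,
    Subgroup.card_top, ← Nat.card_eq_fintype_card, ← mul_assoc,
    inv_mul_cancel₀ (Nat.cast_ne_zero.2 Nat.card_pos.ne'), one_mul]

/-- Characters of nilpotent groups are monomial. -/
theorem monomial_of_nilpotent (n : ℕ) : ∀ (G : Type u) [Group G] [Fintype G] [Group.IsNilpotent G],
    Nat.card G = n → ∀ χ : G → ℂ, IsIrrCharacter G χ →
      ∃ (H : Subgroup G) (lam : H →* ℂˣ), χ = indFun H (fun h => (lam h : ℂ)) := by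
  induction n using Nat.strong_induction_on with
  | _ n ih =>
    intro G _ _ _ hn χ hχ
    classical
    obtain ⟨d, ρ, hρ, rfl⟩ := hχ
    haveI := hρ
    have hχ : IsIrrCharacter G ρ.character := ⟨d, ρ, hρ, rfl⟩
    -- the subgroup acting by scalars
    let Z : Subgroup G :=
      { carrier := {g | ∃ c : ℂ, ρ g = c • (1 : Module.End ℂ (Fin d → ℂ))}
        one_mem' := ⟨1, by rw [one_smul, map_one]⟩
        mul_mem' := fun {a b} => fun ⟨c, hc⟩ ⟨c', hc'⟩ => ⟨c * c', by
          rw [map_mul, hc, hc', smul_mul_smul_comm, one_mul]⟩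
        inv_mem' := fun {a} => fun ⟨c, hc⟩ => by
          refine schur_scalar ρ (ρ a⁻¹) fun x => ?_
          have hxa : ρ x * ρ a = ρ a * ρ x := by rw [hc, mul_smul_comm, mul_one, smul_mul_assoc, one_mul]
          calc ρ a⁻¹ * ρ x = ρ a⁻¹ * (ρ x * ρ a) * ρ a⁻¹ := by
                rw [mul_assoc, mul_assoc, ← map_mul ρ a, mul_inv_cancel, map_one, mul_one]
            _ = ρ x * ρ a⁻¹ := by
                rw [hxa, ← mul_assoc, ← map_mul, inv_mul_cancel, map_one, one_mul] }
    have hZmem : ∀ g, g ∈ Z ↔ ∃ c : ℂ, ρ g = c • (1 : Module.End ℂ (Fin d → ℂ)) := fun g => Iff.rfl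
    have hZn : Z.Normal := ⟨fun z hz g => by
      obtain ⟨c, hc⟩ := hz
      exact ⟨c, by rw [map_mul, map_mul, hc, mul_smul_comm, mul_one, smul_mul_assoc, ← map_mul,
        mul_inv_cancel, map_one]⟩⟩
    by_cases hZ : Z = ⊤
    · refine monomial_of_degree_one (isCharacter_of_irr hχ) (degree_one_of_commutator hχ fun a b => ?_)
      obtain ⟨c, hc⟩ := (hZmem a).1 (hZ ▸ Subgroup.mem_top a)
      have hab : ρ (a * b) = ρ (b * a) := by
        rw [map_mul, map_mul, hc, smul_mul_assoc, mul_smul_comm, one_mul, mul_one]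
      show LinearMap.trace ℂ _ (ρ (a * b * (b * a)⁻¹)) = LinearMap.trace ℂ _ (ρ 1)
      rw [map_mul, hab, ← map_mul, mul_inv_cancel]
    -- an element central modulo `Z`
    haveI := hZn
    have : Nontrivial (G ⧸ Z) := QuotientGroup.nontrivial_iff.2 hZ
    have : Nontrivial (Subgroup.center (G ⧸ Z)) :=
      (Subgroup.nontrivial_iff_ne_bot _).2 (Group.IsNilpotent.center_ne_bot _)
    obtain ⟨⟨q, hq⟩, hq1⟩ := exists_ne (1 : Subgroup.center (G ⧸ Z))
    obtain ⟨a, rfl⟩ := QuotientGroup.mk_surjective q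
    let A : Subgroup G := (Subgroup.zpowers (QuotientGroup.mk a : G ⧸ Z)).comap (QuotientGroup.mk' Z)
    have hA : A.Normal := by
      have : (Subgroup.zpowers (QuotientGroup.mk a : G ⧸ Z)).Normal := ⟨fun y hy g => by
        have hyc : y ∈ Subgroup.center (G ⧸ Z) := (Subgroup.zpowers_le.2 hq) hy
        rwa [Subgroup.mem_center_iff.1 hyc g, mul_inv_cancel_right]⟩
      exact this.comap _
    have haA : a ∈ A := Subgroup.mem_zpowers _
    have haZ : a ∉ Z := fun h => hq1 (Subtype.ext ((QuotientGroup.eq_one_iff a).2 h))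
    have hcommA : ∀ x ∈ A, ∀ y ∈ A, ρ x * ρ y = ρ y * ρ x := by
      have hform : ∀ x ∈ A, ∃ (i : ℤ) (c : ℂ), ρ x = c • ρ (a ^ i) := by
        intro x hx
        obtain ⟨i, hi⟩ := Subgroup.mem_zpowers_iff.1 hx
        have hi' : (QuotientGroup.mk (a ^ i) : G ⧸ Z) = QuotientGroup.mk x := hi
        obtain ⟨c, hc⟩ := (hZmem _).1 (QuotientGroup.eq.1 hi')
        refine ⟨i, c, ?_⟩
        rw [← mul_inv_cancel_left (a ^ i) x, map_mul, hc, mul_smul_comm, mul_one]
      intro x hx y hy
      obtain ⟨i, c, hc⟩ := hform x hx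
      obtain ⟨j, c', hc'⟩ := hform y hy
      rw [hc, hc', smul_mul_smul_comm, smul_mul_smul_comm, ← map_mul, ← map_mul, mul_comm c c',
        ← zpow_add, ← zpow_add, add_comm]
    have : Fintype A := Fintype.ofFinite A
    have hres := CfsgLib.Clifford.isCharacter_subtype (isCharacter_of_irr hχ) A
    obtain ⟨θ, hθ⟩ := CfsgLib.Clifford.exists_constituent hres
      (fun h => irr_one_ne_zero ⟨ρ.character, hχ⟩ (congrFun h 1))
    have hθ1 : (θ : A → ℂ) 1 = 1 := by
      refine degree_one_of_commutator θ.2 fun x y => constituent_eq_degree hres hθ ?_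
      show LinearMap.trace ℂ _ (ρ ((x * y * (y * x)⁻¹ : A) : G)) = LinearMap.trace ℂ _ (ρ ((1 : A) : G))
      congr 1
      have hxy : ρ ((x : G) * y) = ρ ((y : G) * x) := by
        rw [map_mul, map_mul, hcommA x x.2 y y.2]
      show ρ ((x : G) * y * ((y : G) * x)⁻¹) = ρ 1
      rw [map_mul, hxy, ← map_mul, mul_inv_cancel]
    let T := CfsgLib.Clifford.inertia hA (θ : A → ℂ)
    have : Fintype T := Fintype.ofFinite T
    have hAT : A ≤ T := CfsgLib.Clifford.le_inertia hA (irr_isClassFunction θ)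
    have hT : T ≠ ⊤ := by
      intro hT
      apply haZ
      have hclif := CfsgLib.Clifford.clifford hA hχ θ.2 hθ
      have horb : (CfsgLib.Clifford.conjOrbit_finite hA (θ : A → ℂ)).toFinset = {(θ : A → ℂ)} := by
        refine Finset.eq_singleton_iff_unique_mem.2 ⟨?_, ?_⟩
        · exact (Set.Finite.mem_toFinset _).2 ⟨1, (CfsgLib.Clifford.conjChar_one hA _).symm⟩
        · intro ψ hψ
          obtain ⟨g, rfl⟩ := (Set.Finite.mem_toFinset _).1 hψ
          exact funext (CfsgLib.Clifford.mem_inertia.1 (show g ∈ T from hT ▸ Subgroup.mem_top g))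
      rw [horb, Finset.sum_singleton] at hclif
      refine (norm_char_eq_iff_scalar ρ a).1 ?_
      have h1 := congrFun hclif ⟨a, haA⟩
      have h2 := congrFun hclif 1
      simp only [Pi.smul_apply, smul_eq_mul] at h1 h2
      rw [hθ1, mul_one] at h2
      rw [← h2] at h1
      change ρ.character a = ρ.character 1 * _ at h1
      have hroot : ‖(θ : A → ℂ) ⟨a, haA⟩‖ = 1 := by
        let f := CfsgLib.CharIto.linearHom (irr_isCharacter θ) hθ1
        refine Complex.norm_eq_one_of_pow_eq_one (n := Nat.card A) ?_ Nat.card_pos.ne'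
        show (f ⟨a, haA⟩ : ℂ) ^ Nat.card A = 1
        rw [← Units.val_pow_eq_pow_val, ← map_pow, pow_card_eq_one', map_one, Units.val_one]
      rw [h1, norm_mul, hroot, mul_one, Representation.char_one, Complex.norm_natCast]
    obtain ⟨ψ, hψ, hind, -⟩ := CfsgLib.Clifford.correspondence hA θ.2 T rfl hAT hχ hθ
    have hlt : Nat.card T < n :=
      hn ▸ lt_of_le_of_ne T.card_le_card_group fun h => hT (T.eq_top_of_card_eq h)
    obtain ⟨H, lam, hH⟩ := exists_monomial_of_indFun T (ih _ hlt T rfl ψ hψ)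
    exact ⟨H, lam, hind.symm.trans hH⟩

/-- A group all of whose irreducible characters are monomial is solvable. -/
theorem taketa {G : Type u} [Group G] [Fintype G]
    (hM : ∀ χ : G → ℂ, IsIrrCharacter G χ →
      ∃ (H : Subgroup G) (lam : H →* ℂˣ), χ = indFun H (fun h => (lam h : ℂ))) :
    Group.IsSolvable G := by
  classical
  have key : ∀ (d : ℕ) (χ : IrrCharacter G) (e : ℕ), (χ : G → ℂ) 1 = e → e ≤ d →
      ∀ g ∈ derivedSeries G d, (χ : G → ℂ) g = (χ : G → ℂ) 1 := by
    intro d
    induction d with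
    | zero =>
      intro χ e he hle
      exact absurd (by rw [he, Nat.le_zero.1 hle, Nat.cast_zero]) (irr_one_ne_zero χ)
    | succ d ih =>
      intro χ e he hle g hg
      rcases Nat.lt_or_ge e (d + 1) with hlt | hge
      · exact ih χ e he (Nat.lt_succ_iff.1 hlt) g (derivedSeries_antitone G (Nat.le_succ d) hg)
      have hed : e = d + 1 := le_antisymm hle hge
      obtain ⟨H, lam, hχ⟩ := hM χ χ.2
      have hidx : H.index = d + 1 := by
        have h := congrFun hχ 1
        rw [CfsgLib.Induction.indFun_one_apply, he, map_one, Units.val_one, mul_one] at h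
        rw [← hed]
        exact_mod_cast h.symm
      have : Fintype H := Fintype.ofFinite H
      have hπ := CfsgLib.Induction.isCharacter_indFun H (CfsgLib.Induction.isCharacter_const_one (G := H))
      obtain ⟨m, hm, hsum⟩ := CfsgLib.Clifford.exists_mult hπ
      have hdeg : ∀ ψ : IrrCharacter G, ∃ k : ℕ, 0 < k ∧ (ψ : G → ℂ) 1 = k :=
        fun ψ => irr_exists_degree ψ.2
      choose k hk0 hk using hdeg
      have hone : m (principalIrr G) = 1 := by
        have h := hm (principalIrr G)
        rw [CfsgLib.Induction.classInner_indFun H _ (irr_isClassFunction _)] at h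
        have h1 : classInner (fun _ : H => (1 : ℂ)) (fun h : H => ((principalIrr G : G → ℂ)) h) = 1 :=
          classInner_irr_self (isIrrCharacter_one (G := H))
        rw [h1] at h
        exact_mod_cast h.symm
      have htot : d + 1 = ∑ ψ : IrrCharacter G, m ψ * k ψ := by
        have h := congrFun hsum 1
        rw [CfsgLib.Induction.indFun_one_apply, mul_one, hidx] at h
        simp only [Finset.sum_apply, Pi.smul_apply, smul_eq_mul, hk] at h
        exact_mod_cast h
      have hk1 : k (principalIrr G) = 1 := by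
        exact_mod_cast (hk (principalIrr G)).symm.trans (principalIrr_apply 1)
      have hsmall : ∀ ψ, m ψ ≠ 0 → ψ ≠ principalIrr G → k ψ ≤ d := by
        intro ψ hψ hne
        have h2 : m (principalIrr G) * k (principalIrr G) + m ψ * k ψ ≤ d + 1 := by
          rw [htot, ← Finset.sum_pair (f := fun ψ => m ψ * k ψ) (Ne.symm hne)]
          exact Finset.sum_le_sum_of_subset (Finset.subset_univ _)
        rw [hone, hk1] at h2
        have := Nat.le_mul_of_pos_left (k ψ) (Nat.pos_of_ne_zero hψ)
        omega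
      have hDH : derivedSeries G d ≤ H := by
        intro x hx
        have hval : indFun H (fun _ => (1 : ℂ)) x = indFun H (fun _ => (1 : ℂ)) 1 := by
          rw [hsum]
          simp only [Finset.sum_apply, Pi.smul_apply, smul_eq_mul]
          refine Finset.sum_congr rfl fun ψ _ => ?_
          by_cases hψ : m ψ = 0
          · simp [hψ]
          · by_cases hne : ψ = principalIrr G
            · simp [hne]
            · rw [ih ψ (k ψ) (hk ψ) (hsmall ψ hψ hne) x hx]
        by_contra hxH
        rw [CfsgLib.Induction.indFun_one_apply, mul_one, CfsgLib.Induction.indFun_apply] at hval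
        rw [inv_mul_eq_iff_eq_mul₀ (Nat.cast_ne_zero.2 Nat.card_pos.ne'), ← Nat.cast_mul,
          H.card_mul_index] at hval
        have hcount : ∑ y : G, extendByZero H (fun _ => (1 : ℂ)) (y⁻¹ * x * y) =
            ((Finset.univ.filter fun y : G => y⁻¹ * x * y ∈ H).card : ℂ) := by
          rw [← Finset.sum_boole]
          refine Finset.sum_congr rfl fun y _ => ?_
          by_cases hy : y⁻¹ * x * y ∈ H
          · rw [CfsgLib.Induction.extendByZero_mem H _ hy, if_pos hy]
          · rw [CfsgLib.Induction.extendByZero_notMem H _ hy, if_neg hy]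
        rw [hcount, Nat.card_eq_fintype_card, Nat.cast_inj] at hval
        have h1 : (1 : G) ∈ Finset.univ.filter fun y : G => y⁻¹ * x * y ∈ H := by
          rw [(Finset.card_eq_iff_eq_univ _).1 hval]
          exact Finset.mem_univ _
        exact hxH (by simpa using (Finset.mem_filter.1 h1).2)
      have hlam : ∀ x ∈ derivedSeries G (d + 1), ∀ hxH : x ∈ H, lam ⟨x, hxH⟩ = 1 := by
        intro x hx hxH
        rw [derivedSeries_succ] at hx
        have hle2 : ⁅derivedSeries G d, derivedSeries G d⁆ ≤ lam.ker.map H.subtype := by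
          rw [Subgroup.commutator_le]
          intro a ha b hb
          refine ⟨⁅(⟨a, hDH ha⟩ : H), (⟨b, hDH hb⟩ : H)⁆, ?_, rfl⟩
          show lam _ = 1
          rw [map_commutatorElement]
          exact commutatorElement_eq_one_iff_mul_comm.2 (mul_comm _ _)
        obtain ⟨y, hy, hyx⟩ := hle2 hx
        have : y = ⟨x, hxH⟩ := Subtype.ext hyx
        exact this ▸ hy
      rw [hχ, CfsgLib.Induction.indFun_apply, CfsgLib.Induction.indFun_apply]
      congr 1
      refine Finset.sum_congr rfl fun y _ => ?_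
      have hy : y⁻¹ * g * y ∈ derivedSeries G (d + 1) :=
        (derivedSeries_normal G (d + 1)).conj_mem' g hg y
      have hyH := hDH (derivedSeries_antitone G (Nat.le_succ d) hy)
      rw [CfsgLib.Induction.extendByZero_mem H _ hyH, mul_one, inv_mul_cancel,
        CfsgLib.Induction.extendByZero_mem H _ H.one_mem, hlam _ hy hyH]
      exact congrArg Units.val (map_one lam).symm
  refine ⟨⟨Nat.card G, ?_⟩⟩
  rw [Subgroup.eq_bot_iff_forall]
  intro g hg
  refine isConj_one_left.1 ((isConj_iff_irr _ _).2 fun χ => ?_)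
  obtain ⟨e, he, -, hdvd⟩ := irr_degree_dvd_card χ
  exact key _ χ e he (Nat.le_of_dvd Nat.card_pos hdvd) g hg

end CfsgLib.CharMonomial
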