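import Cfsg.Agent.Lib.Characters.Decomp
import Mathlib.FieldTheory.IsAlgClosed.Classification
import Mathlib.NumberTheory.Cyclotomic.Gal
import Mathlib.FieldTheory.Galois.Basic
import Mathlib.RingTheory.RootsOfUnity.Complex

/-!
# The Galois action on character values

* `exists_autComplex`: for `m` coprime to `n` a field automorphism of `ℂ` raising every
  `n`-th root of unity to the `m`-th power;
* `map_char_eq_pow`: such an automorphism sends `χ g` to `χ (g ^ m)`;
* images of (irreducible) characters under automorphisms are (irreducible) characters;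
* a value fixed by all of these automorphisms is rational.
-/

set_option autoImplicit false

noncomputable section

namespace CfsgLib.CharGalois

open CfsgLib.Characters Cfsg

universe u

/-! ## Automorphisms of `ℂ` -/

/-- Extension of an automorphism of a subfield to an automorphism of `ℂ`. -/
theorem exists_extension (K : IntermediateField ℚ ℂ) (τ : K ≃+* K) :
    ∃ σ : ℂ ≃+* ℂ, ∀ k : K, σ (k : ℂ) = (τ k : ℂ) := by
  obtain ⟨B, hB⟩ := exists_isTranscendenceBasis K ℂ
  have := IsAlgClosed.isAlgClosure_of_transcendence_basis (Subtype.val : B → ℂ) hB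
  let E := hB.1.aevalEquiv
  let e : Algebra.adjoin K (Set.range (Subtype.val : B → ℂ)) ≃+*
      Algebra.adjoin K (Set.range (Subtype.val : B → ℂ)) :=
    E.symm.toRingEquiv.trans ((MvPolynomial.mapEquiv B τ).trans E.toRingEquiv)
  refine ⟨IsAlgClosure.equivOfEquiv ℂ ℂ e, fun k => ?_⟩
  have h1 : e (algebraMap K _ k) = algebraMap K _ (τ k) := by
    show E (MvPolynomial.mapEquiv B τ (E.symm (algebraMap K _ k))) = _
    rw [AlgEquiv.commutes, MvPolynomial.mapEquiv_apply, MvPolynomial.algebraMap_eq,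
      MvPolynomial.map_C]
    exact E.commutes (τ k)
  have h2 := IsAlgClosure.equivOfEquiv_algebraMap (L := ℂ) (M := ℂ) e (algebraMap K _ k)
  rw [h1] at h2
  exact h2

theorem isCyclotomic_adjoin {n : ℕ} [NeZero n] {ζ : ℂ} (hζ : IsPrimitiveRoot ζ n) :
    IsCyclotomicExtension {n} ℚ (IntermediateField.adjoin ℚ {ζ}) := by
  change IsCyclotomicExtension {n} ℚ (IntermediateField.adjoin ℚ {ζ}).toSubalgebra
  rw [IntermediateField.adjoin_simple_toSubalgebra_of_isAlgebraic
    (IsIntegral.isAlgebraic (IsIntegral.of_pow (NeZero.pos n) (by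
      rw [hζ.pow_eq_one]; exact isIntegral_one)))]
  exact hζ.adjoin_isCyclotomicExtension ℚ

/-- An automorphism of a cyclotomic field raises all roots of unity to a fixed power. -/
theorem autToPow_spec' {K : Type*} [Field K] [Algebra ℚ K] (n : ℕ) [NeZero n]
    [IsCyclotomicExtension {n} ℚ K] (τ : K ≃ₐ[ℚ] K) {z : K} (hz : z ^ n = 1) :
    τ z = z ^ ((((IsCyclotomicExtension.zeta_spec n ℚ K).autToPow ℚ τ : (ZMod n)ˣ) :
      ZMod n)).val := by
  obtain ⟨i, -, hi⟩ := (IsCyclotomicExtension.zeta_spec n ℚ K).eq_pow_of_pow_eq_one hz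
  rw [← hi, map_pow, ← IsPrimitiveRoot.autToPow_spec ℚ (IsCyclotomicExtension.zeta_spec n ℚ K) τ,
    pow_right_comm]

/-- For `m` coprime to `n` there is an automorphism of `ℂ` raising `n`-th roots of unity to the
`m`-th power. -/
theorem exists_autComplex (n : ℕ) [NeZero n] {m : ℕ} (hm : m.Coprime n) :
    ∃ σ : ℂ ≃+* ℂ, ∀ z : ℂ, z ^ n = 1 → σ z = z ^ m := by
  have hζ := Complex.isPrimitiveRoot_exp n (NeZero.ne n)
  set ζ : ℂ := Complex.exp (2 * Real.pi * Complex.I / n)
  let K : IntermediateField ℚ ℂ := IntermediateField.adjoin ℚ {ζ}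
  have : IsCyclotomicExtension {n} ℚ K :=
    isCyclotomic_adjoin hζ
  let h := Polynomial.cyclotomic.irreducible_rat (n := n) (NeZero.pos n)
  let τ : K ≃ₐ[ℚ] K :=
    (IsCyclotomicExtension.autEquivPow K h).symm (ZMod.unitOfCoprime m hm)
  have hτ : (IsCyclotomicExtension.zeta_spec n ℚ K).autToPow ℚ τ = ZMod.unitOfCoprime m hm :=
    (IsCyclotomicExtension.autEquivPow K h).apply_symm_apply _
  obtain ⟨σ, hσ⟩ := exists_extension K τ.toRingEquiv
  refine ⟨σ, fun z hz => ?_⟩
  obtain ⟨i, -, hi⟩ := hζ.eq_pow_of_pow_eq_one hz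
  have hzK : z ∈ K := hi ▸ pow_mem (IntermediateField.mem_adjoin_simple_self ℚ ζ) i
  have hz' : (⟨z, hzK⟩ : K) ^ n = 1 := Subtype.ext hz
  have h1 := hσ ⟨z, hzK⟩
  have h2 := autToPow_spec' n τ hz'
  rw [hτ, ZMod.coe_unitOfCoprime, ZMod.val_natCast, ← pow_eq_pow_mod _ hz'] at h2
  rw [show τ.toRingEquiv ⟨z, hzK⟩ = τ ⟨z, hzK⟩ from rfl, h2] at h1
  exact h1

/-- An element of `ℂ` that is a sum of `n`-th roots of unity and is fixed by all automorphisms
raising them to powers coprime to `n` is rational. -/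
theorem exists_rat_of_fixed (n : ℕ) [NeZero n] {ι : Type*} (s : Finset ι) (z : ι → ℂ)
    (hz : ∀ i ∈ s, z i ^ n = 1)
    (hfix : ∀ (m : ℕ) (σ : ℂ ≃+* ℂ), m.Coprime n → (∀ w : ℂ, w ^ n = 1 → σ w = w ^ m) →
      σ (∑ i ∈ s, z i) = ∑ i ∈ s, z i) :
    ∃ q : ℚ, ∑ i ∈ s, z i = (q : ℂ) := by
  have hζ := Complex.isPrimitiveRoot_exp n (NeZero.ne n)
  set ζ : ℂ := Complex.exp (2 * Real.pi * Complex.I / n)
  let K : IntermediateField ℚ ℂ := IntermediateField.adjoin ℚ {ζ}
  have : IsCyclotomicExtension {n} ℚ K :=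
    isCyclotomic_adjoin hζ
  have : FiniteDimensional ℚ K := IsCyclotomicExtension.finiteDimensional {n} ℚ K
  have : IsGalois ℚ K := IsCyclotomicExtension.isGalois {n} ℚ K
  have hmem : ∀ i ∈ s, z i ∈ K := fun i hi => by
    obtain ⟨j, -, hj⟩ := hζ.eq_pow_of_pow_eq_one (hz i hi)
    exact hj ▸ pow_mem (IntermediateField.mem_adjoin_simple_self ℚ ζ) j
  have hsum : ∑ i ∈ s, z i ∈ K := K.sum_mem hmem
  let a : K := ⟨∑ i ∈ s, z i, hsum⟩
  have ha : a ∈ (⊥ : IntermediateField ℚ K) := by
    rw [IsGalois.mem_bot_iff_fixed]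
    intro τ
    set u := (IsCyclotomicExtension.zeta_spec n ℚ K).autToPow ℚ τ with hu
    have hcop : ((u : ZMod n).val).Coprime n := ZMod.val_coe_unit_coprime u
    obtain ⟨σ, hσ⟩ := exists_autComplex n hcop
    apply Subtype.ext
    have hcalc : ((τ a : K) : ℂ) = σ (∑ i ∈ s, z i) := by
      have ha' : a = ∑ i ∈ s.attach, (⟨z i, hmem i i.2⟩ : K) := by
        apply Subtype.ext
        simp [a, Finset.sum_attach]
      rw [ha', map_sum, map_sum, ← K.coe_val, map_sum, ← Finset.sum_attach s]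
      refine Finset.sum_congr rfl fun i _ => ?_
      rw [hσ _ (hz i i.2), autToPow_spec' n τ (Subtype.ext (hz i i.2) : (⟨z i, hmem i i.2⟩ : K) ^ n = 1)]
      rfl
    rw [hcalc]
    exact hfix _ σ hcop hσ
  obtain ⟨q, hq⟩ := IntermediateField.mem_bot.1 ha
  refine ⟨q, ?_⟩
  have h2 : ((algebraMap ℚ K q : K) : ℂ) = ∑ i ∈ s, z i := congrArg Subtype.val hq
  rw [← h2]
  simp

/-! ## Action on characters -/

variable {G : Type u} [Group G]

/-- An irreducible character of a commutative group is multiplicative on powers. -/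
theorem irr_pow_of_comm [Finite G] [IsMulCommutative G] (ψ : IrrCharacter G) (x : G) (k : ℕ) :
    (ψ : G → ℂ) (x ^ k) = (ψ : G → ℂ) x ^ k := by
  obtain ⟨_, n, ρ, hρ, rfl⟩ := ψ
  haveI := hρ
  have h1 : Module.finrank ℂ (Fin n → ℂ) = 1 :=
    Representation.IsIrreducible.finrank_eq_one_of_isMulCommutative ρ
  have hscal : ∀ g, ρ g = ρ.character g • (1 : Module.End ℂ (Fin n → ℂ)) := by
    intro g
    obtain ⟨c, hc⟩ := schur_scalar ρ (ρ g) fun h => by
      rw [← map_mul, ← map_mul, IsMulCommutative.is_comm.comm]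
    have : ρ.character g = c := by
      rw [Representation.character, hc, map_smul, LinearMap.trace_one, h1]
      simp
    rw [this, hc]
  show LinearMap.trace ℂ _ (ρ (x ^ k)) = ρ.character x ^ k
  rw [map_pow, hscal x, smul_pow, one_pow, map_smul, LinearMap.trace_one, h1]
  simp

theorem irr_root_of_comm [Finite G] [IsMulCommutative G] (ψ : IrrCharacter G) (x : G) :
    (ψ : G → ℂ) x ^ Nat.card G = 1 := by
  rw [← irr_pow_of_comm ψ x, pow_card_eq_one']
  obtain ⟨_, n, ρ, hρ, rfl⟩ := ψ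
  haveI := hρ
  have h1 : Module.finrank ℂ (Fin n → ℂ) = 1 :=
    Representation.IsIrreducible.finrank_eq_one_of_isMulCommutative ρ
  show ρ.character 1 = 1
  rw [Representation.char_one, h1, Nat.cast_one]

/-- Restriction of a character along a homomorphism is a character. -/
theorem isCharacter_comp {H : Type*} [Group H] {χ : G → ℂ} (h : IsCharacter G χ) (f : H →* G) :
    IsCharacter H (fun x => χ (f x)) := by
  obtain ⟨n, ρ, rfl⟩ := h
  exact ⟨n, ρ.comp f, rfl⟩

/-- On the powers of `g` a character is a sum of powers of fixed roots of unity. -/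
theorem exists_root_decomp [Finite G] {χ : G → ℂ} (hχ : IsCharacter G χ) (g : G) :
    ∃ (N : ℕ) (z : Fin N → ℂ), (∀ i, z i ^ Nat.card G = 1) ∧
      ∀ k : ℕ, χ (g ^ k) = ∑ i, z i ^ k := by
  classical
  let C := Subgroup.zpowers g
  obtain ⟨n, ρ, rfl⟩ := hχ
  have : IsMulCommutative C := inferInstance
  have : Fintype C := Fintype.ofFinite C
  obtain ⟨m, hm⟩ := exists_irr_decomp (ρ.comp C.subtype : Representation ℂ C (Fin n → ℂ))
  let x : C := ⟨g, Subgroup.mem_zpowers g⟩
  let ι := Σ ψ : IrrCharacter C, Fin (m ψ)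
  let e := Fintype.equivFin ι
  refine ⟨Fintype.card ι, fun i => ((e.symm i).1 : C → ℂ) x, fun i => ?_, fun k => ?_⟩
  · obtain ⟨d, hd⟩ := Subgroup.card_subgroup_dvd_card C
    rw [hd, pow_mul, irr_root_of_comm, one_pow]
  · rw [Equiv.sum_comp e.symm (fun i : ι => (i.1 : C → ℂ) x ^ k), Fintype.sum_sigma]
    have := congrFun hm (x ^ k)
    simp only [Finset.sum_apply, Pi.smul_apply, smul_eq_mul, irr_pow_of_comm] at this
    simp only [Finset.sum_const, Finset.card_univ, Fintype.card_fin, nsmul_eq_mul]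
    exact this

/-- An automorphism raising roots of unity to the `m`-th power sends `χ g` to `χ (g ^ m)`. -/
theorem map_char_eq_pow [Finite G] {χ : G → ℂ} (hχ : IsCharacter G χ) {m : ℕ} (σ : ℂ ≃+* ℂ)
    (hσ : ∀ z : ℂ, z ^ Nat.card G = 1 → σ z = z ^ m) (g : G) :
    σ (χ g) = χ (g ^ m) := by
  obtain ⟨N, z, hz, h⟩ := exists_root_decomp hχ g
  have h1 := h 1
  simp only [pow_one] at h1
  rw [h1, h m, map_sum]
  exact Finset.sum_congr rfl fun i _ => hσ _ (hz i)

/-- A character value that is fixed by all cyclotomic automorphisms is rational. -/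
theorem exists_rat_char [Finite G] {χ : G → ℂ} (hχ : IsCharacter G χ) (g : G)
    (h : ∀ m : ℕ, m.Coprime (Nat.card G) → χ (g ^ m) = χ g) : ∃ q : ℚ, χ g = (q : ℂ) := by
  have : NeZero (Nat.card G) := ⟨Nat.card_pos.ne'⟩
  obtain ⟨N, z, hz, hd⟩ := exists_root_decomp hχ g
  have h1 := hd 1
  simp only [pow_one] at h1
  rw [h1]
  refine exists_rat_of_fixed (Nat.card G) Finset.univ z (fun i _ => hz i) fun m σ hm hσ => ?_
  rw [← h1, map_char_eq_pow hχ σ hσ, h m hm]

/-! ## Conjugate representations -/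

/-- Apply a field automorphism to the coordinates. -/
def coordMap (σ : ℂ ≃+* ℂ) (n : ℕ) : (Fin n → ℂ) ≃+ (Fin n → ℂ) :=
  AddEquiv.piCongrRight fun _ => σ.toAddEquiv

theorem coordMap_smul (σ : ℂ ≃+* ℂ) (n : ℕ) (c : ℂ) (v : Fin n → ℂ) :
    coordMap σ n (c • v) = σ c • coordMap σ n v := by
  funext i
  exact map_mul σ c (v i)

theorem coordMap_symm_smul (σ : ℂ ≃+* ℂ) (n : ℕ) (c : ℂ) (v : Fin n → ℂ) :
    (coordMap σ n).symm (c • v) = σ.symm c • (coordMap σ n).symm v := by
  apply (coordMap σ n).injective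
  rw [AddEquiv.apply_symm_apply, coordMap_smul, RingEquiv.apply_symm_apply,
    AddEquiv.apply_symm_apply]

/-- The representation conjugate to `ρ` under an automorphism of `ℂ`. -/
def galoisRep (σ : ℂ ≃+* ℂ) {n : ℕ} (ρ : Representation ℂ G (Fin n → ℂ)) :
    Representation ℂ G (Fin n → ℂ) where
  toFun g :=
    { toFun := fun v => coordMap σ n (ρ g ((coordMap σ n).symm v))
      map_add' := fun v w => by simp
      map_smul' := fun c v => by
        rw [coordMap_symm_smul, map_smul, coordMap_smul, RingEquiv.apply_symm_apply,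
          RingHom.id_apply] }
  map_one' := by refine LinearMap.ext fun v => ?_; simp
  map_mul' g h := by
    refine LinearMap.ext fun v => ?_
    simp

theorem galoisRep_character (σ : ℂ ≃+* ℂ) {n : ℕ} (ρ : Representation ℂ G (Fin n → ℂ)) (g : G) :
    (galoisRep σ ρ).character g = σ (ρ.character g) := by
  simp only [Representation.character,
    LinearMap.trace_eq_matrix_trace ℂ (Pi.basisFun ℂ (Fin n)), Matrix.trace, Matrix.diag, map_sum]
  refine Finset.sum_congr rfl fun i _ => ?_
  rw [LinearMap.toMatrix_apply, LinearMap.toMatrix_apply]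
  have : (coordMap σ n).symm (Pi.basisFun ℂ (Fin n) i) = Pi.basisFun ℂ (Fin n) i := by
    apply (coordMap σ n).injective
    rw [AddEquiv.apply_symm_apply]
    funext j
    show _ = σ (Pi.basisFun ℂ (Fin n) i j)
    by_cases hj : j = i
    · subst hj; simp
    · simp [hj]
  simp only [galoisRep, MonoidHom.coe_mk, OneHom.coe_mk, LinearMap.coe_mk, AddHom.coe_mk, this,
    Pi.basisFun_repr]
  rfl

theorem isCharacter_map (σ : ℂ ≃+* ℂ) {χ : G → ℂ} (h : IsCharacter G χ) :
    IsCharacter G (fun g => σ (χ g)) := by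
  obtain ⟨n, ρ, rfl⟩ := h
  exact ⟨n, galoisRep σ ρ, funext (galoisRep_character σ ρ)⟩

theorem galoisRep_irreducible (σ : ℂ ≃+* ℂ) {n : ℕ} (ρ : Representation ℂ G (Fin n → ℂ))
    (h : ρ.IsIrreducible) : (galoisRep σ ρ).IsIrreducible := by
  rw [isIrreducible_iff] at h ⊢
  refine ⟨h.1, fun U hU => ?_⟩
  let U' : Submodule ℂ (Fin n → ℂ) :=
    { carrier := {v | coordMap σ n v ∈ U}
      add_mem' := fun {a b} ha hb => by simpa using U.add_mem ha hb
      zero_mem' := by simp
      smul_mem' := fun c v hv => by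
        show coordMap σ n (c • v) ∈ U
        rw [coordMap_smul]
        exact U.smul_mem _ hv }
  have hU' : ∀ g : G, ∀ v ∈ U', ρ g v ∈ U' := by
    intro g v hv
    have := hU g _ hv
    show coordMap σ n (ρ g v) ∈ U
    simpa [galoisRep] using this
  rcases h.2 U' hU' with h1 | h1
  · left
    rw [Submodule.eq_bot_iff]
    intro w hw
    have : (coordMap σ n).symm w ∈ U' := by show coordMap σ n _ ∈ U; simpa using hw
    rw [h1, Submodule.mem_bot] at this
    simpa using congrArg (coordMap σ n) this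
  · right
    rw [Submodule.eq_top_iff']
    intro w
    have : (coordMap σ n).symm w ∈ U' := h1 ▸ Submodule.mem_top
    simpa using (show coordMap σ n _ ∈ U from this)

theorem isIrrCharacter_map (σ : ℂ ≃+* ℂ) {χ : G → ℂ} (h : IsIrrCharacter G χ) :
    IsIrrCharacter G (fun g => σ (χ g)) := by
  obtain ⟨n, ρ, hρ, rfl⟩ := h
  exact ⟨n, galoisRep σ ρ, galoisRep_irreducible σ ρ hρ, funext (galoisRep_character σ ρ)⟩

/-- `g ↦ χ (g ^ m)` is an irreducible character for `m` coprime to the group order. -/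
theorem isIrrCharacter_pow [Finite G] {χ : G → ℂ} (h : IsIrrCharacter G χ) {m : ℕ}
    (hm : m.Coprime (Nat.card G)) : IsIrrCharacter G (fun g => χ (g ^ m)) := by
  have : NeZero (Nat.card G) := ⟨Nat.card_pos.ne'⟩
  obtain ⟨σ, hσ⟩ := exists_autComplex (Nat.card G) hm
  simpa only [map_char_eq_pow (isCharacter_of_irr h) σ hσ] using isIrrCharacter_map σ h

end CfsgLib.CharGalois
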