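import Cfsg.Agent.Lib.Characters.BrauerPerm
import Cfsg.Agent.Lib.Characters.Induction

/-!
# Restriction of irreducible characters to a normal subgroup: the elementary part of Clifford theory
-/

set_option autoImplicit false
set_option linter.unusedSectionVars false
set_option linter.style.haveILetI false

namespace CfsgLib.NormalRes

open Cfsg CfsgLib.Characters CfsgLib.BrauerPerm
open scoped ComplexConjugate

universe u

section Sub

variable {G : Type u} [Group G] (N : Subgroup G)

theorem isCharacter_res {χ : G → ℂ} (h : IsCharacter G χ) :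
    IsCharacter N (fun n : N => χ n) := by
  obtain ⟨n, ρ, rfl⟩ := h
  exact ⟨n, ρ.comp N.subtype, rfl⟩

theorem isClassFunction_res {χ : G → ℂ} (h : IsClassFunction G χ) :
    IsClassFunction N (fun n : N => χ n) := fun a b => h a b

/-- The multiplicity of `θ` in the restriction of `χ`. -/
noncomputable def mult [Fintype N] (χ : G → ℂ) (θ : IrrCharacter N) : ℂ :=
  classInner (fun n : N => χ n) (θ : N → ℂ)

theorem mult_nat [Fintype N] {χ : G → ℂ} (h : IsCharacter G χ) (θ : IrrCharacter N) :
    ∃ m : ℕ, mult N χ θ = m :=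
  classInner_char_nat (isCharacter_res N h) (irr_isCharacter θ)

theorem res_eq_sum [Fintype N] {χ : G → ℂ} (h : IsClassFunction G χ) (n : N) :
    χ n = ∑ θ : IrrCharacter N, mult N χ θ * (θ : N → ℂ) n := by
  have h1 := congrFun (classFunction_eq_sum (isClassFunction_res N h)) n
  rw [h1, Finset.sum_apply]
  rfl

theorem exists_mult_ne_zero [Fintype N] (χ : IrrCharacter G) :
    ∃ θ : IrrCharacter N, mult N (χ : G → ℂ) θ ≠ 0 := by
  by_contra hne
  push Not at hne
  have h1 := res_eq_sum N (irr_isClassFunction χ) 1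
  simp [hne, irr_one_ne_zero χ] at h1

theorem classInner_indFun_irr [Fintype G] [Fintype N] (θ : IrrCharacter N) (χ : IrrCharacter G) :
    classInner (indFun N (θ : N → ℂ)) (χ : G → ℂ) = mult N (χ : G → ℂ) θ := by
  obtain ⟨m, hm⟩ := mult_nat N (irr_isCharacter χ) θ
  rw [CfsgLib.Induction.classInner_indFun N _ (irr_isClassFunction χ), classInner_conj_symm,
    show classInner (fun h : N => (χ : G → ℂ) h) (θ : N → ℂ) = (m : ℂ) from hm, hm,
    Complex.conj_natCast]

theorem indFun_eq_sum [Fintype G] [Fintype N] (θ : IrrCharacter N) :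
    indFun N (θ : N → ℂ) = ∑ χ : IrrCharacter G, mult N (χ : G → ℂ) θ • (χ : G → ℂ) := by
  rw [classFunction_eq_sum (CfsgLib.Induction.isClassFunction_indFun N (θ : N → ℂ))]
  exact Finset.sum_congr rfl fun χ _ => by rw [classInner_indFun_irr]

theorem exists_mult_ne_zero_of_irr [Fintype G] [Fintype N] (θ : IrrCharacter N) :
    ∃ χ : IrrCharacter G, mult N (χ : G → ℂ) θ ≠ 0 := by
  by_contra hne
  push Not at hne
  have h1 := congrFun (indFun_eq_sum (G := G) N θ) 1
  rw [CfsgLib.Induction.indFun_one_apply] at h1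
  simp [hne, irr_one_ne_zero θ, Subgroup.FiniteIndex.index_ne_zero] at h1

end Sub

section Normal

variable {G : Type u} [Group G] (N : Subgroup G) [N.Normal]

theorem twist_apply_eq (g : G) (θ : IrrCharacter N) (n : N) :
    (twistIrr (MulAut.conjNormal g) θ : N → ℂ) n =
      (θ : N → ℂ) ⟨g⁻¹ * n * g, by
        simpa using (inferInstance : N.Normal).conj_mem _ n.2 g⁻¹⟩ := by
  rw [twistIrr_apply]
  refine congrArg _ (Subtype.ext ?_)
  simp [MulAut.conjNormal_symm_apply]

theorem twist_eq_iff (g : G) (θ η : IrrCharacter N) :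
    twistIrr (MulAut.conjNormal g) θ = η ↔
      ∀ k k' : N, (k' : G) = g * (k : G) * g⁻¹ → (η : N → ℂ) k' = (θ : N → ℂ) k := by
  constructor
  · rintro rfl k k' hk
    rw [twist_apply_eq]
    refine congrArg _ (Subtype.ext ?_)
    simp [hk, mul_assoc]
  · intro h
    refine Subtype.ext (funext fun n => ?_)
    rw [twist_apply_eq]
    exact (h _ n (by simp [mul_assoc])).symm

theorem twist_of_mem {g : G} (hg : g ∈ N) (θ : IrrCharacter N) :
    twistIrr (MulAut.conjNormal g) θ = θ := by
  refine (twist_eq_iff N g θ θ).mpr fun k k' hk => ?_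
  refine classFunction_eq_of_isConj (irr_isClassFunction θ) (isConj_iff.mpr ⟨⟨g, hg⟩, ?_⟩).symm
  exact Subtype.ext hk.symm

theorem twist_twist (g h : G) (θ : IrrCharacter N) :
    twistIrr (MulAut.conjNormal g) (twistIrr (MulAut.conjNormal h) θ) =
      twistIrr (MulAut.conjNormal (g * h)) θ := by
  rw [map_mul]
  rfl

variable [Fintype N]

theorem mult_twist (g : G) {χ : G → ℂ} (hχ : IsClassFunction G χ) (θ : IrrCharacter N) :
    mult N χ (twistIrr (MulAut.conjNormal g) θ) = mult N χ θ := by
  unfold mult classInner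
  congr 1
  refine (Fintype.sum_equiv (MulAut.conjNormal g).toEquiv _ _ fun n => ?_).symm
  change _ = χ (MulAut.conjNormal g n : N) * _
  rw [twistIrr_apply]
  simp [MulAut.conjNormal_apply, hχ (n : G) g]

theorem indFun_res [Fintype G] (θ : IrrCharacter N) (n : N) :
    indFun N (θ : N → ℂ) n =
      (Nat.card N : ℂ)⁻¹ * ∑ x : G, (twistIrr (MulAut.conjNormal x) θ : N → ℂ) n := by
  rw [CfsgLib.Induction.indFun_normal_apply, ← Equiv.sum_comp (Equiv.inv G)]
  congr 1

theorem mult_indFun [Fintype G] [DecidableEq (IrrCharacter N)] (θ η : IrrCharacter N) :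
    mult N (indFun N (θ : N → ℂ)) η = (Nat.card N : ℂ)⁻¹ *
      (Finset.univ.filter fun x : G => twistIrr (MulAut.conjNormal x) θ = η).card := by
  have h : (fun n : N => indFun N (θ : N → ℂ) n) = (Nat.card N : ℂ)⁻¹ •
      ∑ x : G, (twistIrr (MulAut.conjNormal x) θ : N → ℂ) := by
    funext n
    rw [indFun_res]
    simp
  unfold mult
  rw [h, classInner_smul_left, classInner_sum_left]
  simp [classInner_irr]

/-- Constituents of the restriction of an irreducible character are conjugate. -/
theorem exists_conj_of_constituents [Finite G] (χ : IrrCharacter G) {θ η : IrrCharacter N}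
    (hθ : mult N (χ : G → ℂ) θ ≠ 0) (hη : mult N (χ : G → ℂ) η ≠ 0) :
    ∃ x : G, twistIrr (MulAut.conjNormal x) θ = η := by
  classical
  haveI := Fintype.ofFinite G
  by_contra hne
  push Not at hne
  have h1 := mult_indFun N θ η
  rw [Finset.filter_false_of_mem (fun x _ => hne x)] at h1
  simp only [Finset.card_empty, Nat.cast_zero, mul_zero] at h1
  rw [indFun_eq_sum] at h1
  choose m hm using fun ψ : IrrCharacter G => mult_nat N (irr_isCharacter ψ) θ
  choose m' hm' using fun ψ : IrrCharacter G => mult_nat N (irr_isCharacter ψ) η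
  have h2 : mult N (∑ ψ : IrrCharacter G, mult N (ψ : G → ℂ) θ • (ψ : G → ℂ)) η =
      ∑ ψ : IrrCharacter G, mult N (ψ : G → ℂ) θ * mult N (ψ : G → ℂ) η := by
    unfold mult
    have : (fun n : N => (∑ ψ : IrrCharacter G,
        classInner (fun n : N => (ψ : G → ℂ) n) (θ : N → ℂ) • (ψ : G → ℂ)) n) =
        ∑ ψ : IrrCharacter G, classInner (fun n : N => (ψ : G → ℂ) n) (θ : N → ℂ) •
          (fun n : N => (ψ : G → ℂ) n) := by
      funext n; simp
    rw [this, classInner_sum_left]
    simp [classInner_smul_left]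
  rw [h2] at h1
  simp only [hm, hm'] at h1
  have h3 : ∑ ψ : IrrCharacter G, m ψ * m' ψ = 0 := by exact_mod_cast h1
  have h4 := Finset.sum_eq_zero_iff.mp h3 χ (Finset.mem_univ _)
  rcases mul_eq_zero.mp h4 with h5 | h5
  · exact hθ (by rw [hm, h5]; simp)
  · exact hη (by rw [hm', h5]; simp)

end Normal

end CfsgLib.NormalRes
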