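import Cfsg.Agent.S4763
import Cfsg.Agent.Lib.PCore.PSolvable
import Cfsg.Agent.Lib.Characters.NormalRes

/-!
# The theorem of Itô and Michler for `p`-solvable groups

If no irreducible degree of a `p`-solvable group is divisible by `p` then its Sylow
`p`-subgroup is normal and abelian.
-/

set_option autoImplicit false

namespace CfsgLib.ItoMichler

open Cfsg CfsgLib CfsgLib.Characters CfsgLib.ClassCount CfsgLib.NormalRes CfsgLib.PCore
open scoped ComplexConjugate commutatorElement

universe u

variable {G : Type u} [Group G] [Finite G] {p : ℕ}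

/-- An irreducible degree of a normal subgroup divides one of the group. -/
theorem exists_degree_dvd (N : Subgroup G) [hN : N.Normal] (θ : IrrCharacter N) :
    ∃ χ : IrrCharacter G, charDegree (θ : N → ℂ) ∣ charDegree (χ : G → ℂ) := by
  classical
  haveI := Fintype.ofFinite G
  haveI := Fintype.ofFinite N
  obtain ⟨χ, hχ⟩ := exists_mult_ne_zero_of_irr N θ
  refine ⟨χ, ?_⟩
  obtain ⟨e, he⟩ := mult_nat N (irr_isCharacter χ) θ
  have h := Clifford.clifford_degree hN χ.2 θ.2 hχ
  rw [show classInner (fun n : N => (χ : G → ℂ) n) (θ : N → ℂ) = (e : ℂ) from he,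
    (degree_eq χ).1, (degree_eq θ).1, ← Nat.cast_mul, ← Nat.cast_mul, Nat.cast_inj] at h
  rw [h]
  exact dvd_mul_left _ _

/-- A group whose irreducible degrees are all one is abelian. -/
theorem comm_of_degree_one (h : ∀ χ : IrrCharacter G, charDegree (χ : G → ℂ) = 1) (x y : G) :
    x * y = y * x := by
  classical
  haveI : IsEmpty {χ : IrrCharacter G // charDegree (χ : G → ℂ) ≠ 1} := ⟨fun χ => χ.2 (h χ.1)⟩
  haveI := Fintype.ofFinite {χ : IrrCharacter G // charDegree (χ : G → ℂ) ≠ 1}
  have hs := Cfsg.Agent.S4762.sum_split (G := G)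
  rw [Fintype.sum_empty, add_zero] at hs
  have hc := (commutator G).card_mul_index
  rw [hs] at hc
  have hbot : commutator G = ⊥ := Subgroup.card_eq_one.mp
    (mul_left_eq_self₀.mp hc |>.resolve_right Nat.card_pos.ne')
  refine commutatorElement_eq_one_iff_mul_comm.mp ?_
  have hm : ⁅x, y⁆ ∈ commutator G :=
    Subgroup.commutator_mem_commutator (Subgroup.mem_top x) (Subgroup.mem_top y)
  rwa [hbot, Subgroup.mem_bot] at hm

/-- If `p` divides no degree, a normal `p`-subgroup is abelian. -/
theorem comm_of_normal_pgroup [Fact p.Prime] (hdeg : ∀ χ : IrrCharacter G, ¬ p ∣ charDegree (χ : G → ℂ))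
    (Q : Subgroup G) [Q.Normal] (hQ : IsPGroup p Q) : ∀ a ∈ Q, ∀ b ∈ Q, a * b = b * a := by
  intro a ha b hb
  classical
  haveI := Fintype.ofFinite G
  refine congrArg Subtype.val (comm_of_degree_one (G := Q) (fun θ => ?_) (⟨a, ha⟩ : Q) ⟨b, hb⟩)
  obtain ⟨n, hn⟩ := IsPGroup.iff_card.mp hQ
  obtain ⟨i, -, hi⟩ := (Nat.dvd_prime_pow Fact.out).mp (hn ▸ (degree_eq θ).2.1)
  obtain ⟨χ, hχ⟩ := exists_degree_dvd Q θ
  rcases Nat.eq_zero_or_pos i with rfl | hpos
  · exact hi.trans (pow_zero p)
  · exact absurd ((dvd_pow_self p hpos.ne').trans (hi ▸ hχ)) (hdeg χ)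

theorem degree_quotient (hdeg : ∀ χ : IrrCharacter G, ¬ p ∣ charDegree (χ : G → ℂ))
    (N : Subgroup G) [N.Normal] (φ : IrrCharacter (G ⧸ N)) :
    ¬ p ∣ charDegree (φ : G ⧸ N → ℂ) := by
  have h := hdeg ⟨_, Clifford.isIrrCharacter_pullback φ.2 (QuotientGroup.mk' N)
    (QuotientGroup.mk'_surjective N)⟩
  simpa [charDegree] using h

/-- A normal `p`-complement with abelian quotient: a Sylow subgroup is central. -/
theorem central_of_complement [hp : Fact p.Prime]
    (hdeg : ∀ χ : IrrCharacter G, ¬ p ∣ charDegree (χ : G → ℂ))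
    (N : Subgroup G) [N.Normal] (hN : ¬ p ∣ Nat.card N) {k : ℕ} (hk : N.index = p ^ k)
    (hab : commutator (G ⧸ N) = ⊥) (P : Sylow p G) :
    (⊤ : Subgroup G) ≤ Subgroup.centralizer ((P : Subgroup G) : Set G) := by
  classical
  haveI := Fintype.ofFinite G
  have hm : Nat.card (G ⧸ N →* ℂˣ) = p ^ k := by
    rw [Cfsg.Agent.S4763.card_quotient_hom, hab, Subgroup.index_bot, ← Subgroup.index_eq_card, hk]
  have hdvd : ∀ g : G, p ^ k ∣ Nat.card (Subgroup.centralizer ({g} : Set G)) := by
    intro g
    obtain ⟨a, ha, hs⟩ := Cfsg.Agent.S4763.orbit_sum (N := N) (p := p) ⟨k, hk⟩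
      (fun χ => (χ : G → ℂ) g * conj ((χ : G → ℂ) g))
      (fun χ => (irr_isIntegral χ g).mul (isIntegral_conj (irr_isIntegral χ g)))
      (fun χ f => by
        have h2 := irr_apply_inv (linearIrr (f.comp (QuotientGroup.mk' N))) g
        simp only [linearIrr, MonoidHom.comp_apply, QuotientGroup.mk'_apply] at h2
        have h1 : (f (g : G ⧸ N) : ℂ) * conj (f (g : G ⧸ N) : ℂ) = 1 := by
          rw [← h2, ← Units.val_mul, ← map_mul, ← QuotientGroup.mk_mul, mul_inv_cancel,
            QuotientGroup.mk_one, map_one, Units.val_one]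
        simp only [Cfsg.Agent.S4763.tw_apply, map_mul]
        linear_combination ((χ : G → ℂ) g * conj ((χ : G → ℂ) g)) * h1)
    have horth := column_orth g g
    rw [if_pos (IsConj.refl g)] at horth
    have hall : ∑ χ : IrrCharacter G, (χ : G → ℂ) g * conj ((χ : G → ℂ) g) =
        ∑ χ : {χ : IrrCharacter G // ¬ p ∣ charDegree (χ : G → ℂ)},
          (χ.1 : G → ℂ) g * conj ((χ.1 : G → ℂ) g) :=
      (Fintype.sum_equiv (Equiv.subtypeUnivEquiv hdeg) _ _ fun _ => rfl).symm
    rw [hall, hs, hm] at horth
    refine CharScalar.dvd_of_isIntegral_div (pow_ne_zero _ hp.out.ne_zero) ?_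
    rw [← horth, mul_div_cancel_left₀ _ (Nat.cast_ne_zero.mpr (pow_ne_zero _ hp.out.ne_zero))]
    exact ha
  have hPcard : Nat.card (P : Subgroup G) = p ^ k := by
    rw [P.card_eq_multiplicity, ← N.card_mul_index, hk,
      Nat.factorization_mul Nat.card_pos.ne' (pow_ne_zero _ hp.out.ne_zero), Finsupp.add_apply,
      Nat.factorization_eq_zero_of_not_dvd hN, hp.out.factorization_pow, Finsupp.single_eq_same,
      zero_add]
  by_contra hlt
  obtain ⟨g, -, hg⟩ := PrimRecog.exists_not_conj_mem hlt
  obtain ⟨Q, hQcard⟩ :=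
    Sylow.exists_subgroup_card_pow_prime (G := Subgroup.centralizer ({g} : Set G)) p (hdvd g)
  let Q' : Subgroup G := Q.map (Subgroup.centralizer ({g} : Set G)).subtype
  have hQ' : Nat.card Q' = p ^ k := by
    rw [Subgroup.card_map_of_injective (Subgroup.subtype_injective _), hQcard]
  obtain ⟨R, hR⟩ := (IsPGroup.of_card hQ').exists_le_sylow
  have hRQ : Q' = R := Subgroup.eq_of_le_of_card_ge hR (le_of_eq (by
    rw [hQ', R.card_eq_multiplicity, ← hPcard, P.card_eq_multiplicity]))
  obtain ⟨c, hc⟩ := MulAction.exists_smul_eq G P R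
  refine hg c (Subgroup.mem_top c) ?_
  rw [Subgroup.mem_centralizer_iff]
  intro u hu
  have hu' : c * u * c⁻¹ ∈ Q' := by
    rw [hRQ, ← hc]
    exact Subgroup.smul_mem_pointwise_smul u (MulAut.conj c) (P : Subgroup G) hu
  obtain ⟨q, -, hq⟩ := Subgroup.mem_map.mp hu'
  have hcom := Subgroup.mem_centralizer_singleton_iff.mp q.2
  rw [show (q : G) = c * u * c⁻¹ from hq] at hcom
  calc u * (c⁻¹ * g * c) = c⁻¹ * (c * u * c⁻¹ * g) * c := by group
    _ = c⁻¹ * (g * (c * u * c⁻¹)) * c := by rw [hcom]
    _ = c⁻¹ * g * c * u := by group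

/-- **Itô–Michler for `p`-solvable groups.** -/
theorem normal_sylow [hp : Fact p.Prime] (hsolv : IsPSolvable p G)
    (hdeg : ∀ χ : IrrCharacter G, ¬ p ∣ charDegree (χ : G → ℂ)) (P : Sylow p G) :
    (P : Subgroup G).Normal := by
  suffices key : ∀ (n : ℕ) (X : Type u) [Group X] [Finite X], Nat.card X = n → IsPSolvable p X →
      (∀ χ : IrrCharacter X, ¬ p ∣ charDegree (χ : X → ℂ)) → ∀ P : Sylow p X,
        (P : Subgroup X).Normal from key _ G rfl hsolv hdeg P
  intro n
  induction n using Nat.strong_induction_on with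
  | _ n ih =>
    intro X _ _ hn hX hd P
    rcases subsingleton_or_nontrivial X with hs | hnt
    · exact ⟨fun a ha g => by rwa [Subsingleton.elim (g * a * g⁻¹) a]⟩
    by_cases hQ : pCore p X = ⊥
    swap
    · have hlt : Nat.card (X ⧸ pCore p X) < n := by
        have h1 := (pCore p X).card_eq_card_quotient_mul_card_subgroup
        have h2 : 1 < Nat.card (pCore p X) := (pCore p X).one_lt_card_iff_ne_bot.mpr hQ
        rw [hn] at h1
        have h3 : 0 < Nat.card (X ⧸ pCore p X) := Nat.card_pos
        nlinarith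
      have hPn := ih _ hlt (X ⧸ pCore p X) rfl (isPSolvable_quotient hX _)
        (degree_quotient hd _) (P.mapSurjective (QuotientGroup.mk'_surjective _))
      rw [Sylow.coe_mapSurjective] at hPn
      have hc := hPn.comap (QuotientGroup.mk' (pCore p X))
      rwa [Subgroup.comap_map_eq_self (by
        rw [QuotientGroup.ker_mk']; exact pCore_le_sylow P)] at hc
    · have hK : pPrimeCore p X ≠ ⊥ := fun h => pCore_ne_bot hX h hQ
      set K := pPrimeCore p X with hKdef
      have hlt : Nat.card (X ⧸ K) < n := by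
        have h1 := K.card_eq_card_quotient_mul_card_subgroup
        have h2 : 1 < Nat.card K := K.one_lt_card_iff_ne_bot.mpr hK
        rw [hn] at h1
        have h3 : 0 < Nat.card (X ⧸ K) := Nat.card_pos
        nlinarith
      set PQ := P.mapSurjective (QuotientGroup.mk'_surjective K) with hPQ
      have hPn : (PQ : Subgroup (X ⧸ K)).Normal :=
        ih _ hlt (X ⧸ K) rfl (isPSolvable_quotient hX _) (degree_quotient hd _) PQ
      set H := (PQ : Subgroup (X ⧸ K)).comap (QuotientGroup.mk' K) with hH
      haveI hHn : H.Normal := hPn.comap _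
      have hPH : (P : Subgroup X) ≤ H := fun a ha => by
        rw [hH, Subgroup.mem_comap, hPQ, Sylow.coe_mapSurjective]
        exact Subgroup.mem_map_of_mem _ ha
      by_cases htop : H = ⊤
      · haveI := hPn
        have hPQtop : (PQ : Subgroup (X ⧸ K)) = ⊤ := by
          rw [← Subgroup.map_comap_eq_self_of_surjective (QuotientGroup.mk'_surjective K)
            (PQ : Subgroup (X ⧸ K)), ← hH, htop,
            Subgroup.map_top_of_surjective _ (QuotientGroup.mk'_surjective K)]
        have hQp : IsPGroup p (X ⧸ K) := by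
          have := PQ.isPGroup'
          rw [hPQtop] at this
          exact this.of_equiv Subgroup.topEquiv
        obtain ⟨k, hk⟩ := IsPGroup.iff_card.mp hQp
        have hab : commutator (X ⧸ K) = ⊥ := by
          rw [eq_bot_iff, commutator_def, Subgroup.commutator_le]
          intro a _ b _
          rw [Subgroup.mem_bot]
          exact commutatorElement_eq_one_iff_mul_comm.mpr
            (comm_of_normal_pgroup (degree_quotient hd K) (PQ : Subgroup (X ⧸ K)) PQ.isPGroup'
              a (by rw [hPQtop]; trivial) b (by rw [hPQtop]; trivial))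
        have hc := central_of_complement hd K not_dvd_card_pPrimeCore
          (by rw [Subgroup.index_eq_card, hk]) hab P
        exact ⟨fun a ha g => by
          have := Subgroup.mem_centralizer_iff.mp (hc (Subgroup.mem_top g)) a ha
          rwa [← this, mul_inv_cancel_right]⟩
      · have hltH : Nat.card H < n := by
          have h1 := H.card_mul_index
          have h2 : 1 < H.index := Subgroup.one_lt_index_of_ne_top htop
          rw [hn] at h1
          have h3 : 0 < Nat.card H := Nat.card_pos
          nlinarith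
        have hHdeg : ∀ θ : IrrCharacter H, ¬ p ∣ charDegree (θ : H → ℂ) := fun θ h => by
          obtain ⟨χ, hχ⟩ := exists_degree_dvd H θ
          exact hd χ (h.trans hχ)
        have hPHn := ih _ hltH H rfl (isPSolvable_subgroup hX H) hHdeg (P.subtype hPH)
        have hle : ((P : Subgroup X).subgroupOf H) ≤ pCore p H :=
          le_pCore hPHn (P.subtype hPH).isPGroup'
        have hbot : (P : Subgroup X) = ⊥ := by
          rw [eq_bot_iff, ← hQ]
          intro a ha
          have h1 : ((⟨a, hPH ha⟩ : H) : X) ∈ (pCore p H).map H.subtype :=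
            Subgroup.mem_map_of_mem H.subtype (hle (x := ⟨a, hPH ha⟩) (Subgroup.mem_subgroupOf.mpr ha))
          rw [map_pCore_subtype_of_normal H] at h1
          exact h1.2
        rw [hbot]
        infer_instance

end CfsgLib.ItoMichler
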