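import Cfsg.Agent.Lib.Characters.DegreeBound
import Cfsg.Agent.Lib.Characters.Monomial
import Cfsg.Agent.Lib.Schur.Basic
import Mathlib.RingTheory.RootsOfUnity.Complex
import Mathlib.Algebra.Group.Subgroup.Order

/-!
# Faithful representations of small degree and normal Sylow subgroups

The Feit-Thompson form of Blichfeldt's theorem: a finite group with a faithful complex
representation of degree `n` has a normal Sylow `p`-subgroup if `(n + 1)² ≤ p`, or if
`n + 1 < p` and this holds for the subgroups of order not divisible by `p²`.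
-/

set_option autoImplicit false

noncomputable section

namespace CfsgLib.SmallDegree

open scoped ComplexConjugate commutatorElement
open CfsgLib.Characters

universe u v

/-- All Sylow `p`-subgroups are normal. -/
def NS (p : ℕ) (X : Type u) [Group X] : Prop := ∀ Q : Sylow p X, (Q : Subgroup X).Normal

theorem ns_of_surjective {p : ℕ} [Fact p.Prime] {X : Type u} {Y : Type v} [Group X] [Group Y]
    [Finite X] (f : X →* Y) (hf : Function.Surjective f) (h : NS p X) : NS p Y := by
  intro Q
  obtain ⟨P, rfl⟩ := Sylow.mapSurjective_surjective hf p Q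
  rw [Sylow.coe_mapSurjective]
  exact (h P).map f hf

variable {G : Type u} [Group G] [Finite G] {p : ℕ} [hp : Fact p.Prime]

omit [Finite G] in
theorem mem_normalizer_of_forall_conj {U K : Subgroup G} [Finite K]
    (hU : U ≤ K) (hpU : IsPGroup p U) (hmax : ∀ A : Subgroup G, A ≤ K → IsPGroup p A → A ≤ U)
    {g : G} (hg : ∀ k, k ∈ K ↔ g * k * g⁻¹ ∈ K) : g ∈ Subgroup.normalizer (U : Set G) := by
  refine Subgroup.mem_normalizer_iff.2 fun k => ⟨fun hk => ?_, fun hk => ?_⟩
  · refine hmax (U.map (MulAut.conj g).toMonoidHom) ?_ (hpU.map _) ⟨k, hk, rfl⟩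
    rintro _ ⟨m, hm, rfl⟩
    exact (hg m).1 (hU hm)
  · have h1 : g⁻¹ * (g * k * g⁻¹) * g⁻¹⁻¹ ∈ U := by
      refine hmax (U.map (MulAut.conj g⁻¹).toMonoidHom) ?_ (hpU.map _) ⟨_, hk, rfl⟩
      rintro _ ⟨m, hm, rfl⟩
      refine (hg _).2 ?_
      convert hU hm using 1
      simp [mul_assoc]
    convert h1 using 1
    group

/-- The largest `p`-subgroup of a subgroup with a normal Sylow `p`-subgroup. -/
theorem exists_largest (K : Subgroup G) (h : NS p K) :
    ∃ U : Subgroup G, U ≤ K ∧ IsPGroup p U ∧ (∀ A : Subgroup G, A ≤ K → IsPGroup p A → A ≤ U) ∧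
      K ≤ Subgroup.normalizer (U : Set G) := by
  obtain ⟨Q⟩ : Nonempty (Sylow p K) := inferInstance
  haveI := Sylow.unique_of_normal Q (h Q)
  have hmax : ∀ A : Subgroup G, A ≤ K → IsPGroup p A → A ≤ (Q : Subgroup K).map K.subtype := by
    intro A hA hpA a ha
    have hA' : IsPGroup p (A.subgroupOf K) :=
      hpA.of_equiv (Subgroup.subgroupOfEquivOfLe hA).symm
    obtain ⟨R, hR⟩ := hA'.exists_le_sylow
    rw [Subsingleton.elim R Q] at hR
    exact ⟨⟨a, hA ha⟩, hR ha, rfl⟩
  refine ⟨(Q : Subgroup K).map K.subtype, Subgroup.map_subtype_le _, Q.isPGroup'.map _, hmax,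
    fun k hk => ?_⟩
  refine mem_normalizer_of_forall_conj (Subgroup.map_subtype_le _) (Q.isPGroup'.map _) hmax fun m => ?_
  exact ⟨fun hm => K.mul_mem (K.mul_mem hk hm) (K.inv_mem hk), fun hm => by
    have := K.mul_mem (K.mul_mem (K.inv_mem hk) hm) hk
    simpa [mul_assoc] using this⟩

theorem end_fin_one (f : Module.End ℂ (Fin 1 → ℂ)) : ∃ c : ℂ, f = c • (1 : Module.End ℂ (Fin 1 → ℂ)) := by
  refine ⟨f (fun _ => 1) 0, LinearMap.ext fun v => funext fun i => ?_⟩
  have hv : v = v 0 • (fun _ => (1 : ℂ)) := funext fun j => by simp [Subsingleton.elim j 0]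
  conv_lhs => rw [hv, map_smul]
  simp [Subsingleton.elim i 0, mul_comm]

/-- Characters of degree one are trivial on commutators. -/
theorem linear_commutator {γ : G → ℂ} (hγ : Cfsg.IsIrrCharacter G γ) (h1 : γ 1 = 1) (a b : G) :
    γ ⁅a, b⁆ = γ 1 := by
  obtain ⟨n, ρ, -, rfl⟩ := hγ
  obtain rfl : n = 1 := by
    rw [Representation.char_one, Module.finrank_fin_fun, Nat.cast_eq_one] at h1
    exact h1
  obtain ⟨x, hx⟩ := end_fin_one (ρ a)
  have hcm : ρ a * ρ b = ρ b * ρ a := by
    rw [hx, smul_mul_assoc, one_mul, mul_smul_comm, mul_one]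
  have : ρ ⁅a, b⁆ = 1 := by
    rw [commutatorElement_def, map_mul, map_mul, map_mul, hcm, mul_assoc (ρ b), ← map_mul ρ a,
      mul_inv_cancel, map_one, mul_one, ← map_mul, mul_inv_cancel, map_one]
  show LinearMap.trace ℂ _ (ρ ⁅a, b⁆) = LinearMap.trace ℂ _ (ρ 1)
  rw [this, map_one ρ]

/-- A nontrivial element is seen by some constituent. -/
theorem exists_constituent [Fintype G] {n : ℕ} (ρ : Representation ℂ G (Fin n → ℂ))
    (hρ : Function.Injective ρ) {c : G} (hc : c ≠ 1) :
    ∃ (γ : G → ℂ) (d : ℕ), Cfsg.IsIrrCharacter G γ ∧ γ 1 = d ∧ 0 < d ∧ d ≤ n ∧ γ c ≠ γ 1 := by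
  classical
  have hχ : Cfsg.IsCharacter G ρ.character := ⟨n, ρ, rfl⟩
  obtain ⟨m, -, hsum⟩ := CfsgLib.Clifford.exists_mult hχ
  obtain ⟨γ, hγ⟩ : ∃ γ : Cfsg.IrrCharacter G, 0 < m γ ∧ (γ : G → ℂ) c ≠ (γ : G → ℂ) 1 := by
    by_contra hall
    push_neg at hall
    refine hc (hρ (show ρ c = ρ 1 from ?_))
    rw [map_one ρ]
    refine (char_eq_degree_iff ρ c).1 ?_
    rw [← ρ.char_one, hsum]
    simp only [Finset.sum_apply, Pi.smul_apply]
    refine Finset.sum_congr rfl fun γ _ => ?_
    rcases Nat.eq_zero_or_pos (m γ) with h | h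
    · simp [h]
    · rw [hall γ h]
  obtain ⟨d, hd0, hd⟩ := irr_exists_degree γ.2
  choose D hD using fun γ : Cfsg.IrrCharacter G => irr_exists_degree γ.2
  refine ⟨γ, d, γ.2, hd, hd0, ?_, hγ.2⟩
  have h1 : (n : ℂ) = ((∑ γ, m γ * D γ : ℕ) : ℂ) := by
    have := congrFun hsum 1
    rw [Representation.char_one, Module.finrank_fin_fun] at this
    simp only [Finset.sum_apply, Pi.smul_apply, smul_eq_mul] at this
    rw [this, Nat.cast_sum]
    exact Finset.sum_congr rfl fun γ _ => by rw [(hD γ).2, Nat.cast_mul]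
  have h2 : D γ = d := Nat.cast_injective ((hD γ).2.symm.trans hd)
  rw [Nat.cast_injective h1, ← h2]
  exact le_trans (Nat.le_mul_of_pos_left _ hγ.1)
    (Finset.single_le_sum (fun γ _ => Nat.zero_le (m γ * D γ)) (Finset.mem_univ γ))

/-- A `p`-group with a faithful representation of degree less than `p` is abelian. -/
theorem pgroup_comm {n : ℕ} (ρ : Representation ℂ G (Fin n → ℂ)) (hρ : Function.Injective ρ)
    (hG : IsPGroup p G) (hn : n < p) (a b : G) : a * b = b * a := by
  haveI := Fintype.ofFinite G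
  by_contra hne
  have hc : ⁅a, b⁆ ≠ 1 := fun h => hne (commutatorElement_eq_one_iff_commute.1 h)
  obtain ⟨γ, d, hγ, hd, hd0, hdn, hγc⟩ := exists_constituent ρ hρ hc
  obtain ⟨k, hk⟩ := IsPGroup.iff_card.1 hG
  have hdvd : d ∣ Nat.card G := by
    obtain ⟨e, he, he0, hdvd⟩ := irr_degree_dvd_card ⟨γ, hγ⟩
    have he' : γ 1 = (e : ℂ) := he
    obtain rfl : e = d := Nat.cast_injective (he'.symm.trans hd)
    exact hdvd
  rw [hk, Nat.dvd_prime_pow hp.out] at hdvd
  obtain ⟨j, -, rfl⟩ := hdvd
  have hj : j = 0 := by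
    by_contra hj
    exact absurd (Nat.le_self_pow hj p) (by omega)
  subst hj
  exact hγc (linear_commutator hγ (by simpa using hd) a b)

section cyclicAction

open Classical in
/-- The degree of an irreducible representation of `K⟨x⟩` with `x ^ p` central and the fixed
points of `x` on `K` central. -/
theorem le_degree_add_one [Fintype G] (K : Subgroup G) [K.Normal] (x : G)
    (hgen : ∀ g : G, ∃ k ∈ K, ∃ i : ℕ, i < orderOf x ∧ g = k * x ^ i)
    (hdisj : ∀ i : ℕ, x ^ i ∈ K → x ^ i = 1)
    (hxp : x ^ p ∈ Subgroup.center G) (hpo : p ∣ orderOf x)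
    (hprimes : ∀ l : ℕ, l.Prime → l ∣ orderOf x → l = p)
    (hco : (Nat.card K).Coprime (orderOf x))
    (hC : ∀ k ∈ K, k * x = x * k → k ∈ Subgroup.center G)
    {d : ℕ} (σ : Representation ℂ G (Fin d → ℂ)) [σ.IsIrreducible] (hd2 : 2 ≤ d) (hdp : d < p) :
    p ≤ d + 1 := by
  set o := orderOf x with ho
  have ho0 : 0 < o := orderOf_pos x
  have hχ : Cfsg.IsIrrCharacter G σ.character := ⟨d, σ, inferInstance, rfl⟩
  obtain ⟨a, ha⟩ := CfsgLib.CharScalar.center_scalar σ hxp
  have hscal : ∀ z ∈ Subgroup.center G, ∀ g, Complex.normSq (σ.character (g * z)) =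
      Complex.normSq (σ.character g) := by
    intro z hz g
    obtain ⟨b, hb⟩ := CfsgLib.CharScalar.center_scalar σ hz
    have hn := (norm_char_eq_iff_scalar σ z).2 ⟨b, hb⟩
    rw [Representation.character, hb, CfsgLib.CharScalar.trace_smul_one, norm_mul,
      Module.finrank_fin_fun, Complex.norm_natCast] at hn
    have hb1 : ‖b‖ = 1 := (mul_eq_right₀ (Nat.cast_ne_zero.2 (by omega))).1 hn
    have he : σ.character (g * z) = b * σ.character g := by
      simp only [Representation.character, map_mul, hb, mul_smul_comm, mul_one, map_smul, smul_eq_mul]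
    rw [he, map_mul, ← Complex.sq_norm, hb1, one_pow, one_mul]
  -- the commutant of `K` consists of scalars
  have hcomm : ∀ A : Module.End ℂ (Fin d → ℂ), (∀ k ∈ K, A * σ k = σ k * A) →
      ∃ c : ℂ, A = c • (1 : Module.End ℂ (Fin d → ℂ)) := by
    intro A hA
    let T : Module.End ℂ (Fin d → ℂ) → Module.End ℂ (Fin d → ℂ) := fun B => σ x * B * σ x⁻¹
    have hTj : ∀ j : ℕ, T^[j] A = σ (x ^ j) * A * σ (x ^ j)⁻¹ := by
      intro j
      induction j with
      | zero => simp
      | succ j ih =>
        rw [Function.iterate_succ_apply', ih]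
        simp only [T, pow_succ', mul_inv_rev, map_mul, mul_assoc]
    have hTp : T^[p] A = A := by
      rw [hTj, ha]
      have : σ (x ^ p) * σ (x ^ p)⁻¹ = 1 := by rw [← map_mul, mul_inv_cancel, map_one]
      rw [ha] at this
      rw [smul_mul_assoc, one_mul, smul_mul_assoc, ← mul_smul_comm, ← mul_one A]
      rw [smul_mul_assoc, one_mul] at this
      rw [mul_one, this, mul_one]
    have hTK : ∀ j, ∀ k ∈ K, T^[j] A * σ k = σ k * T^[j] A := by
      intro j k hk
      rw [hTj]
      have hk' : (x ^ j)⁻¹ * k * x ^ j ∈ K := by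
        have := (inferInstance : K.Normal).conj_mem k hk (x ^ j)⁻¹
        simpa using this
      calc σ (x ^ j) * A * σ (x ^ j)⁻¹ * σ k
          = σ (x ^ j) * (A * σ ((x ^ j)⁻¹ * k * x ^ j)) * σ (x ^ j)⁻¹ := by
            simp only [mul_assoc, ← map_mul, mul_inv_cancel, mul_one]
        _ = σ (x ^ j) * (σ ((x ^ j)⁻¹ * k * x ^ j) * A) * σ (x ^ j)⁻¹ := by rw [hA _ hk']
        _ = σ k * (σ (x ^ j) * A * σ (x ^ j)⁻¹) := by
            simp only [← mul_assoc, ← map_mul, mul_inv_cancel, one_mul]
    -- the isotypic components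
    have hμ : IsPrimitiveRoot (Complex.exp (2 * Real.pi * Complex.I / p)) p :=
      Complex.isPrimitiveRoot_exp p hp.out.ne_zero
    set μ := Complex.exp (2 * Real.pi * Complex.I / p) with hμdef
    let Ai : ℕ → Module.End ℂ (Fin d → ℂ) := fun i =>
      ∑ j ∈ Finset.range p, (μ ^ i) ^ j • T^[j] A
    have hTlin : ∀ (s : Finset ℕ) (c : ℕ → ℂ) (B : ℕ → Module.End ℂ (Fin d → ℂ)),
        T (∑ j ∈ s, c j • B j) = ∑ j ∈ s, c j • T (B j) := fun s c B => by
      simp only [T, Finset.mul_sum, Finset.sum_mul, mul_smul_comm, smul_mul_assoc]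
    have hTA : ∀ i, μ ^ i • T (Ai i) = Ai i := by
      intro i
      have hp1 : (μ ^ i) ^ p = 1 := by rw [← pow_mul, mul_comm, pow_mul, hμ.pow_eq_one, one_pow]
      simp only [Ai, hTlin, Finset.smul_sum, smul_smul, ← pow_succ']
      simp only [← Function.iterate_succ_apply' T]
      have e1 := Finset.sum_range_succ' (fun j => (μ ^ i) ^ j • T^[j] A) p
      have e2 := Finset.sum_range_succ (fun j => (μ ^ i) ^ j • T^[j] A) p
      rw [e2, hp1, one_smul, hTp] at e1
      simp only [pow_zero, one_smul, Function.iterate_zero_apply] at e1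
      exact (add_right_cancel e1).symm
    have hzero : ∀ i, i < p → i ≠ 0 → Ai i = 0 := by
      intro i hi hi0
      set B := Ai i with hB
      have hBK : ∀ k ∈ K, B * σ k = σ k * B := fun k hk => by
        simp only [hB, Ai, Finset.sum_mul, Finset.mul_sum, smul_mul_assoc, mul_smul_comm]
        exact Finset.sum_congr rfl fun j _ => by rw [hTK j k hk]
      have hBx : σ x * B = (μ ^ i)⁻¹ • (B * σ x) := by
        have hne : μ ^ i ≠ 0 := pow_ne_zero _ (hμ.ne_zero hp.out.ne_zero)
        rw [eq_inv_smul_iff₀ hne]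
        conv_rhs => rw [hB, ← hTA i]
        simp only [T, smul_mul_assoc, mul_assoc, ← map_mul, inv_mul_cancel, map_one, mul_one, ← hB]
      -- the kernel is invariant
      by_contra hB0
      have hinv : ∀ g : G, ∀ v ∈ LinearMap.ker B, σ g v ∈ LinearMap.ker B := by
        intro g
        obtain ⟨k, hk, m, -, rfl⟩ := hgen g
        intro v hv
        have hxm : ∀ m : ℕ, σ (x ^ m) v ∈ LinearMap.ker B := by
          intro m
          induction m with
          | zero => simpa using hv
          | succ m ih =>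
            rw [LinearMap.mem_ker] at ih ⊢
            rw [pow_succ', map_mul, Module.End.mul_apply]
            have := congrArg (fun f : Module.End ℂ (Fin d → ℂ) => f (σ (x ^ m) v)) hBx
            simp only [Module.End.mul_apply, LinearMap.smul_apply, ih, map_zero] at this
            rcases smul_eq_zero.1 this.symm with h | h
            · exact absurd h (inv_ne_zero (pow_ne_zero _ (hμ.ne_zero hp.out.ne_zero)))
            · exact h
        rw [LinearMap.mem_ker, map_mul, Module.End.mul_apply]
        have := congrArg (fun f : Module.End ℂ (Fin d → ℂ) => f (σ (x ^ m) v)) (hBK k hk)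
        simp only [Module.End.mul_apply] at this
        rw [this, LinearMap.mem_ker.1 (hxm m), map_zero]
      rcases CfsgLib.CharScalar.eq_bot_or_eq_top σ (LinearMap.ker B) hinv with hk | hk
      · have hdet : LinearMap.det B ≠ 0 := fun h0 => by
          have := LinearMap.bot_lt_ker_of_det_eq_zero h0
          rw [hk] at this
          exact lt_irrefl _ this
        have hdx : LinearMap.det (σ x) ≠ 0 := by
          intro h0
          have : LinearMap.det (σ x) * LinearMap.det (σ x⁻¹) = 1 := by
            rw [← map_mul, ← map_mul, mul_inv_cancel, map_one, map_one]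
          rw [h0, zero_mul] at this
          exact zero_ne_one this
        have := congrArg LinearMap.det hBx
        rw [map_mul, LinearMap.det_smul, map_mul, Module.finrank_fin_fun, mul_comm (LinearMap.det B)] at this
        have h1 : ((μ ^ i)⁻¹) ^ d = 1 := by
          have hne := mul_ne_zero hdx hdet
          exact (mul_eq_right₀ hne).1 this.symm
        rw [inv_pow, inv_eq_one, ← pow_mul, hμ.pow_eq_one_iff_dvd] at h1
        rcases (Nat.Prime.dvd_mul hp.out).1 h1 with h | h
        · exact absurd (Nat.le_of_dvd (Nat.pos_of_ne_zero hi0) h) (by omega)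
        · exact absurd (Nat.le_of_dvd (by omega) h) (by omega)
      · exact hB0 (LinearMap.ker_eq_top.1 hk)
    have hsum : ∑ i ∈ Finset.range p, Ai i = (p : ℂ) • A := by
      simp only [Ai]
      rw [Finset.sum_comm]
      rw [Finset.sum_eq_single 0]
      · simp [← Nat.cast_smul_eq_nsmul ℂ]
      · intro j hj hj0
        rw [← Finset.sum_smul]
        have : ∑ i ∈ Finset.range p, (μ ^ i) ^ j = 0 := by
          simp only [← pow_mul]
          simp only [mul_comm _ j, pow_mul]
          have hj' : μ ^ j ≠ 1 := fun e => by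
            have := Nat.le_of_dvd (Nat.pos_of_ne_zero hj0) ((hμ.pow_eq_one_iff_dvd j).1 e)
            rw [Finset.mem_range] at hj
            omega
          have hg := geom_sum_mul (μ ^ j) p
          rw [← pow_mul, mul_comm j p, pow_mul, hμ.pow_eq_one, one_pow, sub_self] at hg
          exact (mul_eq_zero.1 hg).resolve_right (sub_ne_zero.2 hj')
        rw [this, zero_smul]
      · intro h
        exact absurd (Finset.mem_range.2 hp.out.pos) h
    rw [Finset.sum_eq_single 0 (fun i hi hi0 => hzero i (Finset.mem_range.1 hi) hi0)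
      (fun h => absurd (Finset.mem_range.2 hp.out.pos) h)] at hsum
    have hTfix : T A = A := by
      have := hTA 0
      rw [pow_zero, one_smul, hsum] at this
      simp only [T, mul_smul_comm, smul_mul_assoc] at this
      exact smul_right_injective _ (Nat.cast_ne_zero.2 hp.out.ne_zero) this
    refine CfsgLib.CharScalar.exists_scalar σ A fun g => ?_
    obtain ⟨k, hk, m, -, rfl⟩ := hgen g
    have hAx : A * σ x = σ x * A := by
      conv_lhs => rw [← hTfix]
      simp only [T, mul_assoc, ← map_mul, inv_mul_cancel, map_one, mul_one]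
    have hAxm : A * σ (x ^ m) = σ (x ^ m) * A := by
      rw [map_pow]
      exact (show Commute A (σ x) from hAx).pow_right m
    rw [map_mul, ← mul_assoc, hA k hk, mul_assoc, hAxm, mul_assoc]
  -- the restriction to `K` has norm one
  have hK1 : ∑ k : K, Complex.normSq (σ.character k) = (Nat.card K : ℝ) := by
    let τ : Representation ℂ K (Fin d → ℂ) := σ.comp K.subtype
    have hfin : Module.finrank ℂ (Representation.IntertwiningMap τ τ) ≤ 1 := by
      refine finrank_le_one (Representation.IntertwiningMap.id τ) fun f => ?_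
      obtain ⟨c, hc⟩ := hcomm f.toLinearMap fun k hk => by
        exact f.isIntertwining' ⟨k, hk⟩
      refine ⟨c, ?_⟩
      ext v
      simp [hc]
    have h1 := DegreeBound.card_le_sum_normSq (F := τ.character) ⟨d, τ, rfl⟩ (by
      rw [Representation.char_one, Module.finrank_fin_fun, Nat.cast_ne_zero]
      omega)
    have h2 := classInner_char_eq_finrank τ τ
    unfold Cfsg.classInner at h2
    rw [inv_mul_eq_iff_eq_mul₀ (Nat.cast_ne_zero.2 Nat.card_pos.ne')] at h2
    have h3 : ∑ k : K, Complex.normSq (σ.character k) =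
        (Nat.card K : ℝ) * (Module.finrank ℂ (Representation.IntertwiningMap τ τ) : ℕ) := by
      refine Complex.ofReal_injective ?_
      push_cast
      rw [← h2]
      exact Finset.sum_congr rfl fun k _ => (Complex.mul_conj _).symm
    refine le_antisymm ?_ h1
    rw [h3]
    exact mul_le_of_le_one_right (Nat.cast_nonneg _) (by exact_mod_cast hfin)
  -- values outside `K⟨x^p⟩`
  have hval : ∀ (i : ℕ), ¬ p ∣ i → i.Coprime o → ∀ k ∈ K,
      Complex.normSq (σ.character (k * x ^ i)) = Complex.normSq (σ.character (x ^ i)) := by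
    intro i _ hio k hk
    let C : Subgroup G := K ⊓ Subgroup.center G
    let mfun : K → K := fun l => ⟨l * x ^ i * (l : G)⁻¹ * (x ^ i)⁻¹, by
      have h1 : x ^ i * (l : G)⁻¹ * (x ^ i)⁻¹ ∈ K :=
        (inferInstance : K.Normal).conj_mem _ (K.inv_mem l.2) _
      simpa [mul_assoc] using K.mul_mem l.2 h1⟩
    let f : (↥K ⧸ C.subgroupOf K) → (↥K ⧸ C.subgroupOf K) := fun q =>
      (QuotientGroup.mk (mfun q.out) : ↥K ⧸ C.subgroupOf K)
    have hf : Function.Injective f := by
      intro q r e
      rw [← QuotientGroup.out_eq' q, ← QuotientGroup.out_eq' r]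
      refine (QuotientGroup.eq).2 ?_
      have e' := (QuotientGroup.eq).1 e
      rw [Subgroup.mem_subgroupOf] at e' ⊢
      obtain ⟨hcK, hcz⟩ := Subgroup.mem_inf.1 e'
      simp only [Subgroup.coe_mul, InvMemClass.coe_inv] at hcK hcz ⊢
      generalize (q.out : ↥K) = l at *
      generalize (r.out : ↥K) = l' at *
      set c := ((mfun l : K) : G)⁻¹ * (mfun l' : K) with hcdef
      have hrel : (l' : G) * x ^ i * (l' : G)⁻¹ = ((l : G) * x ^ i * (l : G)⁻¹) * c := by
        have hcc := Subgroup.mem_center_iff.1 hcz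
        calc (l' : G) * x ^ i * (l' : G)⁻¹ = ((mfun l : K) : G) * c * x ^ i := by
              rw [hcdef]; simp only [mfun]; group
          _ = ((mfun l : K) : G) * x ^ i * c := by rw [mul_assoc, ← hcc (x ^ i), ← mul_assoc]
          _ = _ := by simp only [mfun]; group
      have hco' : c ^ o = 1 := by
        have e1 : ((l' : G) * x ^ i * (l' : G)⁻¹) ^ o = 1 := by
          rw [conj_pow, ← pow_mul, mul_comm i o, pow_mul, pow_orderOf_eq_one, one_pow, mul_one,
            mul_inv_cancel]
        rw [hrel, (show Commute ((l : G) * x ^ i * (l : G)⁻¹) c from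
          Subgroup.mem_center_iff.1 hcz _).mul_pow, conj_pow, ← pow_mul, mul_comm i o, pow_mul,
          pow_orderOf_eq_one, one_pow, mul_one, mul_inv_cancel, one_mul] at e1
        exact e1
      have hc1 : c = 1 := by
        have hord : orderOf c ∣ Nat.card K :=
          (Subgroup.orderOf_dvd_natCard K hcK)
        have := Nat.dvd_gcd hord (orderOf_dvd_of_pow_eq_one hco')
        rw [hco.gcd_eq_one, Nat.dvd_one, orderOf_eq_one_iff] at this
        exact this
      rw [hc1, mul_one] at hrel
      have hl : ((l : G)⁻¹ * l') * x ^ i = x ^ i * ((l : G)⁻¹ * l') := by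
        calc (l : G)⁻¹ * l' * x ^ i = (l : G)⁻¹ * ((l' : G) * x ^ i * (l' : G)⁻¹) * l' := by group
          _ = _ := by rw [hrel]; group
      have hx : ((l : G)⁻¹ * l') * x = x * ((l : G)⁻¹ * l') := by
        obtain ⟨e, he⟩ := exists_pow_eq_self_of_coprime hio
        have := (show Commute ((l : G)⁻¹ * l') (x ^ i) from hl).pow_right e
        rwa [he] at this
      exact ⟨K.mul_mem (K.inv_mem l.2) l'.2, hC _ (K.mul_mem (K.inv_mem l.2) l'.2) hx⟩
    obtain ⟨q, hq⟩ := (Finite.injective_iff_surjective.1 hf) (QuotientGroup.mk ⟨k, hk⟩)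
    have hmem := (QuotientGroup.eq).1 hq
    rw [Subgroup.mem_subgroupOf] at hmem
    obtain ⟨-, hz⟩ := Subgroup.mem_inf.1 hmem
    simp only [Subgroup.coe_mul, InvMemClass.coe_inv] at hz
    generalize (q.out : ↥K) = l at hz
    set c := ((mfun l : K) : G)⁻¹ * k with hcdef
    have hk' : k * x ^ i = ((l : G) * x ^ i * (l : G)⁻¹) * c := by
      have hcc := Subgroup.mem_center_iff.1 hz
      calc k * x ^ i = ((mfun l : K) : G) * c * x ^ i := by rw [hcdef]; group
        _ = ((mfun l : K) : G) * x ^ i * c := by rw [mul_assoc, ← hcc (x ^ i), ← mul_assoc]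
        _ = _ := by simp only [mfun]; group
    rw [hk', hscal c hz, isClassFunction_of_isCharacter (isCharacter_of_irr hχ) (x ^ i) l]
  -- the total
  let F : ℕ → ℝ := fun i => ∑ k : K, Complex.normSq (σ.character ((k : G) * x ^ i))
  have hbij : Function.Bijective fun q : Fin o × K => (q.2 : G) * x ^ (q.1 : ℕ) := by
    refine ⟨?_, ?_⟩
    · rintro ⟨⟨i, hi⟩, k⟩ ⟨⟨i', hi'⟩, k'⟩ e
      have key : ∀ (i i' : ℕ) (k k' : K), i ≤ i' → i' < o → (k : G) * x ^ i = (k' : G) * x ^ i' →
          i = i' ∧ k = k' := by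
        intro i i' k k' hle hlt e
        obtain ⟨t, rfl⟩ := Nat.exists_eq_add_of_le hle
        rw [add_comm i t, pow_add, ← mul_assoc, mul_left_inj] at e
        have ht : x ^ t = 1 := hdisj t (by
          rw [show x ^ t = (k' : G)⁻¹ * k by rw [e]; group]
          exact K.mul_mem (K.inv_mem k'.2) k.2)
        obtain rfl : t = 0 := by
          by_contra h0
          exact absurd (Nat.le_of_dvd (Nat.pos_of_ne_zero h0) (orderOf_dvd_of_pow_eq_one ht)) (by omega)
        rw [pow_zero, mul_one] at e
        exact ⟨rfl, Subtype.ext e⟩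
      rcases le_total i i' with h | h
      · obtain ⟨h1, h2⟩ := key i i' k k' h hi' e
        exact Prod.ext (Fin.ext h1) h2
      · obtain ⟨h1, h2⟩ := key i' i k' k h hi e.symm
        exact Prod.ext (Fin.ext h1.symm) h2.symm
    · intro g
      obtain ⟨k, hk, i, hi, rfl⟩ := hgen g
      exact ⟨(⟨i, hi⟩, ⟨k, hk⟩), rfl⟩
  have htot : ∑ i ∈ Finset.range o, F i = (Nat.card G : ℝ) := by
    rw [← DegreeBound.sum_normSq_irr hχ, Finset.sum_range]
    simp only [F]
    rw [← Fintype.sum_prod_type']
    exact Fintype.sum_bijective _ hbij _ _ fun q => rfl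
  have hper : ∀ i, F (i + p) = F i := fun i => by
    simp only [F, pow_add, ← mul_assoc, hscal _ hxp]
  have hper' : ∀ j i, F (i + p * j) = F i := by
    intro j
    induction j with
    | zero => simp
    | succ j ih => intro i; rw [mul_add, mul_one, ← add_assoc, hper, ih]
  obtain ⟨r, hr⟩ := hpo
  have hblocks : ∀ t, ∑ i ∈ Finset.range (p * t), F i = t * ∑ i ∈ Finset.range p, F i := by
    intro t
    induction t with
    | zero => simp
    | succ t ih =>
      rw [mul_add, mul_one, Finset.sum_range_add, ih]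
      simp only [add_comm (p * t), hper']
      push_cast; ring
  have hcardG : Nat.card G = o * Nat.card K := by
    rw [← Nat.card_congr (Equiv.ofBijective _ hbij), Nat.card_prod, Nat.card_fin]
  have hKpos : (0 : ℝ) < Nat.card K := Nat.cast_pos.2 Nat.card_pos
  have hsp : ∑ i ∈ Finset.range p, F i = (p : ℝ) * Nat.card K := by
    have h := hblocks r
    rw [← hr, htot, hcardG, hr] at h
    have hr0 : (r : ℝ) ≠ 0 := by
      intro h0
      have : r = 0 := by exact_mod_cast h0
      rw [this, mul_zero] at hr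
      omega
    push_cast at h
    apply mul_left_cancel₀ hr0
    linarith
  -- evaluate the blocks
  have hF : ∀ i ∈ Finset.range p, i ≠ 0 → F i = (Nat.card K : ℝ) * Complex.normSq (σ.character (x ^ i)) := by
    intro i hi hi0
    have hpi : ¬ p ∣ i := fun h => by
      have := Nat.le_of_dvd (Nat.pos_of_ne_zero hi0) h
      rw [Finset.mem_range] at hi
      omega
    have hio : i.Coprime o := by
      -- every prime divisor of `o` is `p`
      by_contra hnc
      obtain ⟨l, hl, hli, hlo⟩ := Nat.Prime.not_coprime_iff_dvd.1 hnc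
      have hlp : l = p := by
        by_contra hne
        exact hne (hprimes l hl hlo)
      exact hpi (hlp ▸ hli)
    rw [show F i = ∑ _k : K, Complex.normSq (σ.character (x ^ i)) from
      Finset.sum_congr rfl fun k _ => hval i hpi hio k k.2, Finset.sum_const, Finset.card_univ,
      nsmul_eq_mul, Nat.card_eq_fintype_card]
  have hS : ∑ i ∈ (Finset.range p).erase 0, Complex.normSq (σ.character (x ^ i)) = (p : ℝ) - 1 := by
    rw [← Finset.add_sum_erase _ _ (Finset.mem_range.2 hp.out.pos),
      Finset.sum_congr rfl fun i hi => hF i (Finset.mem_of_mem_erase hi) (Finset.ne_of_mem_erase hi),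
      ← Finset.mul_sum] at hsp
    have h0 : F 0 = Nat.card K := by simp only [F, pow_zero, mul_one]; exact hK1
    rw [h0] at hsp
    apply mul_left_cancel₀ hKpos.ne'
    linarith
  -- eigenvalues
  obtain ⟨b, ω, hω1, hω2⟩ := exists_eigenbasis σ x
  have hpowb : ∀ (j : ℕ) (i : Fin (Module.finrank ℂ (Fin d → ℂ))),
      σ (x ^ j) (b i) = ω i ^ j • b i := by
    intro j i
    induction j with
    | zero => simp
    | succ j ih => rw [pow_succ, map_mul, Module.End.mul_apply, hω2, map_smul, ih, smul_smul, pow_succ']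
  have hωp : ∀ i, ω i ^ p = a := fun i => by
    have h := hpowb p i
    rw [ha, LinearMap.smul_apply, Module.End.one_apply] at h
    exact (smul_left_injective ℂ (b.ne_zero i) h).symm
  have hnorm : ∀ i, ‖ω i‖ = 1 := fun i =>
    Complex.norm_eq_one_of_pow_eq_one (hω1 i) (orderOf_pos x).ne'
  have hpair : ∀ i i', ∑ j ∈ Finset.range p, ω i ^ j * conj (ω i' ^ j) =
      if ω i = ω i' then (p : ℂ) else 0 := by
    intro i i'
    have e : ∀ j : ℕ, ω i ^ j * conj (ω i' ^ j) = (ω i * conj (ω i')) ^ j := fun j => by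
      rw [map_pow, mul_pow]
    have hu : conj (ω i') * ω i' = 1 := by
      rw [mul_comm, Complex.mul_conj, ← Complex.sq_norm, hnorm, one_pow, Complex.ofReal_one]
    simp only [e]
    split_ifs with h
    · rw [h, mul_comm (ω i'), hu]
      simp
    · have hne : ω i * conj (ω i') ≠ 1 := fun h1 => h (by
        calc ω i = ω i * (conj (ω i') * ω i') := by rw [hu, mul_one]
          _ = ω i' := by rw [← mul_assoc, h1, one_mul])
      have hpow : (ω i * conj (ω i')) ^ p = 1 := by
        rw [mul_pow, ← map_pow, hωp, ← hωp i', map_pow, ← mul_pow, mul_comm, hu, one_pow]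
      have hg := geom_sum_mul (ω i * conj (ω i')) p
      rw [hpow, sub_self] at hg
      exact (mul_eq_zero.1 hg).resolve_right (sub_ne_zero.2 hne)
  set N := (Finset.univ.filter fun q : Fin (Module.finrank ℂ (Fin d → ℂ)) ×
    Fin (Module.finrank ℂ (Fin d → ℂ)) => ω q.1 = ω q.2).card with hNdef
  have hcount : ((∑ j ∈ Finset.range p, Complex.normSq (σ.character (x ^ j)) : ℝ) : ℂ) =
      (p : ℂ) * (N : ℂ) := by
    push_cast
    have : ∀ j : ℕ, ((Complex.normSq (σ.character (x ^ j)) : ℝ) : ℂ) =
        ∑ i, ∑ i', ω i ^ j * conj (ω i' ^ j) := fun j => by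
      rw [← Complex.mul_conj, character_eq_sum_of_eigenbasis σ (x ^ j) b (fun i => ω i ^ j) (hpowb j),
        map_sum, Finset.sum_mul_sum]
    rw [Finset.sum_congr rfl fun j _ => this j, Finset.sum_comm]
    rw [Finset.sum_congr rfl fun i _ => Finset.sum_comm]
    simp only [hpair]
    rw [← Finset.sum_product', Finset.sum_ite, Finset.sum_const_zero, add_zero, Finset.sum_const,
      nsmul_eq_mul, mul_comm, hNdef]
    rfl
  rw [← Finset.add_sum_erase _ _ (Finset.mem_range.2 hp.out.pos), hS, pow_zero,
    Representation.char_one, Module.finrank_fin_fun, Complex.normSq_natCast] at hcount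
  have hnat : ((d * d + p : ℕ) : ℤ) - 1 = ((p * N : ℕ) : ℤ) := by
    have h' : (((d * d + p : ℕ) : ℤ) : ℂ) - 1 = (((p * N : ℕ) : ℤ) : ℂ) := by
      push_cast at hcount ⊢
      linear_combination hcount
    exact_mod_cast h'
  have hdvd : (p : ℤ) ∣ ((d : ℤ) - 1) * ((d : ℤ) + 1) := by
    refine ⟨(N : ℤ) - 1, ?_⟩
    push_cast at hnat
    linarith
  rcases (Nat.prime_iff_prime_int.1 hp.out).dvd_or_dvd hdvd with h | h
  · have := Int.le_of_dvd (by omega) h
    omega
  · have := Int.le_of_dvd (by omega) h
    omega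

end cyclicAction

section main

/-- A `p`-element normalises a `q`-group and has a faithful small-degree representation around:
it centralises it, if all proper subgroups have normal Sylow `p`-subgroups. -/
theorem coprime_case {n : ℕ} (ρ : Representation ℂ G (Fin n → ℂ)) (hρ : Function.Injective ρ)
    (hn : n + 1 < p) (hsub : ∀ L : Subgroup G, L ≠ ⊤ → NS p L) {q : ℕ} [Fact q.Prime] (hqp : q ≠ p)
    (K : Subgroup G) [K.Normal] (hK : IsPGroup q K) (P : Subgroup G) (hP : IsPGroup p P)
    (hPab : ∀ a ∈ P, ∀ b ∈ P, a * b = b * a) (hKP : K ⊔ P = ⊤) :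
    ∀ k ∈ K, ∀ x ∈ P, k * x = x * k := by
  classical
  haveI := Fintype.ofFinite G
  -- inside a proper subgroup
  have hcent : ∀ L : Subgroup G, L ≠ ⊤ → ∀ k ∈ K, k ∈ L → ∀ x ∈ P, x ∈ L → k * x = x * k := by
    intro L hL k hk hkL x hx hxL
    obtain ⟨U, -, hpU, hmax, hnorm⟩ := exists_largest L (hsub L hL)
    have hxU : x ∈ U := hmax (Subgroup.zpowers x) (Subgroup.zpowers_le.2 hxL)
      (hP.to_le (Subgroup.zpowers_le.2 hx)) (Subgroup.mem_zpowers x)
    have h1 : k * x * k⁻¹ * x⁻¹ ∈ U :=
      U.mul_mem ((Subgroup.mem_normalizer_iff.1 (hnorm hkL) x).1 hxU) (U.inv_mem hxU)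
    have h2 : k * x * k⁻¹ * x⁻¹ ∈ K := by
      have := K.mul_mem hk ((inferInstance : K.Normal).conj_mem _ (K.inv_mem hk) x)
      simpa [mul_assoc] using this
    have hd := IsPGroup.disjoint_of_ne q p hqp _ _ hK hpU
    have h3 : k * x * k⁻¹ * x⁻¹ = 1 := Subgroup.disjoint_def.1 hd h2 h1
    exact (mul_inv_eq_iff_eq_mul.1 (mul_inv_eq_one.1 h3))
  intro k₀ hk₀ x hx
  by_contra hne
  have hLx : K ⊔ Subgroup.zpowers x = ⊤ := by
    by_contra hL
    exact hne (hcent _ hL k₀ hk₀ (Subgroup.mem_sup_left hk₀) x hx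
      (Subgroup.mem_sup_right (Subgroup.mem_zpowers x)))
  have hdisjKP : ∀ {c : G}, c ∈ K → c ∈ P → c = 1 := fun h1 h2 =>
    Subgroup.disjoint_def.1 (IsPGroup.disjoint_of_ne q p hqp _ _ hK hP) h1 h2
  have hdisj : ∀ i : ℕ, x ^ i ∈ K → x ^ i = 1 := fun i h => hdisjKP h (P.pow_mem hx i)
  -- normal forms
  have hform : ∀ M : Subgroup G, M.Normal → M ≤ K → M ⊔ Subgroup.zpowers x = ⊤ → M = K := by
    intro M hM hMK htop
    refine le_antisymm hMK fun k hk => ?_
    have : k ∈ M ⊔ Subgroup.zpowers x := htop ▸ Subgroup.mem_top k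
    obtain ⟨m, hm, w, hw, rfl⟩ := Subgroup.mem_sup_of_normal_left.1 this
    have hwK : w ∈ K := by
      have := K.mul_mem (K.inv_mem (hMK hm)) hk
      rwa [inv_mul_cancel_left] at this
    rw [hdisjKP hwK (Subgroup.zpowers_le.2 hx hw), mul_one]
    exact hm
  have hgen : ∀ g : G, ∃ k ∈ K, ∃ i : ℕ, i < orderOf x ∧ g = k * x ^ i := by
    intro g
    have : g ∈ K ⊔ Subgroup.zpowers x := hLx ▸ Subgroup.mem_top g
    obtain ⟨k, hk, w, hw, rfl⟩ := Subgroup.mem_sup_of_normal_left.1 this
    rw [mem_zpowers_iff_mem_range_orderOf, Finset.mem_image] at hw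
    obtain ⟨i, hi, rfl⟩ := hw
    exact ⟨k, hk, i, Finset.mem_range.1 hi, rfl⟩
  have hx1 : x ≠ 1 := fun h => hne (by rw [h]; simp)
  obtain ⟨e, he⟩ := IsPGroup.iff_orderOf.1 hP ⟨x, hx⟩
  rw [Subgroup.orderOf_mk] at he
  have he0 : e ≠ 0 := fun h => hx1 (orderOf_eq_one_iff.1 (by rw [he, h, pow_zero]))
  have hpo : p ∣ orderOf x := he ▸ dvd_pow_self p he0
  have hprimes : ∀ l : ℕ, l.Prime → l ∣ orderOf x → l = p := fun l hl hlx =>
    (Nat.prime_dvd_prime_iff_eq hl hp.out).1 (hl.dvd_of_dvd_pow (he ▸ hlx))
  have hco : (Nat.card K).Coprime (orderOf x) := by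
    obtain ⟨b, hb⟩ := IsPGroup.iff_card.1 hK
    rw [hb, he]
    exact Nat.Coprime.pow _ _ ((Nat.coprime_primes (Fact.out : q.Prime) hp.out).2 hqp)
  -- `x ^ p` is central
  have hxpK : ∀ k ∈ K, k * x ^ p = x ^ p * k := by
    intro k hk
    refine hcent (K ⊔ Subgroup.zpowers (x ^ p)) (fun htop => ?_) k hk (Subgroup.mem_sup_left hk) _
      (P.pow_mem hx p) (Subgroup.mem_sup_right (Subgroup.mem_zpowers _))
    have : x ∈ K ⊔ Subgroup.zpowers (x ^ p) := htop ▸ Subgroup.mem_top x
    obtain ⟨m, hm, w, hw, hmw⟩ := Subgroup.mem_sup_of_normal_left.1 this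
    obtain ⟨i, rfl⟩ := Subgroup.mem_zpowers_iff.1 hw
    have hm1 : m = 1 := by
      refine hdisjKP hm ?_
      rw [show m = x * ((x ^ p) ^ i)⁻¹ by rw [eq_mul_inv_iff_mul_eq]; exact hmw]
      exact P.mul_mem hx (P.inv_mem (P.zpow_mem (P.pow_mem hx p) i))
    rw [hm1, one_mul, ← zpow_natCast, ← zpow_mul] at hmw
    have h1 : x ^ ((p : ℤ) * i - 1) = 1 := by rw [zpow_sub, zpow_one, hmw, mul_inv_cancel]
    have h2 : (p : ℤ) ∣ (p : ℤ) * i - 1 :=
      dvd_trans (Int.natCast_dvd_natCast.2 hpo) (orderOf_dvd_iff_zpow_eq_one.2 h1)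
    have h3 : (p : ℤ) ∣ 1 := by
      have := dvd_sub (dvd_mul_right (p : ℤ) i) h2
      simpa using this
    have : p ∣ 1 := by exact_mod_cast h3
    exact hp.out.one_lt.ne' (Nat.dvd_one.1 this)
  have hxp : x ^ p ∈ Subgroup.center G := Subgroup.mem_center_iff.2 fun g => by
    obtain ⟨k, hk, i, -, rfl⟩ := hgen g
    rw [mul_assoc, ((Commute.refl x).pow_pow i p).eq, ← mul_assoc, hxpK k hk, mul_assoc]
  -- `K = [K, x]`
  let gens : Set G := {u | ∃ k ∈ K, u = k⁻¹ * (x * k * x⁻¹)}
  let K₁ := Subgroup.closure gens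
  have hK₁K : K₁ ≤ K := (Subgroup.closure_le _).2 (by
    rintro _ ⟨k, hk, rfl⟩
    exact K.mul_mem (K.inv_mem hk) ((inferInstance : K.Normal).conj_mem k hk x))
  have hL₁ : K₁ ⊔ Subgroup.zpowers x = ⊤ := by
    by_contra hL
    refine hne ?_
    set u := k₀⁻¹ * (x * k₀ * x⁻¹) with hu
    have huK₁ : u ∈ K₁ := Subgroup.subset_closure ⟨k₀, hk₀, rfl⟩
    have hux : u * x = x * u := hcent _ hL u (hK₁K huK₁) (Subgroup.mem_sup_left huK₁) x hx
      (Subgroup.mem_sup_right (Subgroup.mem_zpowers x))
    have hj : ∀ j : ℕ, x ^ j * k₀ = k₀ * u ^ j * x ^ j := by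
      intro j
      induction j with
      | zero => simp
      | succ j ih =>
        calc x ^ (j + 1) * k₀ = x ^ j * (x * k₀) := by rw [pow_succ, mul_assoc]
          _ = (x ^ j * k₀) * u * x := by rw [hu]; group
          _ = k₀ * u ^ j * ((x ^ j) * u) * x := by rw [ih]; group
          _ = k₀ * u ^ j * (u * x ^ j) * x := by rw [((show Commute u x from hux).pow_right j).eq]
          _ = k₀ * (u ^ j * u) * (x ^ j * x) := by group
          _ = _ := by rw [← pow_succ, ← pow_succ]
    have hup : u ^ p = 1 := by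
      have := hj p
      rw [← hxpK k₀ hk₀, mul_assoc k₀] at this
      have := mul_left_cancel this
      exact right_eq_mul.1 this |>.symm ▸ rfl
    have hu1 : u = 1 := by
      have h1 : orderOf u ∣ Nat.card K := Subgroup.orderOf_dvd_natCard K (hK₁K huK₁)
      have h2 : orderOf u ∣ p := orderOf_dvd_of_pow_eq_one hup
      obtain ⟨b, hb⟩ := IsPGroup.iff_card.1 hK
      rw [hb] at h1
      have := Nat.dvd_gcd h1 h2
      rw [((Nat.coprime_primes (Fact.out : q.Prime) hp.out).2 hqp).pow_left b |>.gcd_eq_one,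
        Nat.dvd_one, orderOf_eq_one_iff] at this
      exact this
    calc k₀ * x = k₀ * u * x := by rw [hu1, mul_one]
      _ = x * k₀ := by rw [hu]; group
  have hK₁n : K₁.Normal := by
    rw [← Subgroup.normalizer_eq_top_iff, eq_top_iff, ← hL₁, sup_le_iff]
    refine ⟨Subgroup.le_normalizer, Subgroup.zpowers_le.2 ?_⟩
    rw [Subgroup.mem_normalizer_iff_map_conj_eq]
    have hle : K₁.map (MulAut.conj x).toMonoidHom ≤ K₁ := by
      rw [MonoidHom.map_closure, Subgroup.closure_le]
      rintro _ ⟨_, ⟨k, hk, rfl⟩, rfl⟩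
      refine Subgroup.subset_closure ⟨x * k * x⁻¹, (inferInstance : K.Normal).conj_mem k hk x, ?_⟩
      simp [mul_assoc]
    exact Subgroup.eq_of_le_of_card_ge hle
      (le_of_eq (Subgroup.card_map_of_injective (MulAut.conj x).injective).symm)
  have hK₁ : K₁ = K := hform K₁ hK₁n hK₁K hL₁
  have hcentral : ∀ M : Subgroup G, M.Normal → M ≤ K → M ≠ K → M ≤ Subgroup.center G := by
    intro M hM hMK hMne m hm
    have hxM : ∀ m ∈ M, m * x = x * m := fun m hm =>
      hcent _ (fun htop => hMne (hform M hM hMK htop)) m (hMK hm) (Subgroup.mem_sup_left hm) x hx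
        (Subgroup.mem_sup_right (Subgroup.mem_zpowers x))
    have hKM : K ≤ Subgroup.centralizer (M : Set G) := by
      rw [← hK₁, Subgroup.closure_le]
      rintro _ ⟨k, hk, rfl⟩
      rw [SetLike.mem_coe, Subgroup.mem_centralizer_iff]
      intro w hw
      have h1 := hxM _ (hM.conj_mem w hw k)
      have h2 := hxM w hw
      have h3 : x⁻¹ * w * x = w := by rw [mul_assoc, h2, inv_mul_cancel_left]
      calc w * (k⁻¹ * (x * k * x⁻¹)) = k⁻¹ * ((k * w * k⁻¹) * x) * k * x⁻¹ := by group
        _ = k⁻¹ * x * k * (w * x⁻¹) := by rw [h1]; group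
        _ = k⁻¹ * x * k * (x⁻¹ * w) := by
            rw [show w * x⁻¹ = x⁻¹ * w by rw [mul_inv_eq_iff_eq_mul, h3]]
        _ = _ := by group
    refine Subgroup.mem_center_iff.2 fun g => ?_
    obtain ⟨k, hk, i, -, rfl⟩ := hgen g
    rw [mul_assoc, ((show Commute m x from hxM m hm).pow_right i).eq.symm, ← mul_assoc,
      ← (Subgroup.mem_centralizer_iff.1 (hKM hk)) m hm, mul_assoc]
  have hC : ∀ k ∈ K, k * x = x * k → k ∈ Subgroup.center G := by
    let C : Subgroup G := K ⊓ Subgroup.centralizer {x}
    let M : Subgroup G := ⁅K, K⁆ ⊔ C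
    have hMK : M ≤ K := sup_le (Subgroup.commutator_le_left K K) inf_le_left
    have hMn : M.Normal := by
      rw [← Subgroup.normalizer_eq_top_iff, eq_top_iff, ← hLx, sup_le_iff]
      constructor
      · intro k hk
        refine Subgroup.mem_normalizer_iff.2 fun w => ?_
        have key : ∀ k ∈ K, ∀ w ∈ M, k * w * k⁻¹ ∈ M := fun k hk w hw => by
          rw [show k * w * k⁻¹ = ⁅k, w⁆ * w by simp [commutatorElement_def, mul_assoc]]
          exact M.mul_mem (Subgroup.mem_sup_left (Subgroup.commutator_mem_commutator hk (hMK hw))) hw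
        refine ⟨key k hk w, fun h => ?_⟩
        have := key k⁻¹ (K.inv_mem hk) _ h
        simpa [mul_assoc] using this
      · refine Subgroup.zpowers_le.2 ?_
        rw [Subgroup.mem_normalizer_iff_map_conj_eq]
        refine Subgroup.eq_of_le_of_card_ge ?_
          (le_of_eq (Subgroup.card_map_of_injective (MulAut.conj x).injective).symm)
        rw [Subgroup.map_sup, Subgroup.map_commutator, sup_le_iff]
        have hKx : K.map (MulAut.conj x).toMonoidHom ≤ K := by
          rintro _ ⟨k, hk, rfl⟩
          exact (inferInstance : K.Normal).conj_mem k hk x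
        refine ⟨(Subgroup.commutator_mono hKx hKx).trans le_sup_left, ?_⟩
        rintro _ ⟨c, hc, rfl⟩
        refine Subgroup.mem_sup_right ?_
        have hcx : c * x = x * c := Subgroup.mem_centralizer_singleton_iff.1 hc.2
        show x * c * x⁻¹ ∈ C
        rw [← hcx, mul_inv_cancel_right]
        exact hc
    have hMne : M ≠ K := by
      intro hM
      have hCK : C.subgroupOf K ≠ ⊤ := fun h => hne (by
        have : (⟨k₀, hk₀⟩ : K) ∈ C.subgroupOf K := h ▸ Subgroup.mem_top _
        exact Subgroup.mem_centralizer_singleton_iff.1 (Subgroup.mem_subgroupOf.1 this).2)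
      obtain ⟨W, hW, hCW⟩ := (eq_top_or_exists_le_coatom (C.subgroupOf K)).resolve_left hCK
      haveI : Group.IsNilpotent K := hK.isNilpotent
      haveI hWn : W.Normal := Subgroup.NormalizerCondition.normal_of_coatom _ Group.normalizerCondition_of_isNilpotent hW
      obtain ⟨a, ha⟩ : ∃ a, a ∉ W := by
        by_contra h
        push_neg at h
        exact hW.1 (eq_top_iff.2 fun a _ => h a)
      have htop : W ⊔ Subgroup.zpowers a = ⊤ := hW.2 _ (lt_of_le_of_ne le_sup_left fun e =>
        ha (e ▸ Subgroup.mem_sup_right (Subgroup.mem_zpowers a)))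
      have hcW : commutator K ≤ W := by
        rw [commutator_def, Subgroup.commutator_le]
        intro u _ v _
        have hrep : ∀ w : K, ∃ i : ℤ, (QuotientGroup.mk w : K ⧸ W) = QuotientGroup.mk a ^ i := by
          intro w
          have : w ∈ W ⊔ Subgroup.zpowers a := htop ▸ Subgroup.mem_top w
          obtain ⟨b, hb, c, hc, rfl⟩ := Subgroup.mem_sup_of_normal_left.1 this
          obtain ⟨i, rfl⟩ := Subgroup.mem_zpowers_iff.1 hc
          exact ⟨i, by rw [QuotientGroup.mk_mul, (QuotientGroup.eq_one_iff b).2 hb, one_mul,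
            QuotientGroup.mk_zpow]⟩
        obtain ⟨i, hi⟩ := hrep u
        obtain ⟨j, hj⟩ := hrep v
        rw [← QuotientGroup.eq_one_iff, ← QuotientGroup.mk'_apply, map_commutatorElement,
          commutatorElement_eq_one_iff_commute, QuotientGroup.mk'_apply, QuotientGroup.mk'_apply, hi, hj]
        exact Commute.zpow_zpow_self _ _ _
      refine hW.1 (eq_top_iff.2 fun w _ => ?_)
      have hwM : (w : G) ∈ M := hM.symm ▸ w.2
      have hle : M ≤ W.map K.subtype := by
        refine sup_le ?_ fun c hc => ⟨⟨c, hc.1⟩, hCW (Subgroup.mem_subgroupOf.2 hc), rfl⟩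
        rw [← Subgroup.map_subtype_commutator K]
        exact Subgroup.map_mono hcW
      obtain ⟨w', hw', he'⟩ := hle hwM
      rwa [← Subtype.ext he']
    exact fun k hk hkx => hcentral M hMn hMK hMne
      (Subgroup.mem_sup_right ⟨hk, Subgroup.mem_centralizer_singleton_iff.2 hkx⟩)
  -- the representation
  have hc : ⁅k₀, x⁆ ≠ 1 := fun h => hne (commutatorElement_eq_one_iff_commute.1 h)
  obtain ⟨γ, d, hγ, hd, hd0, hdn, hγc⟩ := exists_constituent ρ hρ hc
  have hd2 : 2 ≤ d := by
    by_contra h
    obtain rfl : d = 1 := by omega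
    exact hγc (linear_commutator hγ (by rw [hd, Nat.cast_one]) k₀ x)
  obtain ⟨m, σ, hσ, rfl⟩ := hγ
  haveI := hσ
  obtain rfl : m = d := by
    rw [Representation.char_one, Module.finrank_fin_fun] at hd
    exact Nat.cast_injective hd
  have := le_degree_add_one K x hgen hdisj hxp hpo hprimes hco hC σ hd2 (by omega)
  omega

/-- The induction. -/
theorem normal_sylow_aux : ∀ (N : ℕ) (G : Type u) [Group G] [Finite G] (n : ℕ)
    (ρ : Representation ℂ G (Fin n → ℂ)), Nat.card G ≤ N → Function.Injective ρ → n + 1 < p →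
    ((n + 1) ^ 2 ≤ p ∨ ∀ K : Subgroup G, ¬ p ^ 2 ∣ Nat.card K → NS p K) →
    ∀ P : Sylow p G, (P : Subgroup G).Normal := by
  intro N
  induction N with
  | zero =>
    intro G _ _ n ρ h
    exact absurd (Nat.card_pos (α := G)) (by omega)
  | succ N ih =>
    intro G _ _ n ρ hcard hρ hn h P
    classical
    haveI := Fintype.ofFinite G
    have hsub : ∀ L : Subgroup G, L ≠ ⊤ → NS p L := by
      intro L hL
      have hlt : Nat.card L < Nat.card G := by
        rcases Nat.lt_or_ge (Nat.card L) (Nat.card G) with h1 | h1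
        · exact h1
        · exact absurd (Subgroup.eq_top_of_le_card L h1) hL
      refine ih L n (ρ.comp L.subtype) (by omega) (hρ.comp L.subtype_injective) hn (h.imp id ?_)
      intro hK K hKc
      let e := Subgroup.equivMapOfInjective K L.subtype L.subtype_injective
      refine ns_of_surjective e.symm.toMonoidHom e.symm.surjective (hK _ ?_)
      rwa [Nat.card_congr e.symm.toEquiv]
    have habel : ∀ S : Sylow p G, ∀ a ∈ (S : Subgroup G), ∀ b ∈ (S : Subgroup G), a * b = b * a :=
      fun S a ha b hb => congrArg Subtype.val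
        (pgroup_comm (G := (S : Subgroup G)) (ρ.comp (S : Subgroup G).subtype)
          (hρ.comp (S : Subgroup G).subtype_injective) S.isPGroup' (by omega) ⟨a, ha⟩ ⟨b, hb⟩)
    by_contra hPn
    -- `P` lies in no proper normal subgroup
    have hgenP : ∀ M : Subgroup G, M.Normal → (P : Subgroup G) ≤ M → M = ⊤ := by
      intro M hM hPM
      by_contra hMt
      obtain ⟨U, hUM, hpU, hmax, -⟩ := exists_largest M (hsub M hMt)
      have hUP : U = P := P.is_maximal' hpU (hmax _ hPM P.isPGroup')
      refine hPn ⟨fun u hu g => ?_⟩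
      have := mem_normalizer_of_forall_conj hUM hpU hmax (g := g) fun k =>
        ⟨fun hk => hM.conj_mem k hk g, fun hk => by
          have := hM.conj_mem _ hk g⁻¹
          simpa [mul_assoc] using this⟩
      rw [hUP] at this
      exact (Subgroup.mem_normalizer_iff.1 this u).1 hu
    have hnormP : ∀ S : Subgroup G, S ⊔ (P : Subgroup G) = ⊤ →
        (∀ s ∈ S, ∀ y ∈ (P : Subgroup G), s * y = y * s) → False := by
      intro S hS hc
      refine hPn ?_
      rw [← Subgroup.normalizer_eq_top_iff, eq_top_iff, ← hS, sup_le_iff]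
      refine ⟨fun s hs => Subgroup.mem_normalizer_iff.2 fun y => ⟨fun hy => ?_, fun hy => ?_⟩,
        Subgroup.le_normalizer⟩
      · rw [hc s hs y hy, mul_inv_cancel_right]; exact hy
      · have e := mul_left_cancel ((hc s hs _ hy).trans (inv_mul_cancel_right (s * y) s))
        rwa [e] at hy
    by_cases hperf : commutator G = ⊤
    · -- the perfect case
      have hPZ : (P : Subgroup G) ⊓ Subgroup.center G = ⊥ := by
        rw [eq_bot_iff]
        intro z hz
        have := Schur.center_commutator_sylow P hz.2 (hperf ▸ Subgroup.mem_top z) hz.1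
        have hb : ⁅(P : Subgroup G), (P : Subgroup G)⁆ = ⊥ := Subgroup.commutator_eq_bot_iff_le_centralizer.2
          fun a ha => Subgroup.mem_centralizer_iff.2 fun b hb => habel P b hb a ha
        rwa [hb] at this
      have hnc : ∀ S : Sylow p G, ∀ y ∈ (S : Subgroup G), y ≠ 1 → y ∉ Subgroup.center G := by
        intro S y hy hy1 hyc
        obtain ⟨g, hg⟩ := MulAction.exists_smul_eq G S P
        have hmem : g * y * g⁻¹ ∈ (P : Subgroup G) := by
          rw [← hg]
          exact ⟨y, hy, rfl⟩
        rw [Subgroup.mem_center_iff.1 hyc g, mul_inv_cancel_right] at hmem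
        have : y ∈ (P : Subgroup G) ⊓ Subgroup.center G := ⟨hmem, hyc⟩
        rw [hPZ, Subgroup.mem_bot] at this
        exact hy1 this
      have hTI : ∀ S T : Sylow p G, ∀ y, y ≠ 1 → y ∈ (S : Subgroup G) → y ∈ (T : Subgroup G) →
          (S : Subgroup G) = T := by
        intro S T y hy1 hyS hyT
        have hne : Subgroup.centralizer ({y} : Set G) ≠ ⊤ := fun htop => hnc S y hyS hy1
          (Subgroup.mem_center_iff.2 fun g => Subgroup.mem_centralizer_singleton_iff.1
            (htop ▸ Subgroup.mem_top g))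
        obtain ⟨U, -, hpU, hmax, -⟩ := exists_largest _ (hsub _ hne)
        have hS : U = S := S.is_maximal' hpU (hmax _ (fun a ha =>
          Subgroup.mem_centralizer_singleton_iff.2 (habel S a ha y hyS)) S.isPGroup')
        have hT : U = T := T.is_maximal' hpU (hmax _ (fun a ha =>
          Subgroup.mem_centralizer_singleton_iff.2 (habel T a ha y hyT)) T.isPGroup')
        rw [← hS, ← hT]
      have hone : ∀ g : G, g ∉ Subgroup.center G → ∀ a b : G,
          Subgroup.centralizer ({g} : Set G) ⊓ (P : Subgroup G).map (MulAut.conj a).toMonoidHom ≠ ⊥ →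
          Subgroup.centralizer ({g} : Set G) ⊓ (P : Subgroup G).map (MulAut.conj b).toMonoidHom ≠ ⊥ →
          (P : Subgroup G).map (MulAut.conj a).toMonoidHom = (P : Subgroup G).map (MulAut.conj b).toMonoidHom := by
        intro g hg a b ha hb
        have hne : Subgroup.centralizer ({g} : Set G) ≠ ⊤ := fun htop => hg
          (Subgroup.mem_center_iff.2 fun w => Subgroup.mem_centralizer_singleton_iff.1
            (htop ▸ Subgroup.mem_top w))
        obtain ⟨U, -, hpU, hmax, -⟩ := exists_largest _ (hsub _ hne)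
        obtain ⟨T, hUT⟩ := hpU.exists_le_sylow
        have key : ∀ c : G, Subgroup.centralizer ({g} : Set G) ⊓
            (P : Subgroup G).map (MulAut.conj c).toMonoidHom ≠ ⊥ →
            (P : Subgroup G).map (MulAut.conj c).toMonoidHom = T := by
          intro c hc
          obtain ⟨y, hy, hy1⟩ := (Subgroup.ne_bot_iff_exists_ne_one.1 hc).elim
            (fun y hy => (⟨y.1, y.2, fun e => hy (Subtype.ext e)⟩ : ∃ y : G,
              y ∈ Subgroup.centralizer ({g} : Set G) ⊓ (P : Subgroup G).map (MulAut.conj c).toMonoidHom ∧ y ≠ 1))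
          have hyT : y ∈ (T : Subgroup G) := hUT (hmax (Subgroup.zpowers y) (Subgroup.zpowers_le.2 hy.1)
            ((P.isPGroup'.map _).to_le (Subgroup.zpowers_le.2 hy.2)) (Subgroup.mem_zpowers y))
          exact hTI (c • P) T y hy1 hy.2 hyT
        rw [key a ha, key b hb]
      have hPne : (P : Subgroup G) ≠ ⊥ := fun hb => hPn (hb ▸ inferInstance)
      obtain ⟨⟨c, hcP⟩, hc1⟩ := Subgroup.ne_bot_iff_exists_ne_one.1 hPne
      obtain ⟨γ, d, hγ, hd, hd0, hdn, hγc⟩ :=
        exists_constituent ρ hρ (c := c) fun e => hc1 (Subtype.ext e)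
      have hd2 : 2 ≤ d := by
        by_contra hd2
        obtain rfl : d = 1 := by omega
        obtain ⟨m, σ, -, rfl⟩ := id hγ
        have hker : commutator G ≤ MonoidHom.ker σ := by
          rw [commutator_def, Subgroup.commutator_le]
          intro a _ b _
          refine MonoidHom.mem_ker.2 ((char_eq_degree_iff σ _).1 ?_)
          rw [← Representation.char_one σ]
          exact linear_commutator hγ (by rw [hd, Nat.cast_one]) a b
        refine hγc ?_
        have : σ c = 1 := MonoidHom.mem_ker.1 (hker (hperf ▸ Subgroup.mem_top c))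
        show LinearMap.trace ℂ _ (σ c) = LinearMap.trace ℂ _ (σ 1)
        rw [this, map_one σ]
      have hb := DegreeBound.one_add_degree_sq_gt (P : Subgroup G) (habel P) hPZ hone hgenP hγ
        ⟨c, hcP, hγc⟩ hd hd2
      obtain ⟨k, hk⟩ := IsPGroup.iff_card.1 P.isPGroup'
      have hk0 : k ≠ 0 := fun h0 => hPne ((Subgroup.card_eq_one).1 (by rw [hk, h0, pow_zero]))
      have hdn' : (1 + d) ^ 2 ≤ (n + 1) ^ 2 := Nat.pow_le_pow_left (by omega) 2
      rcases h with h | h
      · have : p ≤ Nat.card (P : Subgroup G) := hk ▸ Nat.le_self_pow hk0 p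
        omega
      · by_cases hk1 : k = 1
        · have hG : ¬ p ^ 2 ∣ Nat.card (⊤ : Subgroup G) := by
            rw [Subgroup.card_top]
            intro hdvd
            have := (Nat.Prime.pow_dvd_iff_le_factorization hp.out Nat.card_pos.ne').1 hdvd
            have hP' := P.card_eq_multiplicity
            rw [hk, hk1] at hP'
            have : 1 = (Nat.card G).factorization p := Nat.pow_right_injective hp.out.two_le hP'
            omega
          exact hPn (ns_of_surjective (Subgroup.topEquiv (G := G)).toMonoidHom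
            (Subgroup.topEquiv (G := G)).surjective (h ⊤ hG) P)
        · have : p ^ 2 ≤ Nat.card (P : Subgroup G) := by
            rw [hk]
            exact Nat.pow_le_pow_right hp.out.pos (by omega)
          have : (n + 1) ^ 2 < p ^ 2 := Nat.pow_lt_pow_left hn two_ne_zero
          omega
    · -- a normal `p`-complement
      have hDP : commutator G ⊔ (P : Subgroup G) = ⊤ := by
        refine hgenP _ ⟨fun a ha g => ?_⟩ le_sup_right
        rw [show g * a * g⁻¹ = ⁅g, a⁆ * a by simp [commutatorElement_def, mul_assoc]]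
        refine Subgroup.mul_mem _ (Subgroup.mem_sup_left ?_) ha
        exact Subgroup.commutator_mem_commutator (Subgroup.mem_top g) (Subgroup.mem_top a)
      obtain ⟨U, hUD, hpU, hmax, -⟩ := exists_largest (commutator G) (hsub _ hperf)
      have hUn : U.Normal := by
        rw [← Subgroup.normalizer_eq_top_iff, eq_top_iff]
        intro g _
        exact mem_normalizer_of_forall_conj hUD hpU hmax fun k =>
          ⟨fun hk => (inferInstance : (commutator G).Normal).conj_mem k hk g, fun hk => by
            have := (inferInstance : (commutator G).Normal).conj_mem _ hk g⁻¹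
            simpa [mul_assoc] using this⟩
      have hUP : U ≤ P := by
        obtain ⟨T, hT⟩ := hpU.exists_le_sylow
        obtain ⟨g, hg⟩ := MulAction.exists_smul_eq G T P
        intro u hu
        rw [← hg]
        refine ⟨g⁻¹ * u * g, hT ?_, by simp [mul_assoc]⟩
        simpa using hUn.conj_mem u hu g⁻¹
      have hUc : U ≤ Subgroup.center G := by
        have hCn : (Subgroup.centralizer (U : Set G)).Normal := inferInstance
        have := hgenP _ hCn fun a ha => Subgroup.mem_centralizer_iff.2 fun u hu =>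
          habel P u (hUP hu) a ha
        intro u hu
        refine Subgroup.mem_center_iff.2 fun g => ?_
        exact ((Subgroup.mem_centralizer_iff.1 (this ▸ Subgroup.mem_top g)) u hu).symm
      have hU1 : U = ⊥ := by
        rw [eq_bot_iff]
        intro u hu
        have := Schur.center_commutator_sylow P (hUc hu) (hUD hu) (hUP hu)
        have hb : ⁅(P : Subgroup G), (P : Subgroup G)⁆ = ⊥ := Subgroup.commutator_eq_bot_iff_le_centralizer.2
          fun a ha => Subgroup.mem_centralizer_iff.2 fun b hb => habel P b hb a ha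
        rwa [hb] at this
      have hpD : ¬ p ∣ Nat.card (commutator G) := by
        intro hdvd
        obtain ⟨y, hy⟩ := exists_prime_orderOf_dvd_card' p hdvd
        have hyU : (y : G) ∈ U := hmax (Subgroup.zpowers (y : G)) (Subgroup.zpowers_le.2 y.2)
          (IsPGroup.of_card (n := 1) (by rw [Nat.card_zpowers, Subgroup.orderOf_coe, hy, pow_one]))
          (Subgroup.mem_zpowers _)
        rw [hU1, Subgroup.mem_bot] at hyU
        rw [show y = 1 from Subtype.ext hyU, orderOf_one] at hy
        exact hp.out.one_lt.ne hy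
      set D := commutator G with hD
      let C : Subgroup G := D ⊓ Subgroup.centralizer ((P : Subgroup G) : Set G)
      have hall : ∀ q : ℕ, q.Prime → q ^ (Nat.card D).factorization q ∣ Nat.card C := by
        intro q hq
        haveI := Fact.mk hq
        rcases Nat.eq_zero_or_pos ((Nat.card D).factorization q) with h0 | h0
        · rw [h0, pow_zero]; exact one_dvd _
        have hqp : q ≠ p := fun e => hpD (e ▸ Nat.dvd_of_factorization_pos h0.ne')
        obtain ⟨Q₀⟩ : Nonempty (Sylow q D) := inferInstance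
        have hF := Sylow.normalizer_sup_eq_top Q₀
        set N₀ := Subgroup.normalizer (((Q₀ : Subgroup D).map D.subtype : Subgroup G) : Set G) with hN₀
        have hsurj : Function.Surjective ((QuotientGroup.mk' D).comp N₀.subtype) := by
          intro b
          obtain ⟨g, rfl⟩ := QuotientGroup.mk'_surjective D b
          have hg : g ∈ N₀ ⊔ D := hF ▸ Subgroup.mem_top g
          obtain ⟨a, ha, c, hc, rfl⟩ := Subgroup.mem_sup_of_normal_right.1 hg
          exact ⟨⟨a, ha⟩, by simp [(QuotientGroup.eq_one_iff c).2 hc]⟩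
        obtain ⟨k, hk⟩ := IsPGroup.iff_card.1 P.isPGroup'
        have hdvd : p ^ k ∣ Nat.card N₀ := by
          refine dvd_trans ?_ (Subgroup.card_dvd_of_surjective _ hsurj)
          have h1 : p ^ k ∣ Nat.card (G ⧸ D) * Nat.card D := by
            rw [← Subgroup.card_eq_card_quotient_mul_card_subgroup, ← hk]
            exact Subgroup.card_subgroup_dvd_card _
          exact (Nat.Coprime.dvd_of_dvd_mul_right
            (Nat.Coprime.pow_left k ((Nat.Prime.coprime_iff_not_dvd hp.out).2 hpD)) h1)
        obtain ⟨R, hR⟩ := Sylow.exists_subgroup_card_pow_prime p hdvd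
        have hR' : Nat.card (R.map N₀.subtype) = p ^ (Nat.card G).factorization p := by
          rw [Subgroup.card_map_of_injective N₀.subtype_injective, hR, ← hk]
          exact P.card_eq_multiplicity
        obtain ⟨g, hg⟩ := MulAction.exists_smul_eq G (Sylow.ofCard (R.map N₀.subtype) hR') P
        -- the conjugate of `Q₀` normalised by `P`
        let Q : Subgroup G := ((Q₀ : Subgroup D).map D.subtype).map (MulAut.conj g).toMonoidHom
        have hQD : Q ≤ D := by
          rintro _ ⟨_, ⟨a, -, rfl⟩, rfl⟩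
          exact (inferInstance : D.Normal).conj_mem a a.2 g
        have hQq : IsPGroup q Q := (Q₀.isPGroup'.map _).map _
        have hPQ : (P : Subgroup G) ≤ Subgroup.normalizer (Q : Set G) := by
          have h1 : N₀.map (MulAut.conj g).toMonoidHom ≤ Subgroup.normalizer (Q : Set G) :=
            Subgroup.le_normalizer_map (MulAut.conj g).toMonoidHom
          rw [← hg]
          rintro _ ⟨r, hr, rfl⟩
          exact h1 ⟨r, (Subgroup.map_subtype_le _ : R.map N₀.subtype ≤ N₀) hr, rfl⟩
        have hQC : Q ≤ C := by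
          refine le_inf hQD fun s hs => Subgroup.mem_centralizer_iff.2 fun y hy => ?_
          by_cases htop : Q ⊔ (P : Subgroup G) = ⊤
          · haveI hQn : Q.Normal := by
              rw [← Subgroup.normalizer_eq_top_iff, eq_top_iff, ← htop, sup_le_iff]
              exact ⟨Subgroup.le_normalizer, hPQ⟩
            exact (coprime_case ρ hρ hn hsub hqp Q hQq P P.isPGroup' (habel P) htop s hs y hy).symm
          · obtain ⟨U', -, hpU', hmax', hnorm'⟩ := exists_largest _ (hsub _ htop)
            have hU' : U' = P := P.is_maximal' hpU' (hmax' _ le_sup_right P.isPGroup')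
            rw [hU'] at hnorm'
            have h1 : s * y * s⁻¹ * y⁻¹ ∈ (P : Subgroup G) := Subgroup.mul_mem _
              ((Subgroup.mem_normalizer_iff.1 (hnorm' (Subgroup.mem_sup_left hs)) y).1 hy)
              (Subgroup.inv_mem _ hy)
            have h2 : s * y * s⁻¹ * y⁻¹ ∈ Q := by
              have := Q.mul_mem hs ((Subgroup.mem_normalizer_iff.1 (hPQ hy) s⁻¹).1 (Q.inv_mem hs))
              simpa [mul_assoc] using this
            have h3 := Subgroup.disjoint_def.1
              (IsPGroup.disjoint_of_ne q p hqp _ _ hQq P.isPGroup') h2 h1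
            exact (mul_inv_eq_iff_eq_mul.1 (mul_inv_eq_one.1 h3)).symm
        refine dvd_trans ?_ (Subgroup.card_dvd_of_le hQC)
        rw [Subgroup.card_map_of_injective (MulAut.conj g).injective,
          Subgroup.card_map_of_injective D.subtype_injective, Q₀.card_eq_multiplicity]
      have hCD : C = D := by
        refine Subgroup.eq_of_le_of_card_ge inf_le_left (Nat.le_of_dvd Nat.card_pos ?_)
        rw [← Nat.factorization_le_iff_dvd Nat.card_pos.ne' Nat.card_pos.ne']
        intro q
        by_cases hq : q.Prime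
        · exact (Nat.Prime.pow_dvd_iff_le_factorization hq Nat.card_pos.ne').1 (hall q hq)
        · rw [Nat.factorization_eq_zero_of_not_prime _ hq]; exact Nat.zero_le _
      exact hnormP D hDP fun s hs y hy =>
        ((Subgroup.mem_centralizer_iff.1 (hCD.symm ▸ hs : s ∈ C).2) y hy).symm

end main

/-- **Blichfeldt / Feit-Thompson.** -/
theorem normal_sylow {n : ℕ} (ρ : Representation ℂ G (Fin n → ℂ)) (hρ : Function.Injective ρ)
    (h : (n + 1) ^ 2 ≤ p ∨ (n + 1 < p ∧ ∀ K : Subgroup G, ¬ p ^ 2 ∣ Nat.card K → NS p K))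
    (P : Sylow p G) : (P : Subgroup G).Normal := by
  rcases Nat.eq_zero_or_pos n with rfl | hn0
  · haveI : Subsingleton G := ⟨fun a b => hρ (Subsingleton.elim _ _)⟩
    rw [Subgroup.eq_bot_of_subsingleton (P : Subgroup G)]
    infer_instance
  have hn : n + 1 < p := by
    rcases h with h | h
    · have : n + 1 < (n + 1) ^ 2 := by nlinarith
      omega
    · exact h.1
  exact normal_sylow_aux (Nat.card G) G n ρ le_rfl hρ hn (h.imp id And.right) P

end CfsgLib.SmallDegree
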