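import Cfsg.Agent.Lib.Characters.Basic
import Cfsg.Agent.Lib.Characters.Decomp
import Cfsg.Agent.Lib.Characters.Generalized
import Cfsg.Agent.Lib.Characters.Clifford
import Cfsg.Agent.Lib.Characters.Scalar
import Cfsg.Agent.Lib.Characters.Values

/-!
# Averaging characters over a normal subgroup

The average of a character over the cosets of a normal subgroup is a character (of the fixed
points), and for two irreducible characters, one of which stays irreducible on the subgroup,
the average of `ψ * conj χ` is zero or irreducible.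
-/

set_option autoImplicit false

noncomputable section

namespace CfsgLib.NormalAvg

open scoped ComplexConjugate
open CfsgLib.Characters

universe u

variable {G : Type u} [Group G] (N : Subgroup G) [hN : N.Normal] [Fintype N]

/-- The average of a function over the cosets of `N`. -/
def avgN (F : G → ℂ) (g : G) : ℂ := (Nat.card N : ℂ)⁻¹ * ∑ n : N, F ((n : G) * g)

omit hN in
theorem avgN_mul_left (F : G → ℂ) (m : N) (g : G) : avgN N F ((m : G) * g) = avgN N F g := by
  unfold avgN
  congr 1
  exact Fintype.sum_equiv (Equiv.mulRight m) _ _ fun n => by simp [mul_assoc]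

theorem avgN_mul_right (F : G → ℂ) (m : N) (g : G) : avgN N F (g * m) = avgN N F g := by
  have := avgN_mul_left N F ⟨g * m * g⁻¹, hN.conj_mem (m : G) m.2 g⟩ g
  simpa using this

theorem avgN_irr [Finite G] {γ : G → ℂ} (hγ : Cfsg.IsIrrCharacter G γ) :
    avgN N γ = γ ∨ avgN N γ = 0 := by
  obtain ⟨d, ρ, hρ, rfl⟩ := hγ
  let P : Module.End ℂ (Fin d → ℂ) := (Nat.card N : ℂ)⁻¹ • ∑ n : N, ρ n
  have hcomm : ∀ g, P * ρ g = ρ g * P := fun g => by
    simp only [P, smul_mul_assoc, mul_smul_comm, Finset.sum_mul, Finset.mul_sum, ← map_mul]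
    congr 1
    let e : N ≃ N :=
      { toFun := fun n => ⟨g⁻¹ * n * g, hN.conj_mem' (n : G) n.2 g⟩
        invFun := fun n => ⟨g * n * g⁻¹, hN.conj_mem (n : G) n.2 g⟩
        left_inv := fun n => Subtype.ext (by simp [mul_assoc])
        right_inv := fun n => Subtype.ext (by simp [mul_assoc]) }
    refine Fintype.sum_equiv e _ _ fun n => ?_
    congr 1
    simp [e, mul_assoc]
  obtain ⟨c, hc⟩ := CfsgLib.CharScalar.exists_scalar ρ P hcomm
  have habs : ∀ m : N, ρ m * P = P := fun m => by
    simp only [P, mul_smul_comm, Finset.mul_sum, ← map_mul]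
    congr 1
    exact Fintype.sum_equiv (Equiv.mulLeft m) _ _ fun n => rfl
  have hval : ∀ g, avgN N ρ.character g = LinearMap.trace ℂ _ (P * ρ g) := fun g => by
    simp [avgN, P, Representation.character, Finset.sum_mul, map_sum]
  by_cases h0 : c = 0
  · right
    funext g
    rw [hval, hc, h0, zero_smul, zero_mul, map_zero]
    rfl
  · left
    funext g
    have h1 : ∀ m : N, ρ m = 1 := fun m => by
      have := habs m
      rw [hc, mul_smul_comm, mul_one] at this
      exact smul_right_injective _ h0 this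
    have hP : P = 1 := by
      simp [P, h1, ← Nat.cast_smul_eq_nsmul ℂ, Nat.card_eq_fintype_card, smul_smul]
    rw [hval, hP, one_mul]
    rfl

omit hN in
theorem avgN_sum {ι : Type*} (s : Finset ι) (c : ι → ℂ) (F : ι → G → ℂ) :
    avgN N (∑ i ∈ s, c i • F i) = ∑ i ∈ s, c i • avgN N (F i) := by
  funext g
  simp only [avgN, Finset.sum_apply, Pi.smul_apply, smul_eq_mul]
  rw [Finset.sum_comm, Finset.mul_sum]
  exact Finset.sum_congr rfl fun i _ => by rw [← Finset.mul_sum, mul_left_comm]

/-- Averaging a character over a normal subgroup gives a character. -/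
theorem isCharacter_avgN [Fintype G] {F : G → ℂ} (hF : Cfsg.IsCharacter G F) :
    Cfsg.IsCharacter G (avgN N F) := by
  classical
  obtain ⟨m, -, hsum⟩ := CfsgLib.Clifford.exists_mult hF
  rw [hsum, avgN_sum]
  refine isCharacter_sum _ fun γ _ => ?_
  rcases avgN_irr N γ.2 with h | h <;> rw [h]
  · exact isCharacter_natCast_smul (irr_isCharacter γ) (m γ)
  · rw [smul_zero]
    exact isCharacter_zero

omit hN in
/-- Functions constant on cosets see only the average. -/
theorem classInner_avgN_left [Fintype G] (F : G → ℂ) {f : G → ℂ}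
    (hf : ∀ (n : N) (g : G), f ((n : G) * g) = f g) :
    Cfsg.classInner (avgN N F) f = Cfsg.classInner F f := by
  unfold Cfsg.classInner avgN
  congr 1
  simp_rw [mul_assoc, ← Finset.mul_sum, Finset.sum_mul]
  rw [Finset.sum_comm]
  have h : ∀ n : N, ∑ g : G, F ((n : G) * g) * conj (f g) = ∑ g : G, F g * conj (f g) := fun n =>
    Fintype.sum_equiv (Equiv.mulLeft (n : G)) _ _ fun g => by simp [hf]
  rw [Finset.sum_congr rfl fun n _ => h n, Finset.sum_const, Finset.card_univ, nsmul_eq_mul,
    ← Nat.card_eq_fintype_card, inv_mul_cancel_left₀ (Nat.cast_ne_zero.2 Nat.card_pos.ne')]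

/-- The average of `ψ * conj χ`. -/
def pairAvg (ψ χ : G → ℂ) : G → ℂ := avgN N (fun g => ψ g * conj (χ g))

omit hN in
theorem pairAvg_apply (ψ χ : G → ℂ) (g : G) :
    pairAvg N ψ χ g = (Nat.card N : ℂ)⁻¹ * ∑ n : N, ψ ((n : G) * g) * conj (χ ((n : G) * g)) :=
  rfl

omit hN in
theorem pairAvg_one (ψ χ : G → ℂ) :
    pairAvg N ψ χ 1 = Cfsg.classInner (fun n : N => ψ n) (fun n : N => χ n) := by
  simp [pairAvg_apply, Cfsg.classInner]

theorem isCharacter_pairAvg [Fintype G] {ψ χ : G → ℂ} (hψ : Cfsg.IsCharacter G ψ)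
    (hχ : Cfsg.IsCharacter G χ) : Cfsg.IsCharacter G (pairAvg N ψ χ) :=
  isCharacter_avgN N (isCharacter_mul hψ (isCharacter_conj hχ))

/-- A character of degree zero vanishes. -/
theorem eq_zero_of_degree_zero {X : Type u} [Group X] {F : X → ℂ} (h : Cfsg.IsCharacter X F)
    (h1 : F 1 = 0) : F = 0 := by
  obtain ⟨n, ρ, rfl⟩ := h
  rw [Representation.char_one, Module.finrank_fin_fun, Nat.cast_eq_zero] at h1
  subst h1
  funext g
  simp [Representation.character, Subsingleton.elim (ρ g) 0]

theorem pairAvg_eq_zero [Fintype G] {ψ χ : G → ℂ} (hψ : Cfsg.IsCharacter G ψ)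
    (hχ : Cfsg.IsCharacter G χ)
    (h : Cfsg.classInner (fun n : N => ψ n) (fun n : N => χ n) = 0) : pairAvg N ψ χ = 0 :=
  eq_zero_of_degree_zero (isCharacter_pairAvg N hψ hχ) (by rw [pairAvg_one, h])

/-- The average of `|χ|²` over every coset is one when `χ` stays irreducible on `N`. -/
theorem pairAvg_self [Fintype G] {χ : G → ℂ} (hχ : Cfsg.IsCharacter G χ)
    (hχN : Cfsg.IsIrrCharacter N (fun n : N => χ n)) : pairAvg N χ χ = fun _ => 1 := by
  have hc := isCharacter_pairAvg N hχ hχ
  have h1 : pairAvg N χ χ 1 = 1 := by rw [pairAvg_one, classInner_irr_self hχN]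
  obtain ⟨n, ρ, hρ⟩ := hc
  have hn : n = 1 := by
    rw [← hρ, Representation.char_one, Module.finrank_fin_fun] at h1
    exact_mod_cast h1
  subst hn
  funext g
  obtain ⟨ω, -, hnorm, hω⟩ := exists_eigenvalues ρ g
  have hfin : Module.finrank ℂ (Fin 1 → ℂ) = 1 := Module.finrank_fin_fun ℂ
  have hnv : ‖ρ.character g‖ = 1 := by
    rw [hω, Finset.sum_eq_single (Fin.cast hfin.symm 0)]
    · exact hnorm _
    · intro i _ hi
      exact absurd (Fin.ext (by have := i.isLt; omega)) hi
    · simp
  have hreal : pairAvg N χ χ g =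
      ((Nat.card N : ℝ)⁻¹ * ∑ m : N, Complex.normSq (χ ((m : G) * g)) : ℝ) := by
    rw [pairAvg_apply]
    push_cast
    congr 1
    exact Finset.sum_congr rfl fun m _ => by rw [Complex.mul_conj]
  rw [hρ, hreal, Complex.norm_real, Real.norm_of_nonneg (mul_nonneg (by positivity)
    (Finset.sum_nonneg fun m _ => Complex.normSq_nonneg _))] at hnv
  rw [hreal, hnv, Complex.ofReal_one]

/-- The Gallagher quotient `ψ/χ` is irreducible. -/
theorem isIrrCharacter_pairAvg [Fintype G] {ψ χ : G → ℂ} (hψ : Cfsg.IsIrrCharacter G ψ)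
    (hχ : Cfsg.IsCharacter G χ) (hχN : Cfsg.IsIrrCharacter N (fun n : N => χ n))
    (h : Cfsg.classInner (fun n : N => ψ n) (fun n : N => χ n) ≠ 0) :
    Cfsg.IsIrrCharacter G (pairAvg N ψ χ) := by
  classical
  have hψc := isCharacter_of_irr hψ
  set η := pairAvg N ψ χ with hη
  have hηc : Cfsg.IsCharacter G η := isCharacter_pairAvg N hψc hχ
  have hcon : ∀ (n : N) (g : G), η ((n : G) * g) = η g := fun n g => avgN_mul_left N _ n g
  have hprod : Cfsg.IsCharacter G (χ * η) := isCharacter_mul hχ hηc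
  have e1 : Cfsg.classInner η η = Cfsg.classInner ψ (χ * η) := by
    conv_lhs => arg 1; rw [hη, pairAvg]
    rw [classInner_avgN_left N _ hcon]
    unfold Cfsg.classInner
    congr 1
    exact Finset.sum_congr rfl fun g _ => by simp [mul_assoc]
  have e2 : Cfsg.classInner (χ * η) (χ * η) = Cfsg.classInner η η := by
    have hcon2 : ∀ (n : N) (g : G),
        (fun g => η g * conj (η g)) ((n : G) * g) = (fun g => η g * conj (η g)) g := fun n g => by
      simp only [hcon]
    have := classInner_avgN_left N (fun g => χ g * conj (χ g))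
      (f := fun g => η g * conj (η g)) hcon2
    have hone : avgN N (fun g => χ g * conj (χ g)) = fun _ => 1 := pairAvg_self N hχ hχN
    rw [hone] at this
    unfold Cfsg.classInner at this ⊢
    refine Eq.trans ?_ (this.symm.trans ?_)
    · congr 1
      exact Finset.sum_congr rfl fun g _ => by simp; ring
    · congr 1
      exact Finset.sum_congr rfl fun g _ => by simp; ring
  obtain ⟨m, hm, -⟩ := CfsgLib.Clifford.exists_mult hprod
  set a := m ⟨ψ, hψ⟩ with ha
  have hψη : Cfsg.classInner ψ (χ * η) = (a : ℂ) := by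
    rw [classInner_conj_symm, hm ⟨ψ, hψ⟩, Complex.conj_natCast]
  have hsq := classInner_self_eq_sum_sq (isClassFunction_of_isCharacter hprod)
    (m := fun γ => (m γ : ℤ)) (fun γ => by rw [hm γ, Int.cast_natCast])
  rw [e2, e1, hψη] at hsq
  have hsq' : (a : ℤ) = ∑ γ, (m γ : ℤ) ^ 2 := by exact_mod_cast hsq
  have hle : (a : ℤ) ^ 2 ≤ a := by
    conv_rhs => rw [hsq']
    exact Finset.single_le_sum (f := fun γ => (m γ : ℤ) ^ 2) (fun _ _ => sq_nonneg _)
      (Finset.mem_univ _)
  have ha0 : a ≠ 0 := by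
    intro h0
    rw [h0, Nat.cast_zero] at hψη
    rw [hψη] at e1
    obtain ⟨k, hk⟩ := exists_degree hηc
    obtain ⟨mη, hmη, hsumη⟩ := CfsgLib.Clifford.exists_mult hηc
    have hz := classInner_self_eq_sum_sq (isClassFunction_of_isCharacter hηc)
      (m := fun γ => (mη γ : ℤ)) (fun γ => by rw [hmη γ, Int.cast_natCast])
    rw [e1] at hz
    have hz' : (0 : ℤ) = ∑ γ, (mη γ : ℤ) ^ 2 := by exact_mod_cast hz
    refine h ?_
    rw [← pairAvg_one, ← hη, hsumη, Finset.sum_apply]
    refine Finset.sum_eq_zero fun γ _ => ?_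
    have := (Finset.sum_eq_zero_iff_of_nonneg fun γ _ => sq_nonneg _).1 hz'.symm γ (Finset.mem_univ _)
    simp at this
    simp [this]
  have ha1 : a = 1 := by
    have hle' : a ^ 2 ≤ a := by exact_mod_cast hle
    nlinarith [Nat.pos_of_ne_zero ha0]
  rw [isIrrCharacter_iff_classInner_self hηc, e1, hψη, ha1, Nat.cast_one]

end CfsgLib.NormalAvg
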