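import Cfsg.Agent.Lib.Characters.Extension
import Cfsg.Agent.Lib.Characters.Basic

/-!
# Comparison of two extensions of an invariant irreducible character
-/

set_option autoImplicit false

noncomputable section

namespace CfsgLib.CharExtension

universe u

section Compare

variable {G : Type u} [Group G] [Finite G] (N : Subgroup G) [hN : N.Normal] {d : ℕ}
  (ρ : Representation ℂ N (Fin d → ℂ)) [hρ : ρ.IsIrreducible]

omit hN in
/-- An extending character is afforded by an extending homomorphism into units. -/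
theorem exists_hom_of_char_top {χ : G → ℂ} (hχ : Cfsg.IsCharacter G χ)
    (h : ∀ n : N, χ n = ρ.character n) :
    ∃ s : G →* GLd d, (∀ n : N, s n = rhoU N ρ n) ∧ (repOfUnits s).character = χ := by
  obtain ⟨m, σ, rfl⟩ := hχ
  have hdm : m = d := by
    have := h 1
    rw [OneMemClass.coe_one, Representation.char_one, Representation.char_one,
      Module.finrank_fin_fun, Module.finrank_fin_fun] at this
    exact_mod_cast this
  subst hdm
  obtain ⟨T, hT⟩ := exists_unit_conj ρ (σ.comp N.subtype) (funext h)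
  refine ⟨(MulAut.conj T⁻¹).toMonoidHom.comp σ.toHomUnits, fun n => ?_, funext fun g => ?_⟩
  · have h1 : T * rhoU N ρ n = σ.toHomUnits (n : G) * T := Units.ext (hT n)
    show T⁻¹ * σ.toHomUnits (n : G) * T⁻¹⁻¹ = _
    rw [inv_inv, mul_assoc, ← h1, inv_mul_cancel_left]
  · show LinearMap.trace ℂ _
      ((T⁻¹).1 * σ g * ((T⁻¹)⁻¹ : GLd m).1) = LinearMap.trace ℂ _ (σ g)
    rw [inv_inv, LinearMap.trace_mul_comm, ← mul_assoc, Units.mul_inv, one_mul]

omit [Finite G] in
/-- Two extending homomorphisms differ by a linear character trivial on `N`. -/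
theorem exists_twist {s t : G →* GLd d} (hs : ∀ n : N, s n = rhoU N ρ n)
    (ht : ∀ n : N, t n = rhoU N ρ n) :
    ∃ α : G →* ℂˣ, (∀ g, t g = sc d (α g) * s g) ∧ ∀ n : N, α n = 1 := by
  have hinj := sc_injective (pos_of_irreducible ρ)
  have hint : ∀ (u : G →* GLd d), (∀ n : N, u n = rhoU N ρ n) → ∀ g (n : N),
      u g * rhoU N ρ n = rhoU N ρ (conjN N g n) * u g := by
    intro u hu g n
    rw [← hu, ← hu, ← map_mul, ← map_mul]
    congr 1
    simp [conjN]
  have hex : ∀ g, ∃ c : ℂˣ, t g = sc d c * s g := by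
    intro g
    obtain ⟨c, hc⟩ := scalar_of_commute N ρ ((s g)⁻¹ * t g) fun n => by
      rw [mul_assoc, hint t ht, ← mul_assoc, ← mul_assoc, mul_left_inj, inv_mul_eq_iff_eq_mul,
        ← mul_assoc, hint s hs, mul_inv_cancel_right]
    exact ⟨c, by rw [sc_commute, ← hc, mul_inv_cancel_left]⟩
  choose α hα using hex
  refine ⟨MonoidHom.mk' α fun a b => hinj (mul_right_cancel (b := s (a * b)) ?_), hα, fun n => ?_⟩
  · rw [← hα, map_mul, map_mul, map_mul, hα a, hα b, mul_assoc, mul_assoc, ← mul_assoc (s a),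
      ← sc_commute, mul_assoc]
  · refine hinj (mul_right_cancel (b := s n) ?_)
    rw [map_one, one_mul]
    exact ((hα n).symm.trans ((ht n).trans (hs n).symm))

omit [Finite G] hN hρ in
theorem det_sc_mul (c : ℂˣ) (T : GLd d) :
    LinearMap.det ((sc d c * T : GLd d) : Module.End ℂ (Fin d → ℂ)) =
      (c : ℂ) ^ d * LinearMap.det (T : Module.End ℂ (Fin d → ℂ)) := by
  rw [Units.val_mul, map_mul, det_sc]

/-- The twist of an extending homomorphism by a linear character. -/
def twistHom (α : G →* ℂˣ) (s : G →* GLd d) : G →* GLd d :=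
  MonoidHom.mk' (fun g => sc d (α g) * s g) fun a b => by
    rw [map_mul, map_mul, map_mul, mul_assoc, mul_assoc, ← mul_assoc (s a), ← sc_commute,
      mul_assoc]

omit [Finite G] hN hρ in
theorem twistHom_ext {α : G →* ℂˣ} {s : G →* GLd d} (hs : ∀ n : N, s n = rhoU N ρ n)
    (hα : ∀ n : N, α n = 1) (n : N) : twistHom α s n = rhoU N ρ n := by
  show sc d (α n) * s n = _
  rw [hα, map_one, one_mul, hs]

omit hN in
theorem isIrreducible_repOfUnits {s : G →* GLd d} (hs : ∀ n : N, s n = rhoU N ρ n) :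
    (repOfUnits s).IsIrreducible := by
  have e : (repOfUnits s).comp N.subtype = ρ := MonoidHom.ext fun n => congrArg Units.val (hs n)
  exact isIrreducible_of_restrict N _ (e ▸ hρ)

omit hN in
theorem detChar_repOfUnits {s : G →* GLd d} (hs : ∀ n : N, s n = rhoU N ρ n) :
    Cfsg.detChar (repOfUnits s).character =
      fun g => LinearMap.det ((s g : GLd d) : Module.End ℂ (Fin d → ℂ)) := by
  have := isIrreducible_repOfUnits N ρ hs
  rw [detChar_eq]
  rfl

/-- Invariance of the determinant. -/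
theorem det_conjN (hinv : ∀ g n, ρ.character (conjN N g n) = ρ.character n) (g : G) (n : N) :
    LinearMap.det (ρ (conjN N g n)) = LinearMap.det (ρ n) := by
  obtain ⟨γ, hγ⟩ := proj_surjective N ρ hinv g
  have h := congrArg (fun T : GLd d => LinearMap.det (T : Module.End ℂ (Fin d → ℂ)))
    (op_spec N ρ γ n)
  simp only [Units.val_mul, map_mul, coe_rhoU, hγ] at h
  rw [mul_comm] at h
  exact (mul_right_cancel₀ (LinearEquiv.isUnit_det'
    (LinearMap.GeneralLinearGroup.toLinearEquiv (op N ρ γ))).ne_zero h).symm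

end Compare

section Statements

variable {G : Type u} [Group G] [Finite G] (N : Subgroup G) [hN : N.Normal]
  {ϑ : N → ℂ} (hϑ : Cfsg.IsIrrCharacter N ϑ)

include hϑ in
/-- An extension with prescribed determinantal character exists and is unique. -/
theorem existsUnique_ext_det (d : ℕ) (hd : ϑ 1 = d) (hcop : Nat.Coprime N.index d)
    (hext : ∃ η : G → ℂ, Cfsg.IsIrrCharacter G η ∧ ∀ n : N, η n = ϑ n)
    (f : G →* ℂˣ) (hf : ∀ n : N, (f n : ℂ) = Cfsg.detChar ϑ n) :
    ∃! χ : G → ℂ, Cfsg.IsIrrCharacter G χ ∧ (∀ n : N, χ n = ϑ n) ∧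
      Cfsg.detChar χ = fun g => (f g : ℂ) := by
  obtain ⟨e, ρ, hρ, rfl⟩ := hϑ
  rw [Representation.char_one, Module.finrank_fin_fun, Nat.cast_inj] at hd
  subst hd
  rw [detChar_eq] at hf
  obtain ⟨η, hη, hηn⟩ := hext
  obtain ⟨s, hs, -⟩ := exists_hom_of_char_top N ρ (CfsgLib.Characters.isCharacter_of_irr hη) hηn
  let D : G →* ℂˣ := (Units.map LinearMap.det).comp s
  have hidx : ∀ β : G →* ℂˣ, (∀ n : N, β n = 1) → β ^ N.index = 1 := fun β h =>
    MonoidHom.ext fun g => by
      rw [MonoidHom.pow_apply, ← map_pow, MonoidHom.one_apply]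
      exact h ⟨_, N.pow_index_mem g⟩
  let β : G →* ℂˣ := f * D⁻¹
  have hβN : ∀ n : N, β n = 1 := fun n => by
    show f n * (D n)⁻¹ = 1
    rw [mul_inv_eq_one]
    exact Units.ext ((hf n).trans (congrArg (fun T : GLd e => LinearMap.det T.1) (hs n)).symm)
  have hβo : orderOf β ∣ N.index := orderOf_dvd_of_pow_eq_one (x := β) (hidx β hβN)
  obtain ⟨l, hl⟩ : ∃ l : ℕ, (β ^ e) ^ l = β :=
    exists_pow_eq_self_of_coprime (x := β) (hcop.symm.coprime_dvd_right hβo)
  let α : G →* ℂˣ := β ^ l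
  have hαN : ∀ n : N, α n = 1 := fun n => by
    show (β ^ l) n = 1
    rw [MonoidHom.pow_apply, hβN, one_pow]
  have hdet : ∀ g, LinearMap.det (twistHom α s g).1 = (f g : ℂ) := fun g => by
    show LinearMap.det (sc e (α g) * s g : GLd e).1 = _
    rw [det_sc_mul]
    have h1 : α g ^ e = β g := by
      show (β ^ l) g ^ e = β g
      rw [← MonoidHom.pow_apply, ← pow_mul, mul_comm, pow_mul, hl]
    rw [← Units.val_pow_eq_pow_val, h1]
    show ((β g * D g : ℂˣ) : ℂ) = _
    congr 1
    exact inv_mul_cancel_right _ _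
  have ht := twistHom_ext N ρ hs hαN
  refine ⟨(repOfUnits (twistHom α s)).character,
    ⟨⟨e, _, isIrreducible_repOfUnits N ρ ht, rfl⟩, fun n => ?_, ?_⟩, ?_⟩
  · show LinearMap.trace ℂ _ (twistHom α s n).1 = _
    rw [ht]
    rfl
  · rw [detChar_repOfUnits N ρ ht]
    exact funext hdet
  · rintro χ ⟨hχ, hχn, hχd⟩
    obtain ⟨t, ht', rfl⟩ :=
      exists_hom_of_char_top N ρ (CfsgLib.Characters.isCharacter_of_irr hχ) hχn
    rw [detChar_repOfUnits N ρ ht'] at hχd
    obtain ⟨γ, hγ, hγN⟩ := exists_twist N ρ ht ht'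
    have hγ1 : ∀ g, γ g = 1 := fun g => by
      have h1 : γ g ^ e = 1 := by
        have := congrFun hχd g
        rw [hγ g, det_sc_mul, hdet g] at this
        refine Units.ext (mul_right_cancel₀ (f g).ne_zero ?_)
        rw [Units.val_pow_eq_pow_val, this, Units.val_one, one_mul]
      have h2 : γ g ^ N.index = 1 := by
        rw [← MonoidHom.pow_apply, hidx γ hγN, MonoidHom.one_apply]
      have h3 := pow_gcd_eq_one.2 ⟨h2, h1⟩
      rwa [hcop.gcd_eq_one, pow_one] at h3
    funext g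
    show LinearMap.trace ℂ _ (t g).1 = LinearMap.trace ℂ _ (twistHom α s g).1
    rw [hγ g, hγ1, map_one, one_mul]

include hϑ in
theorem detChar_invariant (hinv : ∀ (g : G) (n : N),
      ϑ ⟨g * n * g⁻¹, hN.conj_mem (n : G) n.2 g⟩ = ϑ n) (g : G) (n : N) :
    Cfsg.detChar ϑ ⟨g * n * g⁻¹, hN.conj_mem (n : G) n.2 g⟩ = Cfsg.detChar ϑ n := by
  obtain ⟨d, ρ, hρ, rfl⟩ := hϑ
  rw [detChar_eq]
  exact det_conjN N ρ hinv g n

omit hN in
include hϑ in
theorem isCharacter_detChar : Cfsg.IsCharacter N (Cfsg.detChar ϑ) ∧ Cfsg.detChar ϑ 1 = 1 := by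
  obtain ⟨d, ρ, hρ, rfl⟩ := hϑ
  rw [detChar_eq]
  exact ⟨CfsgLib.Induction.isCharacter_monoidHom (LinearMap.det.comp ρ), by simp⟩

end Statements

end CfsgLib.CharExtension
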