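import Cfsg.Agent.Lib.Characters.Induction
import Cfsg.Agent.Lib.Characters.Clifford

/-!
# Restriction of induced characters to a supplement
-/

set_option autoImplicit false

noncomputable section

namespace CfsgLib.MackeySupp

open CfsgLib.Characters

universe u

variable {G : Type u} [Group G] [Fintype G]

/-- Restriction to a supplement of an induced function. -/
theorem res_indFun_of_supplement (N T : Subgroup G) [Fintype N]
    (hNT : ∀ x : G, ∃ m ∈ N, m⁻¹ * x ∈ T) {ψ : T → ℂ} (hψ : Cfsg.IsClassFunction T ψ) :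
    (fun n : N => Cfsg.indFun T ψ n) =
      Cfsg.indFun (T.subgroupOf N) (fun u : T.subgroupOf N => ψ ⟨((u : N) : G), u.2⟩) := by
  classical
  let U : Subgroup N := T.subgroupOf N
  have : Fintype U := Fintype.ofFinite _
  set κ : U → ℂ := fun u => ψ ⟨((u : N) : G), u.2⟩ with hκdef
  have hκc : Cfsg.IsClassFunction U κ := fun a b =>
    hψ ⟨((a : N) : G), a.2⟩ ⟨((b : N) : G), b.2⟩
  have : Fintype (G ⧸ T) := Fintype.ofFinite _
  have : Fintype (N ⧸ U) := Fintype.ofFinite _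
  funext n
  rw [CfsgLib.Induction.indFun_eq_sum_quotient U hκc,
    CfsgLib.Induction.indFun_eq_sum_quotient T hψ]
  let Φ : N ⧸ U → G ⧸ T := fun q => QuotientGroup.mk ((q.out : N) : G)
  refine (Fintype.sum_bijective Φ ⟨fun q q' h => ?_, fun c => ?_⟩ _ _ fun q => ?_).symm
  · rw [← QuotientGroup.out_eq' q, ← QuotientGroup.out_eq' q']
    exact QuotientGroup.eq.2 (Subgroup.mem_subgroupOf.2 (QuotientGroup.eq.1 h))
  · obtain ⟨m, hm, hmc⟩ := hNT c.out
    refine ⟨QuotientGroup.mk ⟨m, hm⟩, ?_⟩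
    obtain ⟨u, hu⟩ := QuotientGroup.mk_out_eq_mul U (⟨m, hm⟩ : N)
    rw [← QuotientGroup.out_eq' c]
    refine QuotientGroup.eq.2 ?_
    rw [hu]
    show ((m : G) * ((u : N) : G))⁻¹ * c.out ∈ T
    rw [mul_inv_rev, mul_assoc]
    exact T.mul_mem (T.inv_mem u.2) hmc
  · obtain ⟨t, ht⟩ := QuotientGroup.mk_out_eq_mul T ((q.out : N) : G)
    show _ = Cfsg.extendByZero T ψ ((Φ q).out⁻¹ * (n : G) * (Φ q).out)
    rw [show (Φ q).out = ((q.out : N) : G) * (t : G) from ht]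
    rw [show ((((q.out : N) : G) * (t : G))⁻¹ * (n : G) * (((q.out : N) : G) * (t : G))) =
      ((t⁻¹ : T) : G) * ((((q.out : N) : G))⁻¹ * (n : G) * ((q.out : N) : G)) *
        ((t⁻¹ : T) : G)⁻¹ by simp [mul_assoc], CfsgLib.Induction.extendByZero_conj T hψ]
    by_cases hq : q.out⁻¹ * n * q.out ∈ U
    · rw [CfsgLib.Induction.extendByZero_mem U κ hq,
        CfsgLib.Induction.extendByZero_mem T ψ (g := ((q.out : N) : G)⁻¹ * (n : G) * ((q.out : N) : G))
          (Subgroup.mem_subgroupOf.1 hq)]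
      rfl
    · rw [CfsgLib.Induction.extendByZero_notMem U κ hq,
        CfsgLib.Induction.extendByZero_notMem T ψ
          (g := ((q.out : N) : G)⁻¹ * (n : G) * ((q.out : N) : G))
          fun h => hq (Subgroup.mem_subgroupOf.2 h)]

/-- A character with a constituent exhausting its degree is a multiple of it. -/
theorem eq_smul_of_degree {ξ θ : G → ℂ} (hξ : Cfsg.IsCharacter G ξ)
    (hθ : Cfsg.IsIrrCharacter G θ) (h : ξ 1 = Cfsg.classInner ξ θ * θ 1) :
    ξ = Cfsg.classInner ξ θ • θ := by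
  classical
  obtain ⟨m, hm, hsum⟩ := CfsgLib.Clifford.exists_mult hξ
  have hd : ∀ ψ : Cfsg.IrrCharacter G, ∃ k : ℕ, 0 < k ∧ (ψ : G → ℂ) 1 = k :=
    fun ψ => irr_exists_degree ψ.2
  choose d hd0 hd using hd
  rw [hm ⟨θ, hθ⟩] at h ⊢
  have h1 := congrFun hsum 1
  simp only [Finset.sum_apply, Pi.smul_apply, smul_eq_mul, hd] at h1
  rw [h, show θ 1 = (d ⟨θ, hθ⟩ : ℂ) from hd ⟨θ, hθ⟩] at h1
  have h2 : m ⟨θ, hθ⟩ * d ⟨θ, hθ⟩ = ∑ ψ, m ψ * d ψ := by exact_mod_cast h1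
  have hzero : ∀ ψ, ψ ≠ (⟨θ, hθ⟩ : Cfsg.IrrCharacter G) → m ψ = 0 := by
    intro ψ hψ
    have hle : m ⟨θ, hθ⟩ * d ⟨θ, hθ⟩ + m ψ * d ψ ≤ ∑ η, m η * d η := by
      rw [← Finset.sum_pair (f := fun η => m η * d η) (Ne.symm hψ)]
      exact Finset.sum_le_sum_of_subset (Finset.subset_univ _)
    have : m ψ * d ψ = 0 := by omega
    exact (mul_eq_zero.1 this).resolve_right (hd0 ψ).ne'
  conv_lhs => rw [hsum]
  rw [Finset.sum_eq_single (⟨θ, hθ⟩ : Cfsg.IrrCharacter G)]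
  · exact fun ψ _ hψ => by rw [hzero ψ hψ, Nat.cast_zero, zero_smul]
  · exact fun h => absurd (Finset.mem_univ _) h

end CfsgLib.MackeySupp
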