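import Cfsg.Agent.Lib.Characters.NormalAvg
import Cfsg.Agent.Lib.Characters.MackeySupp
import Cfsg.Agent.Lib.Characters.Generalized
import Cfsg.Agent.Lib.Coprime.Basic
import Cfsg.Agent.Lib.Characters.Extension

/-!
# Averages over a normal subgroup and subgroups supplementing it
-/

set_option autoImplicit false

noncomputable section

namespace CfsgLib.SupplementAvg

open scoped ComplexConjugate
open CfsgLib.Characters CfsgLib.NormalAvg

universe u

variable {X : Type u} [Group X] [Fintype X]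

/-- A character all of whose constituents are `φ` is a multiple of `φ`. -/
theorem eq_smul_of_constituents {κ φ : X → ℂ} (hκ : Cfsg.IsCharacter X κ)
    (hφ : Cfsg.IsIrrCharacter X φ)
    (h : ∀ ξ : Cfsg.IrrCharacter X, Cfsg.classInner κ (ξ : X → ℂ) ≠ 0 → (ξ : X → ℂ) = φ) :
    ∃ b : ℕ, κ = (b : ℂ) • φ := by
  classical
  obtain ⟨m, hm, hsum⟩ := CfsgLib.Clifford.exists_mult hκ
  refine ⟨m ⟨φ, hφ⟩, ?_⟩
  conv_lhs => rw [hsum]
  rw [Finset.sum_eq_single (⟨φ, hφ⟩ : Cfsg.IrrCharacter X)]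
  · intro ξ _ hξ
    by_cases h0 : m ξ = 0
    · rw [h0, Nat.cast_zero, zero_smul]
    · exact absurd (Subtype.ext (h ξ (by rw [hm]; exact Nat.cast_ne_zero.2 h0))) hξ
  · exact fun h => absurd (Finset.mem_univ _) h

/-- The degree of a constituent is at most the degree. -/
theorem degree_le_of_constituent {κ ξ : X → ℂ} (hκ : Cfsg.IsCharacter X κ)
    (hξ : Cfsg.IsIrrCharacter X ξ) (h : Cfsg.classInner κ ξ ≠ 0) {a b : ℕ} (ha : κ 1 = a)
    (hb : ξ 1 = b) : b ≤ a := by
  classical
  obtain ⟨m, hm, hsum⟩ := CfsgLib.Clifford.exists_mult hκ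
  have hd : ∀ ψ : Cfsg.IrrCharacter X, ∃ k : ℕ, (ψ : X → ℂ) 1 = k :=
    fun ψ => exists_degree (irr_isCharacter ψ)
  choose d hd using hd
  have h1 := congrFun hsum 1
  simp only [Finset.sum_apply, Pi.smul_apply, smul_eq_mul, hd, ha] at h1
  have h2 : a = ∑ ψ, m ψ * d ψ := by exact_mod_cast h1
  have hm0 : m ⟨ξ, hξ⟩ ≠ 0 := fun h0 => h (by rw [hm ⟨ξ, hξ⟩, h0, Nat.cast_zero])
  have hdb : d ⟨ξ, hξ⟩ = b := Nat.cast_injective (R := ℂ) ((hd ⟨ξ, hξ⟩).symm.trans hb)
  rw [h2, ← hdb]
  exact le_trans (Nat.le_mul_of_pos_left _ (Nat.pos_of_ne_zero hm0))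
    (Finset.single_le_sum (f := fun ψ => m ψ * d ψ) (fun _ _ => Nat.zero_le _) (Finset.mem_univ _))

/-- A character with an irreducible constituent of at least its degree equals it. -/
theorem eq_of_constituent {κ χ : X → ℂ} (hκ : Cfsg.IsCharacter X κ)
    (hχ : Cfsg.IsIrrCharacter X χ) (h : Cfsg.classInner κ χ ≠ 0) {a b : ℕ} (ha : κ 1 = a)
    (hb : χ 1 = b) (hle : a ≤ b) : κ = χ := by
  classical
  obtain ⟨m, hm⟩ := classInner_char_nat hκ (isCharacter_of_irr hχ)
  have hm0 : m ≠ 0 := fun h0 => h (by rw [hm, h0, Nat.cast_zero])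
  obtain ⟨k, hk0, hk⟩ := irr_exists_degree hχ
  have hkb : k = b := Nat.cast_injective (R := ℂ) (hk.symm.trans hb)
  obtain ⟨M, hM, hsum⟩ := CfsgLib.Clifford.exists_mult hκ
  have hM' : M ⟨χ, hχ⟩ = m := Nat.cast_injective (R := ℂ) ((hM ⟨χ, hχ⟩).symm.trans hm)
  have hd : ∀ ψ : Cfsg.IrrCharacter X, ∃ j : ℕ, (ψ : X → ℂ) 1 = j :=
    fun ψ => exists_degree (irr_isCharacter ψ)
  choose d hd using hd
  have h1 := congrFun hsum 1
  simp only [Finset.sum_apply, Pi.smul_apply, smul_eq_mul, hd, ha] at h1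
  have h2 : a = ∑ ψ, M ψ * d ψ := by exact_mod_cast h1
  have hdχ : d ⟨χ, hχ⟩ = b := Nat.cast_injective (R := ℂ) ((hd ⟨χ, hχ⟩).symm.trans hb)
  have h3 : m * b ≤ a := by
    rw [h2, ← hM', ← hdχ]
    exact Finset.single_le_sum (f := fun ψ => M ψ * d ψ) (fun _ _ => Nat.zero_le _)
      (Finset.mem_univ _)
  have hm1 : m = 1 := by
    have : m * b ≤ 1 * b := by omega
    have := Nat.le_of_mul_le_mul_right this (hkb ▸ hk0)
    omega
  have := CfsgLib.MackeySupp.eq_smul_of_degree hκ hχ (by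
    rw [hm, hm1, Nat.cast_one, one_mul, ha, hb]
    have : a = b := by rw [hm1, one_mul] at h3; omega
    rw [this])
  rwa [hm, hm1, Nat.cast_one, one_smul] at this

section Induced

variable (H : Subgroup X) [Fintype H]

/-- A character inducing an irreducible character is irreducible. -/
theorem irr_of_indFun {θ : H → ℂ} (hθ : Cfsg.IsCharacter H θ)
    (h : Cfsg.IsIrrCharacter X (Cfsg.indFun H θ)) : Cfsg.IsIrrCharacter H θ := by
  classical
  obtain ⟨j, hj, hsum⟩ := CfsgLib.Clifford.exists_mult hθ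
  obtain ⟨r, hr⟩ := classInner_char_nat hθ hθ
  have hχH := CfsgLib.Clifford.isCharacter_subtype (isCharacter_of_irr h) H
  have hcl := isClassFunction_of_isCharacter (isCharacter_of_irr h)
  have hn : ∀ ξ : Cfsg.IrrCharacter H, ∃ k : ℕ,
      Cfsg.classInner (ξ : H → ℂ) (fun x : H => Cfsg.indFun H θ x) = (k : ℂ) :=
    fun ξ => classInner_char_nat (irr_isCharacter ξ) hχH
  choose k hk using hn
  have h1 : ∑ ξ : Cfsg.IrrCharacter H, j ξ * k ξ = 1 := by
    have h0 := classInner_irr_self h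
    rw [CfsgLib.Induction.classInner_indFun H θ hcl] at h0
    conv_lhs at h0 => arg 1; rw [hsum]
    rw [classInner_sum_left, Finset.sum_congr rfl fun ξ _ => by rw [classInner_smul_left, hk]] at h0
    exact_mod_cast h0
  have hkpos : ∀ ξ, j ξ ≠ 0 → k ξ ≠ 0 := by
    intro ξ hjξ hk0
    have hI := CfsgLib.Induction.isCharacter_indFun H (irr_isCharacter ξ)
    have hzero : ∀ ψ : Cfsg.IrrCharacter X,
        Cfsg.classInner (Cfsg.indFun H (ξ : H → ℂ)) (ψ : X → ℂ) = 0 := by
      intro ψ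
      rw [CfsgLib.Induction.classInner_indFun H _ (irr_isClassFunction ψ)]
      by_cases hψ : (ψ : X → ℂ) = Cfsg.indFun H θ
      · rw [hψ, hk, hk0, Nat.cast_zero]
      · have hn' : ∀ η : Cfsg.IrrCharacter H, ∃ t : ℕ,
            Cfsg.classInner (η : H → ℂ) (fun x : H => (ψ : X → ℂ) x) = (t : ℂ) := fun η =>
          classInner_char_nat (irr_isCharacter η)
            (CfsgLib.Clifford.isCharacter_subtype (irr_isCharacter ψ) H)
        choose t ht using hn'
        have h2 := classInner_irr_ne h ψ.2 (Ne.symm hψ)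
        rw [CfsgLib.Induction.classInner_indFun H θ (irr_isClassFunction ψ)] at h2
        conv_lhs at h2 => arg 1; rw [hsum]
        rw [classInner_sum_left, Finset.sum_congr rfl fun η _ => by
          rw [classInner_smul_left, ht]] at h2
        have h3 : ∑ η : Cfsg.IrrCharacter H, j η * t η = 0 := by exact_mod_cast h2
        have h4 := Finset.sum_eq_zero_iff.1 h3 ξ (Finset.mem_univ _)
        rw [ht, (mul_eq_zero.1 h4).resolve_left hjξ, Nat.cast_zero]
    have h0 := congrFun (CfsgLib.Clifford.sum_mult_eq_zero hI hzero) 1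
    rw [CfsgLib.Induction.indFun_one_apply] at h0
    exact mul_ne_zero (Nat.cast_ne_zero.2 Subgroup.index_ne_zero_of_finite) (irr_one_ne_zero ξ) h0
  have hne : ∃ ξ, j ξ * k ξ ≠ 0 := by
    by_contra hh
    push Not at hh
    rw [Finset.sum_eq_zero fun ξ _ => hh ξ] at h1
    exact zero_ne_one h1
  obtain ⟨ξ₀, hξ₀⟩ := hne
  have hrest : ∀ ξ, ξ ≠ ξ₀ → j ξ = 0 := by
    intro ξ hξ
    by_contra hjξ
    have hle : j ξ₀ * k ξ₀ + j ξ * k ξ ≤ 1 := by
      rw [← h1, ← Finset.sum_pair (f := fun x => j x * k x) (Ne.symm hξ)]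
      exact Finset.sum_le_sum_of_subset (Finset.subset_univ _)
    have := Nat.pos_of_ne_zero hξ₀
    have := Nat.pos_of_ne_zero (mul_ne_zero hjξ (hkpos ξ hjξ))
    omega
  have hj1 : j ξ₀ = 1 := by
    have hle : j ξ₀ * k ξ₀ ≤ 1 := h1 ▸ Finset.single_le_sum (f := fun x => j x * k x)
      (fun _ _ => Nat.zero_le _) (Finset.mem_univ ξ₀)
    exact Nat.eq_one_of_mul_eq_one_right (n := k ξ₀) (by
      have := Nat.pos_of_ne_zero hξ₀; omega)
  rw [hsum, Finset.sum_eq_single ξ₀ (fun ξ _ hξ => by rw [hrest ξ hξ, Nat.cast_zero, zero_smul])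
    (fun hn => absurd (Finset.mem_univ _) hn), hj1, Nat.cast_one, one_smul]
  exact ξ₀.2

end Induced

section Supplement

variable (N : Subgroup X) [hN : N.Normal] [Fintype N] (H : Subgroup X)

omit hN [Fintype N] [Fintype X] in
theorem sup_eq_top_of_supplement (hsupp : ∀ x : X, ∃ m ∈ N, m⁻¹ * x ∈ H) : H ⊔ N = ⊤ := by
  rw [eq_top_iff]
  intro x _
  obtain ⟨m, hm, hmx⟩ := hsupp x
  rw [← mul_inv_cancel_left m x]
  exact (H ⊔ N).mul_mem (Subgroup.mem_sup_right hm) (Subgroup.mem_sup_left hmx)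

/-- Cardinalities in a supplemented group. -/
theorem card_mul_of_supplement (hsupp : ∀ x : X, ∃ m ∈ N, m⁻¹ * x ∈ H) :
    Nat.card X * Nat.card (N.subgroupOf H) = Nat.card H * Nat.card N := by
  have h := CfsgLib.Coprime.card_sup_mul_card_inf (H := H) (N := N) (by
    rw [Subgroup.normalizer_eq_top_iff.2 hN]; exact le_top)
  rw [sup_eq_top_of_supplement N H hsupp, Subgroup.card_top] at h
  rw [← h, ← Subgroup.inf_subgroupOf_right N H,
    CfsgLib.Coprime.card_subgroupOf (inf_le_right : N ⊓ H ≤ H)]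

variable [Fintype H] [Fintype (N.subgroupOf H)]

/-- Averaging an induced function over a normal supplement. -/
theorem avg_indFun_of_supplement (hsupp : ∀ x : X, ∃ m ∈ N, m⁻¹ * x ∈ H) {F : H → ℂ}
    (hF : Cfsg.IsClassFunction H F) (y : H) :
    avgN N (Cfsg.indFun H F) (y : X) = avgN (N.subgroupOf H) F y := by
  classical
  have key : ∀ x : X, ∑ n : N, Cfsg.extendByZero H F (x⁻¹ * ((n : X) * y) * x) =
      ∑ u : N.subgroupOf H, F ((u : H) * y) := by
    intro x
    obtain ⟨m, hm, hmx⟩ := hsupp x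
    let h : H := ⟨m⁻¹ * x, hmx⟩
    let e : N ≃ N :=
      { toFun := fun n => ⟨m⁻¹ * n * ((y : X) * m * (y : X)⁻¹),
          N.mul_mem (N.mul_mem (N.inv_mem hm) n.2) (hN.conj_mem m hm y)⟩
        invFun := fun n => ⟨m * n * ((y : X) * m⁻¹ * (y : X)⁻¹),
          N.mul_mem (N.mul_mem hm n.2) (hN.conj_mem _ (N.inv_mem hm) y)⟩
        left_inv := fun n => Subtype.ext (by simp [mul_assoc])
        right_inv := fun n => Subtype.ext (by simp [mul_assoc]) }
    have e1 : ∀ n : N, Cfsg.extendByZero H F (x⁻¹ * ((n : X) * y) * x) =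
        Cfsg.extendByZero H F (((e n : N) : X) * y) := by
      intro n
      rw [show x⁻¹ * ((n : X) * y) * x = ((h⁻¹ : H) : X) * (((e n : N) : X) * y) *
        ((h⁻¹ : H) : X)⁻¹ by simp [h, e, mul_assoc],
        CfsgLib.Induction.extendByZero_conj H hF]
    rw [Finset.sum_congr rfl fun n _ => e1 n,
      Equiv.sum_comp e (fun n : N => Cfsg.extendByZero H F ((n : X) * y))]
    let ι : N.subgroupOf H ↪ N :=
      ⟨fun u => ⟨((u : H) : X), u.2⟩, fun a b hab =>
        Subtype.ext (Subtype.ext (congrArg (fun z : N => (z : X)) hab))⟩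
    rw [← Finset.sum_subset (Finset.subset_univ ((Finset.univ : Finset (N.subgroupOf H)).map ι))
      fun n _ hn => CfsgLib.Induction.extendByZero_notMem H F fun hmem => hn (Finset.mem_map.2
        ⟨⟨⟨(n : X), (Subgroup.mul_mem_cancel_right H y.2).1 hmem⟩, n.2⟩, Finset.mem_univ _, rfl⟩),
      Finset.sum_map]
    refine Finset.sum_congr rfl fun u _ => ?_
    exact CfsgLib.Induction.extendByZero_mem H F (g := ((u : H) : X) * y) (H.mul_mem (u : H).2 y.2)
  unfold avgN
  simp only [CfsgLib.Induction.indFun_apply]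
  rw [← Finset.mul_sum, Finset.sum_comm, Finset.sum_congr rfl fun x _ => key x, Finset.sum_const,
    Finset.card_univ, nsmul_eq_mul, ← Nat.card_eq_fintype_card]
  have hc := congrArg (Nat.cast (R := ℂ)) (card_mul_of_supplement N H hsupp)
  push_cast at hc
  have h1 : (Nat.card N : ℂ) ≠ 0 := Nat.cast_ne_zero.2 Nat.card_pos.ne'
  have h2 : (Nat.card H : ℂ) ≠ 0 := Nat.cast_ne_zero.2 Nat.card_pos.ne'
  have h3 : (Nat.card (N.subgroupOf H) : ℂ) ≠ 0 := Nat.cast_ne_zero.2 Nat.card_pos.ne'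
  field_simp
  linear_combination (∑ u : N.subgroupOf H, F ((u : H) * y)) * hc

/-- Inner products of functions constant along a normal supplement. -/
theorem classInner_res_of_supplement (hsupp : ∀ x : X, ∃ m ∈ N, m⁻¹ * x ∈ H) {f g : X → ℂ}
    (hf : Cfsg.IsClassFunction X f) (hg : Cfsg.IsClassFunction X g)
    (hcon : ∀ (n : N) (x : X), f ((n : X) * x) * conj (g ((n : X) * x)) = f x * conj (g x)) :
    Cfsg.classInner (fun h : H => f h) (fun h : H => g h) = Cfsg.classInner f g := by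
  classical
  let P : X → ℂ := fun x => f x * conj (g x)
  have hP : Cfsg.IsClassFunction X P := fun a b => by simp only [P, hf a b, hg a b]
  have hone : avgN N (Cfsg.indFun H (fun _ => (1 : ℂ))) = fun _ => 1 := by
    funext x
    obtain ⟨m, hm, hmx⟩ := hsupp x
    rw [← mul_inv_cancel_left m x]
    rw [avgN_mul_left N _ (⟨m, hm⟩ : N) (m⁻¹ * x)]
    rw [avg_indFun_of_supplement N H hsupp (fun _ _ => rfl) ⟨m⁻¹ * x, hmx⟩]
    unfold avgN
    rw [Finset.sum_const, Finset.card_univ, nsmul_eq_mul, mul_one, ← Nat.card_eq_fintype_card,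
      inv_mul_cancel₀ (Nat.cast_ne_zero.2 Nat.card_pos.ne')]
  have h1 := CfsgLib.Induction.sum_indFun_mul H (fun _ => (1 : ℂ)) hP
  have h2 := classInner_avgN_left N (Cfsg.indFun H (fun _ => (1 : ℂ))) (f := fun x => conj (P x))
    (fun n x => by simp only [P, hcon n x])
  rw [hone] at h2
  unfold Cfsg.classInner at h2 ⊢
  simp only [Complex.conj_conj, one_mul] at h2 h1
  exact (h1.symm.trans h2.symm)

/-- Averaged products with induced functions. -/
theorem pairAvg_indFun (T : Subgroup X) [Fintype T] [Fintype (N.subgroupOf T)] (hNT : N ≤ T)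
    {φ : X → ℂ} (hφ : Cfsg.IsClassFunction X φ) (ω : T → ℂ) :
    pairAvg N φ (Cfsg.indFun T ω) =
      Cfsg.indFun T (pairAvg (N.subgroupOf T) (fun t : T => φ t) ω) := by
  classical
  let F : T → ℂ := fun t => φ t * conj (ω t)
  have e1 : (fun g => φ g * conj (Cfsg.indFun T ω g)) = Cfsg.indFun T F := by
    have h := CfsgLib.Induction.indFun_mul T hφ (fun t => conj (ω t))
    funext g
    rw [← CfsgLib.Induction.indFun_conj_apply, mul_comm]
    refine (congrFun h g).trans ?_
    exact congrFun (congrArg (Cfsg.indFun T) (funext fun t => mul_comm _ _)) g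
  show avgN N (fun g => φ g * conj (Cfsg.indFun T ω g)) = _
  rw [e1]
  funext y
  show avgN N (Cfsg.indFun T F) y = Cfsg.indFun T (avgN (N.subgroupOf T) F) y
  unfold avgN
  simp only [CfsgLib.Induction.indFun_apply]
  rw [← Finset.mul_sum, mul_left_comm]
  congr 1
  rw [Finset.sum_comm, Finset.mul_sum]
  refine Finset.sum_congr rfl fun x _ => ?_
  let e : N ≃ N :=
    { toFun := fun n => ⟨x⁻¹ * n * x, hN.conj_mem' _ n.2 x⟩
      invFun := fun n => ⟨x * n * x⁻¹, hN.conj_mem _ n.2 x⟩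
      left_inv := fun n => Subtype.ext (by simp [mul_assoc])
      right_inv := fun n => Subtype.ext (by simp [mul_assoc]) }
  rw [Fintype.sum_equiv e (fun n : N => Cfsg.extendByZero T F (x⁻¹ * ((n : X) * y) * x))
    (fun n : N => Cfsg.extendByZero T F ((n : X) * (x⁻¹ * y * x))) fun n => by
      congr 1; simp [e, mul_assoc]]
  by_cases hz : x⁻¹ * y * x ∈ T
  · rw [CfsgLib.Induction.extendByZero_mem T _ hz]
    have eN : Nat.card (N.subgroupOf T) = Nat.card N := CfsgLib.Coprime.card_subgroupOf hNT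
    rw [eN]
    congr 1
    refine (Fintype.sum_equiv (Subgroup.subgroupOfEquivOfLe hNT).toEquiv _ _ fun u => ?_).symm
    exact (CfsgLib.Induction.extendByZero_mem T F
      (g := ((u : T) : X) * (x⁻¹ * y * x)) (T.mul_mem (u : T).2 hz)).symm
  · rw [CfsgLib.Induction.extendByZero_notMem T _ hz, Finset.sum_eq_zero, mul_zero]
    exact fun n _ => CfsgLib.Induction.extendByZero_notMem T F fun h =>
      hz ((Subgroup.mul_mem_cancel_left T (hNT n.2)).1 h)

end Supplement

/-- An irreducible character stays irreducible on a normal subgroup supplemented by the centre. -/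
theorem irr_res_of_central {N : Subgroup X} [N.Normal] [Fintype N]
    (hcz : ∀ x : X, ∃ n ∈ N, n⁻¹ * x ∈ Subgroup.center X) {ξ : X → ℂ}
    (hξ : Cfsg.IsIrrCharacter X ξ) : Cfsg.IsIrrCharacter N (fun n : N => ξ n) := by
  classical
  have : Fintype (Subgroup.center X) := Fintype.ofFinite _
  have : Fintype ((Subgroup.center X).subgroupOf N) := Fintype.ofFinite _
  refine CfsgLib.Clifford.isIrr_of_norm_one
    (CfsgLib.Clifford.isCharacter_subtype (isCharacter_of_irr hξ) N) ?_
  rw [classInner_res_of_supplement (Subgroup.center X) N ?_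
    (isClassFunction_of_isCharacter (isCharacter_of_irr hξ))
    (isClassFunction_of_isCharacter (isCharacter_of_irr hξ)) ?_]
  · exact classInner_irr_self hξ
  · intro x
    obtain ⟨n, hn, hnx⟩ := hcz x
    refine ⟨n⁻¹ * x, hnx, ?_⟩
    rw [mul_inv_rev, inv_inv, mul_assoc]
    have := Subgroup.mem_center_iff.1 hnx (x⁻¹)
    have e : x⁻¹ * (n * x) = x⁻¹ * n * x := by group
    rw [e]
    have e2 : n⁻¹ = x⁻¹ * n⁻¹ * x := by
      calc n⁻¹ = (n⁻¹ * x) * x⁻¹ := by group
        _ = x⁻¹ * (n⁻¹ * x) := this.symm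
        _ = x⁻¹ * n⁻¹ * x := by group
    have e3 : x⁻¹ * n * x = n := by
      have := congrArg (·⁻¹) e2
      simpa [mul_assoc] using this.symm
    rw [e3]
    exact hn
  · intro z x
    obtain ⟨d, ρ, hρ, rfl⟩ := hξ
    obtain ⟨c, hc⟩ := CfsgLib.CharScalar.center_scalar ρ (z := (z : X)) z.2
    have hv : ∀ g, ρ.character ((z : X) * g) = c * ρ.character g := fun g => by
      show LinearMap.trace ℂ _ (ρ ((z : X) * g)) = c * LinearMap.trace ℂ _ (ρ g)
      rw [map_mul, hc, smul_mul_assoc, one_mul, map_smul, smul_eq_mul]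
    have hnc : c * conj c = 1 := by
      have hd : (d : ℂ) ≠ 0 := Nat.cast_ne_zero.2 (CfsgLib.CharExtension.pos_of_irreducible ρ).ne'
      have h1 := (norm_char_eq_iff_scalar ρ (z : X)).2 ⟨c, hc⟩
      have h2 := hv 1
      rw [mul_one, Representation.char_one, Module.finrank_fin_fun] at h2
      rw [h2, norm_mul, Complex.norm_natCast, Module.finrank_fin_fun] at h1
      have h3 : ‖c‖ = 1 := mul_right_cancel₀ (Nat.cast_ne_zero.2
        (CfsgLib.CharExtension.pos_of_irreducible ρ).ne' : (d : ℝ) ≠ 0) (h1.trans (one_mul _).symm)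
      rw [Complex.mul_conj, Complex.normSq_eq_norm_sq, h3]
      simp
    rw [hv, map_mul, mul_mul_mul_comm, hnc, one_mul]

end CfsgLib.SupplementAvg
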