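import Cfsg.Agent.Lib.Characters.NormalAvg
import Cfsg.Agent.Lib.Characters.Extension

/-!
# Multiplicities over an invariant character

The multiplicity of an invariant irreducible character of a normal subgroup in an irreducible
character divides the index, and the degree ratio divides the index in general.
-/

set_option autoImplicit false

noncomputable section

namespace CfsgLib.Ramified

open scoped ComplexConjugate
open CfsgLib.Characters CfsgLib.CharExtension CfsgLib.LinearExt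

universe u

variable {G : Type u} [Group G] [Fintype G] (N : Subgroup G) [hN : N.Normal] [Fintype N]

/-- Over an invariant character the restriction is a multiple of it. -/
theorem res_eq_smul_of_invariant {χ : G → ℂ} (hχ : Cfsg.IsIrrCharacter G χ) {θ : N → ℂ}
    (hθ : Cfsg.IsIrrCharacter N θ)
    (hinv : ∀ (g : G) (n : N), θ ⟨g * n * g⁻¹, hN.conj_mem (n : G) n.2 g⟩ = θ n)
    (hcon : Cfsg.classInner (fun n : N => χ n) θ ≠ 0) :
    (fun n : N => χ n) = Cfsg.classInner (fun n : N => χ n) θ • θ := by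
  have h := CfsgLib.Clifford.clifford hN hχ hθ hcon
  have e : (CfsgLib.Clifford.conjOrbit_finite hN θ).toFinset = {θ} := by
    ext ψ
    rw [Set.Finite.mem_toFinset, Finset.mem_singleton]
    refine ⟨?_, fun hψ => ⟨1, by rw [hψ, CfsgLib.Clifford.conjChar_one]⟩⟩
    rintro ⟨g, rfl⟩
    exact funext fun n => hinv g n
  rwa [e, Finset.sum_singleton] at h

/-- The multiplicity of an invariant character divides the index. -/
theorem mult_dvd_index {χ : G → ℂ} (hχ : Cfsg.IsIrrCharacter G χ) {θ : N → ℂ}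
    (hθ : Cfsg.IsIrrCharacter N θ)
    (hinv : ∀ (g : G) (n : N), θ ⟨g * n * g⁻¹, hN.conj_mem (n : G) n.2 g⟩ = θ n)
    (e : ℕ) (he : Cfsg.classInner (fun n : N => χ n) θ = (e : ℂ)) (he0 : e ≠ 0) :
    e ∣ N.index := by
  classical
  obtain ⟨d, ρ, hρ, rfl⟩ := hθ
  obtain ⟨φ, hφ⟩ := powExtends_index_top N ρ hinv
  set m := N.index with hm
  have hm0 : m ≠ 0 := Subgroup.index_ne_zero_of_finite
  have : NeZero m := ⟨hm0⟩
  let Γ := φ.ker
  let π : Γ →* G := (proj N ρ).comp Γ.subtype
  have hsurj : Function.Surjective π := by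
    intro g
    obtain ⟨γ, hγ⟩ := proj_surjective N ρ hinv g
    obtain ⟨c, hc⟩ := exists_root m (Nat.pos_of_ne_zero hm0) (φ γ)⁻¹
    let z : interGroup N ρ := ⟨_, sc_mem N ρ c 1⟩
    have hz : z ∈ preim N ρ N := (1 : N).2
    have hcz : coordN N ρ ⟨z, hz⟩ = c :=
      sc_injective (pos_of_irreducible ρ)
        (mul_right_cancel (b := rhoU N ρ 1) (coordN_spec N ρ ⟨z, hz⟩).symm)
    refine ⟨⟨γ * z, MonoidHom.mem_ker.2 ?_⟩, ?_⟩
    · rw [map_mul, hφ ⟨z, hz⟩, hcz, zpow_natCast, hc, mul_inv_cancel]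
    · show proj N ρ (γ * z) = g
      rw [map_mul, hγ]
      exact mul_one g
  let Z : Subgroup Γ := N.comap π
  have hcm : ∀ x : Z, coordN N ρ ⟨(x : Γ), x.2⟩ ^ m = 1 := fun x => by
    have := (hφ ⟨(x : Γ), x.2⟩).symm.trans (x : Γ).2
    rwa [zpow_natCast] at this
  have hfinZ : Finite Z := by
    refine Finite.of_injective (β := N × rootsOfUnity m ℂ)
      (fun x => (⟨π x, x.2⟩, ⟨coordN N ρ ⟨(x : Γ), x.2⟩, (mem_rootsOfUnity _ _).2 (hcm x)⟩)) ?_
    intro x y h
    simp only [Prod.mk.injEq, Subtype.mk.injEq] at h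
    refine Subtype.ext (Subtype.ext (Subtype.ext (Prod.ext (congrArg Subtype.val h.1) ?_)))
    have h1 := coordN_spec N ρ ⟨(x : Γ), x.2⟩
    have h2 := coordN_spec N ρ ⟨(y : Γ), y.2⟩
    have h3 : (⟨π x, x.2⟩ : N) = ⟨π y, y.2⟩ := h.1
    refine h1.trans (Eq.trans ?_ h2.symm)
    congr 1
    · rw [h.2]
    · exact congrArg (rhoU N ρ) h3
  have hZidx : Z.index = m := Subgroup.index_comap_of_surjective N hsurj
  have : Finite Γ := by
    have : Z.FiniteIndex := ⟨by rw [hZidx]; exact hm0⟩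
    exact Finite.of_equiv _ (Subgroup.groupEquivQuotientProdSubgroup (s := Z)).symm
  have : Fintype Γ := Fintype.ofFinite _
  -- the lift of `N`
  have hlift : ∀ n : N, liftN N ρ n ∈ Γ := fun n => by
    have hmem : liftN N ρ n ∈ preim N ρ N := n.2
    refine MonoidHom.mem_ker.2 ((hφ ⟨_, hmem⟩).trans ?_)
    have : coordN N ρ ⟨_, hmem⟩ = 1 := sc_injective (pos_of_irreducible ρ)
      (mul_right_cancel (b := rhoU N ρ n) (by
        rw [map_one, one_mul]
        exact (coordN_spec N ρ ⟨_, hmem⟩).symm))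
    rw [this, one_zpow]
  let j : N →* Γ := (liftN N ρ).codRestrict Γ hlift
  let N₁ : Subgroup Γ := j.range
  have hN₁ : N₁.Normal := by
    refine ⟨?_⟩
    rintro _ ⟨n, rfl⟩ γ
    refine ⟨conjN N (π γ) n, Subtype.ext (Subtype.ext (Prod.ext rfl ?_))⟩
    show rhoU N ρ (conjN N (π γ) n) = op N ρ γ * rhoU N ρ n * (op N ρ γ)⁻¹
    rw [eq_mul_inv_iff_mul_eq]
    exact (op_spec N ρ γ n).symm
  have : Fintype N₁ := Fintype.ofFinite _
  let e₁ : N ≃* N₁ := MonoidHom.ofInjective (f := j) fun a b h =>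
    Subtype.ext (congrArg (fun γ : Γ => proj N ρ γ) h)
  let σ : Representation ℂ Γ (Fin d → ℂ) := (Units.coeHom _).comp ((op N ρ).comp Γ.subtype)
  let ψ : Γ → ℂ := fun γ => χ (π γ)
  have hψ : Cfsg.IsIrrCharacter Γ ψ := CfsgLib.Clifford.isIrrCharacter_pullback hχ π hsurj
  have hσc : Cfsg.IsCharacter Γ σ.character := isCharacter_character σ
  have hσN : Cfsg.IsIrrCharacter N₁ (fun x : N₁ => σ.character x) := by
    have := CfsgLib.Clifford.isIrrCharacter_pullback (⟨d, ρ, hρ, rfl⟩ :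
      Cfsg.IsIrrCharacter N ρ.character) e₁.symm.toMonoidHom e₁.symm.surjective
    convert this using 1
    funext x
    obtain ⟨n, rfl⟩ := e₁.surjective x
    show LinearMap.trace ℂ _ _ = ρ.character (e₁.symm (e₁ n))
    rw [e₁.symm_apply_apply]
    rfl
  have hin : Cfsg.classInner (fun x : N₁ => ψ x) (fun x : N₁ => σ.character x) = (e : ℂ) := by
    rw [← he]
    unfold Cfsg.classInner
    rw [← Nat.card_congr e₁.toEquiv]
    congr 1
    exact (Fintype.sum_equiv e₁.toEquiv _ _ fun n => rfl).symm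
  have hη := CfsgLib.NormalAvg.isIrrCharacter_pairAvg N₁ hψ hσc hσN
    (by rw [hin]; exact Nat.cast_ne_zero.2 he0)
  obtain ⟨k, τ, hτ, hτc⟩ := hη
  have hk : k = e := by
    have := congrFun hτc 1
    rw [CfsgLib.NormalAvg.pairAvg_one, hin, Representation.char_one, Module.finrank_fin_fun] at this
    exact_mod_cast this
  subst hk
  have hscal : ∀ x ∈ Z, ∃ c : ℂ, τ x = c • (1 : Module.End ℂ (Fin k → ℂ)) := by
    intro x hx
    set xN : N := ⟨π x, hx⟩ with hxN
    set c := coordN N ρ ⟨(x : interGroup N ρ), hx⟩ with hc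
    have hcn : ‖(c : ℂ)‖ = 1 := Complex.norm_eq_one_of_pow_eq_one
      (by rw [← Units.val_pow_eq_pow_val, hcm ⟨x, hx⟩, Units.val_one]) hm0
    have hopx : op N ρ x = sc d c * rhoU N ρ xN := coordN_spec N ρ ⟨(x : interGroup N ρ), hx⟩
    let z : Γ := x * (j xN)⁻¹
    have hxz : x = z * j xN := (inv_mul_cancel_right x (j xN)).symm
    have hπz : π z = 1 := by
      show π (x * (j xN)⁻¹) = 1
      rw [map_mul, map_inv]
      exact mul_inv_cancel _
    have hopz : op N ρ z = sc d c := by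
      show op N ρ (x * (liftN N ρ xN)⁻¹ : interGroup N ρ) = _
      rw [map_mul, map_inv, op_liftN, hopx, mul_inv_cancel_right]
    have hσz : ∀ y : Γ, σ.character (y * z) = (c : ℂ) * σ.character y := fun y => by
      show LinearMap.trace ℂ _ (op N ρ ((y * z : Γ) : interGroup N ρ)).1 =
        (c : ℂ) * LinearMap.trace ℂ _ (op N ρ y).1
      rw [Subgroup.coe_mul, map_mul, hopz, Units.val_mul]
      show LinearMap.trace ℂ _ (_ * algebraMap ℂ (Module.End ℂ (Fin d → ℂ)) (c : ℂ)) = _
      rw [Algebra.algebraMap_eq_smul_one, mul_smul_comm, mul_one, map_smul, smul_eq_mul]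
    have hval : CfsgLib.NormalAvg.pairAvg N₁ ψ σ.character x =
        conj (c : ℂ) * CfsgLib.NormalAvg.pairAvg N₁ ψ σ.character 1 := by
      have hxj : CfsgLib.NormalAvg.pairAvg N₁ ψ σ.character x =
          CfsgLib.NormalAvg.pairAvg N₁ ψ σ.character z := by
        rw [hxz]
        exact CfsgLib.NormalAvg.avgN_mul_right N₁ _ ⟨j xN, xN, rfl⟩ z
      rw [hxj, CfsgLib.NormalAvg.pairAvg_apply, CfsgLib.NormalAvg.pairAvg_apply,
        mul_left_comm (conj (c : ℂ)), Finset.mul_sum _ _ (conj (c : ℂ))]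
      congr 1
      refine Finset.sum_congr rfl fun n _ => ?_
      rw [hσz, mul_one, map_mul]
      show χ (π (n * z)) * _ = conj (c : ℂ) * (χ (π n) * _)
      rw [map_mul, hπz, mul_one]
      ring
    rw [← hτc] at hval
    obtain ⟨ω, hω⟩ := (norm_char_eq_iff_scalar τ x).1 (by
      rw [hval, norm_mul, Complex.norm_conj, hcn, one_mul, Representation.char_one,
        Complex.norm_natCast])
    exact ⟨ω, hω⟩
  have := CfsgLib.CharScalar.finrank_dvd_index τ Z hscal
  rwa [Module.finrank_fin_fun, hZidx] at this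

/-- The degree ratio divides the index. -/
theorem degree_ratio_dvd_index {χ : G → ℂ} (hχ : Cfsg.IsIrrCharacter G χ) {θ : N → ℂ}
    (hθ : Cfsg.IsIrrCharacter N θ) (hcon : Cfsg.classInner (fun n : N => χ n) θ ≠ 0) :
    ∃ k : ℕ, χ 1 = (k : ℂ) * θ 1 ∧ k ∣ N.index := by
  classical
  set T := CfsgLib.Clifford.inertia hN θ with hT
  have hNT : N ≤ T :=
    CfsgLib.Clifford.le_inertia hN (isClassFunction_of_isCharacter (isCharacter_of_irr hθ))
  have : Fintype T := Fintype.ofFinite _
  obtain ⟨ψ, hψ, -, hψe⟩ := CfsgLib.Clifford.correspondence hN hθ T hT hNT hχ hcon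
  obtain ⟨e, he⟩ := classInner_char_nat (CfsgLib.Clifford.isCharacter_subtype
    (isCharacter_of_irr hχ) N) (isCharacter_of_irr hθ)
  have he0 : e ≠ 0 := fun h => hcon (by rw [he, h, Nat.cast_zero])
  refine ⟨e * T.index, ?_, ?_⟩
  · rw [CfsgLib.Clifford.clifford_degree hN hχ hθ hcon, he, Nat.cast_mul]
  · let N' : Subgroup T := N.subgroupOf T
    have hN' : N'.Normal := hN.subgroupOf T
    have : Fintype N' := Fintype.ofFinite _
    let eN : N' ≃* N := Subgroup.subgroupOfEquivOfLe hNT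
    have hd : e ∣ N'.index := by
      refine mult_dvd_index (θ := fun x : N' => θ (eN x)) N' hψ
        (CfsgLib.Clifford.isIrrCharacter_pullback hθ eN.toMonoidHom eN.surjective) ?_ e ?_ he0
      · intro g n
        exact CfsgLib.Clifford.mem_inertia.1 g.2 (eN n)
      · rw [← he, ← hψe]
        unfold Cfsg.classInner
        rw [Nat.card_congr eN.toEquiv]
        congr 1
        exact Fintype.sum_equiv eN.toEquiv _ _ fun x => rfl
    rw [← Subgroup.relIndex_mul_index hNT]
    exact Nat.mul_dvd_mul hd dvd_rfl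

end CfsgLib.Ramified
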