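import Cfsg.Agent.Lib.Characters.Induction
import Mathlib.GroupTheory.GroupAction.Quotient
import Mathlib.GroupTheory.Sylow

/-!
# Permutation characters, Banaschewski's lemma and quasi-elementary subgroups
-/

set_option autoImplicit false

noncomputable section

namespace CfsgLib.PermChar

open MulAction

universe u

/-- The number of points fixed by `g`. -/
def fixCount {G : Type u} [Group G] (X : Type*) [MulAction G X] (g : G) : ℕ :=
  Nat.card {x : X // g • x = x}

/-- `indFun H 1` counts fixed cosets. -/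
theorem indFun_one_eq_fixCount {G : Type u} [Group G] [Fintype G] (H : Subgroup G) :
    Cfsg.indFun H (fun _ => 1) = fun g => (fixCount (G ⧸ H) g : ℂ) := by
  classical
  have : Fintype (G ⧸ H) := Fintype.ofFinite _
  funext g
  rw [CfsgLib.Induction.indFun_eq_sum_quotient H (fun _ _ => rfl) g]
  rw [fixCount, Nat.card_eq_fintype_card, Fintype.card_subtype, Finset.card_filter, Nat.cast_sum]
  refine Finset.sum_congr rfl fun q _ => ?_
  have hiff : g • q = q ↔ q.out⁻¹ * g * q.out ∈ H := by
    conv_lhs => rw [← q.out_eq']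
    change (QuotientGroup.mk (g * q.out) : G ⧸ H) = QuotientGroup.mk q.out ↔ _
    rw [eq_comm, QuotientGroup.eq, mul_assoc]
  by_cases hq : q.out⁻¹ * g * q.out ∈ H
  · rw [CfsgLib.Induction.extendByZero_mem H _ hq, if_pos (hiff.2 hq), Nat.cast_one]
  · rw [CfsgLib.Induction.extendByZero_notMem H _ hq, if_neg (fun h => hq (hiff.1 h)), Nat.cast_zero]

/-- The fixed point count of a finite action is a sum of permutation characters on cosets. -/
theorem fixCount_eq_sum_orbits {G : Type u} [Group G] [Fintype G] (X : Type*) [MulAction G X]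
    [Finite X] [Fintype (Quotient (orbitRel G X))] :
    (fun g => (fixCount X g : ℂ)) =
      ∑ ω : Quotient (orbitRel G X), Cfsg.indFun (stabilizer G ω.out) (fun _ => 1) := by
  let Y := Σ ω : Quotient (orbitRel G X), G ⧸ stabilizer G ω.out
  let f : Y → X := fun y => ofQuotientStabilizer G y.1.out y.2
  have horb : ∀ y : Y, Quotient.mk (orbitRel G X) (f y) = y.1 := by
    rintro ⟨ω, q⟩
    induction q using QuotientGroup.induction_on with
    | _ g =>
      conv_rhs => rw [← ω.out_eq]
      exact Quotient.sound ⟨g, rfl⟩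
  have hf : Function.Bijective f := by
    refine ⟨fun y z h => ?_, fun x => ?_⟩
    · obtain ⟨ω, q⟩ := y
      obtain ⟨ω', q'⟩ := z
      have e : ω = ω' := by
        have := congrArg (Quotient.mk (orbitRel G X)) h
        rwa [horb, horb] at this
      subst e
      rw [show q = q' from injective_ofQuotientStabilizer G ω.out h]
    · obtain ⟨g, hg⟩ := Quotient.mk_out (s := orbitRel G X) x
      refine ⟨⟨Quotient.mk _ x, QuotientGroup.mk g⁻¹⟩, ?_⟩
      show g⁻¹ • (Quotient.mk (orbitRel G X) x).out = x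
      rw [← hg]
      exact inv_smul_smul g x
  funext a
  simp only [Finset.sum_apply, indFun_one_eq_fixCount, ← Nat.cast_sum]
  congr 1
  let e : {x : X // a • x = x} ≃
      Σ ω : Quotient (orbitRel G X), {q : G ⧸ stabilizer G ω.out // a • q = q} := by
    refine (((Equiv.ofBijective f hf).subtypeEquiv (p := fun y : Y => a • y.2 = y.2)
        (fun y => ?_)).symm).trans
      { toFun := fun y => ⟨y.1.1, y.1.2, y.2⟩
        invFun := fun z => ⟨⟨z.1, z.2.1⟩, z.2.2⟩
        left_inv := fun y => rfl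
        right_inv := fun z => rfl }
    show a • y.2 = y.2 ↔ a • f y = f y
    rw [← (injective_ofQuotientStabilizer G y.1.out).eq_iff, ofQuotientStabilizer_smul]
  rw [fixCount, Nat.card_congr e, Nat.card_sigma]
  rfl

section Ind

variable {G : Type u} [Group G] [Fintype G]

theorem indFun_congr_subgroup {H K : Subgroup G} (h : H = K) (θ : H → ℂ) (η : K → ℂ)
    (he : ∀ x : H, θ x = η ⟨x, h ▸ x.2⟩) : Cfsg.indFun H θ = Cfsg.indFun K η := by
  subst h
  rw [funext he]

/-- Induction from a subgroup of a subgroup. -/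
theorem indFun_map (T : Subgroup G) [Fintype T] (S : Subgroup T) (φ : S → ℂ) :
    Cfsg.indFun T (Cfsg.indFun S φ) = Cfsg.indFun (S.map T.subtype)
      (fun y => φ ((Subgroup.equivMapOfInjective S T.subtype T.subtype_injective).symm y)) := by
  rw [← CfsgLib.Induction.indFun_trans (Subgroup.map_subtype_le S)]
  congr 1
  refine indFun_congr_subgroup (Subgroup.comap_map_eq_self_of_injective T.subtype_injective S).symm
    _ _ fun x => congrArg φ ?_
  refine (Subgroup.equivMapOfInjective S T.subtype T.subtype_injective).injective ?_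
  rw [MulEquiv.apply_symm_apply]
  exact Subtype.ext rfl

/-- The product of two permutation characters is a sum of permutation characters. -/
theorem exists_mul_perm (H K : Subgroup G) :
    ∃ a : Subgroup G → ℕ, (∀ U, a U ≠ 0 → U ≤ H) ∧
      Cfsg.indFun H (fun _ => 1) * Cfsg.indFun K (fun _ => 1) =
        ∑ U : Subgroup G, (a U : ℂ) • Cfsg.indFun U (fun _ => 1) := by
  classical
  have : Fintype H := Fintype.ofFinite _
  let Ω := Quotient (orbitRel H (G ⧸ K))
  have : Fintype Ω := Fintype.ofFinite _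
  let U : Ω → Subgroup G := fun ω => (stabilizer H ω.out).map H.subtype
  refine ⟨fun V => (Finset.univ.filter fun ω => U ω = V).card, fun V hV => ?_, ?_⟩
  · obtain ⟨ω, hω⟩ := Finset.card_ne_zero.1 hV
    rw [← (Finset.mem_filter.1 hω).2]
    exact Subgroup.map_subtype_le _
  · rw [CfsgLib.Induction.indFun_mul H (CfsgLib.Induction.isClassFunction_indFun K _)]
    have hres : (fun h : H => (1 : ℂ) * Cfsg.indFun K (fun _ => 1) (h : G)) =
        fun h : H => (fixCount (G ⧸ K) h : ℂ) := by
      funext h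
      rw [one_mul, indFun_one_eq_fixCount]
      rfl
    rw [hres, fixCount_eq_sum_orbits, CfsgLib.Induction.indFun_sum]
    rw [← Finset.sum_fiberwise (Finset.univ : Finset Ω) U]
    refine Finset.sum_congr rfl fun V _ => ?_
    rw [Finset.sum_congr rfl (g := fun _ => Cfsg.indFun V (fun _ => 1)) fun ω hω => ?_,
      Finset.sum_const, Nat.cast_smul_eq_nsmul]
    rw [indFun_map]
    exact indFun_congr_subgroup (Finset.mem_filter.1 hω).2 _ _ fun _ => rfl

end Ind

/-- Banaschewski's lemma. -/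
theorem banaschewski {S : Type*} [Finite S] (R : AddSubgroup (S → ℤ))
    (hmul : ∀ f ∈ R, ∀ g ∈ R, f * g ∈ R)
    (h : ∀ (x : S) (p : ℕ), p.Prime → ∃ f ∈ R, ¬ (p : ℤ) ∣ f x) : (1 : S → ℤ) ∈ R := by
  classical
  have hx : ∀ x : S, ∃ f ∈ R, f x = 1 := by
    intro x
    obtain ⟨a, ha⟩ := Int.subgroup_cyclic (R.map (Pi.evalAddMonoidHom (fun _ : S => ℤ) x))
    have hunit : a.natAbs = 1 := by
      by_contra hne
      obtain ⟨p, hp, hpd⟩ := Nat.exists_prime_and_dvd hne
      obtain ⟨f, hf, hfx⟩ := h x p hp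
      have : f x ∈ AddSubgroup.closure ({a} : Set ℤ) := ha ▸ ⟨f, hf, rfl⟩
      obtain ⟨c, hc⟩ := AddSubgroup.mem_closure_singleton.1 this
      exact hfx (hc ▸ dvd_mul_of_dvd_right (Int.natCast_dvd.2 hpd) c)
    have h1 : (1 : ℤ) ∈ AddSubgroup.closure ({a} : Set ℤ) := by
      rw [AddSubgroup.mem_closure_singleton]
      rcases Int.natAbs_eq_iff.1 hunit with h | h <;>
        [exact ⟨1, by simp [h]⟩; exact ⟨-1, by simp [h]⟩]
    rw [← ha] at h1
    obtain ⟨f, hf, hfx⟩ := h1
    exact ⟨f, hf, hfx⟩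
  have hs : ∀ s : Finset S, ∃ f ∈ R, ∀ x ∈ s, f x = 1 := by
    intro s
    induction s using Finset.induction_on with
    | empty => exact ⟨0, R.zero_mem, fun x hx => absurd hx (Finset.notMem_empty x)⟩
    | insert b s hb ih =>
      obtain ⟨f, hf, hfs⟩ := ih
      obtain ⟨g, hg, hgb⟩ := hx b
      refine ⟨f + g - f * g, R.sub_mem (R.add_mem hf hg) (hmul f hf g hg), fun y hy => ?_⟩
      rcases Finset.mem_insert.1 hy with rfl | hy
      · simp [hgb]
      · simp [hfs y hy]
  have := Fintype.ofFinite S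
  obtain ⟨f, hf, hall⟩ := hs Finset.univ
  rwa [show (1 : S → ℤ) = f from funext fun x => (hall x (Finset.mem_univ x)).symm]

section QuasiElem

variable {G : Type u} [Group G]

/-- A cyclic normal subgroup of order prime to `p` with `p`-power index. -/
def IsQuasiElem (p : ℕ) (H : Subgroup G) : Prop :=
  ∃ C : Subgroup G, C ≤ H ∧ H ≤ Subgroup.normalizer (C : Set G) ∧ IsCyclic C ∧
    Nat.Coprime (Nat.card C) p ∧ ∃ k : ℕ, C.relIndex H = p ^ k

theorem mem_of_coprime_of_pow_mem {C : Subgroup G} {y : G} {k : ℕ} (hy : y ^ k ∈ C)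
    (hk : Nat.Coprime k (orderOf y)) : y ∈ C := by
  obtain ⟨m, hm⟩ := exists_pow_eq_self_of_coprime hk
  exact hm ▸ C.pow_mem hy m

/-- Every element is a commuting product of a `p`-element and a `p'`-element. -/
theorem exists_p_decomp [Finite G] {p : ℕ} (hp : p.Prime) (x : G) :
    ∃ u v : G, x = u * v ∧ Commute u v ∧ u ∈ Subgroup.zpowers x ∧ v ∈ Subgroup.zpowers x ∧
      (∃ a : ℕ, orderOf u ∣ p ^ a) ∧ Nat.Coprime (orderOf v) p := by
  obtain ⟨a, m, hm, hn⟩ :=
    Nat.exists_eq_pow_mul_and_not_dvd (orderOf_pos x).ne' p hp.ne_one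
  obtain ⟨r, s, hrs⟩ : IsCoprime (m : ℤ) ((p ^ a : ℕ) : ℤ) :=
    Nat.isCoprime_iff_coprime.2 ((hp.coprime_iff_not_dvd.2 hm).symm.pow_right a)
  refine ⟨x ^ (r * m), x ^ (s * (p ^ a : ℕ)), by rw [← zpow_add, hrs, zpow_one],
    Commute.zpow_zpow_self x _ _, Subgroup.zpow_mem_zpowers x _, Subgroup.zpow_mem_zpowers x _,
    ⟨a, orderOf_dvd_of_pow_eq_one ?_⟩, ?_⟩
  · rw [← zpow_natCast, ← zpow_mul, mul_assoc, ← Nat.cast_mul, mul_comm m, ← hn, mul_comm,
      zpow_mul, zpow_natCast, pow_orderOf_eq_one, one_zpow]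
  · refine Nat.Coprime.coprime_dvd_left (orderOf_dvd_of_pow_eq_one (n := m) ?_)
      (hp.coprime_iff_not_dvd.2 hm).symm
    rw [← zpow_natCast, ← zpow_mul, mul_assoc, ← Nat.cast_mul, ← hn, mul_comm, zpow_mul,
      zpow_natCast, pow_orderOf_eq_one, one_zpow]

theorem isQuasiElem_mono {p : ℕ} (hp : p.Prime) {U H : Subgroup G} (hU : U ≤ H) [Finite G]
    (hH : IsQuasiElem p H) : IsQuasiElem p U := by
  obtain ⟨C, hCH, hHN, hcyc, hcop, k, hk⟩ := hH
  refine ⟨C ⊓ U, inf_le_right, fun u hu => ?_, ?_, ?_, ?_⟩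
  · rw [Subgroup.mem_normalizer_iff]
    have hn := Subgroup.mem_normalizer_iff.1 (hHN (hU hu))
    exact fun y => ⟨fun ⟨h1, h2⟩ => ⟨(hn y).1 h1, U.mul_mem (U.mul_mem hu h2) (U.inv_mem hu)⟩,
      fun ⟨h1, h2⟩ => ⟨(hn y).2 h1, by
        have := U.mul_mem (U.mul_mem (U.inv_mem hu) h2) hu
        simpa [mul_assoc] using this⟩⟩
  · exact isCyclic_of_injective (Subgroup.inclusion (inf_le_left : C ⊓ U ≤ C))
      (Subgroup.inclusion_injective _)
  · exact hcop.coprime_dvd_left (Subgroup.card_dvd_of_le inf_le_left)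
  · have hsub : (C.subgroupOf H).Normal := Subgroup.normal_subgroupOf_of_le_normalizer hHN
    have hdvd : (C ⊓ U).relIndex U ∣ p ^ k := by
      rw [Subgroup.inf_relIndex_right, ← hk, ← Subgroup.relIndex_subgroupOf hU]
      exact Subgroup.relIndex_dvd_index_of_normal _ _
    obtain ⟨j, -, hj⟩ := (Nat.dvd_prime_pow hp).1 hdvd
    exact ⟨j, hj⟩

theorem exists_quasiElem_fixCount [Finite G] (x : G) {p : ℕ} (hp : p.Prime) :
    ∃ H : Subgroup G, IsQuasiElem p H ∧ ¬ p ∣ fixCount (G ⧸ H) x := by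
  have hfact : Fact p.Prime := ⟨hp⟩
  obtain ⟨u, v, huv, hcomm, -, -, ⟨a, ha⟩, hv⟩ := exists_p_decomp hp x
  let C : Subgroup G := Subgroup.zpowers v
  have hC : Nat.Coprime (Nat.card C) p := by rw [Nat.card_zpowers]; exact hv
  let N : Subgroup G := Subgroup.normalizer (C : Set G)
  have hCN : C ≤ N := Subgroup.le_normalizer
  have huN : u ∈ N := by
    rw [Subgroup.mem_normalizer_iff]
    intro y
    have hc : ∀ z ∈ C, u * z * u⁻¹ = z := fun z hz => by
      obtain ⟨i, rfl⟩ := Subgroup.mem_zpowers_iff.1 hz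
      rw [(hcomm.zpow_right i).eq, mul_inv_cancel_right]
    refine ⟨fun hy => (hc y hy).symm ▸ hy, fun hy => ?_⟩
    have e := hc _ hy
    simp only [← mul_assoc] at e
    have : u * y * u⁻¹ = y := by
      have e2 := congrArg (fun z => u⁻¹ * z * u) (hc _ hy)
      simp only [mul_assoc, inv_mul_cancel_left, inv_mul_cancel, mul_one] at e2
      simpa [mul_assoc] using e2
    rwa [this] at hy
  let uN : N := ⟨u, huN⟩
  have hPu : IsPGroup p (Subgroup.zpowers uN) := by
    have hd : orderOf uN ∣ p ^ a := by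
      rw [← orderOf_injective N.subtype N.subtype_injective uN]
      exact ha
    obtain ⟨b, -, hb⟩ := (Nat.dvd_prime_pow hp).1 hd
    exact IsPGroup.of_card (by rw [Nat.card_zpowers]; exact hb)
  obtain ⟨S, hS⟩ := hPu.exists_le_sylow
  let CN : Subgroup N := C.subgroupOf N
  have hCNn : CN.Normal := Subgroup.normal_subgroupOf_of_le_normalizer le_rfl
  let HN : Subgroup N := CN ⊔ S
  let H : Subgroup G := HN.map N.subtype
  have hHN : H ≤ N := Subgroup.map_subtype_le _
  have hCH : C ≤ H := fun y hy => ⟨⟨y, hCN hy⟩, Subgroup.mem_sup_left hy, rfl⟩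
  have hrel : ∃ k : ℕ, C.relIndex H = p ^ k := by
    have e1 : C.relIndex H = CN.relIndex HN := by
      have hH' : H.subgroupOf N = HN :=
        Subgroup.comap_map_eq_self_of_injective N.subtype_injective HN
      rw [← hH']
      exact (Subgroup.relIndex_subgroupOf hHN).symm
    have e2 : CN.relIndex HN = CN.relIndex (S : Subgroup N) := by
      show CN.relIndex (CN ⊔ S) = _
      rw [sup_comm]
      exact Subgroup.relIndex_sup_right _ _
    obtain ⟨b, hb⟩ := S.2.exists_card_eq
    obtain ⟨k, -, hk⟩ := (Nat.dvd_prime_pow hp).1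
      (hb ▸ Subgroup.relIndex_dvd_card (H := CN) (K := (S : Subgroup N)))
    exact ⟨k, by rw [e1, e2, hk]⟩
  refine ⟨H, ⟨C, hCH, hHN, inferInstance, hC, hrel⟩, ?_⟩
  obtain ⟨k, hk⟩ := hrel
  have hCHn : (C.subgroupOf H).Normal := Subgroup.normal_subgroupOf_of_le_normalizer hHN
  have hpelem : ∀ y ∈ H, Nat.Coprime p (orderOf y) → y ∈ C := by
    intro y hy hco
    have h1 := (C.subgroupOf H).pow_index_mem (⟨y, hy⟩ : H)
    rw [← Subgroup.relIndex, hk] at h1
    exact mem_of_coprime_of_pow_mem (Subgroup.mem_subgroupOf.1 h1) (hco.pow_left k)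
  have hvC : v ∈ C := Subgroup.mem_zpowers v
  -- fixed cosets lie over the normalizer
  have hfix : ∀ g : G, g⁻¹ * x * g ∈ H → g ∈ N := by
    intro g hg
    have hvx : g⁻¹ * v * g ∈ H := by
      obtain ⟨i, hi⟩ : v ∈ Subgroup.zpowers x := by
        have hu1 : u ^ p ^ a = 1 := orderOf_dvd_iff_pow_eq_one.1 ha
        have hxv : x ^ p ^ a = v ^ p ^ a := by rw [huv, hcomm.mul_pow, hu1, one_mul]
        exact mem_of_coprime_of_pow_mem (C := Subgroup.zpowers x) (k := p ^ a)
          (hxv ▸ Subgroup.pow_mem _ (Subgroup.mem_zpowers x) _) (hv.symm.pow_left a)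
      have := H.zpow_mem hg i
      have e : (g⁻¹ * x * g) ^ i = g⁻¹ * x ^ i * g := by
        simpa using (conj_zpow (a := g⁻¹) (b := x) (i := i))
      rw [e, show x ^ i = v from hi] at this
      exact this
    have hgC : g⁻¹ * v * g ∈ C := by
      refine hpelem _ hvx ?_
      have e : orderOf (g⁻¹ * v * g) = orderOf v := by
        have := orderOf_injective (MulAut.conj g⁻¹).toMonoidHom (MulAut.conj g⁻¹).injective v
        simpa using this
      rw [e]
      exact hv.symm
    have hsub : C.map (MulAut.conj g⁻¹).toMonoidHom ≤ C := by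
      rw [MonoidHom.map_zpowers, Subgroup.zpowers_le]
      simpa using hgC
    have hmap : C.map (MulAut.conj g⁻¹).toMonoidHom = C := Subgroup.eq_of_le_of_card_ge hsub
      (Nat.card_congr (Subgroup.equivMapOfInjective C _ (MulAut.conj g⁻¹).injective).toEquiv).le
    rw [← N.inv_mem_iff, Subgroup.mem_normalizer_iff]
    intro y
    rw [inv_inv]
    constructor
    · intro hy
      rw [← hmap]
      exact ⟨y, hy, by simp⟩
    · intro hy
      rw [← hmap] at hy
      obtain ⟨z, hz, hzy⟩ := hy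
      rwa [show z = y by simpa using hzy] at hz
  let xN : N := ⟨x, huv ▸ N.mul_mem huN (hCN hvC)⟩
  have hcount : fixCount (G ⧸ H) x = fixCount (N ⧸ HN) xN := by
    have hmem : ∀ a b : N, ((a : G)⁻¹ * b ∈ H ↔ a⁻¹ * b ∈ HN) := fun a b =>
      Subgroup.mem_map_iff_mem N.subtype_injective (x := a⁻¹ * b)
    let j : N ⧸ HN → G ⧸ H := Quotient.map' (fun z : N => (z : G)) fun a b hab => by
      rw [QuotientGroup.leftRel_apply] at hab ⊢
      exact (hmem a b).2 hab
    have hj : Function.Injective j := by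
      intro a b
      refine Quotient.inductionOn₂' a b fun a b hab => ?_
      exact QuotientGroup.eq.2 ((hmem a b).1 (QuotientGroup.eq.1 hab))
    have hjs : ∀ q, j (xN • q) = x • j q := fun q => Quotient.inductionOn' q fun _ => rfl
    refine (Nat.card_congr (Equiv.ofBijective (fun q : {q : N ⧸ HN // xN • q = q} =>
      (⟨j q.1, by rw [← hjs, q.2]⟩ : {q : G ⧸ H // x • q = q})) ⟨?_, ?_⟩)).symm
    · exact fun a b h => Subtype.ext (hj (congrArg Subtype.val h))
    · rintro ⟨q, hq⟩
      induction q using QuotientGroup.induction_on with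
      | _ g =>
        have hg : g⁻¹ * x * g ∈ H := by
          have : (QuotientGroup.mk (x * g) : G ⧸ H) = QuotientGroup.mk g := hq
          rw [mul_assoc]
          exact QuotientGroup.eq.1 this.symm
        exact ⟨⟨QuotientGroup.mk ⟨g, hfix g hg⟩, hj (by rw [hjs]; exact hq)⟩, rfl⟩
  rw [hcount]
  -- the fixed points of `xN` are those of the `p`-group generated by `uN`
  have hvfix : ∀ q : N ⧸ HN, (⟨v, hCN hvC⟩ : N) • q = q := fun q => by
    refine QuotientGroup.induction_on q fun z => ?_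
    show (QuotientGroup.mk ((⟨v, hCN hvC⟩ : N) * z) : N ⧸ HN) = QuotientGroup.mk z
    refine QuotientGroup.eq.2 (Subgroup.mem_sup_left ?_)
    have := hCNn.conj_mem _ (CN.inv_mem (show (⟨v, hCN hvC⟩ : N) ∈ CN from hvC)) z⁻¹
    simpa [mul_assoc] using this
  have hpg : IsPGroup p (Subgroup.zpowers uN) := hPu
  have hset : fixCount (N ⧸ HN) xN =
      Nat.card (fixedPoints (Subgroup.zpowers uN) (N ⧸ HN)) := by
    refine Nat.card_congr (Equiv.subtypeEquivRight fun q => ?_)
    have hx : xN • q = uN • q := by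
      have e : xN = uN * ⟨v, hCN hvC⟩ := Subtype.ext huv
      rw [e, mul_smul, hvfix]
    rw [hx]
    refine ⟨fun h => ?_, fun h => h ⟨uN, Subgroup.mem_zpowers uN⟩⟩
    rintro ⟨_, i, rfl⟩
    exact fixed_of_mem (MulAction.mem_stabilizer_iff.2 h) i
  rw [hset]
  intro hdvd
  have h1 := hpg.card_modEq_card_fixedPoints (N ⧸ HN)
  have h2 : p ∣ HN.index := by
    rw [Subgroup.index_eq_card]
    exact (Nat.modEq_zero_iff_dvd.1 ((h1.trans (Nat.modEq_zero_iff_dvd.2 hdvd))))
  exact S.not_dvd_index (h2.trans (Subgroup.index_dvd_of_le le_sup_right))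
where
  fixed_of_mem {M : Type u} [Group M] {X : Type u} [MulAction M X] {m : M} {q : X}
      (h : m ∈ stabilizer M q) (i : ℤ) : m ^ i • q = q :=
    MulAction.mem_stabilizer_iff.1 ((stabilizer M q).zpow_mem h i)

end QuasiElem

end CfsgLib.PermChar
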