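import Cfsg.Agent.Lib.Characters.Generalized
import Cfsg.Agent.Lib.Characters.PermChar
import Mathlib.GroupTheory.GroupAction.MultipleTransitivity
import Mathlib.GroupTheory.GroupAction.Quotient

/-!
# Doubly transitive actions and permutation characters
-/

set_option autoImplicit false
set_option linter.style.haveILetI false

namespace CfsgLib.PermTwo

open Cfsg CfsgLib.Characters MulAction
open scoped ComplexConjugate

universe u v

variable {G : Type u} [Group G] {X : Type v} [MulAction G X]

theorem card_fixedBy_prod (g : G) :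
    Nat.card (fixedBy (X × X) g) = Nat.card (fixedBy X g) * Nat.card (fixedBy X g) := by
  rw [← Nat.card_prod]
  exact Nat.card_congr ⟨fun a => (⟨a.1.1, congrArg Prod.fst a.2⟩, ⟨a.1.2, congrArg Prod.snd a.2⟩),
    fun a => ⟨(a.1.1, a.2.1), Prod.ext a.1.2 a.2.2⟩, fun a => rfl, fun a => rfl⟩

theorem sum_fixedBy (Y : Type*) [MulAction G Y] [Fintype G] [Finite Y] :
    ∑ g : G, (Nat.card (fixedBy Y g) : ℂ) =
      (Nat.card (Quotient (orbitRel G Y)) : ℂ) * (Nat.card G : ℂ) := by
  classical
  haveI := Fintype.ofFinite Y
  haveI : Fintype (Quotient (orbitRel G Y)) := Fintype.ofFinite _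
  have h := sum_card_fixedBy_eq_card_orbits_mul_card_group G Y
  simp only [Nat.card_eq_fintype_card]
  exact_mod_cast h

/-- On pairs there are two orbits exactly for doubly transitive actions. -/
theorem card_orbits_pair_eq_two_iff [Finite X] [IsPretransitive G X] (hX : 2 ≤ Nat.card X) :
    Nat.card (Quotient (orbitRel G (X × X))) = 2 ↔ IsMultiplyPretransitive G X 2 := by
  classical
  haveI : Nontrivial X := Finite.one_lt_card_iff_nontrivial.mp hX
  let δ : Quotient (orbitRel G (X × X)) → Bool :=
    Quotient.lift (fun a : X × X => decide (a.1 = a.2)) (fun a b hab => by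
      obtain ⟨g, rfl⟩ := orbitRel_apply.mp hab
      simp)
  have hsurj : Function.Surjective δ := by
    obtain ⟨a, b, hab⟩ := exists_pair_ne X
    rintro (_ | _)
    · exact ⟨Quotient.mk _ (a, b), by simp [δ, hab]⟩
    · exact ⟨Quotient.mk _ (a, a), by simp [δ]⟩
  rw [is_two_pretransitive_iff]
  constructor
  · intro h a b c d hab hcd
    have hinj : Function.Injective δ :=
      ((Nat.bijective_iff_surjective_and_card δ).mpr ⟨hsurj, by simp [h]⟩).1
    obtain ⟨g, hg⟩ := orbitRel_apply.mp (Quotient.exact
      (hinj (show δ (Quotient.mk _ (c, d)) = δ (Quotient.mk _ (a, b)) by simp [δ, hab, hcd])))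
    exact ⟨g, congrArg Prod.fst hg, congrArg Prod.snd hg⟩
  · intro h
    have hinj : Function.Injective δ := by
      intro q r hqr
      induction q using Quotient.inductionOn with
      | h a =>
        induction r using Quotient.inductionOn with
        | h b =>
          have hiff : a.1 = a.2 ↔ b.1 = b.2 := by simpa [δ] using hqr
          refine Quotient.sound (orbitRel_apply.mpr ?_)
          by_cases hb : b.1 = b.2
          · obtain ⟨g, hg⟩ := exists_smul_eq G b.1 a.1
            exact ⟨g, Prod.ext hg (by
              show g • b.2 = a.2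
              rw [← hb, hg, hiff.mpr hb])⟩
          · obtain ⟨g, h1, h2⟩ := h hb (fun ha => hb (hiff.mp ha))
            exact ⟨g, Prod.ext h1 h2⟩
    simpa using Nat.card_eq_of_bijective δ ⟨hinj, hsurj⟩

/-- The fixed-point count minus one is irreducible exactly for doubly transitive actions. -/
theorem isIrrCharacter_fix_sub_one_iff [Finite G] [Finite X] [IsPretransitive G X]
    (hX : 2 ≤ Nat.card X) :
    IsIrrCharacter G (fun g => (Nat.card (fixedBy X g) : ℂ) - 1) ↔
      IsMultiplyPretransitive G X 2 := by
  classical
  haveI := Fintype.ofFinite G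
  haveI : Fintype (Quotient (orbitRel G X)) := Fintype.ofFinite _
  rw [← card_orbits_pair_eq_two_iff hX]
  set π : G → ℂ := fun g => (Nat.card (fixedBy X g) : ℂ) with hπ
  have hπc : IsCharacter G π := by
    have : π = fun g => (CfsgLib.PermChar.fixCount X g : ℂ) := rfl
    rw [this, CfsgLib.PermChar.fixCount_eq_sum_orbits X]
    exact isCharacter_sum _ fun ω _ =>
      CfsgLib.Induction.isCharacter_indFun _ CfsgLib.Induction.isCharacter_const_one
  have hgen : IsGeneralizedCharacter G (fun g => π g - 1) :=
    isGeneralizedCharacter_sub (isGeneralizedCharacter_of_isCharacter hπc)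
      isGeneralizedCharacter_one
  have hG : (Nat.card G : ℂ) ≠ 0 := Nat.cast_ne_zero.mpr Nat.card_pos.ne'
  haveI : Subsingleton (Quotient (orbitRel G X)) :=
    (pretransitive_iff_subsingleton_quotient G X).mp inferInstance
  haveI : Nonempty X := (Nat.card_pos_iff.mp (by omega)).1
  have h1 : Nat.card (Quotient (orbitRel G X)) = 1 :=
    Nat.card_eq_one_iff_unique.mpr ⟨inferInstance, ⟨Quotient.mk _ (Classical.arbitrary X)⟩⟩
  have hnorm : classInner (fun g => π g - 1) (fun g => π g - 1) =
      (Nat.card (Quotient (orbitRel G (X × X))) : ℂ) - 1 := by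
    simp only [classInner, hπ, map_sub, map_one, map_natCast, sub_mul, one_mul, mul_sub,
      Finset.sum_sub_distrib, mul_one, ← Nat.cast_mul, ← card_fixedBy_prod, sum_fixedBy, h1,
      Nat.cast_one, Finset.sum_const, Finset.card_univ, nsmul_eq_mul, ← Nat.card_eq_fintype_card]
    field_simp
    push_cast
    ring
  have hdeg : 0 ≤ ((fun g => π g - 1) 1).re := by
    simp only [hπ, Complex.sub_re, Complex.natCast_re, Complex.one_re, sub_nonneg, Nat.one_le_cast]
    haveI : Nonempty (fixedBy X (1 : G)) := ⟨⟨Classical.arbitrary X, one_smul G _⟩⟩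
    exact Nat.card_pos
  constructor
  · intro h
    have := classInner_irr_self h
    rw [hnorm, sub_eq_iff_eq_add] at this
    norm_num at this
    exact_mod_cast this
  · intro h
    exact isIrrCharacter_of_generalized_norm_one hgen (by rw [hnorm, h]; norm_num) hdeg

end CfsgLib.PermTwo
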