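import Cfsg.Agent.Lib.Characters.Induction
import Mathlib.GroupTheory.Sylow

/-!
# T.I. subgroups with Frobenius normalizer: elementary structure
-/

set_option autoImplicit false

noncomputable section

namespace CfsgLib.TIFN

universe u

variable {G : Type u} [Group G] [Finite G] {K : Subgroup G}

/-- A T.I. subgroup containing the centralizers of its non-identity elements is a Hall subgroup. -/
theorem coprime_index
    (hTI : ∀ g : G, g ∉ Subgroup.normalizer (K : Set G) → ∀ k ∈ K, g * k * g⁻¹ ∈ K → k = 1)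
    (hC : ∀ k ∈ K, k ≠ 1 → Subgroup.centralizer ({k} : Set G) ≤ K) :
    (Nat.card K).Coprime K.index := by
  classical
  by_contra h
  obtain ⟨q, hq, hqK, hqi⟩ := Nat.Prime.not_coprime_iff_dvd.1 h
  have : Fact q.Prime := ⟨hq⟩
  obtain ⟨Q, hQne⟩ : ∃ Q : Sylow q K, (Q : Subgroup K) ≠ ⊥ :=
    ⟨default, fun h0 => by
      have := (default : Sylow q K).dvd_card_of_dvd_card hqK
      rw [h0, Subgroup.card_bot] at this
      exact hq.not_dvd_one this⟩
  let Q' : Subgroup G := (Q : Subgroup K).map K.subtype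
  have hQp : IsPGroup q Q' := Q.isPGroup'.map _
  obtain ⟨P, hQP⟩ := hQp.exists_le_sylow
  -- the normalizer condition in `P` forces `P ≤ K`
  have hQK : Q' ≤ K := Subgroup.map_subtype_le _
  have hne : Q' ≠ ⊥ := fun h0 => hQne (by
    exact Subgroup.map_injective (f := K.subtype) Subtype.val_injective
      (h0.trans (Subgroup.map_bot _).symm))
  have hnq : Nontrivial Q' := (Subgroup.nontrivial_iff_ne_bot _).2 hne
  -- a central element of `P` lies in `K`
  have hZ : Nontrivial (Subgroup.center P) := by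
    have : Nontrivial P := by
      obtain ⟨x, hx1⟩ := exists_ne (1 : Q')
      exact ⟨⟨⟨x, hQP x.2⟩, 1, fun h => hx1 (Subtype.ext (by simpa using congrArg Subtype.val h))⟩⟩
    exact P.isPGroup'.center_nontrivial
  obtain ⟨z, hz⟩ := exists_ne (1 : Subgroup.center P)
  have hzK : ((z : P) : G) ∈ K := by
    obtain ⟨x, hx1⟩ := exists_ne (1 : Q')
    have hxz : ((z : P) : G) ∈ Subgroup.centralizer ({(x : G)} : Set G) := by
      rw [Subgroup.mem_centralizer_singleton_iff]
      exact (congrArg Subtype.val (Subgroup.mem_center_iff.1 z.2 ⟨x, hQP x.2⟩)).symm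
    exact hC x (hQK x.2) (fun h => hx1 (Subtype.ext h)) hxz
  have hPK : (P : Subgroup G) ≤ K := by
    intro y hy
    refine hC _ hzK (fun h => hz (Subtype.ext (Subtype.ext h))) ?_
    rw [Subgroup.mem_centralizer_singleton_iff]
    exact congrArg Subtype.val (Subgroup.mem_center_iff.1 z.2 ⟨y, hy⟩)
  have h1 : q ∣ (P : Subgroup G).index := hqi.trans (Subgroup.index_dvd_of_le hPK)
  exact P.not_dvd_index h1

/-- Elements of the normalizer outside `K` are not conjugate into `K`. -/
theorem not_conj_mem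
    (hTI : ∀ g : G, g ∉ Subgroup.normalizer (K : Set G) → ∀ k ∈ K, g * k * g⁻¹ ∈ K → k = 1)
    (hC : ∀ k ∈ K, k ≠ 1 → Subgroup.centralizer ({k} : Set G) ≤ K)
    {x : G} (hx : x ∈ Subgroup.normalizer (K : Set G)) (hxK : x ∉ K) (g : G) :
    g * x * g⁻¹ ∉ K := by
  intro hmem
  have hcop := coprime_index hTI hC
  set N := Subgroup.normalizer (K : Set G)
  let K' : Subgroup N := K.subgroupOf N
  have hKN : K ≤ N := Subgroup.le_normalizer
  have hord : orderOf x ∣ Nat.card K := by
    have h1 : orderOf (g * x * g⁻¹) = orderOf x := (MulAut.conj g).orderOf_eq x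
    rw [← h1]
    exact Subgroup.orderOf_dvd_natCard K hmem
  have hdvd : K'.index ∣ K.index := by
    show K.relIndex N ∣ K.index
    exact Subgroup.relIndex_dvd_index_of_le hKN
  have h2 : (QuotientGroup.mk (⟨x, hx⟩ : N) : N ⧸ K') ^ K'.index = 1 := by
    rw [Subgroup.index_eq_card]; exact pow_card_eq_one'
  have h3 := (orderOf_map_dvd (QuotientGroup.mk' K') (⟨x, hx⟩ : N)).trans
    ((dvd_of_eq (Subgroup.orderOf_mk x hx)).trans hord)
  have h4 : orderOf (QuotientGroup.mk (⟨x, hx⟩ : N) : N ⧸ K') ∣ 1 := by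
    have := Nat.dvd_gcd h3 ((orderOf_dvd_of_pow_eq_one h2).trans hdvd)
    rwa [hcop.gcd_eq_one] at this
  exact hxK (Subgroup.mem_subgroupOf.1 ((QuotientGroup.eq_one_iff (N := K') (⟨x, hx⟩ : N)).1
    (orderOf_eq_one_iff.1 (Nat.dvd_one.1 h4))))

variable [Fintype G]

/-- Class functions of the normalizer supported on the non-identity elements of `K` are recovered
by restricting the induced function. -/
theorem indFun_apply_of_support
    (hTI : ∀ g : G, g ∉ Subgroup.normalizer (K : Set G) → ∀ k ∈ K, g * k * g⁻¹ ∈ K → k = 1)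
    (hC : ∀ k ∈ K, k ≠ 1 → Subgroup.centralizer ({k} : Set G) ≤ K)
    (ϑ : Subgroup.normalizer (K : Set G) → ℂ)
    (hcl : Cfsg.IsClassFunction (Subgroup.normalizer (K : Set G)) ϑ)
    (hsupp : ∀ x : Subgroup.normalizer (K : Set G), (x : G) ∉ K → ϑ x = 0) (h1 : ϑ 1 = 0)
    (x : Subgroup.normalizer (K : Set G)) :
    Cfsg.indFun (Subgroup.normalizer (K : Set G)) ϑ x = ϑ x := by
  classical
  rw [CfsgLib.Induction.indFun_apply]
  have key : ∀ g : G, Cfsg.extendByZero (Subgroup.normalizer (K : Set G)) ϑ (g⁻¹ * x * g) = if g ∈ (Subgroup.normalizer (K : Set G)) then ϑ x else 0 := by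
    intro g
    by_cases hg : g ∈ (Subgroup.normalizer (K : Set G))
    · rw [if_pos hg, CfsgLib.Induction.extendByZero_mem (Subgroup.normalizer (K : Set G)) ϑ ((Subgroup.normalizer (K : Set G)).mul_mem ((Subgroup.normalizer (K : Set G)).mul_mem ((Subgroup.normalizer (K : Set G)).inv_mem hg) x.2) hg)]
      refine Eq.trans (congrArg ϑ (Subtype.ext ?_)) (hcl x (⟨g, hg⟩⁻¹ : (Subgroup.normalizer (K : Set G))))
      simp
    · rw [if_neg hg]
      by_cases hm : g⁻¹ * x * g ∈ (Subgroup.normalizer (K : Set G))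
      · rw [CfsgLib.Induction.extendByZero_mem (Subgroup.normalizer (K : Set G)) ϑ hm]
        by_cases hK : g⁻¹ * x * g ∈ K
        · have hxK : (x : G) ∈ K := by
            by_contra hxK
            exact not_conj_mem hTI hC x.2 hxK g⁻¹ (by simpa using hK)
          have hx1 : (x : G) = 1 := hTI g⁻¹ (fun h => hg (by simpa using (Subgroup.normalizer (K : Set G)).inv_mem h)) x hxK
            (by simpa using hK)
          rw [show (⟨g⁻¹ * x * g, hm⟩ : (Subgroup.normalizer (K : Set G))) = 1 from Subtype.ext (by simp [hx1]), h1]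
        · exact hsupp ⟨_, hm⟩ hK
      · exact CfsgLib.Induction.extendByZero_notMem (Subgroup.normalizer (K : Set G)) ϑ hm
  rw [Finset.sum_congr rfl fun g _ => key g, ← Finset.sum_filter, Finset.sum_const, nsmul_eq_mul,
    ← Fintype.card_subtype, ← Nat.card_eq_fintype_card, ← mul_assoc,
    inv_mul_cancel₀ (Nat.cast_ne_zero.2 Nat.card_pos.ne'), one_mul]

end CfsgLib.TIFN
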