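import Cfsg.Agent.Lib.Characters.FrobKernelChar
import Cfsg.Agent.Lib.Characters.TIFN
import Cfsg.Agent.Lib.Characters.Exceptional
import Cfsg.Agent.Lib.Characters.Artin
import Cfsg.Agent.Lib.OddChar.Isometry

/-!
# Exceptional characters for T.I. subgroups with Frobenius normalizer
-/

set_option autoImplicit false

noncomputable section

namespace CfsgLib.TIFNChar

open Cfsg CfsgLib.Characters CfsgLib.FrobKernelChar
open scoped ComplexConjugate

universe u

variable {G : Type u} [Group G] {K : Subgroup G}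


theorem free (hC : ∀ k ∈ K, k ≠ 1 → Subgroup.centralizer ({k} : Set G) ≤ K) :
    ∀ x ∉ (K.subgroupOf (Subgroup.normalizer (K : Set G))), ∀ k ∈ (K.subgroupOf (Subgroup.normalizer (K : Set G))), k * x = x * k → k = 1 := by
  intro x hx k hk hcomm
  by_contra hk1
  exact hx (hC (k : G) hk (fun h => hk1 (Subtype.ext h))
    (Subgroup.mem_centralizer_singleton_iff.2 (congrArg Subtype.val hcomm).symm))

theorem relevant_iff (χ : ↥(Subgroup.normalizer (K : Set G)) → ℂ) :
    Relevant (K.subgroupOf (Subgroup.normalizer (K : Set G))) χ ↔ ∃ k : ↥(Subgroup.normalizer (K : Set G)), (k : G) ∈ K ∧ χ k ≠ χ 1 :=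
  Iff.rfl

variable [Fintype G]

/-- The restriction of the induced function of a supported function. -/
theorem res_ind (hTI : ∀ g : G, g ∉ (Subgroup.normalizer (K : Set G)) → ∀ k ∈ K, g * k * g⁻¹ ∈ K → k = 1)
    (hC : ∀ k ∈ K, k ≠ 1 → Subgroup.centralizer ({k} : Set G) ≤ K) {α : ↥(Subgroup.normalizer (K : Set G)) → ℂ}
    (hcl : IsClassFunction ↥(Subgroup.normalizer (K : Set G)) α) (hsupp : ∀ x : ↥(Subgroup.normalizer (K : Set G)), x ∉ (K.subgroupOf (Subgroup.normalizer (K : Set G))) → α x = 0) (h1 : α 1 = 0) :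
    (fun x : ↥(Subgroup.normalizer (K : Set G)) => indFun (Subgroup.normalizer (K : Set G)) α x) = α :=
  funext fun x => CfsgLib.TIFN.indFun_apply_of_support hTI hC α hcl (fun x hx => hsupp x hx) h1 x

/-- Induction is an isometry on supported functions. -/
theorem isometry [Fintype ↥(Subgroup.normalizer (K : Set G))] (hTI : ∀ g : G, g ∉ (Subgroup.normalizer (K : Set G)) → ∀ k ∈ K, g * k * g⁻¹ ∈ K → k = 1)
    (hC : ∀ k ∈ K, k ≠ 1 → Subgroup.centralizer ({k} : Set G) ≤ K) {α β : ↥(Subgroup.normalizer (K : Set G)) → ℂ}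
    (hcl : IsClassFunction ↥(Subgroup.normalizer (K : Set G)) β) (hsupp : ∀ x : ↥(Subgroup.normalizer (K : Set G)), x ∉ (K.subgroupOf (Subgroup.normalizer (K : Set G))) → β x = 0) (h1 : β 1 = 0) :
    classInner (indFun (Subgroup.normalizer (K : Set G)) α) (indFun (Subgroup.normalizer (K : Set G)) β) = classInner α β := by
  rw [CfsgLib.Induction.classInner_indFun (Subgroup.normalizer (K : Set G)) α (CfsgLib.Induction.isClassFunction_indFun _ β),
    res_ind hTI hC hcl hsupp h1]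

/-! ## Coherent sets -/

section Coherent

variable [Fintype ↥(Subgroup.normalizer (K : Set G))]
  (hTI : ∀ g : G, g ∉ (Subgroup.normalizer (K : Set G)) → ∀ k ∈ K, g * k * g⁻¹ ∈ K → k = 1)
  (hC : ∀ k ∈ K, k ≠ 1 → Subgroup.centralizer ({k} : Set G) ≤ K)
  (star : (↥(Subgroup.normalizer (K : Set G)) → ℂ) → (G → ℂ))
  (hstar : IsLinearIsometryOn (zspan {χ : ↥(Subgroup.normalizer (K : Set G)) → ℂ | IsIrrCharacter ↥(Subgroup.normalizer (K : Set G)) χ ∧ Relevant (K.subgroupOf (Subgroup.normalizer (K : Set G))) χ}) star)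
  (hext : ∀ α ∈ zspanOn {χ : ↥(Subgroup.normalizer (K : Set G)) → ℂ | IsIrrCharacter ↥(Subgroup.normalizer (K : Set G)) χ ∧ Relevant (K.subgroupOf (Subgroup.normalizer (K : Set G))) χ} ({1}ᶜ : Set ↥(Subgroup.normalizer (K : Set G))),
    star α = indFun (Subgroup.normalizer (K : Set G)) α)

omit [Fintype G] [Fintype ↥(Subgroup.normalizer (K : Set G))] in
theorem mem_span {χ : IrrCharacter ↥(Subgroup.normalizer (K : Set G))} (h : Relevant (K.subgroupOf (Subgroup.normalizer (K : Set G))) (χ : ↥(Subgroup.normalizer (K : Set G)) → ℂ)) :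
    (χ : ↥(Subgroup.normalizer (K : Set G)) → ℂ) ∈ zspan {χ : ↥(Subgroup.normalizer (K : Set G)) → ℂ | IsIrrCharacter ↥(Subgroup.normalizer (K : Set G)) χ ∧ Relevant (K.subgroupOf (Subgroup.normalizer (K : Set G))) χ} :=
  CfsgLib.OddChar.zspan_of_mem (S := {χ : ↥(Subgroup.normalizer (K : Set G)) → ℂ | IsIrrCharacter ↥(Subgroup.normalizer (K : Set G)) χ ∧ Relevant (K.subgroupOf (Subgroup.normalizer (K : Set G))) χ}) ⟨χ.2, h⟩

include hTI hC hstar hext in
/-- The relation between the restrictions of the images of two members. -/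
theorem cross_relation {χ ξ : IrrCharacter ↥(Subgroup.normalizer (K : Set G))} (hχ : Relevant (K.subgroupOf (Subgroup.normalizer (K : Set G))) (χ : ↥(Subgroup.normalizer (K : Set G)) → ℂ))
    (hξ : Relevant (K.subgroupOf (Subgroup.normalizer (K : Set G))) (ξ : ↥(Subgroup.normalizer (K : Set G)) → ℂ)) :
    (∀ x : ↥(Subgroup.normalizer (K : Set G)), (ξ : ↥(Subgroup.normalizer (K : Set G)) → ℂ) 1 * star χ x - (χ : ↥(Subgroup.normalizer (K : Set G)) → ℂ) 1 * star ξ x =
      (ξ : ↥(Subgroup.normalizer (K : Set G)) → ℂ) 1 * (χ : ↥(Subgroup.normalizer (K : Set G)) → ℂ) x - (χ : ↥(Subgroup.normalizer (K : Set G)) → ℂ) 1 * (ξ : ↥(Subgroup.normalizer (K : Set G)) → ℂ) x) ∧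
    ∀ (ψ : G → ℂ), IsClassFunction G ψ →
      (ξ : ↥(Subgroup.normalizer (K : Set G)) → ℂ) 1 * (classInner (fun x : ↥(Subgroup.normalizer (K : Set G)) => ψ x) (χ : ↥(Subgroup.normalizer (K : Set G)) → ℂ) - classInner ψ (star χ)) =
      (χ : ↥(Subgroup.normalizer (K : Set G)) → ℂ) 1 * (classInner (fun x : ↥(Subgroup.normalizer (K : Set G)) => ψ x) (ξ : ↥(Subgroup.normalizer (K : Set G)) → ℂ) - classInner ψ (star ξ)) := by
  haveI : (K.subgroupOf (Subgroup.normalizer (K : Set G))).Normal := Subgroup.normal_in_normalizer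
  obtain ⟨dχ, hdχ⟩ := exists_degree (irr_isCharacter χ)
  obtain ⟨dξ, hdξ⟩ := exists_degree (irr_isCharacter ξ)
  have hmχ := mem_span hχ
  have hmξ := mem_span hξ
  let α : ↥(Subgroup.normalizer (K : Set G)) → ℂ := (dξ : ℤ) • (χ : ↥(Subgroup.normalizer (K : Set G)) → ℂ) - (dχ : ℤ) • (ξ : ↥(Subgroup.normalizer (K : Set G)) → ℂ)
  have hαS : α ∈ zspan {χ : ↥(Subgroup.normalizer (K : Set G)) → ℂ | IsIrrCharacter ↥(Subgroup.normalizer (K : Set G)) χ ∧ Relevant (K.subgroupOf (Subgroup.normalizer (K : Set G))) χ} :=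
    CfsgLib.OddChar.zspan_sub (CfsgLib.OddChar.zspan_zsmul _ hmχ) (CfsgLib.OddChar.zspan_zsmul _ hmξ)
  have hα : α = (dξ : ℂ) • (χ : ↥(Subgroup.normalizer (K : Set G)) → ℂ) - (dχ : ℂ) • (ξ : ↥(Subgroup.normalizer (K : Set G)) → ℂ) := by
    simp only [α, CfsgLib.OddChar.zsmul_eq_smul, Int.cast_natCast]
  have hα1 : α 1 = 0 := by
    simp only [hα, Pi.sub_apply, Pi.smul_apply, smul_eq_mul, hdχ, hdξ]
    ring
  have hcl : IsClassFunction ↥(Subgroup.normalizer (K : Set G)) α := hα ▸ isClassFunction_sub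
    (isClassFunction_smul (irr_isClassFunction χ) _) (isClassFunction_smul (irr_isClassFunction ξ) _)
  have hsupp : ∀ x : ↥(Subgroup.normalizer (K : Set G)), x ∉ (K.subgroupOf (Subgroup.normalizer (K : Set G))) → α x = 0 := fun x hx => by
    simp [hα, vanish_off (free hC) χ.2 hχ hx, vanish_off (free hC) ξ.2 hξ hx]
  have himg : star α = (dξ : ℂ) • star χ - (dχ : ℂ) • star ξ := by
    rw [CfsgLib.OddChar.isometry_sub hstar (CfsgLib.OddChar.zspan_zsmul _ hmχ)
      (CfsgLib.OddChar.zspan_zsmul _ hmξ) hαS, hstar.2.1 _ hmχ, hstar.2.1 _ hmξ]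
    simp only [CfsgLib.OddChar.zsmul_eq_smul, Int.cast_natCast]
  have hind : star α = indFun (Subgroup.normalizer (K : Set G)) α := hext α (CfsgLib.OddChar.zspanOn_compl_one.2 ⟨hαS, hα1⟩)
  refine ⟨fun x => ?_, fun ψ hψ => ?_⟩
  · have h := congrFun (res_ind hTI hC hcl hsupp hα1) x
    rw [← hind, himg, hα] at h
    simpa [hdχ, hdξ] using h
  · have h := CfsgLib.Induction.classInner_indFun_right (Subgroup.normalizer (K : Set G)) α hψ
    rw [← hind, himg, hα, classInner_sub_right, classInner_smul_right, classInner_smul_right,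
      classInner_sub_right, classInner_smul_right, classInner_smul_right, map_natCast, map_natCast] at h
    rw [hdχ, hdξ]
    linear_combination -h

include hTI hC hstar hext in
/-- The values of a class function of `G` on the nontrivial elements of `K`. -/
theorem values {ψ : G → ℂ} (hψ : IsClassFunction G ψ) {χ₀ : IrrCharacter ↥(Subgroup.normalizer (K : Set G))}
    (hχ₀ : Relevant (K.subgroupOf (Subgroup.normalizer (K : Set G))) (χ₀ : ↥(Subgroup.normalizer (K : Set G)) → ℂ)) :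
    ∃ C : ℂ, ∀ k ∈ (K.subgroupOf (Subgroup.normalizer (K : Set G))), k ≠ 1 → ψ k =
      C + ∑ χ ∈ relSet (K.subgroupOf (Subgroup.normalizer (K : Set G))), classInner ψ (star χ) * (χ : ↥(Subgroup.normalizer (K : Set G)) → ℂ) k := by
  haveI : (K.subgroupOf (Subgroup.normalizer (K : Set G))).Normal := Subgroup.normal_in_normalizer
  have hres : IsClassFunction ↥(Subgroup.normalizer (K : Set G)) (fun x : ↥(Subgroup.normalizer (K : Set G)) => ψ x) := fun a b => hψ (a : G) (b : G)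
  obtain ⟨C, hC'⟩ := expansion (K := (K.subgroupOf (Subgroup.normalizer (K : Set G)))) hres
  set c := (classInner (fun x : ↥(Subgroup.normalizer (K : Set G)) => ψ x) (χ₀ : ↥(Subgroup.normalizer (K : Set G)) → ℂ) - classInner ψ (star χ₀)) /
    (χ₀ : ↥(Subgroup.normalizer (K : Set G)) → ℂ) 1 with hc
  refine ⟨C + c * (-((K.subgroupOf (Subgroup.normalizer (K : Set G))).index : ℂ)), fun k hk hk1 => ?_⟩
  rw [hC' k hk, ← sum_degree_mul_relevant hk hk1, Finset.mul_sum, add_assoc,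
    ← Finset.sum_add_distrib]
  congr 1
  refine Finset.sum_congr rfl fun χ hχ => ?_
  have h := (cross_relation hTI hC star hstar hext (mem_relSet.1 hχ) hχ₀).2 ψ hψ
  have h0 := irr_one_ne_zero χ₀
  rw [hc]
  field_simp
  linear_combination (χ : ↥(Subgroup.normalizer (K : Set G)) → ℂ) k * h

include hstar in
theorem star_signed {χ : IrrCharacter ↥(Subgroup.normalizer (K : Set G))} (hχ : Relevant (K.subgroupOf (Subgroup.normalizer (K : Set G))) (χ : ↥(Subgroup.normalizer (K : Set G)) → ℂ)) :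
    ∃ μ : IrrCharacter G, star χ = (μ : G → ℂ) ∨ star χ = -(μ : G → ℂ) := by
  refine eq_irr_or_neg_of_classInner_self_eq_one (hstar.2.2.2 _ (mem_span hχ)) ?_
  rw [hstar.2.2.1 _ (mem_span hχ) _ (mem_span hχ), classInner_irr_self χ.2]

include hstar in
theorem star_orth {χ ξ : IrrCharacter ↥(Subgroup.normalizer (K : Set G))} (hχ : Relevant (K.subgroupOf (Subgroup.normalizer (K : Set G))) (χ : ↥(Subgroup.normalizer (K : Set G)) → ℂ))
    (hξ : Relevant (K.subgroupOf (Subgroup.normalizer (K : Set G))) (ξ : ↥(Subgroup.normalizer (K : Set G)) → ℂ)) (hne : χ ≠ ξ) : classInner (star χ) (star ξ) = 0 := by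
  rw [hstar.2.2.1 _ (mem_span hχ) _ (mem_span hξ)]
  exact classInner_irr_ne χ.2 ξ.2 fun h => hne (Subtype.ext h)

include hTI hC hstar hext in
/-- An irreducible character is exceptional iff it is not constant on the nontrivial part of `K`. -/
theorem exceptional_iff {χ₀ ξ₀ : IrrCharacter ↥(Subgroup.normalizer (K : Set G))} (hχ₀ : Relevant (K.subgroupOf (Subgroup.normalizer (K : Set G))) (χ₀ : ↥(Subgroup.normalizer (K : Set G)) → ℂ))
    (hξ₀ : Relevant (K.subgroupOf (Subgroup.normalizer (K : Set G))) (ξ₀ : ↥(Subgroup.normalizer (K : Set G)) → ℂ)) (hne₀ : χ₀ ≠ ξ₀) {ψ : G → ℂ} (hψ : IsIrrCharacter G ψ) :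
    (∃ χ : IrrCharacter ↥(Subgroup.normalizer (K : Set G)), Relevant (K.subgroupOf (Subgroup.normalizer (K : Set G))) (χ : ↥(Subgroup.normalizer (K : Set G)) → ℂ) ∧ (ψ = star χ ∨ ψ = -star χ)) ↔
      ∃ a ∈ K, ∃ b ∈ K, a ≠ 1 ∧ b ≠ 1 ∧ ψ a ≠ ψ b := by
  classical
  haveI : (K.subgroupOf (Subgroup.normalizer (K : Set G))).Normal := Subgroup.normal_in_normalizer
  obtain ⟨C, hval⟩ := values hTI hC star hstar hext
    (isClassFunction_of_isCharacter (isCharacter_of_irr hψ)) hχ₀
  constructor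
  · rintro ⟨χ, hχ, hψχ⟩
    obtain ⟨ξ, hξ, hne⟩ : ∃ ξ : IrrCharacter ↥(Subgroup.normalizer (K : Set G)), Relevant (K.subgroupOf (Subgroup.normalizer (K : Set G))) (ξ : ↥(Subgroup.normalizer (K : Set G)) → ℂ) ∧ χ ≠ ξ := by
      rcases eq_or_ne χ χ₀ with h | h
      · exact ⟨ξ₀, hξ₀, h ▸ hne₀⟩
      · exact ⟨χ₀, hχ₀, h⟩
    obtain ⟨a, ha, b, hb, ha1, hb1, hab⟩ := exists_ne_of_two (free hC) hχ hξ hne
    refine ⟨a, ha, b, hb, fun h => ha1 (Subtype.ext h), fun h => hb1 (Subtype.ext h), fun h => hab ?_⟩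
    have hb0 : ∀ η ∈ relSet (K.subgroupOf (Subgroup.normalizer (K : Set G))), η ≠ χ → classInner ψ (star η) = 0 := by
      intro η hη hne'
      rcases hψχ with h | h
      · rw [h]; exact star_orth star hstar hχ (mem_relSet.1 hη) (Ne.symm hne')
      · rw [h, classInner_neg_left, star_orth star hstar hχ (mem_relSet.1 hη) (Ne.symm hne'), neg_zero]
    have hnz : classInner ψ (star χ) ≠ 0 := by
      have h1 : classInner (star χ) (star χ) = 1 := by
        rw [hstar.2.2.1 _ (mem_span hχ) _ (mem_span hχ), classInner_irr_self χ.2]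
      rcases hψχ with h | h
      · rw [h, h1]; exact one_ne_zero
      · rw [h, classInner_neg_left, h1]; norm_num
    have hsum : ∀ k : ↥(Subgroup.normalizer (K : Set G)), ∑ η ∈ relSet (K.subgroupOf (Subgroup.normalizer (K : Set G))), classInner ψ (star η) * (η : ↥(Subgroup.normalizer (K : Set G)) → ℂ) k =
        classInner ψ (star χ) * (χ : ↥(Subgroup.normalizer (K : Set G)) → ℂ) k := fun k =>
      Finset.sum_eq_single_of_mem χ (mem_relSet.2 hχ) fun η hη hne' => by
        rw [hb0 η hη hne', zero_mul]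
    rw [hval a ha ha1, hval b hb hb1, hsum, hsum, add_right_inj] at h
    exact mul_left_cancel₀ hnz h
  · rintro ⟨a, ha, b, hb, ha1, hb1, hab⟩
    by_contra hc
    push Not at hc
    apply hab
    have hN := Subgroup.le_normalizer (H := K)
    have hz : ∀ η ∈ relSet (K.subgroupOf (Subgroup.normalizer (K : Set G))), classInner ψ (star η) = 0 := by
      intro η hη
      obtain ⟨hn1, hn2⟩ := hc η (mem_relSet.1 hη)
      obtain ⟨μ, hμ | hμ⟩ := star_signed star hstar (mem_relSet.1 hη)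
      · rw [hμ]; exact classInner_irr_ne hψ μ.2 (hμ ▸ hn1)
      · rw [hμ, classInner_neg_right, classInner_irr_ne hψ μ.2 ?_, neg_zero]
        rw [hμ, neg_neg] at hn2
        exact hn2
    have ea := hval ⟨a, hN ha⟩ ha (fun h => ha1 (congrArg Subtype.val h))
    have eb := hval ⟨b, hN hb⟩ hb (fun h => hb1 (congrArg Subtype.val h))
    rw [Finset.sum_eq_zero (fun η hη => by rw [hz η hη, zero_mul])] at ea eb
    exact ea.trans eb.symm

include hTI hC hstar hext in
/-- The restriction constant of a coherent family. -/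
theorem restriction_constant {χ₀ : IrrCharacter ↥(Subgroup.normalizer (K : Set G))} (hχ₀ : Relevant (K.subgroupOf (Subgroup.normalizer (K : Set G))) (χ₀ : ↥(Subgroup.normalizer (K : Set G)) → ℂ)) :
    ∃ m : ℤ, ∀ χ : IrrCharacter ↥(Subgroup.normalizer (K : Set G)), Relevant (K.subgroupOf (Subgroup.normalizer (K : Set G))) (χ : ↥(Subgroup.normalizer (K : Set G)) → ℂ) → ∀ k ∈ (K.subgroupOf (Subgroup.normalizer (K : Set G))), k ≠ 1 →
      star χ k - (χ : ↥(Subgroup.normalizer (K : Set G)) → ℂ) k = (m : ℂ) * (χ : ↥(Subgroup.normalizer (K : Set G)) → ℂ) 1 / ((K.subgroupOf (Subgroup.normalizer (K : Set G))).index : ℂ) := by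
  classical
  haveI : (K.subgroupOf (Subgroup.normalizer (K : Set G))).Normal := Subgroup.normal_in_normalizer
  obtain ⟨k₀, hk₀, hk₀ne⟩ := hχ₀
  have hk₀1 : k₀ ≠ 1 := fun h => hk₀ne (h ▸ rfl)
  set r := (star χ₀ k₀ - (χ₀ : ↥(Subgroup.normalizer (K : Set G)) → ℂ) k₀) / (χ₀ : ↥(Subgroup.normalizer (K : Set G)) → ℂ) 1 with hr
  -- constancy
  have hconst : ∀ χ : IrrCharacter ↥(Subgroup.normalizer (K : Set G)), Relevant (K.subgroupOf (Subgroup.normalizer (K : Set G))) (χ : ↥(Subgroup.normalizer (K : Set G)) → ℂ) → ∀ k ∈ (K.subgroupOf (Subgroup.normalizer (K : Set G))), k ≠ 1 →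
      star χ k - (χ : ↥(Subgroup.normalizer (K : Set G)) → ℂ) k = r * (χ : ↥(Subgroup.normalizer (K : Set G)) → ℂ) 1 := by
    intro χ hχ k hk hk1
    have hgen := hstar.2.2.2 _ (mem_span hχ)
    obtain ⟨C, hval⟩ := values hTI hC star hstar hext
      (isClassFunction_of_isGeneralizedCharacter hgen) hχ
    have hsum : ∀ k : ↥(Subgroup.normalizer (K : Set G)), ∑ η ∈ relSet (K.subgroupOf (Subgroup.normalizer (K : Set G))), classInner (star χ) (star η) * (η : ↥(Subgroup.normalizer (K : Set G)) → ℂ) k =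
        (χ : ↥(Subgroup.normalizer (K : Set G)) → ℂ) k := by
      intro k
      rw [Finset.sum_eq_single_of_mem χ (mem_relSet.2 hχ) fun η hη hne' => by
        rw [star_orth star hstar hχ (mem_relSet.1 hη) (Ne.symm hne'), zero_mul],
        hstar.2.2.1 _ (mem_span hχ) _ (mem_span hχ), classInner_irr_self χ.2, one_mul]
    have e1 : star χ k - (χ : ↥(Subgroup.normalizer (K : Set G)) → ℂ) k = star χ k₀ - (χ : ↥(Subgroup.normalizer (K : Set G)) → ℂ) k₀ := by
      rw [hval k hk hk1, hval k₀ hk₀ hk₀1, hsum, hsum]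
      ring
    have h := (cross_relation hTI hC star hstar hext hχ ⟨k₀, hk₀, hk₀ne⟩).1 k₀
    have h0 := irr_one_ne_zero χ₀
    rw [e1, hr]
    field_simp
    linear_combination h
  -- the constants are integers
  have hint : ∀ χ : IrrCharacter ↥(Subgroup.normalizer (K : Set G)), Relevant (K.subgroupOf (Subgroup.normalizer (K : Set G))) (χ : ↥(Subgroup.normalizer (K : Set G)) → ℂ) →
      ∃ z : ℤ, r * (χ : ↥(Subgroup.normalizer (K : Set G)) → ℂ) 1 = (z : ℂ) := by
    intro χ hχ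
    have hgen := hstar.2.2.2 _ (mem_span hχ)
    have hiint : IsIntegral ℤ (r * (χ : ↥(Subgroup.normalizer (K : Set G)) → ℂ) 1) := by
      rw [← hconst χ hχ k₀ hk₀ hk₀1]
      obtain ⟨a, b, ha, hb, hab⟩ := hgen
      rw [hab, Pi.sub_apply]
      exact ((isIntegral_of_isCharacter ha _).sub (isIntegral_of_isCharacter hb _)).sub
        (isIntegral_of_isCharacter (irr_isCharacter χ) _)
    have hφ : IsGeneralizedCharacter ↥(Subgroup.normalizer (K : Set G)) (fun x : ↥(Subgroup.normalizer (K : Set G)) => star χ x - (χ : ↥(Subgroup.normalizer (K : Set G)) → ℂ) x) := by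
      obtain ⟨a, b, ha, hb, hab⟩ := hgen
      refine ⟨_, _, CfsgLib.Clifford.isCharacter_subtype ha (Subgroup.normalizer (K : Set G)),
        isCharacter_add (CfsgLib.Clifford.isCharacter_subtype hb (Subgroup.normalizer (K : Set G))) (irr_isCharacter χ), ?_⟩
      funext x
      simp [hab]
      ring
    obtain ⟨a, b, ha, hb, hab⟩ := hφ
    obtain ⟨i, hi⟩ := classInner_generalized_int
      (⟨_, _, CfsgLib.Clifford.isCharacter_subtype ha (K.subgroupOf (Subgroup.normalizer (K : Set G))), CfsgLib.Clifford.isCharacter_subtype hb (K.subgroupOf (Subgroup.normalizer (K : Set G))),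
        rfl⟩ : IsGeneralizedCharacter ↥(K.subgroupOf (Subgroup.normalizer (K : Set G))) ((fun x : ↥(K.subgroupOf (Subgroup.normalizer (K : Set G))) => a x) - fun x : ↥(K.subgroupOf (Subgroup.normalizer (K : Set G))) => b x))
      (isGeneralizedCharacter_one (G := ↥(K.subgroupOf (Subgroup.normalizer (K : Set G)))))
    have hd : ∃ z : ℤ, a 1 - b 1 = (z : ℂ) := by
      obtain ⟨n1, h1⟩ := exists_degree ha
      obtain ⟨n2, h2⟩ := exists_degree hb
      exact ⟨n1 - n2, by rw [h1, h2]; push_cast; ring⟩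
    obtain ⟨z, hz⟩ := hd
    rw [classInner, inv_mul_eq_iff_eq_mul₀ (Nat.cast_ne_zero.2 Nat.card_pos.ne')] at hi
    simp only [Pi.sub_apply, Pi.one_apply, map_one, mul_one] at hi
    rw [← Finset.add_sum_erase _ _ (Finset.mem_univ (1 : ↥(K.subgroupOf (Subgroup.normalizer (K : Set G))))), OneMemClass.coe_one, hz,
      Finset.sum_congr rfl (fun (k : ↥(K.subgroupOf (Subgroup.normalizer (K : Set G)))) hk => show a (k : ↥(Subgroup.normalizer (K : Set G))) - b (k : ↥(Subgroup.normalizer (K : Set G))) = r * (χ : ↥(Subgroup.normalizer (K : Set G)) → ℂ) 1 by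
        rw [← hconst χ hχ k k.2 fun h => (Finset.mem_erase.1 hk).1 (Subtype.ext h), ← Pi.sub_apply, ← hab]),
      Finset.sum_const, nsmul_eq_mul] at hi
    have hcard0 : ((Finset.univ.erase (1 : ↥(K.subgroupOf (Subgroup.normalizer (K : Set G))))).card : ℂ) ≠ 0 := by
      rw [Nat.cast_ne_zero, ← Nat.pos_iff_ne_zero, Finset.card_pos]
      exact ⟨⟨k₀, hk₀⟩, Finset.mem_erase.2 ⟨fun h => hk₀1 (congrArg Subtype.val h), Finset.mem_univ _⟩⟩
    have hq : r * (χ : ↥(Subgroup.normalizer (K : Set G)) → ℂ) 1 = (((((Nat.card (K.subgroupOf (Subgroup.normalizer (K : Set G))) : ℤ) * i - z : ℤ) : ℚ) /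
        ((Finset.univ.erase (1 : ↥(K.subgroupOf (Subgroup.normalizer (K : Set G))))).card : ℚ) : ℚ) : ℂ) := by
      push_cast
      rw [eq_div_iff hcard0]
      linear_combination hi
    rw [hq] at hiint ⊢
    obtain ⟨w, hw⟩ := exists_int_of_isIntegral_rat hiint
    exact ⟨w, by rw [← hw, Rat.cast_intCast]⟩
  choose z hz using hint
  have hdd : ∀ χ : IrrCharacter ↥(Subgroup.normalizer (K : Set G)), ∃ d : ℕ, (χ : ↥(Subgroup.normalizer (K : Set G)) → ℂ) 1 = d ∧ 0 < d ∧ d ∣ Nat.card ↥(Subgroup.normalizer (K : Set G)) :=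
    fun χ => irr_degree_dvd_card χ
  choose d hd hd0 hdvd using hdd
  obtain ⟨Q, hQ⟩ := hdvd χ₀
  -- `r |(Subgroup.normalizer (K : Set G))|` and `r (|(Subgroup.normalizer (K : Set G))| - e)` are integers
  have h1 : r * (Nat.card ↥(Subgroup.normalizer (K : Set G)) : ℂ) = ((z χ₀ ⟨k₀, hk₀, hk₀ne⟩ * Q : ℤ) : ℂ) := by
    rw [hQ]
    push_cast
    rw [← hd χ₀, ← mul_assoc, hz χ₀ ⟨k₀, hk₀, hk₀ne⟩]
  have h2 : r * ((Nat.card ↥(Subgroup.normalizer (K : Set G)) : ℂ) - ((K.subgroupOf (Subgroup.normalizer (K : Set G))).index : ℂ)) =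
      ((∑ χ ∈ (relSet (K.subgroupOf (Subgroup.normalizer (K : Set G)))).attach, z χ.1 (mem_relSet.1 χ.2) * (d χ.1) : ℤ) : ℂ) := by
    have hs := sum_sq_degrees (G := ↥(Subgroup.normalizer (K : Set G)))
    simp only [sq] at hs
    rw [← Finset.sum_add_sum_compl (relSet (K.subgroupOf (Subgroup.normalizer (K : Set G)))), sum_sq_irrelevant] at hs
    rw [← eq_sub_of_add_eq hs, Finset.mul_sum, ← Finset.sum_attach]
    push_cast
    refine Finset.sum_congr rfl fun χ _ => ?_
    rw [← hz χ.1 (mem_relSet.1 χ.2), ← hd χ.1]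
    ring
  refine ⟨z χ₀ ⟨k₀, hk₀, hk₀ne⟩ * Q -
    ∑ χ ∈ (relSet (K.subgroupOf (Subgroup.normalizer (K : Set G)))).attach, z χ.1 (mem_relSet.1 χ.2) * (d χ.1), fun χ hχ k hk hk1 => ?_⟩
  rw [hconst χ hχ k hk hk1, Int.cast_sub, ← h1, ← h2]
  have : ((K.subgroupOf (Subgroup.normalizer (K : Set G))).index : ℂ) ≠ 0 := Nat.cast_ne_zero.2 Subgroup.index_ne_zero_of_finite
  field_simp
  ring

end Coherent

/-! ## Abelian kernel -/

/-- All relevant characters of the normalizer have degree `[(Subgroup.normalizer (K : Set G)) : K]` when `K` is abelian. -/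
theorem degree_eq_index (hC : ∀ k ∈ K, k ≠ 1 → Subgroup.centralizer ({k} : Set G) ≤ K)
    (hab : ∀ a ∈ K, ∀ b ∈ K, a * b = b * a) {χ : IrrCharacter ↥(Subgroup.normalizer (K : Set G))}
    (hχ : Relevant (K.subgroupOf (Subgroup.normalizer (K : Set G))) (χ : ↥(Subgroup.normalizer (K : Set G)) → ℂ)) : (χ : ↥(Subgroup.normalizer (K : Set G)) → ℂ) 1 = ((K.subgroupOf (Subgroup.normalizer (K : Set G))).index : ℂ) := by
  classical
  haveI hn : (K.subgroupOf (Subgroup.normalizer (K : Set G))).Normal := Subgroup.normal_in_normalizer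
  have : IsMulCommutative ↥(K.subgroupOf (Subgroup.normalizer (K : Set G))) := ⟨⟨fun a b => Subtype.ext (Subtype.ext (hab _ a.2 _ b.2))⟩⟩
  obtain ⟨θ, hθ⟩ := CfsgLib.Clifford.exists_constituent
    (CfsgLib.Clifford.isCharacter_subtype (irr_isCharacter χ) (K.subgroupOf (Subgroup.normalizer (K : Set G))))
    (fun h => irr_one_ne_zero χ (congrFun h 1))
  have hθ1 : (θ : ↥(K.subgroupOf (Subgroup.normalizer (K : Set G))) → ℂ) 1 = 1 := CfsgLib.CharIto.degree_one_of_comm θ.2
  let f := CfsgLib.CharIto.linearHom (irr_isCharacter θ) hθ1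
  have hT : CfsgLib.Clifford.inertia hn (θ : ↥(K.subgroupOf (Subgroup.normalizer (K : Set G))) → ℂ) = (K.subgroupOf (Subgroup.normalizer (K : Set G))) := by
    refine le_antisymm (fun x hx => ?_) (CfsgLib.Clifford.le_inertia hn (irr_isClassFunction θ))
    by_contra hxK
    -- the commutator map is bijective, so `θ` is trivial
    let c : ↥(K.subgroupOf (Subgroup.normalizer (K : Set G))) → ↥(K.subgroupOf (Subgroup.normalizer (K : Set G))) := fun k => ⟨x * k * x⁻¹, hn.conj_mem _ k.2 x⟩ * k⁻¹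
    have hc : Function.Injective c := by
      intro p q hpq
      have he : x * (p : ↥(Subgroup.normalizer (K : Set G))) * x⁻¹ * (p : ↥(Subgroup.normalizer (K : Set G)))⁻¹ = x * (q : ↥(Subgroup.normalizer (K : Set G))) * x⁻¹ * (q : ↥(Subgroup.normalizer (K : Set G)))⁻¹ :=
        congrArg Subtype.val hpq
      have hcomm : (q : ↥(Subgroup.normalizer (K : Set G))) * (p : ↥(Subgroup.normalizer (K : Set G))) = p * q := congrArg Subtype.val (mul_comm' q p)
      have hfix : ((q : ↥(Subgroup.normalizer (K : Set G)))⁻¹ * p) * x = x * ((q : ↥(Subgroup.normalizer (K : Set G)))⁻¹ * p) := by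
        have hpq' : (p : ↥(Subgroup.normalizer (K : Set G))) * (q : ↥(Subgroup.normalizer (K : Set G)))⁻¹ = (q : ↥(Subgroup.normalizer (K : Set G)))⁻¹ * p := by
          rw [mul_inv_eq_iff_eq_mul, mul_assoc, ← hcomm, inv_mul_cancel_left]
        have h2 : x * (((q : ↥(Subgroup.normalizer (K : Set G)))⁻¹ * p)) * x⁻¹ = (q : ↥(Subgroup.normalizer (K : Set G)))⁻¹ * p := by
          calc x * ((q : ↥(Subgroup.normalizer (K : Set G)))⁻¹ * p) * x⁻¹
              = (x * (q : ↥(Subgroup.normalizer (K : Set G))) * x⁻¹)⁻¹ * (x * (p : ↥(Subgroup.normalizer (K : Set G))) * x⁻¹ * (p : ↥(Subgroup.normalizer (K : Set G)))⁻¹) * p := by group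
            _ = (x * (q : ↥(Subgroup.normalizer (K : Set G))) * x⁻¹)⁻¹ * (x * (q : ↥(Subgroup.normalizer (K : Set G))) * x⁻¹ * (q : ↥(Subgroup.normalizer (K : Set G)))⁻¹) * p := by rw [he]
            _ = (q : ↥(Subgroup.normalizer (K : Set G)))⁻¹ * p := by group
        exact ((mul_inv_eq_iff_eq_mul).1 h2).symm
      have := free hC x hxK _ ((K.subgroupOf (Subgroup.normalizer (K : Set G))).mul_mem ((K.subgroupOf (Subgroup.normalizer (K : Set G))).inv_mem q.2) p.2) hfix
      exact Subtype.ext (inv_mul_eq_one.1 this).symm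
    obtain ⟨k, hk, hkne⟩ := hχ
    have htriv : (θ : ↥(K.subgroupOf (Subgroup.normalizer (K : Set G))) → ℂ) = fun _ => 1 := by
      funext y
      obtain ⟨w, rfl⟩ := (Finite.injective_iff_surjective.1 hc) y
      show (f (⟨x * w * x⁻¹, hn.conj_mem _ w.2 x⟩ * w⁻¹) : ℂ) = 1
      rw [map_mul, map_inv, Units.val_mul]
      have : f ⟨x * w * x⁻¹, hn.conj_mem _ w.2 x⟩ = f w := Units.ext (congrFun hx w)
      rw [this, ← Units.val_mul, mul_inv_cancel, Units.val_one]
    have hsum := sum_eq_zero χ.2 (⟨k, hk, hkne⟩ : Relevant (K.subgroupOf (Subgroup.normalizer (K : Set G))) (χ : ↥(Subgroup.normalizer (K : Set G)) → ℂ))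
    apply hθ
    rw [htriv, classInner]
    simp [hsum]
  have h := CfsgLib.Clifford.clifford_degree hn χ.2 θ.2 hθ
  rw [hT, hθ1, mul_one] at h
  obtain ⟨e, he⟩ := classInner_char_nat
    (CfsgLib.Clifford.isCharacter_subtype (irr_isCharacter χ) (K.subgroupOf (Subgroup.normalizer (K : Set G)))) (irr_isCharacter θ)
  obtain ⟨d, hd, hdvd⟩ := CfsgLib.CharIto.degree_dvd_index_of_abelian_normal χ.2 (K.subgroupOf (Subgroup.normalizer (K : Set G))) hn
    (fun a ha b hb => Subtype.ext (hab _ ha _ hb))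
  rw [he, hd] at h
  have h' : d = e * (K.subgroupOf (Subgroup.normalizer (K : Set G))).index := by exact_mod_cast h
  have hdpos : d ≠ 0 := by
    rintro rfl
    exact irr_one_ne_zero χ (by simpa using hd)
  rw [hd, Nat.dvd_antisymm hdvd ⟨e, by rw [h', mul_comm]⟩]

/-- The exceptional characters for an abelian T.I. subgroup. -/
theorem exceptional_abelian (hTI : ∀ g : G, g ∉ (Subgroup.normalizer (K : Set G)) → ∀ k ∈ K, g * k * g⁻¹ ∈ K → k = 1)
    (hC : ∀ k ∈ K, k ≠ 1 → Subgroup.centralizer ({k} : Set G) ≤ K)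
    (hab : ∀ a ∈ K, ∀ b ∈ K, a * b = b * a) :
    ∃ (ε : ℂ) (f : {χ : IrrCharacter ↥(Subgroup.normalizer (K : Set G)) // Relevant (K.subgroupOf (Subgroup.normalizer (K : Set G))) (χ : ↥(Subgroup.normalizer (K : Set G)) → ℂ)} → IrrCharacter G),
      (ε = 1 ∨ ε = -1) ∧ Function.Injective f ∧
      ∀ χ ξ, indFun (Subgroup.normalizer (K : Set G)) ((χ.1 : ↥(Subgroup.normalizer (K : Set G)) → ℂ) - (ξ.1 : ↥(Subgroup.normalizer (K : Set G)) → ℂ)) = ε • ((f χ : G → ℂ) - (f ξ : G → ℂ)) := by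
  classical
  have : Fintype ↥(Subgroup.normalizer (K : Set G)) := Fintype.ofFinite _
  haveI : (K.subgroupOf (Subgroup.normalizer (K : Set G))).Normal := Subgroup.normal_in_normalizer
  by_cases hemp : IsEmpty {χ : IrrCharacter ↥(Subgroup.normalizer (K : Set G)) // Relevant (K.subgroupOf (Subgroup.normalizer (K : Set G))) (χ : ↥(Subgroup.normalizer (K : Set G)) → ℂ)}
  · exact ⟨1, fun χ => hemp.elim χ, Or.inl rfl, fun χ => hemp.elim χ, fun χ => hemp.elim χ⟩
  obtain ⟨χ₀⟩ := not_isEmpty_iff.1 hemp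
  let τ := fun χ : {χ : IrrCharacter ↥(Subgroup.normalizer (K : Set G)) // Relevant (K.subgroupOf (Subgroup.normalizer (K : Set G))) (χ : ↥(Subgroup.normalizer (K : Set G)) → ℂ)} =>
    indFun (Subgroup.normalizer (K : Set G)) ((χ.1 : ↥(Subgroup.normalizer (K : Set G)) → ℂ) - (χ₀.1 : ↥(Subgroup.normalizer (K : Set G)) → ℂ))
  have hcl : ∀ χ : {χ : IrrCharacter ↥(Subgroup.normalizer (K : Set G)) // Relevant (K.subgroupOf (Subgroup.normalizer (K : Set G))) (χ : ↥(Subgroup.normalizer (K : Set G)) → ℂ)},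
      IsClassFunction ↥(Subgroup.normalizer (K : Set G)) ((χ.1 : ↥(Subgroup.normalizer (K : Set G)) → ℂ) - (χ₀.1 : ↥(Subgroup.normalizer (K : Set G)) → ℂ)) := fun χ =>
    isClassFunction_sub (irr_isClassFunction χ.1) (irr_isClassFunction χ₀.1)
  have hsupp : ∀ (χ : {χ : IrrCharacter ↥(Subgroup.normalizer (K : Set G)) // Relevant (K.subgroupOf (Subgroup.normalizer (K : Set G))) (χ : ↥(Subgroup.normalizer (K : Set G)) → ℂ)}) (x : ↥(Subgroup.normalizer (K : Set G))), x ∉ (K.subgroupOf (Subgroup.normalizer (K : Set G))) →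
      ((χ.1 : ↥(Subgroup.normalizer (K : Set G)) → ℂ) - (χ₀.1 : ↥(Subgroup.normalizer (K : Set G)) → ℂ)) x = 0 := fun χ x hx => by
    simp [vanish_off (free hC) χ.1.2 χ.2 hx, vanish_off (free hC) χ₀.1.2 χ₀.2 hx]
  have hone : ∀ χ : {χ : IrrCharacter ↥(Subgroup.normalizer (K : Set G)) // Relevant (K.subgroupOf (Subgroup.normalizer (K : Set G))) (χ : ↥(Subgroup.normalizer (K : Set G)) → ℂ)},
      ((χ.1 : ↥(Subgroup.normalizer (K : Set G)) → ℂ) - (χ₀.1 : ↥(Subgroup.normalizer (K : Set G)) → ℂ)) 1 = 0 := fun χ => by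
    simp [degree_eq_index hC hab χ.2, degree_eq_index hC hab χ₀.2]
  obtain ⟨ε, hε, μ, hμ, hτ⟩ := CfsgLib.CharExceptional.exceptional_family χ₀ τ
    (by simp [τ])
    (fun χ => CfsgLib.CharArtin.isGeneralizedCharacter_indFun _
      (isGeneralizedCharacter_sub (isGeneralizedCharacter_irr χ.1) (isGeneralizedCharacter_irr χ₀.1)))
    (fun χ => by simp only [τ, CfsgLib.Induction.indFun_one_apply, hone, mul_zero])
    (fun χ hne => by
      simp only [τ]
      rw [isometry hTI hC (hcl χ) (hsupp χ) (hone χ), CfsgLib.CharExceptional.classInner_diff]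
      have : χ.1 ≠ χ₀.1 := fun h => hne (Subtype.ext h)
      simp [this, this.symm])
    (fun χ ξ hχ hξ hne => by
      simp only [τ]
      rw [isometry hTI hC (hcl ξ) (hsupp ξ) (hone ξ), CfsgLib.CharExceptional.classInner_diff]
      have h1 : χ.1 ≠ ξ.1 := fun h => hne (Subtype.ext h)
      have h2 : χ.1 ≠ χ₀.1 := fun h => hχ (Subtype.ext h)
      have h3 : χ₀.1 ≠ ξ.1 := fun h => hξ (Subtype.ext h.symm)
      simp [h1, h2, h3])
  refine ⟨ε, μ, hε, hμ, fun χ ξ => ?_⟩
  have : ((χ.1 : ↥(Subgroup.normalizer (K : Set G)) → ℂ) - (ξ.1 : ↥(Subgroup.normalizer (K : Set G)) → ℂ)) =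
      ((χ.1 : ↥(Subgroup.normalizer (K : Set G)) → ℂ) - (χ₀.1 : ↥(Subgroup.normalizer (K : Set G)) → ℂ)) - ((ξ.1 : ↥(Subgroup.normalizer (K : Set G)) → ℂ) - (χ₀.1 : ↥(Subgroup.normalizer (K : Set G)) → ℂ)) := by abel
  rw [this, CfsgLib.Induction.indFun_sub]
  show τ χ - τ ξ = _
  rw [hτ, hτ, ← smul_sub]
  congr 1
  abel

end CfsgLib.TIFNChar
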