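import Cfsg.Agent.Lib.Characters.PermChar
import Cfsg.Agent.Lib.Characters.Generalized
import Cfsg.Agent.Lib.Characters.Clifford
import Cfsg.Agent.Lib.Characters.Ramified
import Cfsg.Agent.Lib.Characters.Values
import Cfsg.Agent.S0873

/-!
# Brauer's induction theorem and characterisation of generalised characters
-/

set_option autoImplicit false

noncomputable section

namespace CfsgLib.BrauerInd

open CfsgLib.Characters CfsgLib.PermChar

universe u

section Span

variable {X : Type u} [Group X] [Fintype X]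

/-- The additive group spanned by characters induced from `p`-elementary subgroups. -/
def indSpan (p : ℕ) (X : Type u) [Group X] [Fintype X] : AddSubgroup (X → ℂ) :=
  AddSubgroup.closure {F | ∃ (E : Subgroup X) (φ : E → ℂ),
    Cfsg.IsElementary p E ∧ Cfsg.IsCharacter E φ ∧ F = Cfsg.indFun E φ}

theorem isElementary_of_equiv {p : ℕ} {A B : Type u} [Group A] [Group B] (e : A ≃* B)
    (h : Cfsg.IsElementary p A) : Cfsg.IsElementary p B := by
  obtain ⟨x, hx, hcop, k, hk⟩ := h
  refine ⟨e x, Subgroup.mem_center_iff.2 fun y => ?_, ?_, k, ?_⟩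
  · obtain ⟨y, rfl⟩ := e.surjective y
    rw [← map_mul, ← map_mul, Subgroup.mem_center_iff.1 hx y]
  · rwa [MulEquiv.orderOf_eq]
  · have h1 : (Subgroup.zpowers x).map e.toMonoidHom = Subgroup.zpowers (e x) :=
      MonoidHom.map_zpowers _ _
    rw [← h1, ← hk]
    exact Subgroup.index_map_equiv _ e

/-- Characters induced from a subgroup. -/
theorem indSpan_ind {p : ℕ} (T : Subgroup X) [Fintype T] {F : T → ℂ} (hF : F ∈ indSpan p T) :
    Cfsg.indFun T F ∈ indSpan p X := by
  induction hF using AddSubgroup.closure_induction with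
  | mem F h =>
    obtain ⟨E, φ, hE, hφ, rfl⟩ := h
    let e := Subgroup.equivMapOfInjective E T.subtype T.subtype_injective
    refine AddSubgroup.subset_closure ⟨E.map T.subtype, fun y => φ (e.symm y),
      isElementary_of_equiv e hE, ?_, indFun_map T E φ⟩
    exact CfsgLib.Clifford.isCharacter_pullback hφ e.symm.toMonoidHom
  | zero => rw [CfsgLib.Induction.indFun_zero]; exact zero_mem _
  | add a b _ _ ha hb => rw [CfsgLib.Induction.indFun_add]; exact add_mem ha hb
  | neg a _ ha =>
    have : Cfsg.indFun T (-a) = -Cfsg.indFun T a := map_neg (CfsgLib.Induction.indLinear T) a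
    rw [this]
    exact neg_mem ha

theorem indSpan_mul_char {p : ℕ} {F a : X → ℂ} (hF : F ∈ indSpan p X)
    (ha : Cfsg.IsCharacter X a) : F * a ∈ indSpan p X := by
  induction hF using AddSubgroup.closure_induction with
  | mem F h =>
    obtain ⟨E, φ, hE, hφ, rfl⟩ := h
    rw [CfsgLib.Induction.indFun_mul E (isClassFunction_of_isCharacter ha)]
    exact AddSubgroup.subset_closure
      ⟨E, _, hE, isCharacter_mul hφ (CfsgLib.Clifford.isCharacter_subtype ha E), rfl⟩
  | zero => rw [zero_mul]; exact zero_mem _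
  | add b c _ _ hb hc => rw [add_mul]; exact add_mem hb hc
  | neg b _ hb => rw [neg_mul]; exact neg_mem hb

theorem char_mem_indSpan {p : ℕ} (h1 : (1 : X → ℂ) ∈ indSpan p X) {a : X → ℂ}
    (ha : Cfsg.IsCharacter X a) : a ∈ indSpan p X := by
  simpa using indSpan_mul_char h1 ha

theorem natCast_smul_mem {p : ℕ} {F : X → ℂ} (hF : F ∈ indSpan p X) (n : ℕ) :
    (n : ℂ) • F ∈ indSpan p X := by
  rw [Nat.cast_smul_eq_nsmul]
  exact nsmul_mem hF n

theorem intCast_smul_mem {p : ℕ} {F : X → ℂ} (hF : F ∈ indSpan p X) (n : ℤ) :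
    (n : ℂ) • F ∈ indSpan p X := by
  rw [Int.cast_smul_eq_zsmul]
  exact zsmul_mem hF n

end Span

/-- The principal character of a quasi-elementary group is in the span. -/
theorem one_mem_of_quasi {p : ℕ} (hp : p.Prime) : ∀ (n : ℕ) (X : Type u) [Group X] [Fintype X],
    Nat.card X = n → ∀ (C : Subgroup X), C.Normal → IsCyclic C →
      Nat.Coprime (Nat.card C) p → (∃ k, C.index = p ^ k) → (1 : X → ℂ) ∈ indSpan p X := by
  intro n
  induction n using Nat.strong_induction_on with
  | _ n IH =>
  intro X _ _ hn C hCn hcyc hcop ⟨k, hk⟩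
  classical
  have hfact : Fact p.Prime := ⟨hp⟩
  let P : Sylow p X := default
  have hCP : C ⊔ (P : Subgroup X) = ⊤ := by
    rw [← Subgroup.index_eq_one]
    have h1 : (C ⊔ (P : Subgroup X)).index ∣ p ^ k := hk ▸ Subgroup.index_dvd_of_le le_sup_left
    have h2 := Subgroup.index_dvd_of_le (le_sup_right : (P : Subgroup X) ≤ C ⊔ P)
    obtain ⟨j, -, hj⟩ := (Nat.dvd_prime_pow hp).1 h1
    rcases j with _ | j
    · simpa using hj
    · exact absurd ((hj ▸ dvd_pow_self p (Nat.succ_ne_zero j)).trans h2) P.not_dvd_index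
  have hcomm : ∀ a ∈ C, ∀ b ∈ C, a * b = b * a := by
    obtain ⟨g, hg⟩ := hcyc.exists_generator
    intro a ha b hb
    obtain ⟨i, hi⟩ := Subgroup.mem_zpowers_iff.1 (hg ⟨a, ha⟩)
    obtain ⟨j, hj⟩ := Subgroup.mem_zpowers_iff.1 (hg ⟨b, hb⟩)
    have e : (⟨a, ha⟩ : C) * ⟨b, hb⟩ = ⟨b, hb⟩ * ⟨a, ha⟩ := by
      rw [← hi, ← hj, ← zpow_add, ← zpow_add, add_comm]
    exact congrArg Subtype.val e
  let Z : Subgroup X := C ⊓ Subgroup.centralizer ((P : Subgroup X) : Set X)
  have hZc : Z ≤ Subgroup.center X := by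
    intro z hz
    rw [Subgroup.mem_center_iff]
    intro x
    have hx : x ∈ C ⊔ (P : Subgroup X) := hCP ▸ Subgroup.mem_top x
    have hle : C ⊔ (P : Subgroup X) ≤ Subgroup.centralizer ({z} : Set X) := sup_le
      (fun c hc => Subgroup.mem_centralizer_singleton_iff.2 (hcomm c hc z hz.1))
      (fun y hy => Subgroup.mem_centralizer_singleton_iff.2 (hz.2 y hy))
    exact Subgroup.mem_centralizer_singleton_iff.1 (hle hx)
  have hZn : Z.Normal := ⟨fun z hz g => by
    rw [Subgroup.mem_center_iff.1 (hZc hz) g, mul_inv_cancel_right]; exact hz⟩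
  have hZcyc : IsCyclic Z := isCyclic_of_injective (Subgroup.inclusion (inf_le_left : Z ≤ C))
    (Subgroup.inclusion_injective _)
  let E : Subgroup X := (P : Subgroup X) ⊔ Z
  have hE : Cfsg.IsElementary p E := by
    obtain ⟨z, hz⟩ := hZcyc.exists_generator
    let zE : E := ⟨z, Subgroup.mem_sup_right z.2⟩
    refine ⟨zE, Subgroup.mem_center_iff.2 fun y =>
      Subtype.ext (Subgroup.mem_center_iff.1 (hZc z.2) y), ?_, ?_⟩
    · rw [← orderOf_injective E.subtype E.subtype_injective]
      exact hcop.coprime_dvd_left ((Subgroup.orderOf_dvd_natCard C z.2.1))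
    · have e : Subgroup.zpowers zE = Z.subgroupOf E := by
        ext y
        rw [Subgroup.mem_subgroupOf]
        constructor
        · rintro ⟨i, rfl⟩
          show (z : X) ^ i ∈ Z
          exact Z.zpow_mem z.2 i
        · intro hy
          obtain ⟨i, hi⟩ := Subgroup.mem_zpowers_iff.1 (hz ⟨y, hy⟩)
          exact ⟨i, Subtype.ext (by
            have := congrArg (fun t : Z => (t : X)) hi
            simpa [zE] using this)⟩
      rw [e]
      show ∃ j, Z.relIndex ((P : Subgroup X) ⊔ Z) = p ^ j
      rw [Subgroup.relIndex_sup_right]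
      obtain ⟨b, hb⟩ := P.2.exists_card_eq
      obtain ⟨j, -, hj⟩ := (Nat.dvd_prime_pow hp).1
        (hb ▸ Subgroup.relIndex_dvd_card (H := Z) (K := (P : Subgroup X)))
      exact ⟨j, hj⟩
  have : Fintype E := Fintype.ofFinite _
  have : Fintype C := Fintype.ofFinite _
  have h1E : Cfsg.IsCharacter E (fun _ => (1 : ℂ)) := CfsgLib.Induction.isCharacter_const_one
  have hI : Cfsg.IsCharacter X (Cfsg.indFun E (fun _ => (1 : ℂ))) :=
    CfsgLib.Induction.isCharacter_indFun E h1E
  obtain ⟨m, hm, hsum⟩ := CfsgLib.Clifford.exists_mult hI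
  let ι := principalIrr X
  have hmem : Cfsg.indFun E (fun _ => (1 : ℂ)) ∈ indSpan p X :=
    AddSubgroup.subset_closure ⟨E, _, hE, h1E, rfl⟩
  have hmι : m ι = 1 := by
    have h := hm ι
    rw [CfsgLib.Induction.classInner_indFun E _ (fun _ _ => rfl)] at h
    have h' : Cfsg.classInner (fun _ : E => (1 : ℂ)) (fun _ : E => (1 : ℂ)) = 1 :=
      classInner_irr_self isIrrCharacter_one
    exact_mod_cast h.symm.trans h'
  have hrest : ∀ γ : Cfsg.IrrCharacter X, γ ≠ ι → m γ ≠ 0 → (γ : X → ℂ) ∈ indSpan p X := by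
    intro γ hγ hmγ
    have hγc := irr_isCharacter γ
    have hγE : Cfsg.classInner (fun y : E => (γ : X → ℂ) y) (fun _ => (1 : ℂ)) ≠ 0 := by
      rw [classInner_conj_symm, map_ne_zero, ← CfsgLib.Induction.classInner_indFun E _
        (isClassFunction_of_isCharacter hγc), hm γ]
      exact Nat.cast_ne_zero.2 hmγ
    obtain ⟨lam, hlam⟩ := CfsgLib.Clifford.exists_constituent
      (CfsgLib.Clifford.isCharacter_subtype hγc C) (by
        intro h0
        exact irr_one_ne_zero γ (congrFun h0 1))
    set T := CfsgLib.Clifford.inertia hCn (lam : C → ℂ) with hT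
    have hCT : C ≤ T := CfsgLib.Clifford.le_inertia hCn (irr_isClassFunction lam)
    by_cases hTtop : T = ⊤
    · exfalso
      have hinv : ∀ (g : X) (c : C), (lam : C → ℂ) ⟨g * c * g⁻¹, hCn.conj_mem (c : X) c.2 g⟩ =
          (lam : C → ℂ) c := fun g c =>
        CfsgLib.Clifford.mem_inertia.1 ((show g ∈ T by rw [hTtop]; exact Subgroup.mem_top g)) c
      have hres := CfsgLib.Ramified.res_eq_smul_of_invariant C γ.2 lam.2 hinv hlam
      set e := Cfsg.classInner (fun c : C => (γ : X → ℂ) c) (lam : C → ℂ) with he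
      have hlam1 : (lam : C → ℂ) 1 = 1 := by
        obtain ⟨d, ρ, hρ, hρc⟩ := lam.2
        have : IsMulCommutative C := ⟨⟨fun a b => Subtype.ext (hcomm a a.2 b b.2)⟩⟩
        rw [← hρc, Representation.char_one,
          Representation.IsIrreducible.finrank_eq_one_of_isMulCommutative ρ, Nat.cast_one]
      have he1 : (γ : X → ℂ) 1 = e := by
        have := congrFun hres 1
        rw [Pi.smul_apply, smul_eq_mul, hlam1, mul_one] at this
        exact this
      obtain ⟨d, σ, hσ, hσc⟩ := γ.2
      have hd0 : (γ : X → ℂ) 1 ≠ 0 := irr_one_ne_zero γ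
      have hZ1 : ∀ z ∈ Z, (γ : X → ℂ) z = (γ : X → ℂ) 1 := by
        intro z hz
        obtain ⟨c, hc⟩ := CfsgLib.CharScalar.center_scalar σ (hZc hz)
        have hmul : ∀ x, σ.character (z * x) = c * σ.character x := fun x => by
          show LinearMap.trace ℂ _ (σ (z * x)) = _
          rw [map_mul, hc, smul_mul_assoc, one_mul, map_smul, smul_eq_mul]
          rfl
        have hz1 : σ.character z = c * σ.character 1 := by
          have := hmul 1
          rwa [mul_one] at this
        have hc1 : c = 1 := by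
          have hS : (∑ y : E, σ.character y) ≠ 0 := by
            intro h0
            apply hγE
            rw [Cfsg.classInner, ← hσc]
            simp [h0]
          have h := Equiv.sum_comp (Equiv.mulLeft (⟨z, Subgroup.mem_sup_right hz⟩ : E))
            (fun y : E => σ.character y)
          simp only [Equiv.coe_mulLeft, Subgroup.coe_mul, hmul, ← Finset.mul_sum] at h
          exact (mul_eq_right₀ hS).1 h
        rw [← hσc, hz1, hc1, one_mul]
      have hlamone : (lam : C → ℂ) = fun _ => 1 := by
        refine Cfsg.Agent.S0873.result p C (P : Subgroup X) P.2 hcop hCP _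
          ⟨irr_isCharacter lam, hlam1⟩ hinv fun c hc => ?_
        have h := congrFun hres c
        rw [Pi.smul_apply, smul_eq_mul, hZ1 c ⟨c.2, hc⟩, he1] at h
        have he0 : e ≠ 0 := he1 ▸ hd0
        exact mul_left_cancel₀ he0 (h.symm.trans (mul_one e).symm)
      have hC1 : ∀ c ∈ C, σ c = 1 := by
        intro c hc
        refine (char_eq_degree_iff σ c).1 ?_
        have h := congrFun hres ⟨c, hc⟩
        rw [hlamone, Pi.smul_apply, smul_eq_mul, mul_one, ← he1] at h
        rw [hσc, ← Representation.char_one σ, hσc]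
        exact h
      have hCx : ∀ c ∈ C, ∀ y, (γ : X → ℂ) (c * y) = (γ : X → ℂ) y := fun c hc y => by
        rw [← hσc]
        show LinearMap.trace ℂ _ (σ (c * y)) = LinearMap.trace ℂ _ (σ y)
        rw [map_mul, hC1 c hc, one_mul]
      have hCE : ∀ x : X, ∃ c ∈ C, ∃ y ∈ E, c * y = x := fun x => by
        have hx : x ∈ ((C ⊔ (P : Subgroup X) : Subgroup X) : Set X) := hCP ▸ Subgroup.mem_top x
        rw [Subgroup.normal_mul] at hx
        obtain ⟨c, hc, y, hy, rfl⟩ := hx
        exact ⟨c, hc, y, Subgroup.mem_sup_left hy, rfl⟩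
      have hinner : ∀ x : X, ∑ y : E, (γ : X → ℂ) (x * y) = ∑ y : E, (γ : X → ℂ) y := fun x => by
        obtain ⟨c, hc, y, hy, rfl⟩ := hCE x
        refine Fintype.sum_equiv (Equiv.mulLeft (⟨y, hy⟩ : E)) _ _ fun z => ?_
        rw [mul_assoc, hCx c hc]
        rfl
      have hsumX : (Nat.card E : ℂ) * ∑ x : X, (γ : X → ℂ) x =
          (Nat.card X : ℂ) * ∑ y : E, (γ : X → ℂ) y := by
        calc (Nat.card E : ℂ) * ∑ x : X, (γ : X → ℂ) x
            = ∑ y : E, ∑ x : X, (γ : X → ℂ) (x * y) := by
              symm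
              trans ∑ _y : E, ∑ x : X, (γ : X → ℂ) x
              · exact Finset.sum_congr rfl fun y _ =>
                  Equiv.sum_comp (Equiv.mulRight (y : X)) (fun x => (γ : X → ℂ) x)
              rw [Finset.sum_const, Finset.card_univ, nsmul_eq_mul, Nat.card_eq_fintype_card]
          _ = ∑ x : X, ∑ y : E, (γ : X → ℂ) (x * y) := Finset.sum_comm
          _ = _ := by
              rw [Finset.sum_congr rfl fun x _ => hinner x, Finset.sum_const, Finset.card_univ,
                nsmul_eq_mul, Nat.card_eq_fintype_card]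
      have hX0 : Cfsg.classInner (γ : X → ℂ) (ι : X → ℂ) = 0 :=
        classInner_irr_ne γ.2 ι.2 fun h => hγ (Subtype.ext h)
      apply hγE
      have hS : ∑ x : X, (γ : X → ℂ) x = 0 := by
        have h : (Nat.card X : ℂ)⁻¹ * ∑ x : X, (γ : X → ℂ) x = 0 := by
          rw [← hX0]
          simp [Cfsg.classInner, ι, principalIrr]
        exact (mul_eq_zero.1 h).resolve_left (inv_ne_zero (Nat.cast_ne_zero.2 Nat.card_pos.ne'))
      rw [hS, mul_zero, eq_comm, mul_eq_zero] at hsumX
      have hS' := hsumX.resolve_left (Nat.cast_ne_zero.2 Nat.card_pos.ne')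
      simp [Cfsg.classInner, hS']
    · have : Fintype T := Fintype.ofFinite _
      obtain ⟨ψ, hψ, hψind, -⟩ :=
        CfsgLib.Clifford.correspondence hCn lam.2 T hT hCT γ.2 hlam
      rw [← hψind]
      refine indSpan_ind T (char_mem_indSpan ?_ (isCharacter_of_irr hψ))
      refine IH (Nat.card T) ?_ T rfl (C.subgroupOf T) (hCn.subgroupOf T) ?_ ?_ ?_
      · rw [← hn]
        refine lt_of_le_of_ne (Subgroup.card_le_card_group _) ?_
        exact fun h => hTtop (Subgroup.card_eq_iff_eq_top T |>.1 h)
      · exact isCyclic_of_injective (Subgroup.subgroupOfEquivOfLe hCT).toMonoidHom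
          (Subgroup.subgroupOfEquivOfLe hCT).injective
      · rwa [Nat.card_congr (Subgroup.subgroupOfEquivOfLe hCT).toEquiv]
      · obtain ⟨j, -, hj⟩ := (Nat.dvd_prime_pow hp).1
          (hk ▸ Subgroup.relIndex_dvd_index_of_normal C T)
        exact ⟨j, hj⟩
  have hsub : (1 : X → ℂ) = Cfsg.indFun E (fun _ => (1 : ℂ)) -
      ∑ γ ∈ Finset.univ.erase ι, (m γ : ℂ) • (γ : X → ℂ) := by
    have hsplit := Finset.add_sum_erase Finset.univ
      (fun γ : Cfsg.IrrCharacter X => (m γ : ℂ) • (γ : X → ℂ)) (Finset.mem_univ ι)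
    conv_rhs => rw [hsum]
    rw [← hsplit, add_sub_cancel_right, hmι, Nat.cast_one, one_smul]
    rfl
  rw [hsub]
  refine sub_mem hmem (sum_mem fun γ hγ => ?_)
  by_cases h0 : m γ = 0
  · rw [h0, Nat.cast_zero, zero_smul]
    exact zero_mem _
  · exact natCast_smul_mem (hrest γ (Finset.ne_of_mem_erase hγ) h0) _

section Global

variable {G : Type u} [Group G] [Fintype G]

/-- Solomon's theorem, local form. -/
theorem solomon_local (p : ℕ) (hp : p.Prime) : ∃ (m : ℤ) (a : Subgroup G → ℤ),
    ¬ (p : ℤ) ∣ m ∧ (∀ H, a H ≠ 0 → IsQuasiElem p H) ∧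
      (fun _ : G => (m : ℂ)) = ∑ H : Subgroup G, (a H : ℂ) • Cfsg.indFun H (fun _ => 1) := by
  classical
  let π : Subgroup G → G → ℤ := fun H x => (fixCount (G ⧸ H) x : ℤ)
  let gens : Set (G → ℤ) := {f | ∃ H, IsQuasiElem p H ∧ f = π H} ∪ {fun _ => (p : ℤ)}
  let R : AddSubgroup (G → ℤ) := AddSubgroup.closure gens
  have hπmul : ∀ H K, IsQuasiElem p H → π H * π K ∈ R := by
    intro H K hH
    obtain ⟨a, ha, hprod⟩ := exists_mul_perm H K
    have e : π H * π K = ∑ U : Subgroup G, a U • π U := by
      funext x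
      have h := congrFun hprod x
      simp only [indFun_one_eq_fixCount, Pi.mul_apply, Finset.sum_apply, Pi.smul_apply,
        smul_eq_mul] at h
      simp only [π, Pi.mul_apply, Finset.sum_apply, nsmul_eq_mul, Pi.natCast_apply]
      exact_mod_cast h
    rw [e]
    refine sum_mem fun U _ => ?_
    by_cases hU : a U = 0
    · rw [hU, zero_smul]
      exact zero_mem _
    · refine nsmul_mem (show π U ∈ R from ?_) _
      exact AddSubgroup.subset_closure (Or.inl ⟨U, isQuasiElem_mono hp (ha U hU) hH, rfl⟩)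
  have hpmul : ∀ g ∈ R, (fun _ => (p : ℤ)) * g ∈ R := fun g hg => by
    have e : (fun _ => (p : ℤ)) * g = p • g := by funext x; simp
    rw [e]
    exact nsmul_mem hg p
  have hmul : ∀ f ∈ R, ∀ g ∈ R, f * g ∈ R := by
    intro f hf g hg
    induction hf using AddSubgroup.closure_induction with
    | mem f hf =>
      rcases hf with ⟨H, hH, rfl⟩ | rfl
      · induction hg using AddSubgroup.closure_induction with
        | mem g hg =>
          rcases hg with ⟨K, -, rfl⟩ | rfl
          · exact hπmul H K hH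
          · rw [mul_comm]
            exact hpmul _ (AddSubgroup.subset_closure (Or.inl ⟨H, hH, rfl⟩))
        | zero => rw [mul_zero]; exact zero_mem _
        | add b c _ _ hb hc => rw [mul_add]; exact add_mem hb hc
        | neg b _ hb => rw [mul_neg]; exact neg_mem hb
      · exact hpmul g hg
    | zero => rw [zero_mul]; exact zero_mem _
    | add b c _ _ hb hc => rw [add_mul]; exact add_mem hb hc
    | neg b _ hb => rw [neg_mul]; exact neg_mem hb
  have hone : (1 : G → ℤ) ∈ R := banaschewski R hmul fun x q hq => by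
    by_cases hqp : q = p
    · subst hqp
      obtain ⟨H, hH, hx⟩ := exists_quasiElem_fixCount x hq
      exact ⟨π H, AddSubgroup.subset_closure (Or.inl ⟨H, hH, rfl⟩),
        fun h => hx (Int.natCast_dvd_natCast.1 h)⟩
    · exact ⟨fun _ => (p : ℤ), AddSubgroup.subset_closure (Or.inr rfl),
        fun h => hqp ((Nat.prime_dvd_prime_iff_eq hq hp).1 (Int.natCast_dvd_natCast.1 h))⟩
  have hform : ∀ f ∈ R, ∃ (a : Subgroup G → ℤ) (j : ℤ), (∀ H, a H ≠ 0 → IsQuasiElem p H) ∧
      f = (∑ H : Subgroup G, a H • π H) + fun _ => j * p := by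
    intro f hf
    induction hf using AddSubgroup.closure_induction with
    | mem f hf =>
      rcases hf with ⟨H, hH, rfl⟩ | rfl
      · refine ⟨fun K => if K = H then 1 else 0, 0, fun K hK => ?_, ?_⟩
        · have : K = H := by simpa using hK
          exact this ▸ hH
        · funext x
          simp [ite_smul, apply_ite (fun v : G → ℤ => v x)]
      · refine ⟨fun _ => 0, 1, fun K hK => absurd rfl hK, ?_⟩
        funext x
        simp
    | zero => exact ⟨fun _ => 0, 0, fun K hK => absurd rfl hK, by funext x; simp⟩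
    | add b c _ _ hb hc =>
      obtain ⟨a, i, ha, rfl⟩ := hb
      obtain ⟨a', i', ha', rfl⟩ := hc
      refine ⟨a + a', i + i', fun K hK => ?_, ?_⟩
      · by_cases h : a K = 0
        · exact ha' K (by simpa [h] using hK)
        · exact ha K h
      · funext x
        simp [add_smul, Finset.sum_add_distrib]
        ring
    | neg b _ hb =>
      obtain ⟨a, i, ha, rfl⟩ := hb
      refine ⟨-a, -i, fun K hK => ha K (by simpa using hK), ?_⟩
      funext x
      simp [Finset.sum_neg_distrib]
      ring
  obtain ⟨a, j, ha, he⟩ := hform 1 hone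
  refine ⟨1 - j * p, a, fun h => ?_, ha, ?_⟩
  · have h1 : (p : ℤ) ∣ 1 := by simpa using h.add (dvd_mul_left (p : ℤ) j)
    exact hp.one_lt.ne' (Nat.dvd_one.1 (Int.natCast_dvd_natCast.1 h1))
  · funext x
    have h := congrFun he x
    simp only [Pi.one_apply, Pi.add_apply, Finset.sum_apply, Pi.smul_apply, smul_eq_mul, π] at h
    simp only [indFun_one_eq_fixCount, Finset.sum_apply, Pi.smul_apply, smul_eq_mul]
    have h' : (1 - j * p : ℤ) = ∑ H : Subgroup G, a H * (fixCount (G ⧸ H) x : ℤ) := by
      linear_combination h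
    exact_mod_cast h'

/-- Brauer induction, local form. -/
theorem brauer_local (p : ℕ) (hp : p.Prime) :
    ∃ m : ℤ, ¬ (p : ℤ) ∣ m ∧ (fun _ : G => (m : ℂ)) ∈ indSpan p G := by
  obtain ⟨m, a, hm, ha, he⟩ := solomon_local (G := G) p hp
  refine ⟨m, hm, ?_⟩
  rw [he]
  refine sum_mem fun H _ => ?_
  by_cases h0 : a H = 0
  · rw [h0, Int.cast_zero, zero_smul]
    exact zero_mem _
  · refine intCast_smul_mem ?_ _
    obtain ⟨C, hCH, hHN, hcyc, hcop, k, hk⟩ := ha H h0
    have : Fintype H := Fintype.ofFinite _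
    refine indSpan_ind H ?_
    exact one_mem_of_quasi hp (Nat.card H) H rfl (C.subgroupOf H)
      (Subgroup.normal_subgroupOf_of_le_normalizer hHN)
      (isCyclic_of_injective (Subgroup.subgroupOfEquivOfLe hCH).toMonoidHom
        (Subgroup.subgroupOfEquivOfLe hCH).injective)
      (by rwa [Nat.card_congr (Subgroup.subgroupOfEquivOfLe hCH).toEquiv]) ⟨k, hk⟩

/-- The additive group spanned by characters induced from elementary subgroups. -/
def elemSpan (G : Type u) [Group G] [Fintype G] : AddSubgroup (G → ℂ) :=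
  AddSubgroup.closure {F | ∃ (p : ℕ) (E : Subgroup G) (φ : E → ℂ),
    p.Prime ∧ Cfsg.IsElementary p E ∧ Cfsg.IsCharacter E φ ∧ F = Cfsg.indFun E φ}

/-- **Brauer's induction theorem**: `1` is an integral combination of characters induced from
elementary subgroups. -/
theorem one_mem_elemSpan : (1 : G → ℂ) ∈ elemSpan G := by
  let c : ℤ →+ (G → ℂ) :=
    { toFun := fun z => fun _ => (z : ℂ)
      map_zero' := by funext x; simp
      map_add' := fun a b => by funext x; simp }
  have hc1 : c 1 = (1 : G → ℂ) := by funext x; simp [c]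
  rw [← hc1]
  show (1 : ℤ) ∈ (elemSpan G).comap c
  obtain ⟨a, ha⟩ := Int.subgroup_cyclic ((elemSpan G).comap c)
  have hunit : a.natAbs = 1 := by
    by_contra hne
    obtain ⟨p, hp, hpd⟩ := Nat.exists_prime_and_dvd hne
    obtain ⟨m, hm, hmem⟩ := brauer_local (G := G) p hp
    have hle : indSpan p G ≤ elemSpan G := by
      refine AddSubgroup.closure_mono ?_
      rintro F ⟨E, φ, hE, hφ, rfl⟩
      exact ⟨p, E, φ, hp, hE, hφ, rfl⟩
    have : m ∈ AddSubgroup.closure ({a} : Set ℤ) := ha ▸ (show m ∈ (elemSpan G).comap c from hle hmem)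
    obtain ⟨d, rfl⟩ := AddSubgroup.mem_closure_singleton.1 this
    exact hm (dvd_mul_of_dvd_right (Int.natCast_dvd.2 hpd) d)
  rw [ha, AddSubgroup.mem_closure_singleton]
  rcases Int.natAbs_eq_iff.1 hunit with h | h <;>
    [exact ⟨1, by simp [h]⟩; exact ⟨-1, by simp [h]⟩]

/-- Reduction to elementary subgroups: an additive property of functions holds for a class
function as soon as it holds for everything induced from its products with characters of
elementary subgroups. -/
theorem mem_of_forall_elementary (S : AddSubgroup (G → ℂ)) {θ : G → ℂ}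
    (hθ : Cfsg.IsClassFunction G θ)
    (h : ∀ (p : ℕ) (E : Subgroup G) (φ : E → ℂ), p.Prime → Cfsg.IsElementary p E →
      Cfsg.IsCharacter E φ → Cfsg.indFun E (fun y => φ y * θ y) ∈ S) : θ ∈ S := by
  have key : ∀ F ∈ elemSpan G, F * θ ∈ S := by
    intro F hF
    induction hF using AddSubgroup.closure_induction with
    | mem F hF =>
      obtain ⟨p, E, φ, hp, hE, hφ, rfl⟩ := hF
      rw [CfsgLib.Induction.indFun_mul E hθ]
      exact h p E φ hp hE hφ
    | zero => rw [zero_mul]; exact zero_mem _
    | add b c _ _ hb hc => rw [add_mul]; exact add_mem hb hc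
    | neg b _ hb => rw [neg_mul]; exact neg_mem hb
  simpa using key 1 one_mem_elemSpan

theorem isGeneralizedCharacter_indFun (H : Subgroup G) {θ : H → ℂ}
    (h : Cfsg.IsGeneralizedCharacter H θ) : Cfsg.IsGeneralizedCharacter G (Cfsg.indFun H θ) := by
  obtain ⟨a, b, ha, hb, rfl⟩ := h
  exact ⟨_, _, CfsgLib.Induction.isCharacter_indFun H ha, CfsgLib.Induction.isCharacter_indFun H hb,
    CfsgLib.Induction.indFun_sub H a b⟩

/-- **Brauer's characterisation of generalised characters.** -/
theorem isGeneralizedCharacter_of_elementary {θ : G → ℂ} (hθ : Cfsg.IsClassFunction G θ)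
    (h : ∀ (p : ℕ) (E : Subgroup G), p.Prime → Cfsg.IsElementary p E →
      Cfsg.IsGeneralizedCharacter E (fun y : E => θ y)) : Cfsg.IsGeneralizedCharacter G θ := by
  let S : AddSubgroup (G → ℂ) :=
    { carrier := {F | Cfsg.IsGeneralizedCharacter G F}
      zero_mem' := isGeneralizedCharacter_zero
      add_mem' := fun ha hb => isGeneralizedCharacter_add ha hb
      neg_mem' := fun ha => isGeneralizedCharacter_neg ha }
  refine mem_of_forall_elementary S hθ fun p E φ hp hE hφ => ?_
  exact isGeneralizedCharacter_indFun E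
    (isGeneralizedCharacter_mul (isGeneralizedCharacter_of_isCharacter hφ) (h p E hp hE))

end Global

end CfsgLib.BrauerInd
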