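import Cfsg.Agent.Lib.Characters.NormalRes
import Cfsg.Agent.Lib.Characters.Values
import Cfsg.Agent.Lib.Blocks.BrauerMap
import Cfsg.Prelude.Def_Blocks
import Mathlib.RingTheory.Ideal.Quotient.Operations

/-!
# A `p`-group acting on a normal subgroup and on its characters

Counting modulo `p`: if `C_N(P) = 1` only the principal character of `N` is fixed by `P`,
and conversely.
-/

set_option autoImplicit false

namespace CfsgLib.InvariantOrbit

open Cfsg CfsgLib.Characters CfsgLib.BrauerPerm CfsgLib.NormalRes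
open scoped ComplexConjugate

variable {p : ℕ} [hp : Fact p.Prime]

/-- An invariant integral-valued sum only sees fixed points, modulo `p`. -/
theorem exists_sum_eq_fixed {P : Type*} [Group P] [Finite P] (hP : IsPGroup p P) {X : Type*}
    [Fintype X] [MulAction P X] (f : X → ℂ) (hint : ∀ x, IsIntegral ℤ (f x))
    (hf : ∀ (u : P) (x : X), f (u • x) = f x)
    [DecidablePred (· ∈ MulAction.fixedPoints P X)] :
    ∃ r : ℂ, IsIntegral ℤ r ∧ ∑ x, f x =
      ∑ x ∈ Finset.univ.filter (· ∈ MulAction.fixedPoints P X), f x + (p : ℂ) * r := by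
  set I : Ideal AlgInt := Ideal.span {(p : AlgInt)}
  let F : X → AlgInt := fun x => ⟨f x, hint x⟩
  have hA : ∀ a : AlgInt ⧸ I, p • a = 0 := fun a => by
    rw [nsmul_eq_mul, show (p : AlgInt ⧸ I) = Ideal.Quotient.mk I (p : AlgInt) from
      (map_natCast _ p).symm,
      Ideal.Quotient.eq_zero_iff_mem.2 (Ideal.mem_span_singleton_self _), zero_mul]
  have h := BlockAlg.sum_eq_sum_fixed hA hP (fun x => Ideal.Quotient.mk I (F x)) fun u x =>
    congrArg _ (Subtype.ext (hf u x))
  rw [← map_sum, ← map_sum, ← sub_eq_zero, ← map_sub, Ideal.Quotient.eq_zero_iff_mem,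
    Ideal.mem_span_singleton'] at h
  obtain ⟨r, hr⟩ := h
  refine ⟨r, r.2, ?_⟩
  have h2 := congrArg Subtype.val hr
  simp only [F] at h2
  push_cast at h2
  rw [mul_comm] at h2
  rw [h2]
  ring

theorem isIntegral_natCast_complex (m : ℕ) : IsIntegral ℤ (m : ℂ) := by
  simpa using isIntegral_algebraMap (R := ℤ) (A := ℂ) (x := (m : ℤ))

theorem dvd_of_cast_eq {d : ℕ} {r : ℂ} (hr : IsIntegral ℤ r) (h : (d : ℂ) = (p : ℂ) * r) :
    p ∣ d :=
  nat_dvd_of_isIntegral_div hp.out.ne_zero
    (by rw [h, mul_div_cancel_left₀ _ (Nat.cast_ne_zero.2 hp.out.ne_zero)]; exact hr)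

universe u
variable {G : Type u} [Group G] {N : Subgroup G} [N.Normal]

/-- `θ` is fixed under conjugation by `P`. -/
def Fixed (N : Subgroup G) [N.Normal] (P : Subgroup G) (θ : N → ℂ) : Prop :=
  ∀ u ∈ P, ∀ n : N, θ ⟨u * n * u⁻¹, (inferInstance : N.Normal).conj_mem (n : G) n.2 u⟩ = θ n

section Action

variable (N) (P : Subgroup G)

/-- The action of `P` on the characters of `N`. -/
@[reducible] noncomputable def irrAction : MulAction P (IrrCharacter N) where
  smul u θ := twistIrr (MulAut.conjNormal (u : G)) θ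
  one_smul θ := twist_of_mem N (g := ((1 : P) : G)) N.one_mem θ
  mul_smul u v θ := (twist_twist N (u : G) v θ).symm

theorem fixed_of_mem_fixedPoints (θ : IrrCharacter N)
    (h : θ ∈ @MulAction.fixedPoints P (IrrCharacter N) _ (irrAction N P)) :
    Fixed N P (θ : N → ℂ) := fun u hu n =>
  (twist_eq_iff N u θ θ).1 (h ⟨u, hu⟩) n _ rfl

end Action

variable [Finite G] {P : Subgroup G}

/-- With trivial fixed points `N` has order prime to `p`. -/
theorem not_dvd_card_of_centralizer (hP : IsPGroup p P)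
    (hC : N ⊓ Subgroup.centralizer (P : Set G) = ⊥) : ¬ p ∣ Nat.card N := by
  let _ : MulAction P N := MulAction.compHom N ((MulAut.conjNormal (H := N)).comp P.subtype)
  have h := hP.card_modEq_card_fixedPoints N
  have hfix : ∀ n : N, n ∈ MulAction.fixedPoints P N → n = 1 := by
    intro n hn
    refine Subtype.ext (Subgroup.mem_bot.1 (hC ▸ ⟨n.2, Subgroup.mem_centralizer_iff.2 fun u hu => ?_⟩))
    have h1 := congrArg Subtype.val (hn ⟨u, hu⟩)
    have h2 : u * (n : G) * u⁻¹ = n := h1
    exact mul_inv_eq_iff_eq_mul.1 h2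
  have hone : Nat.card (MulAction.fixedPoints P N) = 1 := by
    refine Nat.card_eq_one_iff_unique.2 ⟨⟨fun a b => Subtype.ext ?_⟩, ⟨⟨1, fun u => ?_⟩⟩⟩
    · rw [hfix a a.2, hfix b b.2]
    · show MulAut.conjNormal (u : G) (1 : N) = 1
      exact map_one _
  rw [hone] at h
  intro hd
  have h2 : 0 % p = 1 % p := (Nat.modEq_zero_iff_dvd.2 hd).symm.trans h
  rw [Nat.zero_mod, Nat.one_mod_eq_one.2 hp.out.ne_one] at h2
  exact zero_ne_one h2

/-- If `C_N(P) = 1`, only the principal character of `N` is fixed by `P`. -/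
theorem eq_one_of_fixed (hP : IsPGroup p P) (hC : N ⊓ Subgroup.centralizer (P : Set G) = ⊥)
    (θ : IrrCharacter N) (hθ : Fixed N P (θ : N → ℂ)) : (θ : N → ℂ) = fun _ => 1 := by
  classical
  by_contra hne
  have := Fintype.ofFinite N
  let _ : MulAction P N := MulAction.compHom N ((MulAut.conjNormal (H := N)).comp P.subtype)
  have hval : ∀ (u : P) (n : N), ((u • n : N) : G) = (u : G) * n * (u : G)⁻¹ := fun u n => rfl
  obtain ⟨r, hr, hsum⟩ := exists_sum_eq_fixed hP (fun n : N => (θ : N → ℂ) n)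
    (fun n => isIntegral_of_isCharacter (irr_isCharacter θ) n)
    (fun u n => by rw [show u • n = ⟨(u : G) * n * (u : G)⁻¹, _⟩ from Subtype.ext (hval u n)]; exact hθ u u.2 n)
  have hfix : Finset.univ.filter (· ∈ MulAction.fixedPoints P N) = {1} := by
    ext n
    simp only [Finset.mem_filter, Finset.mem_univ, true_and, Finset.mem_singleton]
    refine ⟨fun hn => Subtype.ext (Subgroup.mem_bot.1 (hC ▸ ⟨n.2,
      Subgroup.mem_centralizer_iff.2 fun u hu => ?_⟩)), ?_⟩
    · exact mul_inv_eq_iff_eq_mul.1 ((hval ⟨u, hu⟩ n).symm.trans (congrArg Subtype.val (hn ⟨u, hu⟩)))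
    · rintro rfl u
      exact Subtype.ext (by rw [hval]; simp)
  have h0 : ∑ n : N, (θ : N → ℂ) n = 0 := by
    have := classInner_irr_ne θ.2 (isIrrCharacter_one (G := N)) hne
    simpa [classInner] using this
  rw [h0, hfix, Finset.sum_singleton] at hsum
  obtain ⟨d, hd, -, hdvd⟩ := irr_degree_dvd_card θ
  rw [hd] at hsum
  refine not_dvd_card_of_centralizer hP hC ((dvd_of_cast_eq (d := d) hr.neg ?_).trans hdvd)
  linear_combination -hsum

/-- If only the principal character of `N` is fixed by `P`, then `C_N(P) = 1`. -/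
theorem centralizer_eq_bot_of_fixed (hP : IsPGroup p P)
    (h : ∀ θ : IrrCharacter N, Fixed N P (θ : N → ℂ) → (θ : N → ℂ) = fun _ => 1) :
    N ⊓ Subgroup.centralizer (P : Set G) = ⊥ := by
  classical
  rw [Subgroup.eq_bot_iff_forall]
  rintro c ⟨hcN, hc⟩
  by_contra hc1
  have := Fintype.ofFinite N
  letI := irrAction N P
  set c' : N := ⟨c, hcN⟩
  obtain ⟨r, hr, hsum⟩ := exists_sum_eq_fixed hP
    (fun θ : IrrCharacter N => (θ : N → ℂ) c' * conj ((θ : N → ℂ) 1))
    (fun θ => (isIntegral_of_isCharacter (irr_isCharacter θ) _).mul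
      (isIntegral_conj (isIntegral_of_isCharacter (irr_isCharacter θ) _)))
    (fun u θ => by
      show (twistIrr (MulAut.conjNormal (u : G)) θ : N → ℂ) c' *
        conj ((twistIrr (MulAut.conjNormal (u : G)) θ : N → ℂ) 1) = _
      rw [twist_apply_eq, twist_apply_eq]
      have e1 : ∀ h, (⟨(u : G)⁻¹ * (c' : G) * (u : G), h⟩ : N) = c' := fun _ => Subtype.ext (by
        show (u : G)⁻¹ * c * (u : G) = c
        rw [mul_assoc, ← Subgroup.mem_centralizer_iff.1 hc u u.2, inv_mul_cancel_left])
      have e2 : ∀ h, (⟨(u : G)⁻¹ * ((1 : N) : G) * (u : G), h⟩ : N) = 1 := fun _ =>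
        Subtype.ext (by simp)
      rw [e1, e2])
  have hfix : Finset.univ.filter (· ∈ MulAction.fixedPoints P (IrrCharacter N)) =
      {principalIrr N} := by
    ext θ
    simp only [Finset.mem_filter, Finset.mem_univ, true_and, Finset.mem_singleton]
    refine ⟨fun hθ => Subtype.ext (h θ (fixed_of_mem_fixedPoints N P θ hθ)), ?_⟩
    rintro rfl u
    exact Subtype.ext (funext fun n => rfl)
  rw [column_orth, hfix, Finset.sum_singleton, if_neg (fun hcon => hc1 ?_)] at hsum
  · simp only [principalIrr_apply, map_one, mul_one] at hsum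
    refine hp.out.not_dvd_one (dvd_of_cast_eq (d := 1) hr.neg ?_)
    push_cast
    linear_combination -hsum
  · exact congrArg Subtype.val (isConj_one_left.1 hcon)

/-- A character of degree prime to `p` has a constituent on `N` fixed by `P`. -/
theorem exists_fixed_constituent (hP : IsPGroup p P) (χ : IrrCharacter G) {d : ℕ}
    (hd : (χ : G → ℂ) 1 = d) (hpd : ¬ p ∣ d) [Fintype N] :
    ∃ θ : IrrCharacter N, mult N (χ : G → ℂ) θ ≠ 0 ∧ Fixed N P (θ : N → ℂ) := by
  classical
  letI := irrAction N P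
  obtain ⟨r, hr, hsum⟩ := exists_sum_eq_fixed hP
    (fun θ : IrrCharacter N => mult N (χ : G → ℂ) θ * (θ : N → ℂ) 1)
    (fun θ => by
      obtain ⟨m, hm⟩ := mult_nat N (irr_isCharacter χ) θ
      rw [hm]
      exact (isIntegral_natCast_complex m).mul (isIntegral_of_isCharacter (irr_isCharacter θ) _))
    (fun u θ => by
      show mult N _ (twistIrr (MulAut.conjNormal (u : G)) θ) *
        (twistIrr (MulAut.conjNormal (u : G)) θ : N → ℂ) 1 = _
      rw [mult_twist N _ (irr_isClassFunction χ), twist_apply_eq]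
      have e2 : ∀ h, (⟨(u : G)⁻¹ * ((1 : N) : G) * (u : G), h⟩ : N) = 1 := fun _ =>
        Subtype.ext (by simp)
      rw [e2])
  by_contra hcon
  push Not at hcon
  refine hpd (dvd_of_cast_eq hr ?_)
  rw [← hd]
  have := res_eq_sum N (irr_isClassFunction χ) 1
  rw [Subgroup.coe_one] at this
  rw [this, hsum, Finset.sum_eq_zero, zero_add]
  intro θ hθ
  rw [Finset.mem_filter] at hθ
  by_cases hm : mult N (χ : G → ℂ) θ = 0
  · rw [hm, zero_mul]
  · exact absurd (fixed_of_mem_fixedPoints N P θ hθ.2) (hcon θ hm)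

end CfsgLib.InvariantOrbit
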