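import Cfsg.Agent.Lib.Characters.LocalBrauer
import Cfsg.Agent.Lib.Characters.NormalAvg

/-!
# Section functions

For coprime `m`, `n` with `|G| = m n`, the function equal to `n` on the elements whose part of
order dividing `n` lies in a given class has algebraic integer coefficients in the irreducible
characters.
-/

set_option autoImplicit false

noncomputable section

namespace CfsgLib.ElemSection

open scoped ComplexConjugate
open CfsgLib.Characters

universe u

section Elementary

variable {E : Type u} [Group E] [Finite E]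

/-- In an elementary group the elements of order prime to a given number form a subgroup. -/
theorem exists_coprime_subgroup {p : ℕ} (hp : p.Prime) (hE : Cfsg.IsElementary p E) (n : ℕ) :
    ∃ U : Subgroup E, U.Normal ∧ ∀ y, y ∈ U ↔ Nat.Coprime (orderOf y) n := by
  have hfact : Fact p.Prime := ⟨hp⟩
  obtain ⟨x, hx, hcop, k, hk⟩ := hE
  set Z := Subgroup.zpowers x with hZ
  have hZc : Z ≤ Subgroup.center E := Subgroup.zpowers_le.2 hx
  have hZn : Z.Normal := ⟨fun z hz g => by
    rw [Subgroup.mem_center_iff.1 (hZc hz) g, mul_inv_cancel_right]; exact hz⟩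
  have hcent : ∀ z ∈ Z, ∀ y : E, z * y = y * z :=
    fun z hz y => (Subgroup.mem_center_iff.1 (hZc hz) y).symm
  -- p'-elements lie in Z
  have hp' : ∀ y : E, Nat.Coprime p (orderOf y) → y ∈ Z := fun y hy =>
    PermChar.mem_of_coprime_of_pow_mem (hk ▸ Z.pow_index_mem y) (hy.pow_left k)
  let P : Sylow p E := default
  have hZP : Z ⊔ (P : Subgroup E) = ⊤ := by
    rw [← Subgroup.index_eq_one]
    have h1 : (Z ⊔ (P : Subgroup E)).index ∣ p ^ k := hk ▸ Subgroup.index_dvd_of_le le_sup_left
    have h2 := Subgroup.index_dvd_of_le (le_sup_right : (P : Subgroup E) ≤ Z ⊔ P)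
    obtain ⟨j, -, hj⟩ := (Nat.dvd_prime_pow hp).1 h1
    rcases j with _ | j
    · simpa using hj
    · exact absurd ((hj ▸ dvd_pow_self p (Nat.succ_ne_zero j)).trans h2) P.not_dvd_index
  have hPn : (P : Subgroup E).Normal := by
    rw [← Subgroup.normalizer_eq_top_iff, eq_top_iff, ← hZP]
    refine sup_le ?_ Subgroup.le_normalizer
    intro z hz
    rw [Subgroup.mem_normalizer_iff]
    intro y
    rw [hcent z hz y, mul_inv_cancel_right]
  -- p-elements lie in P
  have hpel : ∀ y : E, (∃ a, orderOf y ∣ p ^ a) → y ∈ (P : Subgroup E) := by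
    rintro y ⟨a, ha⟩
    obtain ⟨b, -, hb⟩ := (Nat.dvd_prime_pow hp).1 ha
    obtain ⟨Q, hQ⟩ := (IsPGroup.of_card (G := Subgroup.zpowers y) (by
      rw [Nat.card_zpowers]; exact hb)).exists_le_sylow
    have : Q = P := by
      have := Sylow.unique_of_normal P hPn
      exact this.uniq Q |>.trans (this.uniq P).symm
    exact this ▸ hQ (Subgroup.mem_zpowers y)
  have hclosed : ∀ y z : E, Nat.Coprime (orderOf y) n → Nat.Coprime (orderOf z) n →
      Nat.Coprime (orderOf (y * z)) n := by
    intro y z hy hz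
    obtain ⟨s, c, hyd, hsc, hs, hc, hspow, hcp⟩ := PermChar.exists_p_decomp hp y
    obtain ⟨t, e, hzd, hte, ht, he, htpow, hep⟩ := PermChar.exists_p_decomp hp z
    have hdvd : ∀ {a b : E}, b ∈ Subgroup.zpowers a → orderOf b ∣ orderOf a := fun h => by
      obtain ⟨i, rfl⟩ := h
      exact orderOf_dvd_of_pow_eq_one (by
        rw [← zpow_natCast, ← zpow_mul, mul_comm, zpow_mul, zpow_natCast, pow_orderOf_eq_one,
          one_zpow])
    have hcZ : c ∈ Z := hp' c hcp.symm
    have heZ : e ∈ Z := hp' e hep.symm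
    have hst : s * t ∈ (P : Subgroup E) := mul_mem (hpel s hspow) (hpel t htpow)
    have hrw : y * z = (s * t) * (c * e) := by
      rw [hyd, hzd, mul_assoc, mul_assoc, ← mul_assoc c, hcent c hcZ t, mul_assoc]
    have hcomm : Commute (s * t) (c * e) :=
      (Subgroup.mem_center_iff.1 (hZc (Z.mul_mem hcZ heZ)) (s * t) :)
    rw [hrw]
    refine Nat.Coprime.coprime_dvd_left hcomm.orderOf_mul_dvd_mul_orderOf (Nat.Coprime.mul_left ?_ ?_)
    · by_cases hpn : p ∣ n
      · have hs1 : ∀ {w a : E}, w ∈ Subgroup.zpowers a → (∃ i, orderOf w ∣ p ^ i) →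
            Nat.Coprime (orderOf a) n → w = 1 := by
          intro w a hw ⟨i, hi⟩ ha
          refine orderOf_eq_one_iff.1 (Nat.eq_one_of_dvd_coprimes ?_ dvd_rfl hi)
          exact ((Nat.Coprime.coprime_dvd_left (hdvd hw) ha).coprime_dvd_right hpn).pow_right i
        rw [hs1 hs hspow hy, hs1 ht htpow hz, one_mul, orderOf_one]
        exact Nat.coprime_one_left n
      · obtain ⟨b, hb⟩ := P.2.exists_card_eq
        refine Nat.Coprime.coprime_dvd_left
          (hb ▸ Subgroup.orderOf_dvd_natCard (P : Subgroup E) hst) ?_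
        exact ((hp.coprime_iff_not_dvd).2 hpn).pow_left b
    · refine Nat.Coprime.coprime_dvd_left (Commute.orderOf_mul_dvd_mul_orderOf (hcent c hcZ e :))
        (Nat.Coprime.mul_left ?_ ?_)
      · exact hy.coprime_dvd_left (hdvd hc)
      · exact hz.coprime_dvd_left (hdvd he)
  let U : Subgroup E :=
    { carrier := {y | Nat.Coprime (orderOf y) n}
      mul_mem' := fun {a b} ha hb => hclosed a b ha hb
      one_mem' := by simp
      inv_mem' := fun {a} ha => by simpa using ha }
  refine ⟨U, ⟨fun y hy g => ?_⟩, fun y => Iff.rfl⟩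
  have e : orderOf (g * y * g⁻¹) = orderOf y :=
    orderOf_injective (MulAut.conj g).toMonoidHom (MulAut.conj g).injective y
  show Nat.Coprime (orderOf (g * y * g⁻¹)) n
  rw [e]
  exact hy

end Elementary

variable {G : Type u} [Group G] [Fintype G]

/-- The section of `g`: the elements whose commuting coprime part is conjugate to `g`. -/
def InSection (m n : ℕ) (g x : G) : Prop :=
  ∃ v : G, IsConj v g ∧ ∃ u : G, x = u * v ∧ Commute u v ∧ Nat.Coprime (orderOf u) n ∧
    Nat.Coprime (orderOf v) m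

omit [Fintype G] in
theorem inSection_conj {m n : ℕ} {g x : G} (h : InSection m n g x) (a : G) :
    InSection m n g (a * x * a⁻¹) := by
  obtain ⟨v, hv, u, rfl, hc, hu, hv'⟩ := h
  have ho : ∀ y : G, orderOf (a * y * a⁻¹) = orderOf y :=
    fun y => orderOf_injective (MulAut.conj a).toMonoidHom (MulAut.conj a).injective y
  refine ⟨a * v * a⁻¹, ((isConj_iff.2 ⟨a, rfl⟩ : IsConj v (a * v * a⁻¹)).symm).trans hv,
    a * u * a⁻¹, conj_mul.symm, ?_, ?_, ?_⟩
  · show _ = _
    rw [conj_mul, conj_mul, hc.eq]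
  · rwa [ho]
  · rwa [ho]

theorem split_eq {m n : ℕ} (hmn : Nat.card G = m * n) (hcop : Nat.Coprime m n) {u v u' v' : G}
    (h : u * v = u' * v') (hc : Commute u v) (hc' : Commute u' v')
    (hu : Nat.Coprime (orderOf u) n) (hv : Nat.Coprime (orderOf v) m)
    (hu' : Nat.Coprime (orderOf u') n) (hv' : Nat.Coprime (orderOf v') m) : v = v' := by
  have hu1 : ∀ w : G, Nat.Coprime (orderOf w) n → w ^ m = 1 := fun w hw =>
    orderOf_dvd_iff_pow_eq_one.1 (hw.dvd_of_dvd_mul_right (hmn ▸ orderOf_dvd_natCard w))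
  have hv1 : ∀ w : G, Nat.Coprime (orderOf w) m → w ^ n = 1 := fun w hw =>
    orderOf_dvd_iff_pow_eq_one.1 (hw.dvd_of_dvd_mul_left (hmn ▸ orderOf_dvd_natCard w))
  have h1 : v ^ m = v' ^ m := by
    have := congrArg (· ^ m) h
    simp only [hc.mul_pow, hc'.mul_pow, hu1 u hu, hu1 u' hu', one_mul] at this
    exact this
  obtain ⟨a, b, hab⟩ : IsCoprime (m : ℤ) (n : ℤ) := Nat.isCoprime_iff_coprime.2 hcop
  have e : ∀ w : G, w ^ n = 1 → w = (w ^ m) ^ a := fun w hw => by
    rw [← zpow_natCast w m, ← zpow_mul, mul_comm, eq_sub_of_add_eq hab, zpow_sub, zpow_one,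
      mul_comm b, zpow_mul, zpow_natCast, hw, one_zpow, inv_one, mul_one]
  rw [e v (hv1 v hv), e v' (hv1 v' hv'), h1]

theorem index_dvd_of_coprimes {m n : ℕ} (hmn : Nat.card G = m * n) (hcop : Nat.Coprime m n)
    {E : Subgroup G} (U : Subgroup E) (hU : ∀ y : E, y ∈ U ↔ Nat.Coprime (orderOf y) n) :
    U.index ∣ n := by
  classical
  have h1 : U.index ∣ m * n :=
    hmn ▸ (Subgroup.index_dvd_card U).trans (Subgroup.card_subgroup_dvd_card E)
  refine Nat.Coprime.dvd_of_dvd_mul_left ?_ h1
  refine Nat.coprime_of_dvd fun q hq hqU hqm => ?_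
  have hfact : Fact q.Prime := ⟨hq⟩
  let Q : Sylow q E := default
  have hQU : (Q : Subgroup E) ≤ U := fun y hy => by
    rw [hU]
    obtain ⟨b, hb⟩ := Q.2.exists_card_eq
    refine Nat.Coprime.coprime_dvd_left (hb ▸ Subgroup.orderOf_dvd_natCard (Q : Subgroup E) hy) ?_
    exact (Nat.Coprime.coprime_dvd_left hqm hcop).pow_left b
  exact Q.not_dvd_index (hqU.trans (Subgroup.index_dvd_of_le hQU))

theorem isIntegral_classInner_section {m n : ℕ} (hmn : Nat.card G = m * n)
    (hcop : Nat.Coprime m n) (g : G) {ϑ : G → ℂ} (h1 : ∀ x, InSection m n g x → ϑ x = n)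
    (h0 : ∀ x, ¬ InSection m n g x → ϑ x = 0) :
    Cfsg.IsClassFunction G ϑ ∧
      ∀ χ : Cfsg.IrrCharacter G, IsIntegral ℤ (Cfsg.classInner ϑ (χ : G → ℂ)) := by
  classical
  have hcf : Cfsg.IsClassFunction G ϑ := by
    intro x a
    by_cases h : InSection m n g x
    · rw [h1 x h, h1 _ (inSection_conj h a)]
    · rw [h0 x h, h0 _ fun h' => h ?_]
      have := inSection_conj h' a⁻¹
      simpa [mul_assoc] using this
  refine ⟨hcf, fun χ => ?_⟩
  let S : AddSubgroup (G → ℂ) :=
    { carrier := {F | IsIntegral ℤ (Cfsg.classInner F (χ : G → ℂ))}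
      zero_mem' := by simp [Cfsg.classInner, isIntegral_zero]
      add_mem' := fun {a b} ha hb => by
        show IsIntegral ℤ (Cfsg.classInner (a + b) (χ : G → ℂ))
        rw [classInner_add_left]
        exact ha.add hb
      neg_mem' := fun {a} ha => by
        show IsIntegral ℤ (Cfsg.classInner (-a) (χ : G → ℂ))
        rw [classInner_neg_left]
        exact ha.neg }
  refine BrauerInd.mem_of_forall_elementary S hcf fun p E φ hp hE hφ => ?_
  show IsIntegral ℤ (Cfsg.classInner _ _)
  rw [CfsgLib.Induction.classInner_indFun E _ (irr_isClassFunction χ)]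
  obtain ⟨U, hUn, hU⟩ := exists_coprime_subgroup hp hE n
  obtain ⟨V, hVn, hV⟩ := exists_coprime_subgroup hp hE m
  have : Fintype U := Fintype.ofFinite _
  let F : E → ℂ := fun y => φ y * conj ((χ : G → ℂ) y)
  have hF : Cfsg.IsCharacter E F :=
    isCharacter_mul hφ (isCharacter_conj (CfsgLib.Clifford.isCharacter_subtype (irr_isCharacter χ) E))
  let W : Finset E := Finset.univ.filter fun v => v ∈ V ∧ IsConj (v : G) g
  have hord : ∀ y : E, orderOf (y : G) = orderOf y :=
    fun y => orderOf_injective E.subtype E.subtype_injective y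
  have hϑE : ∀ y : E, ϑ y = ∑ v ∈ W, if y * v⁻¹ ∈ U then (n : ℂ) else 0 := by
    intro y
    have hUV : ∀ (v : E), v ∈ V → y * v⁻¹ ∈ U → InSection m n g y →
        ∀ v' : E, v' ∈ V → y * v'⁻¹ ∈ U → v = v' := by
      intro v hv hu _ v' hv' hu'
      have hc : ∀ a b : E, a ∈ V → b ∈ U → Commute b a := fun a b ha hb => by
        refine (Subgroup.commute_of_normal_of_disjoint U V hUn hVn ?_ b a hb ha)
        rw [Subgroup.disjoint_def]
        intro z hz hz'
        refine orderOf_eq_one_iff.1 (Nat.eq_one_of_dvd_coprimes hcop ?_ ?_)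
        · exact ((hU z).1 hz).dvd_of_dvd_mul_right
            (hmn ▸ (hord z ▸ orderOf_dvd_natCard (z : G)))
        · exact ((hV z).1 hz').dvd_of_dvd_mul_left
            (hmn ▸ (hord z ▸ orderOf_dvd_natCard (z : G)))
      have key := split_eq hmn hcop (u := ((y * v⁻¹ : E) : G)) (v := (v : G))
        (u' := ((y * v'⁻¹ : E) : G)) (v' := (v' : G)) (by simp)
        ((hc v _ hv hu).map E.subtype) ((hc v' _ hv' hu').map E.subtype)
        (by rw [hord]; exact (hU _).1 hu) (by rw [hord]; exact (hV _).1 hv)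
        (by rw [hord]; exact (hU _).1 hu') (by rw [hord]; exact (hV _).1 hv')
      exact Subtype.ext key
    by_cases h : InSection m n g y
    · obtain ⟨v, hvg, u, hyuv, hc, hu, hv⟩ := id h
      have hvE : v ∈ E := by
        have hum : u ^ m = 1 :=
          orderOf_dvd_iff_pow_eq_one.1 (hu.dvd_of_dvd_mul_right (hmn ▸ orderOf_dvd_natCard u))
        have hpow : v ^ m ∈ E := by
          have := E.pow_mem y.2 m
          rwa [hyuv, hc.mul_pow, hum, one_mul] at this
        exact PermChar.mem_of_coprime_of_pow_mem hpow hv.symm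
      let vE : E := ⟨v, hvE⟩
      have huU : y * vE⁻¹ ∈ U := by
        rw [hU, ← hord]
        show Nat.Coprime (orderOf ((y : G) * v⁻¹)) n
        rwa [hyuv, mul_inv_cancel_right]
      have hvW : vE ∈ V := by
        rw [hV, ← hord]
        exact hv
      rw [h1 _ h, Finset.sum_eq_single vE, if_pos huU]
      · intro v' hv' hne
        rw [if_neg]
        exact fun hu' => hne (hUV v' (Finset.mem_filter.1 hv').2.1 hu' h vE hvW huU)
      · exact fun hnot => absurd (Finset.mem_filter.2 ⟨Finset.mem_univ _, hvW, hvg⟩) hnot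
    · rw [h0 _ h, Finset.sum_eq_zero fun v hv => ?_]
      rw [if_neg]
      intro hu
      obtain ⟨hvV, hvg⟩ := (Finset.mem_filter.1 hv).2
      refine h ⟨(v : G), hvg, ((y * v⁻¹ : E) : G), by simp, ?_, ?_, ?_⟩
      · show Commute (E.subtype (y * v⁻¹)) (E.subtype v)
        refine Commute.map ?_ E.subtype
        refine (Subgroup.commute_of_normal_of_disjoint U V hUn hVn ?_ _ v hu hvV)
        rw [Subgroup.disjoint_def]
        intro z hz hz'
        refine orderOf_eq_one_iff.1 (Nat.eq_one_of_dvd_coprimes hcop ?_ ?_)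
        · exact ((hU z).1 hz).dvd_of_dvd_mul_right
            (hmn ▸ (hord z ▸ orderOf_dvd_natCard (z : G)))
        · exact ((hV z).1 hz').dvd_of_dvd_mul_left
            (hmn ▸ (hord z ▸ orderOf_dvd_natCard (z : G)))
      · rw [hord]; exact (hU _).1 hu
      · rw [hord]; exact (hV _).1 hvV
  obtain ⟨c, hc⟩ := index_dvd_of_coprimes hmn hcop U hU
  have heq : Cfsg.classInner (fun y : E => φ y * ϑ y) (fun y : E => (χ : G → ℂ) y) =
      (c : ℂ) * ∑ v ∈ W, NormalAvg.avgN U F v := by
    unfold Cfsg.classInner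
    have e1 : ∑ y : E, φ y * ϑ y * conj ((χ : G → ℂ) y) =
        ∑ v ∈ W, (n : ℂ) * ∑ u : U, F ((u : E) * v) := by
      rw [Finset.sum_congr rfl fun y _ => show φ y * ϑ y * conj ((χ : G → ℂ) y) =
        ∑ v ∈ W, (if y * v⁻¹ ∈ U then (n : ℂ) * F y else 0) by
          rw [hϑE y, mul_right_comm, Finset.mul_sum]
          exact Finset.sum_congr rfl fun v _ => by split_ifs <;> simp [F]; ring]
      rw [Finset.sum_comm]
      refine Finset.sum_congr rfl fun v _ => ?_
      rw [← Equiv.sum_comp (Equiv.mulRight v), Finset.mul_sum]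
      simp only [Equiv.coe_mulRight, mul_inv_cancel_right]
      rw [← Finset.sum_filter]
      exact Finset.sum_subtype (Finset.univ.filter fun y => y ∈ U) (fun y => by simp) _
    rw [e1, Finset.mul_sum, Finset.mul_sum]
    refine Finset.sum_congr rfl fun v _ => ?_
    rw [NormalAvg.avgN, ← U.card_mul_index, hc, Nat.cast_mul, Nat.cast_mul]
    have h1 : (Nat.card U : ℂ) ≠ 0 := Nat.cast_ne_zero.2 Nat.card_pos.ne'
    have h2 : (U.index : ℂ) ≠ 0 := Nat.cast_ne_zero.2 Subgroup.index_ne_zero_of_finite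
    field_simp
  rw [heq]
  exact (isIntegral_algebraMap (x := (c : ℤ))).mul (IsIntegral.sum _ fun v _ =>
    isIntegral_of_isCharacter (NormalAvg.isCharacter_avgN U hF) v)

end CfsgLib.ElemSection
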