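import Cfsg.Agent.Lib.Characters.Ramified
import Cfsg.Agent.Lib.Characters.LinearTwist
import Cfsg.Agent.Lib.Characters.LinearExt
import Cfsg.Agent.Lib.Characters.Counting

/-!
# Going down across an abelian chief factor
-/

set_option autoImplicit false

noncomputable section

namespace CfsgLib.GoingDown

open CfsgLib.Characters CfsgLib.Clifford

universe u

section Count

variable {X : Type u} [Group X] [Finite X]

/-- Linear characters trivial on a normal subgroup with abelian quotient. -/
theorem card_homs_trivial (L : Subgroup X) [hL : L.Normal] (hab : commutator X ≤ L) :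
    Nat.card {f : X →* ℂˣ // ∀ l ∈ L, f l = 1} = L.index := by
  letI : CommGroup (X ⧸ L) :=
    { (inferInstance : Group (X ⧸ L)) with
      mul_comm := fun a b => by
        refine QuotientGroup.induction_on a fun x => QuotientGroup.induction_on b fun y => ?_
        show (QuotientGroup.mk (x * y) : X ⧸ L) = QuotientGroup.mk (y * x)
        refine QuotientGroup.eq.2 (hab ?_)
        have := Subgroup.commutator_mem_commutator (Subgroup.mem_top y⁻¹) (Subgroup.mem_top x⁻¹)
        rw [commutatorElement_def, ← commutator_def] at this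
        simpa [mul_assoc] using this }
  let e : (X ⧸ L →* ℂˣ) ≃ {f : X →* ℂˣ // ∀ l ∈ L, f l = 1} :=
    { toFun := fun g => ⟨g.comp (QuotientGroup.mk' L), fun l hl => by
        show g (QuotientGroup.mk l) = 1
        rw [(QuotientGroup.eq_one_iff l).2 hl, map_one]⟩
      invFun := fun f => QuotientGroup.lift L f.1 fun l hl => MonoidHom.mem_ker.2 (f.2 l hl)
      left_inv := fun g => QuotientGroup.monoidHom_ext _ rfl
      right_inv := fun f => Subtype.ext (MonoidHom.ext fun x => rfl) }
  rw [← Nat.card_congr e, Subgroup.index_eq_card]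
  have : NeZero (Monoid.exponent (X ⧸ L) : ℂ) :=
    ⟨Nat.cast_ne_zero.mpr Monoid.exponent_ne_zero_of_finite⟩
  exact CommGroup.card_monoidHom_of_hasEnoughRootsOfUnity (X ⧸ L) ℂ

variable [Fintype X] (L : Subgroup X) [hL : L.Normal] [Fintype L]

/-- If no nontrivial linear character of an abelian quotient fixes `θ`, its restriction to an
invariant constituent is irreducible. -/
theorem mult_one_of_twists (hab : commutator X ≤ L) {θ : X → ℂ} (hθ : Cfsg.IsIrrCharacter X θ)
    {φ : L → ℂ} (hφ : Cfsg.IsIrrCharacter L φ) (e : ℕ) (he : e ≠ 0)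
    (hres : (fun l : L => θ l) = (e : ℂ) • φ)
    (htw : ∀ f : X →* ℂˣ, (∀ l ∈ L, f l = 1) → (∀ x, θ x * (f x : ℂ) = θ x) → f = 1) : e = 1 := by
  classical
  have := Fintype.ofFinite {f : X →* ℂˣ // ∀ l ∈ L, f l = 1}
  let Φ : {f : X →* ℂˣ // ∀ l ∈ L, f l = 1} → Cfsg.IrrCharacter X := fun f =>
    ⟨fun x => θ x * (f.1 x : ℂ), CfsgLib.LinearTwist.isIrr_mul_hom hθ f.1⟩
  have hinj : Function.Injective Φ := by
    intro f g h
    have h1 := htw (f.1 * g.1⁻¹) (fun l hl => by
      rw [MonoidHom.mul_apply, MonoidHom.inv_apply, f.2 l hl, g.2 l hl, inv_one, mul_one]) fun x => by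
      have hx := congrFun (congrArg Subtype.val h) x
      simp only [Φ] at hx
      rw [MonoidHom.mul_apply, MonoidHom.inv_apply, Units.val_mul, ← mul_assoc, hx, mul_assoc,
        Units.mul_inv, mul_one]
    exact Subtype.ext (mul_inv_eq_one.1 h1)
  have hI := CfsgLib.Induction.isCharacter_indFun L (isCharacter_of_irr hφ)
  obtain ⟨m, hm, hsum⟩ := exists_mult hI
  have hmf : ∀ f, m (Φ f) = e := by
    intro f
    refine Nat.cast_injective (R := ℂ) ?_
    rw [← hm, CfsgLib.Induction.classInner_indFun L φ (irr_isClassFunction _)]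
    have e1 : (fun l : L => (Φ f : X → ℂ) l) = (e : ℂ) • φ := by
      rw [← hres]
      funext l
      simp [Φ, f.2 (l : X) l.2]
    rw [e1, classInner_smul_right, classInner_irr_self hφ, Complex.conj_natCast, mul_one]
  obtain ⟨d, hd0, hd⟩ := irr_exists_degree hφ
  have hθ1 : θ 1 = ((e * d : ℕ) : ℂ) := by
    have := congrFun hres 1
    simp only [OneMemClass.coe_one, Pi.smul_apply, smul_eq_mul] at this
    rw [this, hd, Nat.cast_mul]
  have hdeg : ∀ ξ : Cfsg.IrrCharacter X, ∃ k : ℕ, (ξ : X → ℂ) 1 = k :=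
    fun ξ => exists_degree (irr_isCharacter ξ)
  choose k hk using hdeg
  have htot : L.index * d = ∑ ξ : Cfsg.IrrCharacter X, m ξ * k ξ := by
    have h := congrFun hsum 1
    rw [CfsgLib.Induction.indFun_one_apply, hd, Finset.sum_apply] at h
    simp only [Pi.smul_apply, smul_eq_mul, hk] at h
    exact_mod_cast h
  have hkΦ : ∀ f, k (Φ f) = e * d := fun f => by
    have h := hk (Φ f)
    simp only [Φ, map_one, Units.val_one, mul_one, hθ1] at h
    exact_mod_cast h.symm
  have hle : L.index * (e * (e * d)) ≤ L.index * d := by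
    rw [htot]
    refine le_trans (le_of_eq ?_) (Finset.sum_le_sum_of_subset (Finset.subset_univ
      (Finset.univ.map ⟨Φ, hinj⟩)))
    rw [Finset.sum_map, Finset.sum_congr rfl (g := fun _ => e * (e * d))
      (fun f _ => by simp [hmf, hkΦ]), Finset.sum_const, Finset.card_univ, smul_eq_mul,
      ← card_homs_trivial L hab, Nat.card_eq_fintype_card]
  have h2 : e * (e * d) ≤ 1 * d :=
    (one_mul d).symm ▸ Nat.le_of_mul_le_mul_left hle (Nat.pos_of_ne_zero Subgroup.index_ne_zero_of_finite)
  rw [← mul_assoc] at h2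
  have h3 := Nat.le_of_mul_le_mul_right h2 hd0
  nlinarith [Nat.pos_of_ne_zero he]

end Count

/-- The trichotomy across an abelian chief factor `K / L`. -/
theorem trichotomy {G : Type u} [Group G] [Fintype G] (K L : Subgroup G) [hK : K.Normal]
    [hLn : L.Normal] (hLK : L < K)
    (hchief : ∀ M : Subgroup G, M.Normal → L ≤ M → M ≤ K → M = L ∨ M = K) (hab : ⁅K, K⁆ ≤ L)
    (ϑ : K → ℂ) (hϑ : Cfsg.IsIrrCharacter K ϑ)
    (hinv : ∀ (g : G) (n : K), ϑ ⟨g * n * g⁻¹, hK.conj_mem (n : G) n.2 g⟩ = ϑ n) :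
    Cfsg.IsIrrCharacter L (fun x : L => ϑ ⟨(x : G), hLK.le x.2⟩) ∨
      (∃ (φ : L → ℂ) (e : ℕ), Cfsg.IsIrrCharacter L φ ∧
        (fun x : L => ϑ ⟨(x : G), hLK.le x.2⟩) = (e : ℂ) • φ ∧ e ^ 2 = L.relIndex K) ∨
      (∃ F : Finset (L → ℂ), (∀ φ ∈ F, Cfsg.IsIrrCharacter L φ) ∧ F.card = L.relIndex K ∧
        (fun x : L => ϑ ⟨(x : G), hLK.le x.2⟩) = ∑ φ ∈ F, φ) := by
  classical
  let L' : Subgroup K := L.subgroupOf K
  have hL'n : L'.Normal := hLn.subgroupOf K
  let eL : L' ≃* L := Subgroup.subgroupOfEquivOfLe hLK.le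
  have hcom : commutator K ≤ L' := by
    intro x hx
    refine hab ?_
    rw [← Subgroup.map_subtype_commutator K]
    exact ⟨x, hx, rfl⟩
  have : Fintype K := Fintype.ofFinite _
  have : Fintype L' := Fintype.ofFinite _
  have : Fintype L := Fintype.ofFinite _
  have hirrL : ∀ ψ : L' → ℂ, Cfsg.IsIrrCharacter L' ψ →
      Cfsg.IsIrrCharacter L (fun x => ψ (eL.symm x)) := fun ψ h =>
    isIrrCharacter_pullback h eL.symm.toMonoidHom eL.symm.surjective
  obtain ⟨φ, hφ⟩ := exists_constituent (isCharacter_subtype (isCharacter_of_irr hϑ) L') (by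
    intro h0
    obtain ⟨d, hd, hd1⟩ := irr_exists_degree hϑ
    have := congrFun h0 1
    simp only [OneMemClass.coe_one, hd1, Pi.zero_apply, Nat.cast_eq_zero] at this
    omega)
  set T := inertia hL'n (φ : L' → ℂ) with hT
  have hLT : L' ≤ T := le_inertia hL'n (irr_isClassFunction φ)
  have hfix : T.map K.subtype = L ∨ T.map K.subtype = K := by
    refine hchief _ ⟨?_⟩ (fun x hx => ⟨⟨x, hLK.le hx⟩, hLT hx, rfl⟩) (Subgroup.map_subtype_le _)
    rintro _ ⟨t, ht, rfl⟩ g
    refine ⟨⟨g * t * g⁻¹, hK.conj_mem (t : G) t.2 g⟩, ?_, rfl⟩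
    -- the conjugate of `φ` by `g` is a constituent, hence `K`-conjugate to `φ`
    let c : L' ≃* L' :=
      { toFun := fun x => ⟨⟨g * (x : K) * g⁻¹, hK.conj_mem _ (x : K).2 g⟩,
          Subgroup.mem_subgroupOf.2 (hLn.conj_mem _ (Subgroup.mem_subgroupOf.1 x.2) g)⟩
        invFun := fun x => ⟨⟨g⁻¹ * (x : K) * g, hK.conj_mem' _ (x : K).2 g⟩,
          Subgroup.mem_subgroupOf.2 (hLn.conj_mem' _ (Subgroup.mem_subgroupOf.1 x.2) g)⟩
        left_inv := fun x => Subtype.ext (Subtype.ext (by simp [mul_assoc]))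
        right_inv := fun x => Subtype.ext (Subtype.ext (by simp [mul_assoc]))
        map_mul' := fun x y => Subtype.ext (Subtype.ext (by simp [mul_assoc])) }
    have hψ : Cfsg.IsIrrCharacter L' (fun x => (φ : L' → ℂ) (c x)) :=
      isIrrCharacter_pullback φ.2 c.toMonoidHom c.surjective
    have hψcon : Cfsg.classInner (fun x : L' => ϑ x) (fun x => (φ : L' → ℂ) (c x)) ≠ 0 := by
      refine fun h0 => hφ (Eq.trans ?_ h0)
      unfold Cfsg.classInner
      congr 1
      refine (Fintype.sum_equiv c.toEquiv _ _ fun x => ?_).symm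
      show ϑ x * _ = ϑ ⟨g * (x : K) * g⁻¹, _⟩ * _
      rw [hinv]
      rfl
    obtain ⟨k, hk⟩ := exists_conj_of_constituent hL'n hϑ φ.2 hψ hφ hψcon
    -- `t` fixes all `K`-conjugates of `φ`
    have hcomK : ∀ a b : K, a * b * a⁻¹ * b⁻¹ ∈ T := fun a b =>
      hLT (hcom (by
        have := Subgroup.commutator_mem_commutator (Subgroup.mem_top a) (Subgroup.mem_top b)
        rwa [commutatorElement_def] at this))
    have htk : k * t * k⁻¹ ∈ T := by
      have := T.mul_mem (hcomK k t) ht
      simpa [mul_assoc] using this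
    rw [SetLike.mem_coe, mem_inertia]
    intro x
    obtain ⟨y, rfl⟩ := c.surjective x
    have h1 : ∀ z : L', (φ : L' → ℂ) (c z) = conjChar hL'n (φ : L' → ℂ) k z := fun z => congrFun hk z
    set y' : L' := ⟨t * (y : K) * t⁻¹, hL'n.conj_mem _ y.2 t⟩ with hy'
    refine Eq.trans (congrArg (φ : L' → ℂ) (show _ = c y' from ?_)) ?_
    · exact Subtype.ext (Subtype.ext (by simp [c, hy', mul_assoc]))
    rw [h1, h1]
    have h2 := mem_inertia.1 htk ⟨k * (y : K) * k⁻¹, hL'n.conj_mem _ y.2 k⟩
    refine Eq.trans (congrArg (φ : L' → ℂ) (Subtype.ext ?_)) h2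
    simp [hy', mul_assoc]
  have hclif := clifford hL'n hϑ φ.2 hφ
  obtain ⟨e, he⟩ := classInner_char_nat (isCharacter_subtype (isCharacter_of_irr hϑ) L') (irr_isCharacter φ)
  rw [he] at hclif
  have he0 : e ≠ 0 := fun h => hφ (by rw [he, h, Nat.cast_zero])
  have hsub : T.map K.subtype = L → T = L' := fun h => by
    have : T = (T.map K.subtype).subgroupOf K :=
      (Subgroup.comap_map_eq_self_of_injective K.subtype_injective T).symm
    rw [this, h]
  rcases hfix with h | h
  · -- the orbit is regular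
    refine Or.inr (Or.inr ?_)
    have hTL : T = L' := hsub h
    obtain ⟨k, hk, hkd⟩ := CfsgLib.Ramified.degree_ratio_dvd_index L' hϑ φ.2 hφ
    have hdeg := clifford_degree hL'n hϑ φ.2 hφ
    obtain ⟨dφ, hdφ, hdφ1⟩ := irr_exists_degree φ.2
    rw [he, ← hT, hTL] at hdeg
    have hk' : k = e * L'.index := by
      rw [hdeg, hdφ1] at hk
      have h' : (e * L'.index * dφ : ℕ) = k * dφ := by exact_mod_cast hk
      exact (Nat.eq_of_mul_eq_mul_right hdφ h').symm
    have he1 : e = 1 := by
      have hd : e * L'.index ∣ 1 * L'.index := by rw [one_mul, ← hk']; exact hkd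
      exact Nat.dvd_one.1 (Nat.dvd_of_mul_dvd_mul_right
        (Nat.pos_of_ne_zero Subgroup.index_ne_zero_of_finite) hd)
    rw [he1, Nat.cast_one, one_smul] at hclif
    let O := (conjOrbit_finite hL'n (φ : L' → ℂ)).toFinset
    refine ⟨O.image fun ψ x => ψ (eL.symm x), fun ψ hψ => ?_, ?_, ?_⟩
    · obtain ⟨ψ', hψ', rfl⟩ := Finset.mem_image.1 hψ
      obtain ⟨g, rfl⟩ := (conjOrbit_finite hL'n (φ : L' → ℂ)).mem_toFinset.1 hψ'
      exact hirrL _ (isIrrCharacter_conjChar hL'n φ.2 g)
    · rw [Finset.card_image_of_injective _ (fun a b hab => funext fun x => by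
        have := congrFun hab (eL x)
        simpa using this), card_conjOrbit, ← hT, hTL]
      rfl
    · funext x
      rw [Finset.sum_image (fun a _ b _ hab => funext fun x => by
        have := congrFun hab (eL x)
        simpa using this), Finset.sum_apply]
      have := congrFun hclif (eL.symm x)
      rw [Finset.sum_apply] at this
      exact this
  · -- `φ` is invariant in `K`
    have hTtop : T = ⊤ := by
      rw [eq_top_iff]
      intro x _
      obtain ⟨t, ht, hte⟩ : (x : G) ∈ T.map K.subtype := h.symm ▸ x.2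
      exact (Subtype.ext hte : t = x) ▸ ht
    have hφinv : ∀ (g : K) (n : L'), (φ : L' → ℂ) ⟨g * n * g⁻¹, hL'n.conj_mem (n : K) n.2 g⟩ =
        (φ : L' → ℂ) n := fun g n => mem_inertia.1 (show g ∈ T from hTtop ▸ Subgroup.mem_top g) n
    have hres : (fun l : L' => ϑ l) = (e : ℂ) • (φ : L' → ℂ) := by
      have h' := CfsgLib.Ramified.res_eq_smul_of_invariant L' hϑ φ.2 hφinv hφ
      rwa [he] at h'
    let Fix : Set (K →* ℂˣ) := {f | (∀ l ∈ L', f l = 1) ∧ ∀ x, ϑ x * (f x : ℂ) = ϑ x}
    let U : Subgroup K := ⨅ f : Fix, f.1.ker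
    have hLU : L' ≤ U := le_iInf fun f => fun l hl => MonoidHom.mem_ker.2 (f.2.1 l hl)
    have hU : U.map K.subtype = L ∨ U.map K.subtype = K := by
      refine hchief _ ⟨?_⟩ (fun x hx => ⟨⟨x, hLK.le hx⟩, hLU hx, rfl⟩) (Subgroup.map_subtype_le _)
      rintro _ ⟨t, ht, rfl⟩ g
      refine ⟨⟨g * t * g⁻¹, hK.conj_mem (t : G) t.2 g⟩, ?_, rfl⟩
      rw [SetLike.mem_coe, Subgroup.mem_iInf]
      intro f
      let cg : K →* K :=
        { toFun := fun x => ⟨g * x * g⁻¹, hK.conj_mem (x : G) x.2 g⟩
          map_one' := Subtype.ext (by simp)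
          map_mul' := fun x y => Subtype.ext (by simp [mul_assoc]) }
      have hf' : f.1.comp cg ∈ Fix :=
        ⟨fun l hl => f.2.1 _ (Subgroup.mem_subgroupOf.2 (hLn.conj_mem _ (Subgroup.mem_subgroupOf.1 hl) g)),
          fun x => by
            show ϑ x * (f.1 (cg x) : ℂ) = ϑ x
            conv_lhs => rw [← hinv g x]
            exact (f.2.2 (cg x)).trans (hinv g x)⟩
      exact MonoidHom.mem_ker.2 (MonoidHom.mem_ker.1 (Subgroup.mem_iInf.1 ht ⟨_, hf'⟩))
    rcases hU with h' | h'
    · -- fully ramified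
      refine Or.inr (Or.inl ⟨fun x => (φ : L' → ℂ) (eL.symm x), e, hirrL _ φ.2, ?_, ?_⟩)
      · funext x
        exact congrFun hres (eL.symm x)
      · have hUL : U = L' := by
          have : U = (U.map K.subtype).subgroupOf K :=
            (Subgroup.comap_map_eq_self_of_injective K.subtype_injective U).symm
          rw [this, h']
        have hvan : ∀ x : K, x ∉ L' → ϑ x = 0 := by
          intro x hx
          rw [← hUL, Subgroup.mem_iInf] at hx
          push Not at hx
          obtain ⟨f, hf⟩ := hx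
          by_contra h0
          exact hf (MonoidHom.mem_ker.2 (Units.ext ((mul_eq_left₀ h0).1 (f.2.2 x))))
        -- norm computation
        have hnK := classInner_irr_self hϑ
        have hnL := classInner_irr_self φ.2
        unfold Cfsg.classInner at hnK hnL
        rw [inv_mul_eq_iff_eq_mul₀ (Nat.cast_ne_zero.2 Nat.card_pos.ne'), mul_one] at hnK hnL
        have hzero : ∀ x ∈ (Finset.univ : Finset K), x ∉ (Finset.univ : Finset L').map
            (Function.Embedding.subtype _) → ϑ x * (starRingEnd ℂ) (ϑ x) = 0 := fun x _ hx => by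
          rw [hvan x fun hx' => hx (Finset.mem_map.2 ⟨⟨x, hx'⟩, Finset.mem_univ _, rfl⟩), zero_mul]
        have hsumL : ∑ l : L', ϑ l * (starRingEnd ℂ) (ϑ l) =
            ∑ x : K, ϑ x * (starRingEnd ℂ) (ϑ x) := by
          rw [← Finset.sum_subset (Finset.subset_univ _) hzero, Finset.sum_map]
          rfl
        have hcl : ∑ l : L', ϑ l * (starRingEnd ℂ) (ϑ l) = (e : ℂ) ^ 2 * (Nat.card L' : ℂ) := by
          rw [← hnL, Finset.mul_sum]
          refine Finset.sum_congr rfl fun l _ => ?_
          rw [show ϑ l = (e : ℂ) * (φ : L' → ℂ) l from congrFun hres l, map_mul, Complex.conj_natCast]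
          ring
        rw [hsumL, hnK, ← L'.card_mul_index] at hcl
        have : (Nat.card L' * L'.index : ℕ) = e ^ 2 * Nat.card L' := by exact_mod_cast hcl
        show e ^ 2 = L'.index
        rw [mul_comm] at this
        exact (Nat.eq_of_mul_eq_mul_right Nat.card_pos this).symm
    · refine Or.inl ?_
      have he1 : e = 1 := by
        refine mult_one_of_twists L' hcom hϑ φ.2 e he0 hres fun f hf hfix => MonoidHom.ext fun x => ?_
        have hx : x ∈ U := by
          obtain ⟨t, ht, hte⟩ : (x : G) ∈ U.map K.subtype := h'.symm ▸ x.2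
          exact (Subtype.ext hte : t = x) ▸ ht
        exact MonoidHom.mem_ker.1 (Subgroup.mem_iInf.1 hx ⟨f, hf, hfix⟩)
      convert hirrL _ φ.2 using 1
      funext x
      have := congrFun hres (eL.symm x)
      rw [he1, Nat.cast_one, one_smul] at this
      exact this

end CfsgLib.GoingDown
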