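import Cfsg.Agent.Lib.Characters.SupplementAvg
import Cfsg.Agent.Lib.Characters.Monomial
import Cfsg.Agent.Lib.Characters.Ramified

/-!
# Splitting off a projective factor of an induced character

If `χ = Ind_H ϑ`, `W` extends the irreducible constituent of `χ` on a normal supplement `N` of `H`
and `W` is inhomogeneous on a normal subgroup `Q` of `H`, then `χ` is induced from a proper subgroup
containing `N` and `Q`.
-/

set_option autoImplicit false

noncomputable section

namespace CfsgLib.BergerKey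

open scoped ComplexConjugate
open CfsgLib.Characters CfsgLib.NormalAvg CfsgLib.SupplementAvg

universe u

variable {X : Type u} [Group X] [Fintype X]

/-- **Gallagher**: a character over an extendible one is a product. -/
theorem eq_mul_pairAvg (N : Subgroup X) [N.Normal] [Fintype N] {ψ W : X → ℂ}
    (hψ : Cfsg.IsIrrCharacter X ψ) (hW : Cfsg.IsCharacter X W)
    (hWN : Cfsg.IsIrrCharacter N (fun n : N => W n))
    (h : Cfsg.classInner (fun n : N => ψ n) (fun n : N => W n) ≠ 0) :
    ψ = W * pairAvg N ψ W := by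
  classical
  set η := pairAvg N ψ W with hη
  have hηi : Cfsg.IsIrrCharacter X η := isIrrCharacter_pairAvg N hψ hW hWN h
  have hcon : ∀ (n : N) (g : X), η ((n : X) * g) = η g := fun n g => avgN_mul_left N _ n g
  have hprod : Cfsg.IsCharacter X (W * η) := isCharacter_mul hW (isCharacter_of_irr hηi)
  have e1 : Cfsg.classInner ψ (W * η) = 1 := by
    rw [← classInner_irr_self hηi]
    conv_rhs => arg 1; rw [hη, pairAvg]
    rw [classInner_avgN_left N _ hcon]
    unfold Cfsg.classInner
    congr 1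
    exact Finset.sum_congr rfl fun g _ => by simp [mul_assoc]
  have e2 : Cfsg.classInner (W * η) (W * η) = 1 := by
    rw [← classInner_irr_self hηi]
    have hcon2 : ∀ (n : N) (g : X),
        (fun g => η g * conj (η g)) ((n : X) * g) = (fun g => η g * conj (η g)) g := fun n g => by
      simp only [hcon]
    have := classInner_avgN_left N (fun g => W g * conj (W g))
      (f := fun g => η g * conj (η g)) hcon2
    have hone : avgN N (fun g => W g * conj (W g)) = fun _ => 1 := pairAvg_self N hW hWN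
    rw [hone] at this
    unfold Cfsg.classInner at this ⊢
    refine Eq.trans ?_ (this.symm.trans ?_)
    · congr 1
      exact Finset.sum_congr rfl fun g _ => by simp; ring
    · congr 1
      exact Finset.sum_congr rfl fun g _ => by simp; ring
  have hirr := CfsgLib.Clifford.isIrr_of_norm_one hprod e2
  by_contra hne
  exact one_ne_zero (e1.symm.trans (classInner_irr_ne hψ hirr hne))

/-- Inner products are unchanged along isomorphisms. -/
theorem classInner_comp_equiv {A B : Type*} [Group A] [Group B] [Fintype A] [Fintype B] (e : A ≃* B)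
    (f g : B → ℂ) :
    Cfsg.classInner (fun a => f (e a)) (fun a => g (e a)) = Cfsg.classInner f g := by
  unfold Cfsg.classInner
  rw [Nat.card_congr e.toEquiv]
  congr 1
  exact Fintype.sum_equiv e.toEquiv _ _ fun a => rfl

/-- The restriction of a constituent to a subgroup on which the character is homogeneous. -/
theorem res_constituent_eq_smul {κ ξ : X → ℂ} (hκ : Cfsg.IsCharacter X κ)
    (hξ : Cfsg.IsIrrCharacter X ξ) (h : Cfsg.classInner κ ξ ≠ 0) (L : Subgroup X) [Fintype L]
    {φ : L → ℂ} (hφ : Cfsg.IsIrrCharacter L φ) (f : ℂ) (hres : (fun l : L => κ l) = f • φ) :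
    ∃ b : ℕ, b ≠ 0 ∧ (fun l : L => ξ l) = (b : ℂ) • φ := by
  obtain ⟨b, hb⟩ := eq_smul_of_constituents
    (CfsgLib.Clifford.isCharacter_subtype (isCharacter_of_irr hξ) L) hφ fun η hη => by
      have hne := CfsgLib.Clifford.classInner_ne_zero_of_constituent hκ hξ η.2 h hη
      rw [hres, classInner_smul_left] at hne
      by_contra hne'
      exact hne (by rw [classInner_irr_ne hφ η.2 (Ne.symm hne'), mul_zero])
  refine ⟨b, fun h0 => irr_one_ne_zero ⟨ξ, hξ⟩ ?_, hb⟩
  have := congrFun hb 1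
  rw [h0, Nat.cast_zero, zero_smul] at this
  exact this

/-- The inertia dichotomy. -/
theorem exists_smaller (N H Q : Subgroup X) [N.Normal] [Fintype N] [Fintype H]
    (hsupp : ∀ x : X, ∃ m ∈ N, m⁻¹ * x ∈ H) (hQH : Q ≤ H) (hQn : (Q.subgroupOf H).Normal)
    (hL : N ⊓ H ≤ Q) {ψ W : X → ℂ} (hψ : Cfsg.IsIrrCharacter X ψ) (hW : Cfsg.IsCharacter X W)
    (hWN : Cfsg.IsIrrCharacter N (fun n : N => W n))
    (hψW : Cfsg.classInner (fun n : N => ψ n) (fun n : N => W n) ≠ 0) {ϑ : H → ℂ}
    (hϑ : Cfsg.IsCharacter H ϑ) (hind : Cfsg.indFun H ϑ = ψ) [Fintype (N.subgroupOf H)]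
    {φ₀ : N.subgroupOf H → ℂ} (hφ₀ : Cfsg.IsIrrCharacter (N.subgroupOf H) φ₀) (a f : ℕ)
    (hϑa : (fun l : N.subgroupOf H => ϑ l) = (a : ℂ) • φ₀) (ha : a ≠ 0)
    (hWf : (fun l : N.subgroupOf H => W ((l : H) : X)) = (f : ℂ) • φ₀)
    [Fintype (Q.subgroupOf H)]
    (hnonhom : Cfsg.IsIrrCharacter H (fun h : H => W h) → ∀ β : Cfsg.IrrCharacter (Q.subgroupOf H),
      Cfsg.classInner (fun q : Q.subgroupOf H => W ((q : H) : X))
        (β : Q.subgroupOf H → ℂ) ≠ 0 →
      CfsgLib.Clifford.inertia hQn (β : Q.subgroupOf H → ℂ) ≠ ⊤) :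
    ∃ (S : Subgroup X) (ζ : S → ℂ), S ≠ ⊤ ∧ N ≤ S ∧ Q ≤ S ∧ Cfsg.IsIrrCharacter S ζ ∧
      (∀ [Fintype S], Cfsg.classInner (fun s : S => ψ s) ζ ≠ 0) ∧
      ∀ p q : ℕ, ζ 1 = p → ψ 1 = q → S.index * p ≤ q := by
  classical
  set γ := pairAvg N ψ W with hγdef
  have hγ : Cfsg.IsIrrCharacter X γ := isIrrCharacter_pairAvg N hψ hW hWN hψW
  have hfac : ψ = W * γ := eq_mul_pairAvg N hψ hW hWN hψW
  have hcon : ∀ (n : N) (g : X), γ ((n : X) * g) = γ g := fun n g => avgN_mul_left N _ n g
  have hγc : Cfsg.IsClassFunction X γ := irr_isClassFunction (⟨γ, hγ⟩ : Cfsg.IrrCharacter X)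
  have hWc := isClassFunction_of_isCharacter hW
  have hϑc := isClassFunction_of_isCharacter hϑ
  let L := N.subgroupOf H
  have hLn : L.Normal := (inferInstance : N.Normal).subgroupOf H
  let WH : H → ℂ := fun h => W h
  have hWH : Cfsg.IsCharacter H WH := CfsgLib.Clifford.isCharacter_subtype hW H
  let γH : H → ℂ := fun h => γ h
  have hγH : γH = pairAvg L ϑ WH := by
    funext y
    have e : (fun g => ψ g * conj (W g)) = Cfsg.indFun H (fun h => ϑ h * conj (WH h)) := by
      have h := CfsgLib.Induction.indFun_mul H (ψ := fun g => conj (W g))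
        (isClassFunction_conj hWc) ϑ
      rw [hind] at h
      exact h
    show avgN N (fun g => ψ g * conj (W g)) (y : X) = _
    rw [e]
    exact avg_indFun_of_supplement N H hsupp
      (fun u v => by simp only [WH, hϑc u v, Subgroup.coe_mul, Subgroup.coe_inv, hWc (u : X) (v : X)])
      y
  have hnorm : Cfsg.classInner γH γH = 1 := by
    rw [classInner_res_of_supplement N H hsupp hγc hγc (fun n x => by rw [hcon]),
      classInner_irr_self hγ]
  have hγHc : Cfsg.IsCharacter H γH :=
    CfsgLib.Clifford.isCharacter_subtype (isCharacter_of_irr hγ) H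
  -- `W` is irreducible on `H`
  obtain ⟨m, hm, hsum⟩ := CfsgLib.Clifford.exists_mult hWH
  let P : Cfsg.IrrCharacter H → H → ℂ := fun ξ => pairAvg L ϑ (ξ : H → ℂ)
  have hP : ∀ ξ, Cfsg.IsCharacter H (P ξ) := fun ξ =>
    isCharacter_pairAvg L hϑ (irr_isCharacter ξ)
  have hP0 : ∀ ξ, m ξ ≠ 0 → P ξ 1 ≠ 0 := by
    intro ξ hξ
    obtain ⟨b, hb0, hb⟩ := res_constituent_eq_smul hWH ξ.2
      (by rw [hm]; exact Nat.cast_ne_zero.2 hξ) L hφ₀ (f : ℂ) hWf
    show pairAvg L ϑ (ξ : H → ℂ) 1 ≠ 0
    rw [pairAvg_one, hϑa, hb, classInner_smul_left, classInner_smul_right,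
      classInner_irr_self hφ₀, Complex.conj_natCast, mul_one]
    exact mul_ne_zero (Nat.cast_ne_zero.2 ha) (Nat.cast_ne_zero.2 hb0)
  have hγsum : γH = ∑ ξ : Cfsg.IrrCharacter H, (m ξ : ℂ) • P ξ := by
    rw [hγH]
    funext y
    simp only [P, Finset.sum_apply, Pi.smul_apply, smul_eq_mul, pairAvg_apply]
    conv_lhs => rw [hsum]
    simp only [Finset.sum_apply, Pi.smul_apply, smul_eq_mul, map_sum, map_mul, Complex.conj_natCast,
      Finset.mul_sum]
    rw [Finset.sum_comm]
    exact Finset.sum_congr rfl fun ξ _ => Finset.sum_congr rfl fun l _ => by ring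
  have hpp : ∀ ξ η, ∃ k : ℕ, Cfsg.classInner (P ξ) (P η) = (k : ℂ) :=
    fun ξ η => classInner_char_nat (hP ξ) (hP η)
  choose k hk using hpp
  have hk0 : ∀ ξ, m ξ ≠ 0 → k ξ ξ ≠ 0 := by
    intro ξ hξ h0
    obtain ⟨j, hj, hjsum⟩ := CfsgLib.Clifford.exists_mult (hP ξ)
    have h := hk ξ ξ
    rw [h0, Nat.cast_zero, classInner_self_eq_sum_sq (isClassFunction_of_isCharacter (hP ξ))
      (m := fun η => (j η : ℤ)) (fun η => by rw [hj η, Int.cast_natCast]), Int.cast_eq_zero] at h
    refine hP0 ξ hξ ?_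
    rw [hjsum, Finset.sum_apply]
    refine Finset.sum_eq_zero fun η _ => ?_
    have := (Finset.sum_eq_zero_iff_of_nonneg fun η _ => sq_nonneg _).1 h η (Finset.mem_univ _)
    simp at this
    simp [this]
  have hsq : ∑ ξ, m ξ * m ξ ≤ 1 := by
    have h1 : ∑ ξ, m ξ * ∑ η, m η * k ξ η = 1 := by
      rw [hγsum] at hnorm
      rw [classInner_sum_left, Finset.sum_congr rfl fun ξ _ => by
        rw [classInner_smul_left, classInner_sum_right, Finset.sum_congr rfl fun η _ => by
          rw [classInner_smul_right, hk, Complex.conj_natCast]]] at hnorm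
      exact_mod_cast hnorm
    refine le_trans (Finset.sum_le_sum fun ξ _ => ?_) h1.le
    by_cases h0 : m ξ = 0
    · simp [h0]
    · refine Nat.mul_le_mul_left _ ?_
      exact le_trans (Nat.le_mul_of_pos_right _ (Nat.pos_of_ne_zero (hk0 ξ h0)))
        (Finset.single_le_sum (f := fun η => m η * k ξ η) (fun _ _ => Nat.zero_le _)
          (Finset.mem_univ ξ))
  have hWirr : Cfsg.IsIrrCharacter H WH := by
    refine CfsgLib.Clifford.isIrr_of_norm_one hWH ?_
    rw [classInner_self_eq_sum_sq (isClassFunction_of_isCharacter hWH) (m := fun ξ => (m ξ : ℤ))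
      (fun ξ => by rw [hm ξ, Int.cast_natCast])]
    have hne : ∑ ξ, m ξ * m ξ ≠ 0 := by
      intro h0
      obtain ⟨dW, hdW⟩ := exists_degree hWH
      have hz : WH = 0 := by
        rw [hsum]
        refine Finset.sum_eq_zero fun ξ _ => ?_
        rw [mul_self_eq_zero.1 (Finset.sum_eq_zero_iff.1 h0 ξ (Finset.mem_univ _)), Nat.cast_zero,
          zero_smul]
      refine irr_one_ne_zero ⟨_, hWN⟩ ?_
      have := congrFun hz 1
      simpa [WH] using this
    have h1 : (∑ ξ, (m ξ : ℤ) ^ 2 : ℤ) = 1 := by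
      have : ∑ ξ, m ξ * m ξ = 1 := by omega
      simp_rw [sq]
      exact_mod_cast this
    rw [h1, Int.cast_one]
  -- Clifford theory on `Q`
  let Q' := Q.subgroupOf H
  obtain ⟨β, hβ⟩ := CfsgLib.Clifford.exists_constituent
    (CfsgLib.Clifford.isCharacter_subtype hWH Q')
    (fun h0 => irr_one_ne_zero ⟨WH, hWirr⟩ (congrFun h0 1))
  set T := CfsgLib.Clifford.inertia hQn (β : Q' → ℂ) with hTdef
  have hTne : T ≠ ⊤ := hnonhom hWirr β hβ
  have hQT : Q' ≤ T := CfsgLib.Clifford.le_inertia hQn (irr_isClassFunction β)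
  have : Fintype T := Fintype.ofFinite _
  obtain ⟨ω, hω, hωind, -⟩ := CfsgLib.Clifford.correspondence hQn β.2 T hTdef hQT hWirr hβ
  have hLT : L ≤ T := fun l hl => hQT (hL ⟨hl, l.2⟩)
  have : Fintype (L.subgroupOf T) := Fintype.ofFinite _
  let δ : T → ℂ := pairAvg (L.subgroupOf T) (fun t : T => ϑ t) ω
  have hδind : Cfsg.indFun T δ = γH := by
    rw [hγH, ← hωind]
    exact (pairAvg_indFun L T hLT hϑc ω).symm
  have hδc : Cfsg.IsCharacter T δ := isCharacter_pairAvg _
    (CfsgLib.Clifford.isCharacter_subtype hϑ T) (isCharacter_of_irr hω)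
  have hγHi : Cfsg.IsIrrCharacter H γH := CfsgLib.Clifford.isIrr_of_norm_one hγHc hnorm
  have hδ : Cfsg.IsIrrCharacter T δ := irr_of_indFun T hδc (hδind.symm ▸ hγHi)
  -- the subgroup `S`
  let T0 : Subgroup X := T.map H.subtype
  let S : Subgroup X := T0 ⊔ N
  have hT0H : T0 ≤ H := Subgroup.map_subtype_le T
  have hT0card : Nat.card T0 = Nat.card T :=
    (Nat.card_congr (T.equivMapOfInjective H.subtype H.subtype_injective).toEquiv).symm
  have hNT0 : N ⊓ T0 = N ⊓ H := le_antisymm (inf_le_inf_left N hT0H)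
    (le_inf inf_le_left fun x hx => ⟨⟨x, hx.2⟩, hQT (hL hx), rfl⟩)
  have hScard : Nat.card S * Nat.card H = Nat.card X * Nat.card T := by
    have h1 := CfsgLib.Coprime.card_sup_mul_card_inf (H := T0) (N := N) (by
      rw [Subgroup.normalizer_eq_top_iff.2 inferInstance]; exact le_top)
    have h2 := card_mul_of_supplement N H hsupp
    rw [hNT0, hT0card, ← CfsgLib.Coprime.card_subgroupOf (inf_le_right : N ⊓ H ≤ H),
      Subgroup.inf_subgroupOf_right] at h1
    refine Nat.eq_of_mul_eq_mul_right (Nat.card_pos (α := N.subgroupOf H)) ?_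
    rw [mul_right_comm, h1, mul_right_comm (Nat.card X), h2]
    ring
  have hidx : S.index = T.index := by
    have h1 := S.card_mul_index
    have h2 := T.card_mul_index
    refine Nat.eq_of_mul_eq_mul_left (Nat.mul_pos (Nat.card_pos (α := S)) (Nat.card_pos (α := T))) ?_
    calc Nat.card S * Nat.card T * S.index = Nat.card S * S.index * Nat.card T := by ring
      _ = Nat.card X * Nat.card T := by rw [h1]
      _ = Nat.card S * Nat.card H := hScard.symm
      _ = Nat.card S * Nat.card T * T.index := by rw [← h2]; ring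
  have hTS : ∀ t : T, ((t : H) : X) ∈ S := fun t => Subgroup.mem_sup_left ⟨(t : H), t.2, rfl⟩
  have hSfin : Fintype S := Fintype.ofFinite _
  let γS : S → ℂ := fun s => γ s
  have hγS : Cfsg.IsCharacter S γS := CfsgLib.Clifford.isCharacter_subtype (isCharacter_of_irr hγ) S
  obtain ⟨M, hM, hMsum⟩ := CfsgLib.Clifford.exists_mult hγS
  let ι : T →* S :=
    { toFun := fun t => ⟨((t : H) : X), hTS t⟩, map_one' := rfl, map_mul' := fun _ _ => rfl }
  obtain ⟨ξ, hMξ, hξδ⟩ : ∃ ξ : Cfsg.IrrCharacter S, M ξ ≠ 0 ∧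
      Cfsg.classInner (fun t : T => (ξ : S → ℂ) (ι t)) δ ≠ 0 := by
    by_contra hh
    push Not at hh
    have h1 : Cfsg.classInner (fun t : T => γH t) δ = 1 := by
      rw [← CfsgLib.Induction.classInner_indFun_right T δ (isClassFunction_of_isCharacter hγHc),
        hδind, hnorm]
    have e : (fun t : T => γH t) =
        ∑ ξ : Cfsg.IrrCharacter S, (M ξ : ℂ) • fun t : T => (ξ : S → ℂ) (ι t) := by
      funext t
      have := congrFun hMsum (ι t)
      simp only [Finset.sum_apply, Pi.smul_apply, smul_eq_mul] at this ⊢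
      exact this
    rw [e, classInner_sum_left, Finset.sum_eq_zero fun ξ _ => by
      rw [classInner_smul_left]
      by_cases h0 : M ξ = 0
      · rw [h0, Nat.cast_zero, zero_mul]
      · rw [hh ξ h0, mul_zero]] at h1
    exact zero_ne_one h1
  have hξcon : Cfsg.classInner γS (ξ : S → ℂ) ≠ 0 := by rw [hM]; exact Nat.cast_ne_zero.2 hMξ
  obtain ⟨dξ, ρ, hρ, hρc⟩ := ξ.2
  have hξconst : ∀ (n : N.subgroupOf S) (s : S),
      (ξ : S → ℂ) ((n : S) * s) = (ξ : S → ℂ) s := by
    intro n s
    have h1 : (ξ : S → ℂ) (n : S) = (ξ : S → ℂ) 1 :=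
      CfsgLib.CharMonomial.constituent_eq_degree hγS hξcon (by
        show γ ((n : S) : X) = γ 1
        have := hcon ⟨((n : S) : X), n.2⟩ 1
        rwa [mul_one] at this)
    rw [← hρc, Representation.char_one] at h1
    rw [char_eq_degree_iff] at h1
    rw [← hρc]
    show LinearMap.trace ℂ _ (ρ ((n : S) * s)) = LinearMap.trace ℂ _ (ρ s)
    rw [map_mul, h1]
    rfl
  have hξT : (fun t : T => (ξ : S → ℂ) (ι t)) = δ := by
    have : Fintype (N.subgroupOf S) := Fintype.ofFinite _
    have : Fintype (T0.subgroupOf S) := Fintype.ofFinite _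
    have : Fintype ((N.subgroupOf S).subgroupOf (T0.subgroupOf S)) := Fintype.ofFinite _
    have : (N.subgroupOf S).Normal := (inferInstance : N.Normal).subgroupOf S
    have hsS : ∀ s : S, ∃ n ∈ N.subgroupOf S, n⁻¹ * s ∈ T0.subgroupOf S := by
      intro s
      obtain ⟨a', ha', n', hn', he⟩ := CfsgLib.Coprime.exists_mul_of_mem_sup (H := T0) (N := N)
        (by rw [Subgroup.normalizer_eq_top_iff.2 inferInstance]; exact le_top) s.2
      refine ⟨⟨a' * n' * a'⁻¹, S.mul_mem (S.mul_mem (Subgroup.mem_sup_left ha')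
        (Subgroup.mem_sup_right hn')) (S.inv_mem (Subgroup.mem_sup_left ha'))⟩,
        (inferInstance : N.Normal).conj_mem n' hn' a', ?_⟩
      rw [Subgroup.mem_subgroupOf]
      show (a' * n' * a'⁻¹)⁻¹ * (s : X) ∈ T0
      rw [he]
      simpa [mul_assoc] using ha'
    have hξn := classInner_res_of_supplement (N.subgroupOf S) (T0.subgroupOf S) hsS
      (irr_isClassFunction ξ) (irr_isClassFunction ξ) (fun n s => by rw [hξconst])
    rw [classInner_irr_self ξ.2] at hξn
    let eT : T ≃* T0.subgroupOf S :=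
      (T.equivMapOfInjective H.subtype H.subtype_injective).trans
        (Subgroup.subgroupOfEquivOfLe (le_sup_left : T0 ≤ S)).symm
    have heT : ∀ t : T, ((eT t : T0.subgroupOf S) : S) = ι t := fun t => Subtype.ext rfl
    have hn1 : Cfsg.classInner (fun t : T => (ξ : S → ℂ) (ι t))
        (fun t : T => (ξ : S → ℂ) (ι t)) = 1 := by
      rw [← hξn, ← classInner_comp_equiv eT]
      simp only [heT]
    have hirrT := CfsgLib.Clifford.isIrr_of_norm_one
      (CfsgLib.Clifford.isCharacter_pullback (irr_isCharacter ξ) ι) hn1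
    by_contra hne
    exact hξδ (classInner_irr_ne hirrT hδ hne)
  -- the constituent of `ψ` on `S`
  let ψS : S → ℂ := fun s => ψ s
  let WS : S → ℂ := fun s => W s
  have hWS : Cfsg.IsCharacter S WS := CfsgLib.Clifford.isCharacter_subtype hW S
  have hWξ : Cfsg.IsCharacter S (WS * (ξ : S → ℂ)) := isCharacter_mul hWS (irr_isCharacter ξ)
  obtain ⟨dW, hdW⟩ := exists_degree hW
  have hdW0 : dW ≠ 0 := by
    intro h0
    refine irr_one_ne_zero ⟨_, hWN⟩ ?_
    show W ((1 : N) : X) = 0
    rw [OneMemClass.coe_one, hdW, h0, Nat.cast_zero]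
  obtain ⟨dx, hdx0, hdx⟩ := irr_exists_degree ξ.2
  have hWξ1 : (WS * (ξ : S → ℂ)) 1 = ((dW * dx : ℕ) : ℂ) := by
    simp only [Pi.mul_apply, WS, OneMemClass.coe_one, hdW, hdx, Nat.cast_mul]
  obtain ⟨ζ, hζ⟩ := CfsgLib.Clifford.exists_constituent hWξ (fun h0 => by
    have := congrFun h0 1
    rw [hWξ1, Pi.zero_apply, Nat.cast_eq_zero] at this
    exact mul_ne_zero hdW0 hdx0.ne' this)
  refine ⟨S, ζ, fun hS => hTne ?_, le_sup_right, ?_, ζ.2, ?_, ?_⟩
  · rw [← Subgroup.index_eq_one, ← hidx, hS, Subgroup.index_top]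
  · exact fun q hq => Subgroup.mem_sup_left
      ⟨⟨q, hQH hq⟩, hQT (Subgroup.mem_subgroupOf.2 hq), rfl⟩
  · intro inst
    obtain rfl : inst = hSfin := Subsingleton.elim _ _
    have e : ψS = ∑ η : Cfsg.IrrCharacter S, (M η : ℂ) • (WS * (η : S → ℂ)) := by
      funext s
      have h1 := congrFun hfac (s : X)
      have h2 := congrFun hMsum s
      simp only [Finset.sum_apply, Pi.smul_apply, smul_eq_mul, Pi.mul_apply] at h1 h2 ⊢
      show ψ s = _
      rw [h1, show γ (s : X) = ∑ c, (M c : ℂ) * (c : S → ℂ) s from h2, Finset.mul_sum]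
      exact Finset.sum_congr rfl fun η _ => by simp [WS]; ring
    have hc : ∀ η : Cfsg.IrrCharacter S, ∃ j : ℕ,
        Cfsg.classInner (WS * (η : S → ℂ)) (ζ : S → ℂ) = (j : ℂ) := fun η =>
      classInner_char_nat (isCharacter_mul hWS (irr_isCharacter η)) (irr_isCharacter ζ)
    choose j hj using hc
    intro h0
    have h0' : Cfsg.classInner ψS (ζ : S → ℂ) = 0 := h0
    rw [e, classInner_sum_left, Finset.sum_congr rfl fun η _ => by
      rw [classInner_smul_left, hj]] at h0'
    have h3 : ∑ η, M η * j η = 0 := by exact_mod_cast h0'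
    exact hζ (by rw [hj ξ, (mul_eq_zero.1 (Finset.sum_eq_zero_iff.1 h3 ξ (Finset.mem_univ _))).resolve_left
      hMξ, Nat.cast_zero])
  · intro p q hp hq
    have hle : p ≤ dW * dx := degree_le_of_constituent hWξ ζ.2 hζ hWξ1 hp
    have hq' : q = dW * (T.index * dx) := by
      have h1 := congrFun hfac 1
      have h2 : γ 1 = (T.index : ℂ) * (dx : ℂ) := by
        have h3 := congrFun hδind 1
        rw [CfsgLib.Induction.indFun_one_apply, ← hξT] at h3
        simp only [map_one, hdx] at h3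
        exact h3.symm
      rw [hq, Pi.mul_apply, hdW, h2] at h1
      exact_mod_cast h1
    rw [hq', hidx, mul_left_comm dW]
    exact Nat.mul_le_mul_left _ hle

end CfsgLib.BergerKey
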