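import Cfsg.Agent.Lib.Characters.GoingDown
import Cfsg.Agent.Lib.Characters.PermChar
import Cfsg.Agent.Lib.Characters.BrauerInduction

/-!
# Relative M-groups
-/

set_option autoImplicit false

noncomputable section

namespace CfsgLib.RelMGroup

open CfsgLib.Characters CfsgLib.Clifford

universe u

/-- A maximal `G`-invariant subgroup below `K` over `N` gives an abelian chief factor. -/
theorem exists_chief_below {G : Type u} [Group G] [Finite G] (N K : Subgroup G) [N.Normal]
    [K.Normal] (hNK : N < K) (hsolv : Group.IsSolvable (G ⧸ N)) :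
    ∃ L : Subgroup G, L.Normal ∧ N ≤ L ∧ L < K ∧
      (∀ M : Subgroup G, M.Normal → L ≤ M → M ≤ K → M = L ∨ M = K) ∧ ⁅K, K⁆ ≤ L := by
  classical
  let S : Set (Subgroup G) := {L | L.Normal ∧ N ≤ L ∧ L < K}
  obtain ⟨L, hL⟩ := Set.Finite.exists_maximal (Set.toFinite S) ⟨N, inferInstance, le_rfl, hNK⟩
  obtain ⟨hLn, hNL, hLK⟩ := hL.prop
  refine ⟨L, hLn, hNL, hLK, fun M hM hLM hMK => ?_, ?_⟩
  · rcases eq_or_lt_of_le hMK with h | h
    · exact Or.inr h
    · exact Or.inl (le_antisymm (hL.le_of_ge ⟨hM, hNL.trans hLM, h⟩ hLM) hLM)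
  · by_contra hc
    haveI := hLn
    have hsol : Group.IsSolvable (G ⧸ L) := by
      haveI := hsolv
      refine Group.isSolvable_of_surjective
        (f := QuotientGroup.lift N (QuotientGroup.mk' L) (hNL.trans (QuotientGroup.ker_mk' L).ge)) ?_
      exact QuotientGroup.lift_surjective_of_surjective N _ (QuotientGroup.mk'_surjective L) _
    have htop : L ⊔ ⁅K, K⁆ = K := by
      rcases eq_or_lt_of_le (sup_le hLK.le (Subgroup.commutator_le_self K)) with h | h
      · exact h
      · exact absurd (le_sup_right.trans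
          (hL.le_of_ge ⟨inferInstance, hNL.trans le_sup_left, h⟩ le_sup_left)) hc
    let P := K.map (QuotientGroup.mk' L)
    have hne : ¬ P = ⊥ := by
      intro h
      rw [Subgroup.map_eq_bot_iff, QuotientGroup.ker_mk'] at h
      exact not_le_of_gt hLK h
    refine hne ?_
    have hperf : ⁅P, P⁆ = P := by
      rw [← Subgroup.map_commutator]
      conv_rhs => rw [show P = (L ⊔ ⁅K, K⁆).map (QuotientGroup.mk' L) by rw [htop]]
      rw [Subgroup.map_sup, (Subgroup.map_eq_bot_iff L).2 (QuotientGroup.ker_mk' L).ge, bot_sup_eq]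
    have hder : ∀ k, P ≤ derivedSeries (G ⧸ L) k := by
      intro k
      induction k with
      | zero => exact le_top
      | succ k ih => exact hperf ▸ Subgroup.commutator_mono ih ih
    obtain ⟨k, hk⟩ := (Group.isSolvable_def (G ⧸ L)).1 hsol
    exact eq_bot_iff.2 (hk ▸ hder k)

/-- `G / N` solvable and no chief factor above `N` of square order: `G` is a relative M-group. -/
theorem relative_m_group : ∀ (n : ℕ) {G : Type u} [Group G] [Fintype G], Nat.card G = n →
    ∀ (N : Subgroup G) [N.Normal], Group.IsSolvable (G ⧸ N) →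
    (∀ (H K L : Subgroup G), N ≤ L → L < K → K ≤ H → (∀ h ∈ H, ∀ k ∈ K, h * k * h⁻¹ ∈ K) →
      (∀ h ∈ H, ∀ l ∈ L, h * l * h⁻¹ ∈ L) →
      (∀ M : Subgroup G, L ≤ M → M ≤ K → (∀ h ∈ H, ∀ m ∈ M, h * m * h⁻¹ ∈ M) → M = L ∨ M = K) →
      ¬ IsSquare (L.relIndex K)) →
    ∀ χ : G → ℂ, Cfsg.IsIrrCharacter G χ → ∃ (H : Subgroup G) (hNH : N ≤ H) (ψ : H → ℂ),
      Cfsg.IsIrrCharacter H ψ ∧ Cfsg.indFun H ψ = χ ∧
      Cfsg.IsIrrCharacter N (fun x : N => ψ ⟨(x : G), hNH x.2⟩) := by
  intro n
  induction n using Nat.strong_induction_on with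
  | _ n ih =>
    intro G _ _ hn N _ hsolv hchief χ hχ
    classical
    by_cases hN : Cfsg.IsIrrCharacter N (fun x : N => χ x)
    · exact ⟨⊤, le_top, fun x => χ x,
        isIrrCharacter_pullback hχ (⊤ : Subgroup G).subtype fun g => ⟨⟨g, Subgroup.mem_top g⟩, rfl⟩,
        CfsgLib.Brauer.indFun_top_eq (isClassFunction_of_isCharacter (isCharacter_of_irr hχ)), hN⟩
    -- the least normal subgroup over `N` on which `χ` stays irreducible
    let S : Set (Subgroup G) := {K | K.Normal ∧ N ≤ K ∧ Cfsg.IsIrrCharacter K (fun x : K => χ x)}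
    obtain ⟨K, hK⟩ := Set.Finite.exists_minimal (Set.toFinite S) ⟨⊤, inferInstance, le_top,
      isIrrCharacter_pullback hχ (⊤ : Subgroup G).subtype fun g => ⟨⟨g, Subgroup.mem_top g⟩, rfl⟩⟩
    obtain ⟨hKn, hNK, hKirr⟩ := hK.prop
    haveI := hKn
    have hNK' : N < K := lt_of_le_of_ne hNK fun h => hN (by subst h; exact hKirr)
    obtain ⟨L, hLn, hNL, hLK, hmax, hab⟩ := exists_chief_below N K hNK' hsolv
    haveI := hLn
    have hclass := isClassFunction_of_isCharacter (isCharacter_of_irr hχ)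
    rcases CfsgLib.GoingDown.trichotomy K L hLK hmax hab (fun x : K => χ x) hKirr
      (fun g k => hclass k g) with h | ⟨φ, e, _, _, he⟩ | ⟨F, hF, hFcard, hFsum⟩
    · exact absurd (hK.le_of_le ⟨hLn, hNL, h⟩ hLK.le) (not_le_of_gt hLK)
    · refine absurd ⟨e, by rw [← he, sq]⟩ (hchief ⊤ K L hNL hLK le_top
        (fun h _ k hk => hKn.conj_mem k hk h) (fun h _ l hl => hLn.conj_mem l hl h)
        fun M h1 h2 h3 => hmax M ⟨fun m hm g => h3 g (Subgroup.mem_top g) m hm⟩ h1 h2)
    have : Fintype L := Fintype.ofFinite _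
    have h1F : 1 < F.card := by
      rw [hFcard]
      have h0 : L.relIndex K ≠ 0 := Subgroup.index_ne_zero_of_finite (H := L.subgroupOf K)
      have h1 : L.relIndex K ≠ 1 := fun h => not_le_of_gt hLK (Subgroup.relIndex_eq_one.1 h)
      omega
    obtain ⟨φ, hφF, φ', hφ'F, hne⟩ := Finset.one_lt_card.1 h1F
    have hip : ∀ ψ ∈ F, Cfsg.classInner (fun x : L => χ x) ψ = 1 := by
      intro ψ hψ
      have hs : (fun x : L => χ x) = ∑ η ∈ F, η := hFsum
      rw [hs, classInner_sum_left, Finset.sum_eq_single ψ]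
      · exact classInner_irr_self (hF ψ hψ)
      · intro η hη hne'
        have h2 := classInner_irr (⟨η, hF η hη⟩ : Cfsg.IrrCharacter L) ⟨ψ, hF ψ hψ⟩
        rwa [if_neg fun h => hne' (congrArg Subtype.val h)] at h2
      · exact fun h => absurd hψ h
    have hconφ : Cfsg.classInner (fun x : L => χ x) φ ≠ 0 := by rw [hip φ hφF]; exact one_ne_zero
    set T := inertia hLn φ with hT
    have hTne : T ≠ ⊤ := by
      intro htop
      have hinv : ∀ (g : G) (x : L), φ ⟨g * x * g⁻¹, hLn.conj_mem (x : G) x.2 g⟩ = φ x :=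
        fun g x => mem_inertia.1 (show g ∈ inertia hLn φ from hT ▸ htop ▸ Subgroup.mem_top g) x
      have h := CfsgLib.Ramified.res_eq_smul_of_invariant L hχ (hF φ hφF) hinv hconφ
      have h2 := hip φ' hφ'F
      rw [h, classInner_smul_left, hip φ hφF, one_mul] at h2
      have h3 := classInner_irr (⟨φ, hF φ hφF⟩ : Cfsg.IrrCharacter L) ⟨φ', hF φ' hφ'F⟩
      rw [if_neg fun h => hne (congrArg Subtype.val h)] at h3
      exact one_ne_zero (h2.symm.trans h3)
    have hLT : L ≤ T := le_inertia hLn (irr_isClassFunction ⟨φ, hF φ hφF⟩)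
    have : Fintype T := Fintype.ofFinite _
    obtain ⟨ψ, hψ, hindψ, -⟩ := correspondence hLn (hF φ hφF) T hT hLT hχ hconφ
    have hNT : N ≤ T := hNL.trans hLT
    let N' : Subgroup T := N.subgroupOf T
    have hsolv' : Group.IsSolvable (T ⧸ N') := by
      haveI := hsolv
      refine Group.isSolvable_of_isSolvable_injective
        (f := QuotientGroup.map N' N T.subtype fun x hx => hx) ?_
      rw [← MonoidHom.ker_eq_bot_iff, eq_bot_iff]
      intro x hx
      induction x using QuotientGroup.induction_on with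
      | H x =>
        exact (QuotientGroup.eq_one_iff x).2
          ((QuotientGroup.eq_one_iff (x : G)).1 (MonoidHom.mem_ker.1 hx))
    have hchief' : ∀ (H K' L' : Subgroup T), N' ≤ L' → L' < K' → K' ≤ H →
        (∀ h ∈ H, ∀ k ∈ K', h * k * h⁻¹ ∈ K') → (∀ h ∈ H, ∀ l ∈ L', h * l * h⁻¹ ∈ L') →
        (∀ M : Subgroup T, L' ≤ M → M ≤ K' → (∀ h ∈ H, ∀ m ∈ M, h * m * h⁻¹ ∈ M) →
          M = L' ∨ M = K') → ¬ IsSquare (L'.relIndex K') := by
      intro H K' L' h1 h2 h3 h4 h5 h6
      have hinj := T.subtype_injective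
      have hrel : (L'.map T.subtype).relIndex (K'.map T.subtype) = L'.relIndex K' :=
        Subgroup.relIndex_map_map_of_injective L' K' hinj
      rw [← hrel]
      refine hchief (H.map T.subtype) (K'.map T.subtype) (L'.map T.subtype)
        (fun x hx => ⟨⟨x, hNT hx⟩, h1 hx, rfl⟩)
        (lt_of_le_of_ne (Subgroup.map_mono h2.le) fun h => h2.ne (Subgroup.map_injective hinj h))
        (Subgroup.map_mono h3) ?_ ?_ ?_
      · rintro _ ⟨h, hh, rfl⟩ _ ⟨k, hk, rfl⟩
        exact ⟨_, h4 h hh k hk, rfl⟩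
      · rintro _ ⟨h, hh, rfl⟩ _ ⟨k, hk, rfl⟩
        exact ⟨_, h5 h hh k hk, rfl⟩
      · intro M hM1 hM2 hM3
        have hMT : M ≤ T := hM2.trans (Subgroup.map_subtype_le K')
        have hMe : (M.subgroupOf T).map T.subtype = M := by
          rw [Subgroup.subgroupOf_map_subtype, inf_eq_left.2 hMT]
        rcases h6 (M.subgroupOf T) (fun x hx => hM1 ⟨x, hx, rfl⟩)
          (fun x hx => by
            obtain ⟨y, hy, hyx⟩ := hM2 hx
            exact (Subtype.ext hyx : y = x) ▸ hy)
          (fun h hh m hm => hM3 h ⟨h, hh, rfl⟩ m hm) with h | h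
        · exact Or.inl (by rw [← hMe, h])
        · exact Or.inr (by rw [← hMe, h])
    have hlt : Nat.card T < n := by
      rw [← hn]
      exact lt_of_lt_of_eq
        (Set.Finite.card_lt_card (Set.toFinite _) (SetLike.coe_ssubset_coe.2 hTne.lt_top))
        (Nat.card_congr (Subgroup.topEquiv (G := G)).toEquiv)
    obtain ⟨H, hNH, η, hη, hindη, hηN⟩ := ih _ hlt rfl N' hsolv' hchief' ψ hψ
    let eH := Subgroup.equivMapOfInjective H T.subtype T.subtype_injective
    refine ⟨H.map T.subtype, fun x hx => ⟨⟨x, hNT hx⟩, hNH hx, rfl⟩, fun y => η (eH.symm y),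
      isIrrCharacter_pullback hη eH.symm.toMonoidHom eH.symm.surjective, ?_, ?_⟩
    · rw [← hindψ, ← hindη]
      exact (CfsgLib.PermChar.indFun_map T H η).symm
    · have h := isIrrCharacter_pullback hηN (Subgroup.subgroupOfEquivOfLe hNT).symm.toMonoidHom
        (Subgroup.subgroupOfEquivOfLe hNT).symm.surjective
      convert h using 1
      funext x
      refine congrArg η (eH.injective ?_)
      rw [MulEquiv.apply_symm_apply]
      exact Subtype.ext rfl

end CfsgLib.RelMGroup
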