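import Cfsg.Agent.Lib.Characters.MackeySupp
import Cfsg.Agent.Lib.Characters.RelMGroup
import Cfsg.Agent.Lib.Characters.Ramified
import Cfsg.Agent.Lib.InvChar.Conj

/-!
# Characters induced from maximal subgroups with irreducible restriction to the core
-/

set_option autoImplicit false

noncomputable section

namespace CfsgLib.BergerLemma

open scoped ComplexConjugate
open CfsgLib.Characters

universe u

variable {G : Type u} [Group G] [Finite G]

/-- An abelian chief factor above `C` has prime-power order. -/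
theorem exists_chief_above (C : Subgroup G) [C.Normal] (hC : C ≠ ⊤)
    (hsolv : Group.IsSolvable (G ⧸ C)) :
    ∃ (M : Subgroup G) (p k : ℕ), M.Normal ∧ C < M ∧ ⁅M, M⁆ ≤ C ∧ p.Prime ∧
      C.relIndex M = p ^ k ∧ k ≠ 0 ∧
      ∀ N : Subgroup G, N.Normal → C ≤ N → N ≤ M → N = C ∨ N = M := by
  classical
  let S : Set (Subgroup G) := {M | M.Normal ∧ C < M}
  obtain ⟨M, hM⟩ := Set.Finite.exists_minimal (Set.toFinite S) ⟨⊤, inferInstance, hC.lt_top⟩
  obtain ⟨hMn, hCM⟩ := hM.prop
  haveI := hMn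
  have hmin : ∀ N : Subgroup G, N.Normal → C ≤ N → N ≤ M → N = C ∨ N = M := by
    intro N hN hCN hNM
    rcases eq_or_lt_of_le hCN with h | h
    · exact Or.inl h.symm
    · exact Or.inr (le_antisymm hNM (hM.le_of_le ⟨hN, h⟩ hNM))
  obtain ⟨L, hLn, hCL, hLM, -, hab⟩ := CfsgLib.RelMGroup.exists_chief_below C M hCM hsolv
  have hLC : L = C := (hmin L hLn hCL hLM.le).resolve_right hLM.ne
  rw [hLC] at hab
  let π := QuotientGroup.mk' C
  have hker : π.ker = C := QuotientGroup.ker_mk' C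
  have hidx : C.relIndex M = Nat.card (M.map π) := by
    rw [← Subgroup.relIndex_ker, hker]
  have hne1 : C.relIndex M ≠ 1 := fun h => not_le_of_gt hCM (Subgroup.relIndex_eq_one.1 h)
  obtain ⟨p, hp, hpdvd⟩ := Nat.exists_prime_and_dvd hne1
  have : Fact p.Prime := ⟨hp⟩
  have hcomm : ∀ x ∈ M, ∀ y ∈ M, π x * π y = π y * π x := by
    intro x hx y hy
    rw [← map_mul, ← map_mul, ← mul_inv_eq_one, ← map_inv, ← map_mul, QuotientGroup.mk'_apply,
      QuotientGroup.eq_one_iff]
    refine hab ?_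
    have := Subgroup.commutator_mem_commutator hx hy
    rw [commutatorElement_def] at this
    simpa [mul_assoc] using this
  have hpowle : ∀ {x : G} {a b : ℕ}, π x ^ p ^ a = 1 → a ≤ b → π x ^ p ^ b = 1 :=
    fun {x a b} h hle => by
      obtain ⟨c, hc⟩ := Nat.pow_dvd_pow p hle
      rw [hc, pow_mul, h, one_pow]
  let A : Subgroup G :=
    { carrier := {x | x ∈ M ∧ ∃ k, π x ^ p ^ k = 1}
      one_mem' := ⟨M.one_mem, 0, by simp⟩
      mul_mem' := by
        rintro x y ⟨hx, a, ha⟩ ⟨hy, b, hb⟩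
        refine ⟨M.mul_mem hx hy, max a b, ?_⟩
        rw [map_mul, (show Commute (π x) (π y) from hcomm x hx y hy).mul_pow,
          hpowle ha (le_max_left a b), hpowle hb (le_max_right a b), one_mul]
      inv_mem' := by
        rintro x ⟨hx, a, ha⟩
        exact ⟨M.inv_mem hx, a, by rw [map_inv, inv_pow, ha, inv_one]⟩ }
  have hA : A.Normal := ⟨by
    rintro x ⟨hx, a, ha⟩ g
    refine ⟨hMn.conj_mem x hx g, a, ?_⟩
    rw [map_mul, map_mul, map_inv, conj_pow, ha, mul_one, mul_inv_cancel]⟩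
  have hCA : C ≤ A := fun x hx => ⟨hCM.le hx, 0, by
    rw [pow_zero, pow_one, QuotientGroup.mk'_apply, QuotientGroup.eq_one_iff]; exact hx⟩
  have hAM : A = M := by
    refine (hmin A hA hCA fun x hx => hx.1).resolve_left fun hAC => ?_
    rw [hidx] at hpdvd
    obtain ⟨y, hy⟩ := exists_prime_orderOf_dvd_card' p hpdvd
    obtain ⟨x, hx, hxy⟩ := y.2
    have hxC : x ∈ C := hAC ▸ (show x ∈ A from ⟨hx, 1, by
      rw [pow_one, hxy, ← hy, ← Subgroup.orderOf_coe]; exact pow_orderOf_eq_one _⟩)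
    have h1 : (y : G ⧸ C) = 1 := by
      rw [← hxy, QuotientGroup.mk'_apply, QuotientGroup.eq_one_iff]; exact hxC
    rw [← Subgroup.orderOf_coe, h1, orderOf_one] at hy
    exact hp.one_lt.ne hy
  have hP : IsPGroup p (M.map π) := by
    rintro ⟨_, x, hx, rfl⟩
    obtain ⟨-, a, ha⟩ := (hAM ▸ hx : x ∈ A)
    exact ⟨a, Subtype.ext (by simpa using ha)⟩
  obtain ⟨k, hk⟩ := IsPGroup.iff_card.1 hP
  refine ⟨M, p, k, hMn, hCM, hab, hp, hidx.trans hk, fun h0 => hne1 ?_, hmin⟩
  rw [hidx, hk, h0, pow_zero]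

variable [Fintype G] (H : Subgroup G) [Fintype H]

/-- A normal subgroup whose intersection with `H` is centralised by a supplement modulo the core
meets `H` inside the core. -/
theorem inf_le_normalCore (hmax : IsCoatom H) (M K : Subgroup G) [M.Normal] [K.Normal]
    (hMH : ¬ M ≤ H)
    (hcent : ∀ m ∈ M, ∀ x ∈ K ⊓ H, m * x * m⁻¹ * x⁻¹ ∈ H.normalCore) :
    K ⊓ H ≤ H.normalCore := by
  have htop : M ⊔ H = ⊤ := hmax.2 _ (lt_of_le_of_ne le_sup_right fun h => hMH (h ▸ le_sup_left))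
  refine (Subgroup.normal_le_normalCore (hN := ⟨fun x hx g => ?_⟩)).2 inf_le_right
  have hg : g ∈ ((M ⊔ H : Subgroup G) : Set G) := by rw [htop]; exact Subgroup.mem_top g
  rw [Subgroup.normal_mul] at hg
  obtain ⟨m, hm, h, hh, rfl⟩ := hg
  have hx' : h * x * h⁻¹ ∈ K ⊓ H := ⟨(inferInstance : K.Normal).conj_mem _ hx.1 h,
    H.mul_mem (H.mul_mem hh hx.2) (H.inv_mem hh)⟩
  simp only
  have e : m * h * x * (m * h)⁻¹ = (m * (h * x * h⁻¹) * m⁻¹ * (h * x * h⁻¹)⁻¹) * (h * x * h⁻¹) := by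
    group
  rw [e]
  refine ⟨?_, H.mul_mem (H.normalCore_le (hcent m hm _ hx')) hx'.2⟩
  have := (inferInstance : K.Normal).conj_mem _ hx'.1 m
  exact K.mul_mem (K.mul_mem this (K.inv_mem hx'.1)) hx'.1

/-- Inner products are unchanged along isomorphisms. -/
theorem classInner_comp_equiv {A B : Type*} [Group A] [Group B] [Fintype A] [Fintype B] (e : A ≃* B)
    (f g : B → ℂ) :
    Cfsg.classInner (fun a => f (e a)) (fun a => g (e a)) = Cfsg.classInner f g := by
  unfold Cfsg.classInner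
  rw [Nat.card_congr e.toEquiv]
  congr 1
  exact Fintype.sum_equiv e.toEquiv _ _ fun a => rfl

/-- A character is irreducible when it is so on the image of a normal inclusion. -/
theorem irr_of_res {A B : Type u} [Group A] [Group B] [Finite B] (i : A →* B)
    (hi : Function.Injective i) (hn : i.range.Normal) {f : B → ℂ} (hf : Cfsg.IsCharacter B f)
    (h : Cfsg.IsIrrCharacter A (fun a => f (i a))) : Cfsg.IsIrrCharacter B f := by
  haveI := hn
  refine CfsgLib.CharExtension.isIrrCharacter_of_restrict i.range hf ?_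
  have h1 := CfsgLib.Clifford.isIrrCharacter_pullback h
    (MonoidHom.ofInjective hi).symm.toMonoidHom (MonoidHom.ofInjective hi).symm.surjective
  convert h1 using 1
  funext x
  exact congrArg f (congrArg Subtype.val ((MonoidHom.ofInjective hi).apply_symm_apply x).symm)

/-- Berger's lemma. -/
theorem exists_not_homogeneous (L : Subgroup G) [L.Normal] (hLH : L ≤ H) (hmax : IsCoatom H)
    (hsolv : Group.IsSolvable (G ⧸ L)) (ϑ : H → ℂ) (hϑ : Cfsg.IsIrrCharacter H ϑ)
    (hϑL : Cfsg.IsIrrCharacter L (fun x : L => ϑ ⟨(x : G), hLH x.2⟩))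
    (hind : Cfsg.IsIrrCharacter G (Cfsg.indFun H ϑ)) :
    ∃ M : Subgroup G, M.Normal ∧ L ≤ M ∧ ¬ ∃ (φ : M → ℂ) (e : ℕ),
      Cfsg.IsIrrCharacter M φ ∧ (fun m : M => Cfsg.indFun H ϑ m) = (e : ℂ) • φ := by
  classical
  by_contra hcon
  push Not at hcon
  set χ := Cfsg.indFun H ϑ with hχ
  have hχc := isCharacter_of_irr hind
  have hχclass := isClassFunction_of_isCharacter hχc
  have hϑclass := isClassFunction_of_isCharacter (isCharacter_of_irr hϑ)
  obtain ⟨d, hd0, hd⟩ := irr_exists_degree hϑ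
  -- homogeneity data
  have hhom : ∀ (K : Subgroup G), K.Normal → L ≤ K → ∃ (η : K → ℂ) (e : ℕ),
      Cfsg.IsIrrCharacter K η ∧ (fun m : K => χ m) = (e : ℂ) • η ∧ e ≠ 0 := by
    intro K hK hLK
    obtain ⟨η, e, h1, h2⟩ := hcon K hK hLK
    refine ⟨η, e, h1, h2, fun h0 => irr_one_ne_zero ⟨χ, hind⟩ ?_⟩
    have := congrFun h2 1
    rw [h0, Nat.cast_zero, zero_smul] at this
    exact this
  have hinv : ∀ (K : Subgroup G) (hK : K.Normal) (η : K → ℂ) (e : ℕ),
      (fun m : K => χ m) = (e : ℂ) • η → e ≠ 0 → ∀ (g : G) (x : K),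
        η ⟨g * x * g⁻¹, hK.conj_mem (x : G) x.2 g⟩ = η x := by
    intro K hK η e he he0 g x
    have h1 := congrFun he ⟨g * x * g⁻¹, hK.conj_mem (x : G) x.2 g⟩
    have h2 := congrFun he x
    simp only [Pi.smul_apply, smul_eq_mul] at h1 h2
    rw [hχclass, h2] at h1
    exact (mul_left_cancel₀ (Nat.cast_ne_zero.2 he0) h1).symm
  set C := H.normalCore with hCdef
  haveI hCn : C.Normal := H.normalCore_normal
  have hCH : C ≤ H := H.normalCore_le
  have hLC : L ≤ C := Subgroup.normal_le_normalCore.2 hLH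
  have hCtop : C ≠ ⊤ := fun h => hmax.1 (top_le_iff.1 (h ▸ hCH))
  have hsolvC : Group.IsSolvable (G ⧸ C) := by
    haveI := hsolv
    refine Group.isSolvable_of_surjective
      (f := QuotientGroup.lift L (QuotientGroup.mk' C) (hLC.trans (QuotientGroup.ker_mk' C).ge)) ?_
    exact QuotientGroup.lift_surjective_of_surjective L _ (QuotientGroup.mk'_surjective C) _
  have : Fintype C := Fintype.ofFinite _
  let φ : C → ℂ := fun c => ϑ ⟨(c : G), hCH c.2⟩
  have hφ : Cfsg.IsIrrCharacter C φ :=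
    irr_of_res (Subgroup.inclusion hLC) (Subgroup.inclusion_injective hLC)
      (by rw [Subgroup.inclusion_range]; exact (inferInstance : L.Normal).subgroupOf C)
      (CfsgLib.Clifford.isCharacter_pullback (isCharacter_of_irr hϑ) (Subgroup.inclusion hCH))
      hϑL
  have hφ1 : φ 1 = d := hd
  -- the restriction to the core
  obtain ⟨η₀, e₀, hη₀, hres₀, -⟩ := hhom C hCn hLC
  have hχ1 : χ 1 = (H.index : ℂ) * d := by
    rw [hχ, CfsgLib.Induction.indFun_one_apply, hd]
  have hconφ : Cfsg.classInner (fun c : C => χ c) φ ≠ 0 := by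
    let eC : C.subgroupOf H ≃* C := Subgroup.subgroupOfEquivOfLe hCH
    have : Fintype (C.subgroupOf H) := Fintype.ofFinite _
    rw [← classInner_comp_equiv eC]
    refine CfsgLib.Clifford.classInner_ne_zero_of_constituent
      (CfsgLib.Clifford.isCharacter_subtype hχc H) hϑ
      (CfsgLib.Clifford.isIrrCharacter_pullback hφ eC.toMonoidHom eC.surjective) ?_ ?_
    · rw [← CfsgLib.Induction.classInner_indFun_right H ϑ hχclass, ← hχ, classInner_irr_self hind]
      exact one_ne_zero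
    · show Cfsg.classInner (fun a => φ (eC a)) (fun a => φ (eC a)) ≠ 0
      rw [classInner_comp_equiv eC, classInner_irr_self hφ]
      exact one_ne_zero
  have hη₀φ : η₀ = φ := by
    by_contra hne
    rw [hres₀, classInner_smul_left] at hconφ
    have h := classInner_irr (⟨η₀, hη₀⟩ : Cfsg.IrrCharacter C) ⟨φ, hφ⟩
    rw [if_neg fun h' => hne (congrArg Subtype.val h')] at h
    exact hconφ (by rw [show Cfsg.classInner η₀ φ = 0 from h, mul_zero])
  rw [hη₀φ] at hres₀
  have he₀ : (e₀ : ℂ) = H.index := by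
    have h := congrFun hres₀ 1
    simp only [OneMemClass.coe_one, Pi.smul_apply, smul_eq_mul, hφ1, hχ1] at h
    exact (mul_right_cancel₀ (Nat.cast_ne_zero.2 hd0.ne') h).symm
  -- the chief factor `M / C`
  obtain ⟨M, p, k, hMn, hCM, hMab, hp, hpk, hk0, hMmin⟩ := exists_chief_above C hCtop hsolvC
  haveI := hMn
  have : Fintype M := Fintype.ofFinite _
  have hMH : ¬ M ≤ H := fun h => not_le_of_gt hCM (Subgroup.normal_le_normalCore.2 h)
  have hMHC : M ⊓ H = C := le_antisymm (inf_le_normalCore H hmax M M hMH fun m hm x hx => hMab (by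
      have := Subgroup.commutator_mem_commutator hm hx.1
      rwa [commutatorElement_def] at this)) (le_inf hCM.le hCH)
  have htop : M ⊔ H = ⊤ := hmax.2 _ (lt_of_le_of_ne le_sup_right fun h => hMH (h ▸ le_sup_left))
  have hsupp : ∀ (K : Subgroup G), M ≤ K → ∀ x : G, ∃ m ∈ K, m⁻¹ * x ∈ H := fun K hMK x => by
    have hx : x ∈ ((M ⊔ H : Subgroup G) : Set G) := by rw [htop]; exact Subgroup.mem_top x
    rw [Subgroup.normal_mul] at hx
    obtain ⟨m, hm, h, hh, rfl⟩ := hx
    exact ⟨m, hMK hm, by rwa [inv_mul_cancel_left]⟩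
  obtain ⟨η, eM, hη, hresM, heM0⟩ := hhom M hMn (hLC.trans hCM.le)
  have hmackM := CfsgLib.MackeySupp.res_indFun_of_supplement M H (hsupp M le_rfl) hϑclass
  have hQC : ∀ u : H.subgroupOf M, ((u : M) : G) ∈ C :=
    fun u => hMHC ▸ (⟨(u : M).2, u.2⟩ : ((u : M) : G) ∈ M ⊓ H)
  let eQ : H.subgroupOf M ≃* C :=
    { toFun := fun u => ⟨_, hQC u⟩
      invFun := fun c => ⟨⟨c, hCM.le c.2⟩, hCH c.2⟩
      left_inv := fun _ => rfl, right_inv := fun _ => rfl, map_mul' := fun _ _ => rfl }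
  have : Fintype (H.subgroupOf M) := Fintype.ofFinite _
  have hn : H.index = p ^ k := by
    have h := congrFun hmackM 1
    simp only [OneMemClass.coe_one] at h
    rw [CfsgLib.Induction.indFun_one_apply, CfsgLib.Induction.indFun_one_apply] at h
    have h' : (H.index : ℂ) * ϑ 1 = ((H.subgroupOf M).index : ℂ) * ϑ 1 := h
    have h'' : H.index = H.relIndex M :=
      Nat.cast_injective (mul_right_cancel₀ (by rw [hd]; exact Nat.cast_ne_zero.2 hd0.ne') h')
    rw [h'', ← hpk, ← hMHC, inf_comm, Subgroup.inf_relIndex_right]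
  have hnorm : eM ^ 2 = H.index := by
    have h1 : Cfsg.classInner (fun m : M => χ m) (fun m : M => χ m) = (H.index : ℂ) := by
      have hMc : Cfsg.IsClassFunction M (fun m : M => χ m) := fun a b => hχclass a b
      conv_lhs => arg 1; rw [hχ, hmackM]
      rw [CfsgLib.Induction.classInner_indFun _ _ hMc]
      show Cfsg.classInner (fun u => φ (eQ u)) (fun u => (fun c : C => χ c) (eQ u)) = _
      rw [classInner_comp_equiv eQ φ (fun c : C => χ c), hres₀, classInner_smul_right,
        classInner_irr_self hφ, Complex.conj_natCast, mul_one, he₀]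
    rw [hresM, classInner_smul_left, classInner_smul_right, classInner_irr_self hη,
      Complex.conj_natCast, mul_one] at h1
    rw [sq]
    exact_mod_cast h1
  -- the chief factor `K / M`
  have hn1 : H.index ≠ 1 := fun h => hmax.1 (Subgroup.index_eq_one.1 h)
  have hMtop : M ≠ ⊤ := by
    intro h
    refine hn1 ?_
    have hirr : Cfsg.IsIrrCharacter M (fun m : M => χ m) :=
      CfsgLib.Clifford.isIrrCharacter_pullback hind M.subtype fun g =>
        ⟨⟨g, h ▸ Subgroup.mem_top g⟩, rfl⟩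
    have h2 := classInner_irr_self hirr
    rw [hresM, classInner_smul_left, classInner_smul_right, classInner_irr_self hη,
      Complex.conj_natCast, mul_one] at h2
    rw [← hnorm, sq]
    exact_mod_cast h2
  have hsolvM : Group.IsSolvable (G ⧸ M) := by
    haveI := hsolvC
    refine Group.isSolvable_of_surjective
      (f := QuotientGroup.lift C (QuotientGroup.mk' M) (hCM.le.trans (QuotientGroup.ker_mk' M).ge)) ?_
    exact QuotientGroup.lift_surjective_of_surjective C _ (QuotientGroup.mk'_surjective M) _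
  obtain ⟨K, q, l, hKn, hMK, -, hq, hql, -, -⟩ := exists_chief_above M hMtop hsolvM
  haveI := hKn
  have : Fintype K := Fintype.ofFinite _
  have hnc : ¬ ∀ m ∈ M, ∀ x ∈ K ⊓ H, m * x * m⁻¹ * x⁻¹ ∈ C := by
    intro h
    refine not_le_of_gt hMK ?_
    have hKC := inf_le_normalCore H hmax M K hMH h
    intro x hx
    obtain ⟨m, hm, hmx⟩ := hsupp M le_rfl x
    have hmK : m⁻¹ * x ∈ K := K.mul_mem (K.inv_mem (hMK.le hm)) hx
    have := M.mul_mem hm (hCM.le (hKC ⟨hmK, hmx⟩))
    rwa [mul_inv_cancel_left] at this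
  have hpq : p ≠ q := by
    intro hpq
    have : Fact p.Prime := ⟨hp⟩
    let π := QuotientGroup.mk' C
    have hker : π.ker = C := QuotientGroup.ker_mk' C
    have hcard : Nat.card (K.map π) = p ^ (k + l) := by
      rw [← Subgroup.relIndex_ker, hker, ← Subgroup.relIndex_mul_relIndex C M K hCM.le hMK.le, hpk,
        hql, ← hpq, pow_add]
    let Mb : Subgroup (K.map π) := (M.map π).subgroupOf (K.map π)
    have : Mb.Normal := ((inferInstance : M.Normal).map π (QuotientGroup.mk'_surjective C)).subgroupOf _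
    obtain ⟨z, hzM, hz1, hzc⟩ := CfsgLib.InvChar.exists_ne_one_mem_center (IsPGroup.of_card hcard) Mb
      (fun hb => by
        have hle : M.map π ≤ ⊥ := fun x hx => by
          have hxK : x ∈ K.map π := Subgroup.map_mono hMK.le hx
          have h' : (⟨x, hxK⟩ : K.map π) ∈ Mb := hx
          rw [hb, Subgroup.mem_bot] at h'
          exact congrArg Subtype.val h'
        rw [le_bot_iff, Subgroup.map_eq_bot_iff, hker] at hle
        exact not_le_of_gt hCM hle)
    let Z : Subgroup G :=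
      { carrier := {m | m ∈ M ∧ ∀ y ∈ K, Commute (π m) (π y)}
        one_mem' := ⟨M.one_mem, fun y _ => by rw [map_one]; exact Commute.one_left _⟩
        mul_mem' := fun {a b} ha hb => ⟨M.mul_mem ha.1 hb.1, fun y hy => by
          rw [map_mul]; exact (ha.2 y hy).mul_left (hb.2 y hy)⟩
        inv_mem' := fun {a} ha => ⟨M.inv_mem ha.1, fun y hy => by
          rw [map_inv]; exact (ha.2 y hy).inv_left⟩ }
    have hZn : Z.Normal := ⟨fun m hm g => ⟨hMn.conj_mem m hm.1 g, fun y hy => by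
      have h := hm.2 _ (hKn.conj_mem' y hy g)
      have h2 := h.map (MulAut.conj (π g)).toMonoidHom
      simpa [mul_assoc] using h2⟩⟩
    have hCZ : C ≤ Z := fun c hc => ⟨hCM.le hc, fun y _ => by
      rw [show π c = 1 from (QuotientGroup.eq_one_iff c).2 hc]; exact Commute.one_left _⟩
    rcases hMmin Z hZn hCZ (fun m hm => hm.1) with hZ | hZ
    · obtain ⟨z', hz'M, hz'⟩ := hzM
      refine hz1 (Subtype.ext ?_)
      rw [Subgroup.coe_one, Subgroup.coe_subtype] at *
      rw [← hz']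
      refine (QuotientGroup.eq_one_iff z').2 (hZ ▸ (show z' ∈ Z from ⟨hz'M, fun y hy => ?_⟩))
      have h := Subgroup.mem_center_iff.1 hzc ⟨π y, y, hy, rfl⟩
      have h' := congrArg Subtype.val h
      simp only [Subgroup.coe_mul] at h'
      rw [show π z' = (z : G ⧸ C) from hz']
      exact h'.symm
    · refine hnc fun m hm x hx => ?_
      have h := (hZ ▸ hm : m ∈ Z).2 x hx.1
      rw [← QuotientGroup.eq_one_iff]
      show π (m * x * m⁻¹ * x⁻¹) = 1
      rw [map_mul, map_mul, map_mul, map_inv, map_inv, h.eq, mul_inv_cancel_right, mul_inv_cancel]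
  -- the restriction to `K`
  obtain ⟨ξ, f, hξ, hresK, hf0⟩ := hhom K hKn (hLC.trans (hCM.le.trans hMK.le))
  have hξinv := hinv K hKn ξ f hresK hf0
  let M' : Subgroup K := M.subgroupOf K
  let eM' : M' ≃* M := Subgroup.subgroupOfEquivOfLe hMK.le
  have : Fintype M' := Fintype.ofFinite _
  have hη' : Cfsg.IsIrrCharacter M' (fun x => η (eM' x)) :=
    CfsgLib.Clifford.isIrrCharacter_pullback hη eM'.toMonoidHom eM'.surjective
  obtain ⟨a, ha⟩ := classInner_char_nat
    (CfsgLib.Clifford.isCharacter_subtype (isCharacter_of_irr hξ) M') (isCharacter_of_irr hη')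
  have hfa : f * a = eM := by
    have h : Cfsg.classInner (fun x : M' => χ ((x : K) : G)) (fun x => η (eM' x)) = (f : ℂ) * a := by
      rw [show (fun x : M' => χ ((x : K) : G)) = (f : ℂ) • fun x : M' => ξ x from
        funext fun x => congrFun hresK (x : K), classInner_smul_left, ha]
    have h' : Cfsg.classInner (fun x : M' => χ ((x : K) : G)) (fun x => η (eM' x)) = (eM : ℂ) := by
      rw [show (fun x : M' => χ ((x : K) : G)) = (eM : ℂ) • fun x : M' => η (eM' x) from
        funext fun x => congrFun hresM (eM' x), classInner_smul_left, classInner_irr_self hη',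
        mul_one]
    exact_mod_cast h.symm.trans h'
  have ha1 : a = 1 := by
    have ha0 : a ≠ 0 := fun h0 => heM0 (by rw [← hfa, h0, mul_zero])
    have hη'inv : ∀ (g : K) (x : M'), η (eM' ⟨g * x * g⁻¹,
        ((inferInstance : M.Normal).subgroupOf K).conj_mem (x : K) x.2 g⟩) = η (eM' x) :=
      fun g x => hinv M hMn η eM hresM heM0 (g : G) (eM' x)
    have : M'.Normal := (inferInstance : M.Normal).subgroupOf K
    have hdvd := CfsgLib.Ramified.mult_dvd_index M' hξ hη' hη'inv a ha ha0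
    change a ∣ M.relIndex K at hdvd
    rw [hql] at hdvd
    have hdvd2 : a ∣ p ^ k := hn ▸ hnorm ▸ (Dvd.intro_left f hfa).trans (dvd_pow_self eM two_ne_zero)
    exact Nat.eq_one_of_dvd_coprimes
      (Nat.Coprime.pow k l ((Nat.coprime_primes hp hq).2 hpq)) hdvd2 hdvd
  rw [ha1, mul_one] at hfa
  have hξM : ∀ x : M', ξ x = η (eM' x) := fun x => by
    have h1 := congrFun hresK (x : K)
    have h2 := congrFun hresM (eM' x)
    simp only [Pi.smul_apply, smul_eq_mul, hfa] at h1 h2
    exact mul_left_cancel₀ (Nat.cast_ne_zero.2 heM0) (h1.symm.trans h2)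
  let Q : Subgroup K := H.subgroupOf K
  have : Fintype Q := Fintype.ofFinite _
  let ι : Q →* H :=
    { toFun := fun u => ⟨((u : K) : G), u.2⟩, map_one' := rfl, map_mul' := fun _ _ => rfl }
  let ϑQ : Q → ℂ := fun u => ϑ (ι u)
  have hϑQ : Cfsg.IsIrrCharacter Q ϑQ := by
    let j : C →* Q :=
      { toFun := fun c => ⟨⟨(c : G), hMK.le (hCM.le c.2)⟩, hCH c.2⟩
        map_one' := rfl, map_mul' := fun _ _ => rfl }
    refine irr_of_res j (fun a b h => Subtype.ext (congrArg (fun z : Q => ((z : K) : G)) h))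
      ⟨?_⟩ (CfsgLib.Clifford.isCharacter_pullback (isCharacter_of_irr hϑ) ι) hφ
    rintro _ ⟨c, rfl⟩ g
    exact ⟨⟨_, hCn.conj_mem (c : G) c.2 ((g : K) : G)⟩, rfl⟩
  have hmackK := CfsgLib.MackeySupp.res_indFun_of_supplement K H (hsupp K hMK.le) hϑclass
  have hfQ : Cfsg.classInner (fun u : Q => ξ u) ϑQ = (f : ℂ) := by
    have h := CfsgLib.Induction.classInner_indFun_right Q ϑQ
      (isClassFunction_of_isCharacter (isCharacter_of_irr hξ))
    have hm : (fun n : K => χ n) = Cfsg.indFun Q ϑQ := hmackK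
    rw [← h, ← hm, hresK, classInner_smul_right, classInner_irr_self hξ,
      Complex.conj_natCast, mul_one]
  have hξ1 : ξ 1 = (eM : ℂ) * d := by
    have h := congrFun hresK 1
    simp only [OneMemClass.coe_one, Pi.smul_apply, smul_eq_mul, hχ1, hfa, ← hnorm] at h
    refine mul_left_cancel₀ (Nat.cast_ne_zero.2 heM0) (h.symm.trans ?_)
    push_cast
    ring
  have hξQ : ∀ u : Q, ξ u = (eM : ℂ) * ϑQ u := fun u => by
    have h := congrFun (CfsgLib.MackeySupp.eq_smul_of_degree
      (CfsgLib.Clifford.isCharacter_subtype (isCharacter_of_irr hξ) Q) hϑQ (by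
        rw [hfQ, hfa]
        show ξ 1 = (eM : ℂ) * ϑ 1
        rw [hξ1, hd])) u
    rw [Pi.smul_apply, smul_eq_mul, hfQ, hfa] at h
    exact h
  -- the character of the conjugation action on the commutant of the core
  let C1 : Subgroup K := C.subgroupOf K
  have : C1.Normal := hCn.subgroupOf K
  have : Fintype C1 := Fintype.ofFinite _
  set F := CfsgLib.NormalAvg.pairAvg C1 ξ ξ with hF
  have hFc : Cfsg.IsCharacter K F :=
    CfsgLib.NormalAvg.isCharacter_pairAvg C1 (isCharacter_of_irr hξ) (isCharacter_of_irr hξ)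
  let C2 : Subgroup H := C.subgroupOf H
  have : C2.Normal := hCn.subgroupOf H
  have : Fintype C2 := Fintype.ofFinite _
  let e12 : C1 ≃* C2 :=
    (Subgroup.subgroupOfEquivOfLe (hCM.le.trans hMK.le)).trans (Subgroup.subgroupOfEquivOfLe hCH).symm
  have hFQ : ∀ u : Q, F u = (eM : ℂ) ^ 2 := by
    intro u
    let e2 : C2 ≃* C := Subgroup.subgroupOfEquivOfLe hCH
    have hone := congrFun (CfsgLib.NormalAvg.pairAvg_self C2 (isCharacter_of_irr hϑ)
      (CfsgLib.Clifford.isIrrCharacter_pullback hφ e2.toMonoidHom e2.surjective)) (ι u)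
    rw [hF, CfsgLib.NormalAvg.pairAvg_apply]
    rw [CfsgLib.NormalAvg.pairAvg_apply] at hone
    rw [Nat.card_congr e12.toEquiv]
    refine Eq.trans ?_ ((congrArg ((eM : ℂ) ^ 2 * ·) hone).trans (mul_one _))
    rw [mul_left_comm]
    congr 1
    rw [Finset.mul_sum]
    refine Fintype.sum_equiv e12.toEquiv _ _ fun c => ?_
    have hmem : ((c : K) * (u : K)) ∈ Q :=
      Q.mul_mem (Subgroup.mem_subgroupOf.2 (hCH c.2)) u.2
    have h := hξQ ⟨_, hmem⟩
    simp only at h
    rw [h, map_mul, Complex.conj_natCast]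
    show (eM : ℂ) * ϑ _ * ((eM : ℂ) * conj (ϑ _)) = (eM : ℂ) ^ 2 * (ϑ _ * conj (ϑ _))
    rw [sq]
    ring_nf
    rfl
  have hF1 : F 1 = (eM : ℂ) ^ 2 := hFQ 1
  have hFinv : ∀ (g : G) (x : K), F ⟨g * x * g⁻¹, hKn.conj_mem (x : G) x.2 g⟩ = F x := by
    intro g x
    rw [hF, CfsgLib.NormalAvg.pairAvg_apply, CfsgLib.NormalAvg.pairAvg_apply]
    congr 1
    let cg : C1 ≃ C1 :=
      { toFun := fun c => ⟨⟨g * ((c : K) : G) * g⁻¹, hKn.conj_mem _ (c : K).2 g⟩,
          hCn.conj_mem _ c.2 g⟩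
        invFun := fun c => ⟨⟨g⁻¹ * ((c : K) : G) * g, hKn.conj_mem' _ (c : K).2 g⟩,
          hCn.conj_mem' _ c.2 g⟩
        left_inv := fun c => Subtype.ext (Subtype.ext (by simp [mul_assoc]))
        right_inv := fun c => Subtype.ext (Subtype.ext (by simp [mul_assoc])) }
    symm
    refine Fintype.sum_equiv cg _ _ fun c => ?_
    have e : ((cg c : C1) : K) * ⟨g * x * g⁻¹, hKn.conj_mem (x : G) x.2 g⟩ =
        ⟨g * (((c : K) * x : K) : G) * g⁻¹, hKn.conj_mem _ ((c : K) * x).2 g⟩ :=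
      Subtype.ext (by simp [cg, mul_assoc])
    rw [e, hξinv g ((c : K) * x)]
  obtain ⟨r, ρ, hρ⟩ := hFc
  let N : Subgroup G :=
    { carrier := {x | ∃ hx : x ∈ K, ρ ⟨x, hx⟩ = 1}
      one_mem' := ⟨K.one_mem, map_one ρ⟩
      mul_mem' := fun {a b} ⟨ha, ha'⟩ ⟨hb, hb'⟩ => ⟨K.mul_mem ha hb, by
        rw [show (⟨a * b, K.mul_mem ha hb⟩ : K) = ⟨a, ha⟩ * ⟨b, hb⟩ from rfl, map_mul, ha', hb',
          one_mul]⟩
      inv_mem' := fun {a} ⟨ha, ha'⟩ => ⟨K.inv_mem ha, by
        have := congrArg (ρ ⟨a⁻¹, K.inv_mem ha⟩ * ·) ha'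
        simp only [← map_mul, mul_one] at this
        rw [← this, show (⟨a⁻¹, K.inv_mem ha⟩ : K) * ⟨a, ha⟩ = 1 from Subtype.ext (inv_mul_cancel a),
          map_one]⟩ }
  have hNiff : ∀ (x : G) (hx : x ∈ K), x ∈ N ↔ F ⟨x, hx⟩ = F 1 := fun x hx => by
    rw [← hρ, Representation.char_one, char_eq_degree_iff]
    exact ⟨fun ⟨_, h⟩ => h, fun h => ⟨hx, h⟩⟩
  have hNn : N.Normal := ⟨fun x ⟨hx, h⟩ g =>
    (hNiff _ (hKn.conj_mem x hx g)).2 ((hFinv g ⟨x, hx⟩).trans ((hNiff x hx).1 ⟨hx, h⟩))⟩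
  have hCN : C ≤ N := fun c hc => (hNiff c (hMK.le (hCM.le hc))).2 (by
    have := CfsgLib.NormalAvg.avgN_mul_left C1 (fun g => ξ g * conj (ξ g))
      ⟨⟨c, hMK.le (hCM.le hc)⟩, hc⟩ 1
    rw [mul_one] at this
    exact this)
  rcases hMmin (N ⊓ M) inferInstance (le_inf hCN hCM.le) inf_le_right with h | h
  · refine hnc fun m hm x hx => ?_
    have hxN : x ∈ N := (hNiff x hx.1).2 ((hFQ ⟨⟨x, hx.1⟩, hx.2⟩).trans hF1.symm)
    rw [← h]
    refine ⟨N.mul_mem (hNn.conj_mem x hxN m) (N.inv_mem hxN), ?_⟩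
    rw [mul_assoc, mul_assoc, ← mul_assoc x]
    exact M.mul_mem hm (hMn.conj_mem _ (M.inv_mem hm) x)
  · -- the average over `M` is one
    have hsum : ∑ m : M', F m = (Nat.card M' : ℂ) * (eM : ℂ) ^ 2 := by
      rw [Finset.sum_congr rfl fun (m : M') _ => ((hNiff _ (m : K).2).1
        (h.symm.le (Subgroup.mem_subgroupOf.1 m.2 : ((m : K) : G) ∈ M)).1).trans hF1,
        Finset.sum_const, Finset.card_univ, nsmul_eq_mul, Nat.card_eq_fintype_card]
    have hsum' : ∑ m : M', F m = ∑ m : M', ξ m * conj (ξ m) := by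
      simp only [hF, CfsgLib.NormalAvg.pairAvg_apply]
      rw [← Finset.mul_sum, Finset.sum_comm]
      have hc : ∀ c : C1, ∑ m : M', ξ ((c : K) * m) * conj (ξ ((c : K) * m)) =
          ∑ m : M', ξ m * conj (ξ m) := fun c =>
        Fintype.sum_equiv (Equiv.mulLeft (⟨(c : K), hCM.le c.2⟩ : M')) _ _ fun m => rfl
      rw [Finset.sum_congr rfl fun c _ => hc c, Finset.sum_const, Finset.card_univ, nsmul_eq_mul,
        ← Nat.card_eq_fintype_card, inv_mul_cancel_left₀ (Nat.cast_ne_zero.2 Nat.card_pos.ne')]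
    have h1 := classInner_irr_self hη'
    unfold Cfsg.classInner at h1
    rw [← Finset.sum_congr rfl (fun m _ => by rw [hξM m] :
      ∀ m ∈ (Finset.univ : Finset M'), ξ m * conj (ξ m) = η (eM' m) * conj (η (eM' m))), ← hsum',
      hsum, inv_mul_cancel_left₀ (Nat.cast_ne_zero.2 Nat.card_pos.ne')] at h1
    refine hn1 ?_
    rw [← hnorm]
    exact_mod_cast h1

end CfsgLib.BergerLemma
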