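import Cfsg.Agent.Lib.Characters.Extension
import Cfsg.Agent.Lib.Characters.NormalAvg

/-!
# A finite central extension to which an invariant character extends
-/

set_option autoImplicit false

noncomputable section

namespace CfsgLib.ProjectiveCover

open CfsgLib.Characters CfsgLib.CharExtension CfsgLib.LinearExt

universe u

variable {G : Type u} [Group G] [Finite G]

/-- An invariant character of a normal subgroup extends to a finite central extension. -/
theorem exists_cover (N : Subgroup G) [hN : N.Normal] {θ : N → ℂ}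
    (hθ : Cfsg.IsIrrCharacter N θ)
    (hinv : ∀ (g : G) (n : N), θ ⟨g * n * g⁻¹, hN.conj_mem (n : G) n.2 g⟩ = θ n) :
    ∃ (Γ : Type u) (_ : Group Γ) (_ : Finite Γ) (π : Γ →* G) (j : N →* Γ) (W : Γ → ℂ),
      Function.Surjective π ∧ (∀ n : N, π (j n) = n) ∧ j.range.Normal ∧
      π.ker ≤ Subgroup.center Γ ∧ Cfsg.IsCharacter Γ W ∧ ∀ n : N, W (j n) = θ n := by
  classical
  obtain ⟨d, ρ, hρ, rfl⟩ := hθ
  obtain ⟨φ, hφ⟩ := powExtends_index_top N ρ hinv
  set m := N.index with hm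
  have hm0 : m ≠ 0 := Subgroup.index_ne_zero_of_finite
  have : NeZero m := ⟨hm0⟩
  let Γ := φ.ker
  let π : Γ →* G := (proj N ρ).comp Γ.subtype
  have hsurj : Function.Surjective π := by
    intro g
    obtain ⟨γ, hγ⟩ := proj_surjective N ρ hinv g
    obtain ⟨c, hc⟩ := exists_root m (Nat.pos_of_ne_zero hm0) (φ γ)⁻¹
    let z : interGroup N ρ := ⟨_, sc_mem N ρ c 1⟩
    have hz : z ∈ preim N ρ N := (1 : N).2
    have hcz : coordN N ρ ⟨z, hz⟩ = c :=
      sc_injective (pos_of_irreducible ρ)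
        (mul_right_cancel (b := rhoU N ρ 1) (coordN_spec N ρ ⟨z, hz⟩).symm)
    refine ⟨⟨γ * z, MonoidHom.mem_ker.2 ?_⟩, ?_⟩
    · rw [map_mul, hφ ⟨z, hz⟩, hcz, zpow_natCast, hc, mul_inv_cancel]
    · show proj N ρ (γ * z) = g
      rw [map_mul, hγ]
      exact mul_one g
  let Z : Subgroup Γ := N.comap π
  have hcm : ∀ x : Z, coordN N ρ ⟨(x : Γ), x.2⟩ ^ m = 1 := fun x => by
    have := (hφ ⟨(x : Γ), x.2⟩).symm.trans (x : Γ).2
    rwa [zpow_natCast] at this
  have hfinZ : Finite Z := by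
    refine Finite.of_injective (β := N × rootsOfUnity m ℂ)
      (fun x => (⟨π x, x.2⟩, ⟨coordN N ρ ⟨(x : Γ), x.2⟩, (mem_rootsOfUnity _ _).2 (hcm x)⟩)) ?_
    intro x y h
    simp only [Prod.mk.injEq, Subtype.mk.injEq] at h
    refine Subtype.ext (Subtype.ext (Subtype.ext (Prod.ext (congrArg Subtype.val h.1) ?_)))
    have h1 := coordN_spec N ρ ⟨(x : Γ), x.2⟩
    have h2 := coordN_spec N ρ ⟨(y : Γ), y.2⟩
    have h3 : (⟨π x, x.2⟩ : N) = ⟨π y, y.2⟩ := h.1
    refine h1.trans (Eq.trans ?_ h2.symm)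
    congr 1
    · rw [h.2]
    · exact congrArg (rhoU N ρ) h3
  have hZidx : Z.index = m := Subgroup.index_comap_of_surjective N hsurj
  have hfin : Finite Γ := by
    have : Z.FiniteIndex := ⟨by rw [hZidx]; exact hm0⟩
    exact Finite.of_equiv _ (Subgroup.groupEquivQuotientProdSubgroup (s := Z)).symm
  have hlift : ∀ n : N, liftN N ρ n ∈ Γ := fun n => by
    have hmem : liftN N ρ n ∈ preim N ρ N := n.2
    refine MonoidHom.mem_ker.2 ((hφ ⟨_, hmem⟩).trans ?_)
    have : coordN N ρ ⟨_, hmem⟩ = 1 := sc_injective (pos_of_irreducible ρ)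
      (mul_right_cancel (b := rhoU N ρ n) (by
        rw [map_one, one_mul]
        exact (coordN_spec N ρ ⟨_, hmem⟩).symm))
    rw [this, one_zpow]
  let j : N →* Γ := (liftN N ρ).codRestrict Γ hlift
  let σ : Representation ℂ Γ (Fin d → ℂ) := (Units.coeHom _).comp ((op N ρ).comp Γ.subtype)
  refine ⟨Γ, inferInstance, hfin, π, j, σ.character, hsurj, fun n => rfl, ⟨?_⟩, ?_,
    isCharacter_character σ, fun n => rfl⟩
  · rintro _ ⟨n, rfl⟩ γ
    refine ⟨conjN N (π γ) n, Subtype.ext (Subtype.ext (Prod.ext rfl ?_))⟩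
    show rhoU N ρ (conjN N (π γ) n) = op N ρ γ * rhoU N ρ n * (op N ρ γ)⁻¹
    rw [eq_mul_inv_iff_mul_eq]
    exact (op_spec N ρ γ n).symm
  · intro z hz
    have hz1 : proj N ρ z = 1 := hz
    have hzm : proj N ρ (z : interGroup N ρ) ∈ N := hz1 ▸ N.one_mem
    obtain ⟨c, hc⟩ := exists_coord N ρ hzm
    have hc' : op N ρ z = sc d c := by
      rw [hc, show (⟨proj N ρ (z : interGroup N ρ), hzm⟩ : N) = 1 from Subtype.ext hz1, map_one,
        mul_one]
    refine Subgroup.mem_center_iff.2 fun y => Subtype.ext (Subtype.ext (Prod.ext ?_ ?_))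
    · show proj N ρ y * proj N ρ z = proj N ρ z * proj N ρ y
      rw [hz1, one_mul, mul_one]
    · show op N ρ y * op N ρ z = op N ρ z * op N ρ y
      rw [hc', sc_commute]

end CfsgLib.ProjectiveCover
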