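import Cfsg.Agent.Lib.Characters.BergerLemma
import Cfsg.Agent.Lib.Characters.BergerKey
import Cfsg.Agent.Lib.Characters.ProjectiveCover

/-!
# Berger's theorem: quasi-primitive characters of solvable groups are primitive
-/

set_option autoImplicit false

noncomputable section

namespace CfsgLib.Berger

open scoped ComplexConjugate
open CfsgLib.Characters CfsgLib.BergerLemma CfsgLib.SupplementAvg

universe u

variable {G : Type u} [Group G] [Fintype G]

/-- Induction commutes with pulling back along a surjection. -/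
theorem indFun_comap {Γ : Type u} [Group Γ] [Fintype Γ] (π : Γ →* G) (hπ : Function.Surjective π)
    (H : Subgroup G) (θ : H → ℂ) :
    Cfsg.indFun (H.comap π) (fun y => θ ⟨π y, y.2⟩) = fun x => Cfsg.indFun H θ (π x) := by
  classical
  funext x
  rw [CfsgLib.Induction.indFun_apply, CfsgLib.Induction.indFun_apply]
  have hterm : ∀ y : Γ, Cfsg.extendByZero (H.comap π) (fun y => θ ⟨π y, y.2⟩) (y⁻¹ * x * y) =
      Cfsg.extendByZero H θ ((π y)⁻¹ * π x * π y) := by
    intro y
    by_cases hy : (π y)⁻¹ * π x * π y ∈ H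
    · rw [CfsgLib.Induction.extendByZero_mem H θ hy, CfsgLib.Induction.extendByZero_mem (H.comap π)
        (fun y => θ ⟨π y, y.2⟩) (g := y⁻¹ * x * y) (by simpa [Subgroup.mem_comap] using hy)]
      exact congrArg θ (Subtype.ext (by simp))
    · rw [CfsgLib.Induction.extendByZero_notMem H θ hy, CfsgLib.Induction.extendByZero_notMem
        (H.comap π) (fun y => θ ⟨π y, y.2⟩) (g := y⁻¹ * x * y) (by simpa [Subgroup.mem_comap] using hy)]
  rw [Finset.sum_congr rfl fun y _ => hterm y,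
    ← Finset.sum_fiberwise (Finset.univ : Finset Γ) (fun y => π y)
      (fun y => Cfsg.extendByZero H θ ((π y)⁻¹ * π x * π y))]
  have hfib : ∀ g : G, (Finset.univ.filter fun y => π y = g).card = Nat.card π.ker := by
    intro g
    obtain ⟨y₀, rfl⟩ := hπ g
    let e : {y : Γ // π y = π y₀} ≃ π.ker :=
      { toFun := fun y => ⟨y₀⁻¹ * y, by rw [MonoidHom.mem_ker, map_mul, map_inv, y.2, inv_mul_cancel]⟩
        invFun := fun z => ⟨y₀ * z, by rw [map_mul, MonoidHom.mem_ker.1 z.2, mul_one]⟩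
        left_inv := fun y => Subtype.ext (by simp)
        right_inv := fun z => Subtype.ext (by simp) }
    rw [← Nat.card_congr e, Nat.card_eq_fintype_card, Fintype.card_subtype]
  have hsum : ∀ g : G, ∑ y ∈ Finset.univ.filter (fun y => π y = g),
      Cfsg.extendByZero H θ ((π y)⁻¹ * π x * π y) =
      (Nat.card π.ker : ℂ) * Cfsg.extendByZero H θ (g⁻¹ * π x * g) := fun g => by
    rw [Finset.sum_congr rfl fun y hy => by rw [(Finset.mem_filter.1 hy).2], Finset.sum_const,
      nsmul_eq_mul, hfib g]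
  rw [Finset.sum_congr rfl fun g _ => hsum g, ← Finset.mul_sum]
  have hcard : Nat.card (H.comap π) = Nat.card H * Nat.card π.ker := by
    have h1 := (H.comap π).card_mul_index
    rw [Subgroup.index_comap_of_surjective H hπ] at h1
    have h2 := π.ker.card_mul_index
    rw [Subgroup.index_ker, MonoidHom.range_eq_top.2 hπ, Subgroup.card_top, ← H.card_mul_index] at h2
    refine Nat.eq_of_mul_eq_mul_right (Nat.pos_of_ne_zero (Subgroup.index_ne_zero_of_finite (H := H))) ?_
    rw [h1, ← h2]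
    ring
  rw [hcard, Nat.cast_mul]
  have h1 : (Nat.card π.ker : ℂ) ≠ 0 := Nat.cast_ne_zero.2 Nat.card_pos.ne'
  have h2 : (Nat.card H : ℂ) ≠ 0 := Nat.cast_ne_zero.2 Nat.card_pos.ne'
  field_simp

variable (H : Subgroup G) [Fintype H]

/-- A chief factor `K / M` of coprime order not centralising `M` modulo the core. -/
theorem exists_coprime_chief (hmax : IsCoatom H) (M : Subgroup G) [M.Normal] (p k : ℕ)
    (hp : p.Prime) (hCM : H.normalCore < M) (hMtop : M ≠ ⊤) (hpk : H.normalCore.relIndex M = p ^ k)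
    (hMH : ¬ M ≤ H)
    (hMmin : ∀ N : Subgroup G, N.Normal → H.normalCore ≤ N → N ≤ M → N = H.normalCore ∨ N = M)
    (hsolv : Group.IsSolvable (G ⧸ M)) :
    ∃ (K : Subgroup G) (q l : ℕ), K.Normal ∧ M < K ∧ q.Prime ∧ p ≠ q ∧ M.relIndex K = q ^ l ∧
      ¬ ∀ m ∈ M, ∀ x ∈ K ⊓ H, m * x * m⁻¹ * x⁻¹ ∈ H.normalCore := by
  obtain ⟨K, q, l, hKn, hMK, -, hq, hql, -, -⟩ := exists_chief_above M hMtop hsolv
  haveI := hKn
  have hnc : ¬ ∀ m ∈ M, ∀ x ∈ K ⊓ H, m * x * m⁻¹ * x⁻¹ ∈ H.normalCore := by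
    intro h
    refine not_le_of_gt hMK ?_
    have hKC := inf_le_normalCore H hmax M K hMH h
    have htop : M ⊔ H = ⊤ := hmax.2 _ (lt_of_le_of_ne le_sup_right fun h => hMH (h ▸ le_sup_left))
    intro x hx
    have hx' : x ∈ ((M ⊔ H : Subgroup G) : Set G) := by rw [htop]; exact Subgroup.mem_top x
    rw [Subgroup.normal_mul] at hx'
    obtain ⟨m, hm, y, hy, rfl⟩ := hx'
    refine M.mul_mem hm (hCM.le (hKC ⟨?_, hy⟩))
    have := K.mul_mem (K.inv_mem (hMK.le hm)) hx
    rwa [inv_mul_cancel_left] at this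
  refine ⟨K, q, l, hKn, hMK, hq, ?_, hql, hnc⟩
  intro hpq
  have : Fact p.Prime := ⟨hp⟩
  let π := QuotientGroup.mk' H.normalCore
  have hker : π.ker = H.normalCore := QuotientGroup.ker_mk' _
  have hcard : Nat.card (K.map π) = p ^ (k + l) := by
    rw [← Subgroup.relIndex_ker, hker, ← Subgroup.relIndex_mul_relIndex _ M K hCM.le hMK.le, hpk,
      hql, ← hpq, pow_add]
  let Mb : Subgroup (K.map π) := (M.map π).subgroupOf (K.map π)
  have : Mb.Normal :=
    ((inferInstance : M.Normal).map π (QuotientGroup.mk'_surjective _)).subgroupOf _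
  obtain ⟨z, hzM, hz1, hzc⟩ := CfsgLib.InvChar.exists_ne_one_mem_center (IsPGroup.of_card hcard) Mb
    (fun hb => by
      have hle : M.map π ≤ ⊥ := fun x hx => by
        have hxK : x ∈ K.map π := Subgroup.map_mono hMK.le hx
        have h' : (⟨x, hxK⟩ : K.map π) ∈ Mb := hx
        rw [hb, Subgroup.mem_bot] at h'
        exact congrArg Subtype.val h'
      rw [le_bot_iff, Subgroup.map_eq_bot_iff, hker] at hle
      exact not_le_of_gt hCM hle)
  let Z : Subgroup G :=
    { carrier := {m | m ∈ M ∧ ∀ y ∈ K, Commute (π m) (π y)}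
      one_mem' := ⟨M.one_mem, fun y _ => by rw [map_one]; exact Commute.one_left _⟩
      mul_mem' := fun {a b} ha hb => ⟨M.mul_mem ha.1 hb.1, fun y hy => by
        rw [map_mul]; exact (ha.2 y hy).mul_left (hb.2 y hy)⟩
      inv_mem' := fun {a} ha => ⟨M.inv_mem ha.1, fun y hy => by
        rw [map_inv]; exact (ha.2 y hy).inv_left⟩ }
  have hZn : Z.Normal := ⟨fun m hm g => ⟨(inferInstance : M.Normal).conj_mem m hm.1 g, fun y hy => by
    have h := hm.2 _ (hKn.conj_mem' y hy g)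
    have h2 := h.map (MulAut.conj (π g)).toMonoidHom
    simpa [mul_assoc] using h2⟩⟩
  have hCZ : H.normalCore ≤ Z := fun c hc => ⟨hCM.le hc, fun y _ => by
    rw [show π c = 1 from (QuotientGroup.eq_one_iff c).2 hc]; exact Commute.one_left _⟩
  rcases hMmin Z hZn hCZ (fun m hm => hm.1) with hZ | hZ
  · obtain ⟨z', hz'M, hz'⟩ := hzM
    refine hz1 (Subtype.ext ?_)
    rw [Subgroup.coe_one, Subgroup.coe_subtype] at *
    rw [← hz']
    refine (QuotientGroup.eq_one_iff z').2 (hZ ▸ (show z' ∈ Z from ⟨hz'M, fun y hy => ?_⟩))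
    have h := Subgroup.mem_center_iff.1 hzc ⟨π y, y, hy, rfl⟩
    have h' := congrArg Subtype.val h
    simp only [Subgroup.coe_mul] at h'
    rw [show π z' = (z : G ⧸ H.normalCore) from hz']
    exact h'.symm
  · refine hnc fun m hm x hx => ?_
    have h := (hZ ▸ hm : m ∈ Z).2 x hx.1
    rw [← QuotientGroup.eq_one_iff]
    show π (m * x * m⁻¹ * x⁻¹) = 1
    rw [map_mul, map_mul, map_mul, map_inv, map_inv, h.eq, mul_inv_cancel_right, mul_inv_cancel]

/-- If a quasi-primitive character is induced from a maximal subgroup, it is induced from a proper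
subgroup with larger core. -/
theorem exists_larger_core [Group.IsSolvable G] {χ : G → ℂ} (hχ : Cfsg.IsIrrCharacter G χ)
    (hqp : ∀ N : Subgroup G, N.Normal → ∃ (θ : N → ℂ) (e : ℕ), Cfsg.IsIrrCharacter N θ ∧
      (fun n : N => χ n) = (e : ℂ) • θ)
    (hmax : IsCoatom H) {ϑ : H → ℂ} (hϑc : Cfsg.IsCharacter H ϑ) (hind : Cfsg.indFun H ϑ = χ) :
    ∃ (T : Subgroup G) (ξ : T → ℂ), T ≠ ⊤ ∧ Cfsg.IsCharacter T ξ ∧ Cfsg.indFun T ξ = χ ∧
      H.normalCore < T.normalCore := by
  classical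
  have hχc := isCharacter_of_irr hχ
  have hχclass := isClassFunction_of_isCharacter hχc
  have hϑclass := isClassFunction_of_isCharacter hϑc
  have hϑ : Cfsg.IsIrrCharacter H ϑ := irr_of_indFun H hϑc (hind.symm ▸ hχ)
  -- homogeneity data
  have hhom : ∀ (K : Subgroup G), K.Normal → ∃ (η : K → ℂ) (e : ℕ),
      Cfsg.IsIrrCharacter K η ∧ (fun m : K => χ m) = (e : ℂ) • η ∧ e ≠ 0 := by
    intro K hK
    obtain ⟨η, e, h1, h2⟩ := hqp K hK
    refine ⟨η, e, h1, h2, fun h0 => irr_one_ne_zero ⟨χ, hχ⟩ ?_⟩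
    have := congrFun h2 1
    rw [h0, Nat.cast_zero, zero_smul] at this
    exact this
  have hinv : ∀ (K : Subgroup G) (hK : K.Normal) (η : K → ℂ) (e : ℕ),
      (fun m : K => χ m) = (e : ℂ) • η → e ≠ 0 → ∀ (g : G) (x : K),
        η ⟨g * x * g⁻¹, hK.conj_mem (x : G) x.2 g⟩ = η x := by
    intro K hK η e he he0 g x
    have h1 := congrFun he ⟨g * x * g⁻¹, hK.conj_mem (x : G) x.2 g⟩
    have h2 := congrFun he x
    simp only [Pi.smul_apply, smul_eq_mul] at h1 h2
    rw [hχclass, h2] at h1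
    exact (mul_left_cancel₀ (Nat.cast_ne_zero.2 he0) h1).symm
  -- the core
  set C := H.normalCore with hCdef
  haveI hCn : C.Normal := H.normalCore_normal
  have hCH : C ≤ H := H.normalCore_le
  have hCtop : C ≠ ⊤ := fun h => hmax.1 (top_le_iff.1 (h ▸ hCH))
  have : Fintype C := Fintype.ofFinite _
  obtain ⟨φ, e₀, hφ, hresC, he₀⟩ := hhom C hCn
  obtain ⟨d, hd0, hd⟩ := irr_exists_degree hφ
  let C' : Subgroup H := C.subgroupOf H
  have : Fintype C' := Fintype.ofFinite _
  let eH : C' ≃* C := Subgroup.subgroupOfEquivOfLe hCH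
  have hφ' : Cfsg.IsIrrCharacter C' (fun x => φ (eH x)) :=
    CfsgLib.Clifford.isIrrCharacter_pullback hφ eH.toMonoidHom eH.surjective
  have hχHϑ : Cfsg.classInner (fun h : H => χ h) ϑ ≠ 0 := by
    rw [← CfsgLib.Induction.classInner_indFun_right H ϑ hχclass, hind, classInner_irr_self hχ]
    exact one_ne_zero
  obtain ⟨a, ha0, ha⟩ := CfsgLib.BergerKey.res_constituent_eq_smul
    (CfsgLib.Clifford.isCharacter_subtype hχc H) hϑ hχHϑ C' hφ' (e₀ : ℂ)
    (funext fun x => congrFun hresC (eH x))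
  -- the chief factor `M / C`
  have hsolvC : Group.IsSolvable (G ⧸ C) :=
    Group.isSolvable_of_surjective (QuotientGroup.mk'_surjective C)
  obtain ⟨M, p, k, hMn, hCM, hMab, hp, hpk, hk0, hMmin⟩ := exists_chief_above C hCtop hsolvC
  haveI := hMn
  have : Fintype M := Fintype.ofFinite _
  have hMH : ¬ M ≤ H := fun h => not_le_of_gt hCM (Subgroup.normal_le_normalCore.2 h)
  have hMHC : M ⊓ H = C := le_antisymm (inf_le_normalCore H hmax M M hMH fun m hm x hx => hMab (by
      have := Subgroup.commutator_mem_commutator hm hx.1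
      rwa [commutatorElement_def] at this)) (le_inf hCM.le hCH)
  have htop : M ⊔ H = ⊤ := hmax.2 _ (lt_of_le_of_ne le_sup_right fun h => hMH (h ▸ le_sup_left))
  have hsupp : ∀ x : G, ∃ m ∈ M, m⁻¹ * x ∈ H := fun x => by
    have hx : x ∈ ((M ⊔ H : Subgroup G) : Set G) := by rw [htop]; exact Subgroup.mem_top x
    rw [Subgroup.normal_mul] at hx
    obtain ⟨m, hm, h, hh, rfl⟩ := hx
    exact ⟨m, hm, by rwa [inv_mul_cancel_left]⟩
  obtain ⟨η, e, hη, hresM, he⟩ := hhom M hMn
  -- the ramification number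
  let CM : Subgroup M := C.subgroupOf M
  have : Fintype CM := Fintype.ofFinite _
  let eM : CM ≃* C := Subgroup.subgroupOfEquivOfLe hCM.le
  have hφM : Cfsg.IsIrrCharacter CM (fun x => φ (eM x)) :=
    CfsgLib.Clifford.isIrrCharacter_pullback hφ eM.toMonoidHom eM.surjective
  obtain ⟨f, hf0, hf⟩ := CfsgLib.BergerKey.res_constituent_eq_smul
    (CfsgLib.Clifford.isCharacter_subtype hχc M) hη (by
      rw [hresM, classInner_smul_left, classInner_irr_self hη, mul_one]
      exact Nat.cast_ne_zero.2 he) CM hφM (e₀ : ℂ) (funext fun x => congrFun hresC (eM x))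
  obtain ⟨dη, hdη0, hdη⟩ := irr_exists_degree hη
  have hdηf : dη = f * d := by
    have h := congrFun hf 1
    simp only [OneMemClass.coe_one, Pi.smul_apply, smul_eq_mul, map_one, hdη, hd] at h
    exact_mod_cast h
  have hϑ1 : ϑ 1 = ((a * d : ℕ) : ℂ) := by
    have h := congrFun ha 1
    simp only [OneMemClass.coe_one, Pi.smul_apply, smul_eq_mul, map_one, hd] at h
    rw [h, Nat.cast_mul]
  have : Fintype (H.subgroupOf M) := Fintype.ofFinite _
  have hmack := CfsgLib.MackeySupp.res_indFun_of_supplement M H hsupp hϑclass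
  rw [hind] at hmack
  have hidxH : H.index = p ^ k := by
    have h := congrFun hmack 1
    simp only [OneMemClass.coe_one] at h
    have h0 : χ 1 = (H.index : ℂ) * ϑ 1 := by rw [← hind, CfsgLib.Induction.indFun_one_apply]
    rw [h0, CfsgLib.Induction.indFun_one_apply] at h
    have h' : (H.index : ℂ) * ϑ 1 = ((H.subgroupOf M).index : ℂ) * ϑ 1 := h
    have h'' : H.index = H.relIndex M := Nat.cast_injective (mul_right_cancel₀ (by
      rw [hϑ1]; exact Nat.cast_ne_zero.2 (Nat.mul_ne_zero ha0 hd0.ne')) h')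
    rw [h'', ← hpk, ← hMHC, inf_comm, Subgroup.inf_relIndex_right]
  have hfsq : f ^ 2 = p ^ k := by
    have hQC : ∀ u : H.subgroupOf M, ((u : M) : G) ∈ C :=
      fun u => hMHC ▸ (⟨(u : M).2, u.2⟩ : ((u : M) : G) ∈ M ⊓ H)
    let eQ : H.subgroupOf M ≃* C :=
      { toFun := fun u => ⟨_, hQC u⟩
        invFun := fun c => ⟨⟨c, hCM.le c.2⟩, hCH c.2⟩
        left_inv := fun _ => rfl, right_inv := fun _ => rfl, map_mul' := fun _ _ => rfl }
    have h1 : Cfsg.classInner (fun m : M => χ m) η = ((a * f : ℕ) : ℂ) := by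
      rw [hmack, CfsgLib.Induction.classInner_indFun _ _
        (isClassFunction_of_isCharacter (isCharacter_of_irr hη))]
      have e1 : (fun u : H.subgroupOf M => ϑ ⟨((u : M) : G), u.2⟩) = fun u => ((a : ℂ) • φ) (eQ u) :=
        funext fun u => congrFun ha ⟨⟨((u : M) : G), u.2⟩, hQC u⟩
      have e2 : (fun u : H.subgroupOf M => η u) = fun u => ((f : ℂ) • φ) (eQ u) :=
        funext fun u => congrFun hf ⟨(u : M), hQC u⟩
      rw [e1, e2, CfsgLib.BergerKey.classInner_comp_equiv eQ ((a : ℂ) • φ) ((f : ℂ) • φ),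
        classInner_smul_left, classInner_smul_right, classInner_irr_self hφ, Complex.conj_natCast,
        mul_one, Nat.cast_mul]
    rw [hresM, classInner_smul_left, classInner_irr_self hη, mul_one, Nat.cast_inj] at h1
    have h2 := congrFun hresM 1
    have h0 : χ 1 = (H.index : ℂ) * ϑ 1 := by rw [← hind, CfsgLib.Induction.indFun_one_apply]
    simp only [OneMemClass.coe_one, Pi.smul_apply, smul_eq_mul, h0, hϑ1, hdη, hidxH] at h2
    have h3 : p ^ k * (a * d) = e * dη := by exact_mod_cast h2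
    rw [h1, hdηf] at h3
    refine (Nat.eq_of_mul_eq_mul_right (Nat.mul_pos (Nat.pos_of_ne_zero ha0) hd0) ?_).symm
    rw [h3]
    ring
  have hf1 : f ≠ 1 := fun h => by
    rw [h, one_pow] at hfsq
    exact (Nat.one_lt_pow hk0 hp.one_lt).ne hfsq
  have hMtop : M ≠ ⊤ := by
    intro h
    have hHC : H = C := by rw [← hMHC, h, top_inf_eq]
    have hirr : Cfsg.IsIrrCharacter M (fun m : M => χ m) :=
      CfsgLib.Clifford.isIrrCharacter_pullback hχ M.subtype fun g =>
        ⟨⟨g, h ▸ Subgroup.mem_top g⟩, rfl⟩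
    have he1 : e = 1 := by
      have h2 := classInner_irr_self hirr
      rw [hresM, classInner_smul_left, classInner_smul_right, classInner_irr_self hη,
        Complex.conj_natCast, mul_one] at h2
      exact Nat.eq_one_of_mul_eq_one_right (n := e) (by exact_mod_cast h2)
    have h2 := congrFun hresM 1
    have h0 : χ 1 = (H.index : ℂ) * ϑ 1 := by rw [← hind, CfsgLib.Induction.indFun_one_apply]
    simp only [OneMemClass.coe_one, Pi.smul_apply, smul_eq_mul, h0, hϑ1, hdη, hidxH, he1] at h2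
    have h3 : p ^ k * (a * d) = 1 * dη := by exact_mod_cast h2
    rw [one_mul, hdηf, ← hfsq, ← mul_assoc] at h3
    have h4 := Nat.eq_of_mul_eq_mul_right hd0 h3
    rw [sq, mul_assoc] at h4
    have h5 : f * a = 1 := Nat.eq_of_mul_eq_mul_left (Nat.pos_of_ne_zero hf0) (by rw [h4, mul_one])
    exact hf1 (Nat.eq_one_of_mul_eq_one_right h5)
  have hsolvM : Group.IsSolvable (G ⧸ M) :=
    Group.isSolvable_of_surjective (QuotientGroup.mk'_surjective M)
  obtain ⟨K, q, l, hKn, hMK, hq, hpq, hql, hnc⟩ :=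
    exists_coprime_chief H hmax M p k hp hCM hMtop hpk hMH hMmin hsolvM
  haveI := hKn
  -- the cover
  obtain ⟨Γ, _, _, π, j, W, hπ, hπj, hNn, hker, hW, hWj⟩ :=
    CfsgLib.ProjectiveCover.exists_cover M hη (hinv M hMn η e hresM he)
  have : Fintype Γ := Fintype.ofFinite _
  let N : Subgroup Γ := j.range
  haveI : N.Normal := hNn
  have : Fintype N := Fintype.ofFinite _
  have hj : Function.Injective j := fun x y h => Subtype.ext (by rw [← hπj, ← hπj, h])
  let eN : M ≃* N := MonoidHom.ofInjective hj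
  have hWN : Cfsg.IsIrrCharacter N (fun n : N => W n) := by
    have h := CfsgLib.Clifford.isIrrCharacter_pullback hη eN.symm.toMonoidHom eN.symm.surjective
    convert h using 1
    funext n
    obtain ⟨m, rfl⟩ := eN.surjective n
    show W (j m) = η (eN.symm (eN m))
    rw [eN.symm_apply_apply, hWj]
  let ψ : Γ → ℂ := fun x => χ (π x)
  have hψ : Cfsg.IsIrrCharacter Γ ψ := CfsgLib.Clifford.isIrrCharacter_pullback hχ π hπ
  have hψW : Cfsg.classInner (fun n : N => ψ n) (fun n : N => W n) ≠ 0 := by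
    rw [← CfsgLib.BergerKey.classInner_comp_equiv eN]
    have e1 : (fun m : M => ψ (eN m)) = (e : ℂ) • η := by
      rw [← hresM]
      funext m
      show χ (π (j m)) = χ m
      rw [hπj]
    have e2 : (fun m : M => W (eN m)) = η := funext hWj
    rw [e1, e2, classInner_smul_left, classInner_irr_self hη, mul_one]
    exact Nat.cast_ne_zero.2 he
  let Hh : Subgroup Γ := H.comap π
  let Qh : Subgroup Γ := (K ⊓ H).comap π
  have : Fintype Hh := Fintype.ofFinite _
  let ϑh : Hh → ℂ := fun y => ϑ ⟨π y, y.2⟩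
  have hϑh : Cfsg.IsCharacter Hh ϑh := CfsgLib.Clifford.isCharacter_pullback hϑc
    ({ toFun := fun y : Hh => ⟨π (y : Γ), y.2⟩, map_one' := Subtype.ext (map_one π),
       map_mul' := fun x y : Hh => Subtype.ext (map_mul π (x : Γ) (y : Γ)) } : Hh →* H)
  have hindh : Cfsg.indFun Hh ϑh = ψ := by
    rw [show ψ = fun x => Cfsg.indFun H ϑ (π x) from by rw [hind]]
    exact indFun_comap π hπ H ϑ
  have hsuppΓ : ∀ x : Γ, ∃ n ∈ N, n⁻¹ * x ∈ Hh := fun x => by
    obtain ⟨m, hm, hmx⟩ := hsupp (π x)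
    exact ⟨j ⟨m, hm⟩, ⟨_, rfl⟩, by
      show π ((j ⟨m, hm⟩)⁻¹ * x) ∈ H
      rwa [map_mul, map_inv, hπj]⟩
  have hQH : Qh ≤ Hh := Subgroup.comap_mono inf_le_right
  have hQn : (Qh.subgroupOf Hh).Normal := ⟨fun x hx g =>
    ⟨by
      show π ((g : Γ) * (x : Γ) * (g : Γ)⁻¹) ∈ K
      rw [map_mul, map_mul, map_inv]
      exact hKn.conj_mem _ hx.1 _, (g * x * g⁻¹).2⟩⟩
  have hNC : ∀ x ∈ N, π x ∈ H → π x ∈ C := by
    rintro _ ⟨m, rfl⟩ hm
    rw [hπj] at hm ⊢
    exact hMHC ▸ (⟨m.2, hm⟩ : (m : G) ∈ M ⊓ H)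
  have hL : N ⊓ Hh ≤ Qh := fun x hx =>
    ⟨hMK.le (hCM.le (hNC x hx.1 hx.2)), hx.2⟩
  have : Fintype (N.subgroupOf Hh) := Fintype.ofFinite _
  have : Fintype (Qh.subgroupOf Hh) := Fintype.ofFinite _
  let eC : N.subgroupOf Hh ≃* C :=
    { toFun := fun u => ⟨π ((u : Hh) : Γ), hNC _ u.2 (u : Hh).2⟩
      invFun := fun c => ⟨⟨j ⟨c, hCM.le c.2⟩, by
        show π (j ⟨c, hCM.le c.2⟩) ∈ H
        rw [hπj]; exact hCH c.2⟩, ⟨_, rfl⟩⟩
      left_inv := fun u => by
        obtain ⟨m, hm⟩ := u.2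
        refine Subtype.ext (Subtype.ext ?_)
        show j ⟨π ((u : Hh) : Γ), _⟩ = _
        have hm' : j m = ((u : Hh) : Γ) := hm
        conv_rhs => rw [← hm']
        exact congrArg j (Subtype.ext (by
          show π ((u : Hh) : Γ) = m
          rw [← hm', hπj]))
      right_inv := fun c => Subtype.ext (hπj ⟨c, hCM.le c.2⟩)
      map_mul' := fun u v => Subtype.ext (map_mul π _ _) }
  have hφ₀ : Cfsg.IsIrrCharacter (N.subgroupOf Hh) (fun u => φ (eC u)) :=
    CfsgLib.Clifford.isIrrCharacter_pullback hφ eC.toMonoidHom eC.surjective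
  have hϑa : (fun u : N.subgroupOf Hh => ϑh u) = (a : ℂ) • fun u => φ (eC u) :=
    funext fun u => congrFun ha ⟨⟨π ((u : Hh) : Γ), (u : Hh).2⟩, (eC u).2⟩
  have hWf : (fun u : N.subgroupOf Hh => W ((u : Hh) : Γ)) = (f : ℂ) • fun u => φ (eC u) := by
    funext u
    obtain ⟨m, hm⟩ := u.2
    have hm' : j m = ((u : Hh) : Γ) := hm
    have hmC : (m : G) ∈ C := by
      have h := (eC u).2
      change π ((u : Hh) : Γ) ∈ C at h
      rwa [← hm', hπj] at h
    show W ((u : Hh) : Γ) = (f : ℂ) * φ (eC u)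
    rw [← hm', hWj]
    refine (congrFun hf ⟨m, hmC⟩).trans ?_
    show (f : ℂ) * φ (eM _) = (f : ℂ) * φ (eC u)
    congr 2
    refine Subtype.ext ?_
    show (m : G) = π ((u : Hh) : Γ)
    rw [← hm', hπj]
  refine Exists.elim (CfsgLib.BergerKey.exists_smaller N Hh Qh hsuppΓ
    hQH hQn hL hψ hW hWN hψW hϑh hindh hφ₀ a f hϑa ha0 hWf ?_) ?_
  · -- `W` is not homogeneous on `Qh`
    intro hWH β hβ htopT
    let Q' : Subgroup Hh := Qh.subgroupOf Hh
    haveI : Q'.Normal := hQn
    have hres := CfsgLib.Ramified.res_eq_smul_of_invariant Q' hWH β.2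
      (fun g x => CfsgLib.Clifford.mem_inertia.1 (show g ∈ _ from htopT ▸ Subgroup.mem_top g) x) hβ
    obtain ⟨c, hc⟩ := classInner_char_nat (CfsgLib.Clifford.isCharacter_subtype
      (isCharacter_of_irr hWH) Q') (irr_isCharacter β)
    rw [hc] at hres
    have hc0 : c ≠ 0 := fun h0 => hβ (by rw [hc, h0, Nat.cast_zero])
    let WQ : Q' → ℂ := fun x => W ((x : Hh) : Γ)
    have hWQc : Cfsg.IsCharacter Q' WQ :=
      CfsgLib.Clifford.isCharacter_subtype (isCharacter_of_irr hWH) Q'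
    let toKH : Q' →* (K ⊓ H : Subgroup G) :=
      { toFun := fun x => ⟨π ((x : Hh) : Γ), x.2⟩
        map_one' := Subtype.ext (map_one π), map_mul' := fun x y => Subtype.ext (map_mul π _ _) }
    have htoKH : Function.Surjective toKH := fun g => by
      obtain ⟨x, hx⟩ := hπ g
      refine ⟨⟨⟨x, by show π x ∈ H; rw [hx]; exact g.2.2⟩, by
        show π x ∈ K ⊓ H
        rw [hx]; exact g.2⟩, Subtype.ext hx⟩
    let Lh : Subgroup Q' := (C.subgroupOf (K ⊓ H)).comap toKH
    haveI : Lh.Normal := (hCn.subgroupOf _).comap toKH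
    have : Fintype Lh := Fintype.ofFinite _
    have hLidx : Lh.index = q ^ l := by
      rw [Subgroup.index_comap_of_surjective _ htoKH]
      show C.relIndex (K ⊓ H) = q ^ l
      rw [← hql]
      have h1 : M.relIndex ((K ⊓ H) ⊔ M) = M.relIndex (K ⊓ H) := Subgroup.relIndex_sup_right _ _
      have h2 : (K ⊓ H) ⊔ M = K := by
        refine le_antisymm (sup_le inf_le_left hMK.le) fun x hx => ?_
        obtain ⟨m, hm, hmx⟩ := hsupp x
        rw [← mul_inv_cancel_left m x]
        exact Subgroup.mul_mem _ (Subgroup.mem_sup_right hm)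
          (Subgroup.mem_sup_left ⟨K.mul_mem (K.inv_mem (hMK.le hm)) hx, hmx⟩)
      rw [h2] at h1
      rw [h1, ← Subgroup.inf_relIndex_right M (K ⊓ H)]
      congr 1
      rw [← hMHC]
      exact le_antisymm (fun x hx => ⟨hx.1, ⟨hMK.le hx.1, hx.2⟩⟩) fun x hx => ⟨hx.1, hx.2.2⟩
    let ι : Q' →* Γ := Hh.subtype.comp Q'.subtype
    let Nq : Subgroup Q' := N.comap ι
    haveI : Nq.Normal := hNn.comap ι
    have : Fintype Nq := Fintype.ofFinite _
    let eCq : Nq ≃* N.subgroupOf Hh :=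
      { toFun := fun u => ⟨(u : Q'), u.2⟩
        invFun := fun u => ⟨⟨(u : Hh), hL ⟨u.2, (u : Hh).2⟩⟩, u.2⟩
        left_inv := fun _ => rfl, right_inv := fun _ => rfl, map_mul' := fun _ _ => rfl }
    have hφq : Cfsg.IsIrrCharacter Nq (fun u => φ (eC (eCq u))) :=
      CfsgLib.Clifford.isIrrCharacter_pullback hφ₀ eCq.toMonoidHom eCq.surjective
    have hWq : (fun u : Nq => WQ u) = (f : ℂ) • fun u => φ (eC (eCq u)) :=
      funext fun u => congrFun hWf (eCq u)
    have hWβ : Cfsg.classInner WQ (β : Q' → ℂ) ≠ 0 := hβ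
    obtain ⟨b, -, hb⟩ := CfsgLib.BergerKey.res_constituent_eq_smul hWQc β.2 hWβ Nq hφq (f : ℂ) hWq
    obtain ⟨ξ, hξ⟩ := CfsgLib.Clifford.exists_constituent
      (CfsgLib.Clifford.isCharacter_subtype (irr_isCharacter β) Lh)
      (fun h0 => irr_one_ne_zero β (congrFun h0 1))
    have hξW : Cfsg.classInner (fun x : Lh => WQ x) (ξ : Lh → ℂ) ≠ 0 :=
      CfsgLib.Clifford.classInner_ne_zero_of_constituent hWQc β.2 ξ.2 hWβ hξ
    let N2 : Subgroup Lh := Nq.subgroupOf Lh
    haveI : N2.Normal := (inferInstance : Nq.Normal).subgroupOf Lh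
    have : Fintype N2 := Fintype.ofFinite _
    have hNqL : Nq ≤ Lh := fun u hu => hNC _ hu (u : Hh).2
    let e2 : N2 ≃* Nq := Subgroup.subgroupOfEquivOfLe hNqL
    have hξi : Cfsg.IsIrrCharacter N2 (fun u : N2 => (ξ : Lh → ℂ) u) := by
      refine irr_res_of_central (fun x => ?_) ξ.2
      have hxC : π (ι (x : Q')) ∈ C := x.2
      set m : M := ⟨_, hCM.le hxC⟩ with hm
      have hjH : j m ∈ Hh := by show π (j m) ∈ H; rw [hπj]; exact hCH hxC
      have hjQ : (⟨j m, hjH⟩ : Hh) ∈ Q' := hL ⟨⟨m, rfl⟩, hjH⟩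
      have hjL : (⟨⟨j m, hjH⟩, hjQ⟩ : Q') ∈ Lh := by show π (j m) ∈ C; rw [hπj]; exact hxC
      refine ⟨⟨⟨⟨j m, hjH⟩, hjQ⟩, hjL⟩, ⟨m, rfl⟩, Subgroup.mem_center_iff.2 fun y => ?_⟩
      have hz : (j m)⁻¹ * ι (x : Q') ∈ π.ker := by
        rw [MonoidHom.mem_ker, map_mul, map_inv, hπj]
        exact inv_mul_cancel _
      have hcomm := Subgroup.mem_center_iff.1 (hker hz) (ι (y : Q'))
      exact Subtype.ext (Subtype.ext (Subtype.ext hcomm))
    have hφ2 : Cfsg.IsIrrCharacter N2 (fun u => φ (eC (eCq (e2 u)))) :=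
      CfsgLib.Clifford.isIrrCharacter_pullback hφq e2.toMonoidHom e2.surjective
    have hξ1 : (ξ : Lh → ℂ) 1 = (d : ℂ) := by
      obtain ⟨b', -, hb'⟩ := CfsgLib.BergerKey.res_constituent_eq_smul
        (CfsgLib.Clifford.isCharacter_subtype hWQc Lh) ξ.2 hξW N2 hφ2 (f : ℂ)
        (funext fun u => congrFun hWq (e2 u))
      have hb'1 : b' = 1 := by
        have h2 := classInner_irr_self hξi
        rw [hb', classInner_smul_left, classInner_smul_right, classInner_irr_self hφ2,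
          Complex.conj_natCast, mul_one] at h2
        exact Nat.eq_one_of_mul_eq_one_right (n := b') (by exact_mod_cast h2)
      have := congrFun hb' 1
      simp only [OneMemClass.coe_one, Pi.smul_apply, smul_eq_mul, map_one, hd, hb'1, Nat.cast_one,
        one_mul] at this
      exact this
    obtain ⟨r, hr, hrd⟩ := CfsgLib.Ramified.degree_ratio_dvd_index Lh β.2 ξ.2 hξ
    have hβb : (β : Q' → ℂ) 1 = (b : ℂ) * d := by
      have := congrFun hb 1
      simp only [OneMemClass.coe_one, Pi.smul_apply, smul_eq_mul, map_one, hd] at this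
      exact this
    have hrb : r = b := by
      rw [hβb, hξ1] at hr
      exact_mod_cast (mul_right_cancel₀ (Nat.cast_ne_zero.2 hd0.ne') hr).symm
    have hcb : c * b = f := by
      have h1 := congrFun hres 1
      have h2 := congrFun hWq 1
      simp only [OneMemClass.coe_one, Pi.smul_apply, smul_eq_mul, map_one, hd, hβb] at h1 h2
      have h3 : WQ 1 = W 1 := rfl
      rw [h3, h1, ← mul_assoc] at h2
      exact_mod_cast mul_right_cancel₀ (Nat.cast_ne_zero.2 hd0.ne') h2
    have hb1 : b = 1 := by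
      refine Nat.eq_one_of_dvd_coprimes
        (Nat.Coprime.pow k l ((Nat.coprime_primes hp hq).2 hpq)) ?_ (hLidx ▸ hrb ▸ hrd)
      rw [← hfsq]
      exact (Dvd.intro_left c hcb).trans (dvd_pow_self f two_ne_zero)
    rw [hb1, mul_one] at hcb
    have hβi : Cfsg.IsIrrCharacter Nq (fun u : Nq => (β : Q' → ℂ) u) := by
      rw [hb, hb1, Nat.cast_one, one_smul]
      exact hφq
    -- the commutant of the core
    let Nc : Subgroup Γ := N ⊓ C.comap π
    haveI : (C.comap π).Normal := hCn.comap π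
    haveI : Nc.Normal := inferInstance
    have : Fintype Nc := Fintype.ofFinite _
    set F := CfsgLib.NormalAvg.pairAvg Nc W W with hF
    have hFc : Cfsg.IsCharacter Γ F := CfsgLib.NormalAvg.isCharacter_pairAvg Nc hW hW
    let ec : Nq ≃* Nc :=
      { toFun := fun u => ⟨ι (u : Q'), u.2, hNC _ u.2 ((u : Q') : Hh).2⟩
        invFun := fun u => ⟨⟨⟨(u : Γ), hCH u.2.2⟩, hL ⟨u.2.1, hCH u.2.2⟩⟩, u.2.1⟩
        left_inv := fun _ => rfl, right_inv := fun _ => rfl, map_mul' := fun _ _ => rfl }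
    have hFQ : ∀ x : Q', F (ι x) = (f : ℂ) ^ 2 := by
      intro x
      have hone := congrFun (CfsgLib.NormalAvg.pairAvg_self Nq (irr_isCharacter β) hβi) x
      rw [hF, CfsgLib.NormalAvg.pairAvg_apply]
      rw [CfsgLib.NormalAvg.pairAvg_apply] at hone
      rw [← Nat.card_congr ec.toEquiv]
      refine Eq.trans ?_ ((congrArg ((f : ℂ) ^ 2 * ·) hone).trans (mul_one _))
      rw [mul_left_comm]
      congr 1
      rw [Finset.mul_sum]
      refine (Fintype.sum_equiv ec.toEquiv _ _ fun u => ?_).symm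
      show _ = W (ι (u : Q') * ι x) * conj (W (ι (u : Q') * ι x))
      have h : W (ι ((u : Q') * x)) = (c : ℂ) * (β : Q' → ℂ) ((u : Q') * x) :=
        congrFun hres ((u : Q') * x)
      rw [map_mul] at h
      rw [h, hcb, map_mul, Complex.conj_natCast]
      ring
    have hF1 : F 1 = (f : ℂ) ^ 2 := by simpa using hFQ 1
    obtain ⟨r', ρ, hρ⟩ := hFc
    let Kf : Subgroup Γ := ρ.asGroupHom.ker
    have hKf : ∀ x, x ∈ Kf ↔ F x = F 1 := fun x => by
      rw [← hρ, Representation.char_one, char_eq_degree_iff, MonoidHom.mem_ker, Units.ext_iff]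
      rfl
    have hQKf : ∀ x ∈ Qh, x ∈ Kf := fun x hx => (hKf x).2 (by
      rw [hF1]
      exact hFQ ⟨⟨x, hQH hx⟩, hx⟩)
    have hCKf : C ≤ (Kf ⊓ N).map π := fun x hx => by
      refine ⟨j ⟨x, hCM.le hx⟩, ⟨hQKf _ ?_, ⟨_, rfl⟩⟩, hπj _⟩
      show π _ ∈ K ⊓ H
      rw [hπj]
      exact ⟨hMK.le (hCM.le hx), hCH hx⟩
    have hle : (Kf ⊓ N).map π ≤ M := by
      rintro _ ⟨_, ⟨-, m, rfl⟩, rfl⟩
      rw [hπj]
      exact m.2
    haveI : Kf.Normal := MonoidHom.normal_ker _
    rcases hMmin _ ((inferInstance : (Kf ⊓ N).Normal).map π hπ) hCKf hle with h | h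
    · refine hnc fun m hm x hx => ?_
      obtain ⟨y, rfl⟩ := hπ x
      rw [← hCdef, ← h]
      refine ⟨j ⟨m, hm⟩ * y * (j ⟨m, hm⟩)⁻¹ * y⁻¹, ⟨?_, ?_⟩, ?_⟩
      · exact Kf.mul_mem ((inferInstance : Kf.Normal).conj_mem y (hQKf y hx) _)
          (Kf.inv_mem (hQKf y hx))
      · rw [mul_assoc, mul_assoc, ← mul_assoc y]
        exact N.mul_mem ⟨_, rfl⟩ (hNn.conj_mem _ (N.inv_mem ⟨_, rfl⟩) y)
      · simp only [map_mul, map_inv, hπj]
    · have hall : ∀ n : N, F (n : Γ) = (f : ℂ) ^ 2 := by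
        rintro ⟨_, m, rfl⟩
        have hm : (m : G) ∈ (Kf ⊓ N).map π := h.symm ▸ m.2
        obtain ⟨_, ⟨hy, m', rfl⟩, hym⟩ := hm
        rw [hπj] at hym
        obtain rfl : m' = m := Subtype.ext hym
        exact ((hKf _).1 hy).trans hF1
      have hsum : ∑ n : N, F (n : Γ) = ∑ n : N, W n * conj (W n) := by
        simp only [hF, CfsgLib.NormalAvg.pairAvg_apply]
        rw [← Finset.mul_sum, Finset.sum_comm]
        have hcs : ∀ c : Nc, ∑ n : N, W ((c : Γ) * n) * conj (W ((c : Γ) * n)) =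
            ∑ n : N, W n * conj (W n) := fun c =>
          Fintype.sum_equiv (Equiv.mulLeft (⟨(c : Γ), c.2.1⟩ : N)) _ _ fun n => rfl
        rw [Finset.sum_congr rfl fun c _ => hcs c, Finset.sum_const, Finset.card_univ, nsmul_eq_mul,
          ← Nat.card_eq_fintype_card, inv_mul_cancel_left₀ (Nat.cast_ne_zero.2 Nat.card_pos.ne')]
      have h1 := classInner_irr_self hWN
      unfold Cfsg.classInner at h1
      rw [← hsum, Finset.sum_congr rfl fun n _ => hall n, Finset.sum_const, Finset.card_univ,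
        nsmul_eq_mul, ← Nat.card_eq_fintype_card,
        inv_mul_cancel_left₀ (Nat.cast_ne_zero.2 Nat.card_pos.ne')] at h1
      have hf2 : f ^ 2 = 1 := by exact_mod_cast h1
      exact hf1 (by
        rw [sq] at hf2
        exact Nat.eq_one_of_mul_eq_one_right hf2)
  · -- descend to `G`
    rintro S ⟨ζ, hS, hNS, hQS, hζ, hζcon, hζdeg⟩
    have hkS : π.ker ≤ S := fun z hz => hQS (by
      show π z ∈ K ⊓ H
      rw [MonoidHom.mem_ker.1 hz]
      exact (K ⊓ H).one_mem)
    let S0 : Subgroup G := S.map π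
    have hSS : S0.comap π = S := Subgroup.comap_map_eq_self hkS
    have hidx : S0.index = S.index := by
      rw [← Subgroup.index_comap_of_surjective S0 hπ, hSS]
    have : Fintype S := Fintype.ofFinite _
    have : Fintype S0 := Fintype.ofFinite _
    let πS : S →* S0 :=
      { toFun := fun s : S => ⟨π (s : Γ), s, s.2, rfl⟩, map_one' := Subtype.ext (map_one π),
        map_mul' := fun x y : S => Subtype.ext (map_mul π (x : Γ) (y : Γ)) }
    have hπS : Function.Surjective πS := fun x => by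
      obtain ⟨s, hs, hse⟩ := x.2
      exact ⟨⟨s, hs⟩, Subtype.ext hse⟩
    obtain ⟨m, hm, hsum⟩ :=
      CfsgLib.Clifford.exists_mult (CfsgLib.Clifford.isCharacter_subtype hχc S0)
    have hh := @hζcon _
    have e1 : (fun s : S => ψ s) = ∑ ξ : Cfsg.IrrCharacter S0, (m ξ : ℂ) •
        fun s : S => (ξ : S0 → ℂ) (πS s) := by
      funext s
      have := congrFun hsum (πS s)
      simp only [Finset.sum_apply, Pi.smul_apply, smul_eq_mul] at this ⊢
      exact this
    rw [e1, classInner_sum_left] at hh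
    obtain ⟨ξ, -, hξne⟩ := Finset.exists_ne_zero_of_sum_ne_zero hh
    rw [classInner_smul_left] at hξne
    have hξζ : (fun s : S => (ξ : S0 → ℂ) (πS s)) = ζ := by
      by_contra hne
      exact hξne (by rw [classInner_irr_ne
        (CfsgLib.Clifford.isIrrCharacter_pullback ξ.2 πS hπS) hζ hne, mul_zero])
    have hξcon : Cfsg.classInner (fun s : S0 => χ s) (ξ : S0 → ℂ) ≠ 0 := by
      rw [hm ξ]
      exact fun h0 => hξne (by rw [h0, zero_mul])
    refine ⟨S0, ξ, fun h => hS ?_, irr_isCharacter ξ, ?_, lt_of_lt_of_le hCM ?_⟩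
    · rw [← Subgroup.index_eq_one, ← hidx, h, Subgroup.index_top]
    · obtain ⟨dx, -, hdx⟩ := irr_exists_degree ξ.2
      obtain ⟨dc, -, hdc⟩ := irr_exists_degree hχ
      have hζ1 : ζ 1 = (dx : ℂ) := by
        rw [← hξζ]
        show (ξ : S0 → ℂ) (πS 1) = _
        rw [map_one, hdx]
      have hψ1 : ψ 1 = (dc : ℂ) := by
        show χ (π 1) = _
        rw [map_one, hdc]
      have hle := hζdeg dx dc hζ1 hψ1
      refine eq_of_constituent (CfsgLib.Induction.isCharacter_indFun S0 (irr_isCharacter ξ)) hχ ?_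
        (a := S0.index * dx) ?_ hdc ?_
      · rw [CfsgLib.Induction.classInner_indFun S0 _ hχclass, classInner_conj_symm]
        exact fun h0 => hξcon (by simpa using congrArg conj h0)
      · rw [CfsgLib.Induction.indFun_one_apply, hdx, Nat.cast_mul]
      · rwa [hidx]
    · refine Subgroup.normal_le_normalCore.2 fun x hx => ?_
      exact ⟨j ⟨x, hx⟩, hNS ⟨_, rfl⟩, hπj _⟩

/-- **Berger's theorem.** -/
theorem quasiprimitive_is_primitive {G : Type u} [Group G] [Fintype G] [Group.IsSolvable G]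
    {χ : G → ℂ} (hχ : Cfsg.IsIrrCharacter G χ)
    (hqp : ∀ N : Subgroup G, N.Normal → ∃ (θ : N → ℂ) (e : ℕ), Cfsg.IsIrrCharacter N θ ∧
      (fun n : N => χ n) = (e : ℂ) • θ)
    (K : Subgroup G) (hK : K ≠ ⊤) (ψ : K → ℂ) (hψ : Cfsg.IsCharacter K ψ) :
    Cfsg.indFun K ψ ≠ χ := by
  classical
  intro hKind
  have step : ∀ (U : Subgroup G) (θ : U → ℂ), U ≠ ⊤ → Cfsg.IsCharacter U θ →
      Cfsg.indFun U θ = χ → ∃ (H : Subgroup G) (ϑ : H → ℂ), IsCoatom H ∧ U ≤ H ∧
        Cfsg.IsCharacter H ϑ ∧ Cfsg.indFun H ϑ = χ := by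
    intro U θ hU hθ hind
    obtain ⟨H, hH, hUH⟩ := (eq_top_or_exists_le_coatom U).resolve_left hU
    have : Fintype H := Fintype.ofFinite _
    refine ⟨H, Cfsg.indFun (U.subgroupOf H) (fun h => θ ⟨((h : H) : G), h.2⟩), hH, hUH,
      CfsgLib.Induction.isCharacter_indFun _ ?_, (CfsgLib.Induction.indFun_trans hUH θ).trans hind⟩
    exact CfsgLib.Clifford.isCharacter_pullback hθ
      ({ toFun := fun h => ⟨((h : H) : G), h.2⟩, map_one' := rfl, map_mul' := fun _ _ => rfl } :
        U.subgroupOf H →* U)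
  let S : Set (Subgroup G) := {C | ∃ (H : Subgroup G) (ϑ : H → ℂ), IsCoatom H ∧
    Cfsg.IsCharacter H ϑ ∧ Cfsg.indFun H ϑ = χ ∧ H.normalCore = C}
  obtain ⟨H₀, ϑ₀, h₀, -, hc₀, hi₀⟩ := step K ψ hK hψ hKind
  obtain ⟨C, hC⟩ := Set.Finite.exists_maximal (Set.toFinite S) ⟨_, H₀, ϑ₀, h₀, hc₀, hi₀, rfl⟩
  obtain ⟨H, ϑ, hH, hϑc, hind, rfl⟩ := hC.prop
  have : Fintype H := Fintype.ofFinite _
  obtain ⟨T, ξ, hT, hξ, hTind, hlt⟩ := exists_larger_core H hχ hqp hH hϑc hind
  obtain ⟨H', ϑ', hH', hTH', hc', hi'⟩ := step T ξ hT hξ hTind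
  have hlt' := lt_of_lt_of_le hlt (Subgroup.normalCore_mono hTH')
  exact not_le_of_gt hlt' (hC.le_of_ge ⟨H', ϑ', hH', hc', hi', rfl⟩ hlt'.le)

end CfsgLib.Berger
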