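import Cfsg.Agent.Lib.Characters.ElemSection
import Cfsg.Agent.Lib.Characters.BrauerInduction
import Cfsg.Agent.Lib.Characters.Generalized
import Cfsg.Agent.Lib.Coprime.Basic
import Mathlib.GroupTheory.Complement

/-!
# The Brauer–Suzuki transfer theorem for Hall subgroups
-/

set_option autoImplicit false

noncomputable section

namespace CfsgLib.BrauerSuzuki

open scoped ComplexConjugate
open CfsgLib.Characters

universe u

/-- The standing hypotheses. -/
structure Hyp {G : Type u} [Group G] [Finite G] (H : Subgroup G) : Prop where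
  hall : Nat.Coprime (Nat.card H) H.index
  fus : ∀ x ∈ H, ∀ y ∈ H, IsConj x y → ∃ h ∈ H, h * x * h⁻¹ = y
  elem : ∀ (E : Subgroup G) (p : ℕ), p.Prime → Cfsg.IsElementary p E →
    Nat.card E ∣ Nat.card H → ∃ g : G, E.map (MulAut.conj g).toMonoidHom ≤ H

variable {G : Type u} [Group G] [Finite G] {H : Subgroup G} (hyp : Hyp H)

/-- An exponent taking the `π`-part of every element. -/
def partExp : ℕ := (Nat.chineseRemainder hyp.hall 1 0).1

include hyp

theorem card_eq : Nat.card G = Nat.card H * H.index := H.card_mul_index.symm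

theorem partExp_spec : partExp hyp ≡ 1 [MOD Nat.card H] ∧ partExp hyp ≡ 0 [MOD H.index] :=
  (Nat.chineseRemainder hyp.hall 1 0).2

theorem dvd_of_coprime_index {w : G} (h : Nat.Coprime (orderOf w) H.index) :
    orderOf w ∣ Nat.card H :=
  h.dvd_of_dvd_mul_right ((card_eq hyp) ▸ orderOf_dvd_natCard w)

theorem dvd_index_of_coprime {w : G} (h : Nat.Coprime (orderOf w) (Nat.card H)) :
    orderOf w ∣ H.index :=
  h.dvd_of_dvd_mul_left ((card_eq hyp) ▸ orderOf_dvd_natCard w)

theorem pow_partExp_of_pi {w : G} (h : Nat.Coprime (orderOf w) H.index) :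
    w ^ partExp hyp = w := by
  conv_rhs => rw [← pow_one w]
  exact pow_eq_pow_iff_modEq.2 ((partExp_spec hyp).1.of_dvd (dvd_of_coprime_index hyp h))

theorem pow_partExp_of_pi' {w : G} (h : Nat.Coprime (orderOf w) (Nat.card H)) :
    w ^ partExp hyp = 1 := by
  rw [← orderOf_dvd_iff_pow_eq_one]
  exact (dvd_index_of_coprime hyp h).trans (Nat.modEq_zero_iff_dvd.1 (partExp_spec hyp).2)

theorem pi_part_coprime (x : G) : Nat.Coprime (orderOf (x ^ partExp hyp)) H.index := by
  obtain ⟨k, hk⟩ := Nat.modEq_zero_iff_dvd.1 (partExp_spec hyp).2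
  refine Nat.Coprime.coprime_dvd_left (orderOf_dvd_of_pow_eq_one (n := Nat.card H) ?_) hyp.hall
  rw [← pow_mul, hk, show H.index * k * Nat.card H = Nat.card H * H.index * k by ring, pow_mul,
    ← card_eq hyp, pow_card_eq_one', one_pow]

theorem pi'_part_coprime (x : G) :
    Nat.Coprime (orderOf (x * (x ^ partExp hyp)⁻¹)) (Nat.card H) := by
  refine Nat.Coprime.coprime_dvd_left (orderOf_dvd_of_pow_eq_one (n := H.index) ?_) hyp.hall.symm
  rw [((Commute.self_pow x _).inv_right).mul_pow, inv_pow, mul_inv_eq_one, ← pow_mul,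
    pow_eq_pow_iff_modEq]
  have h := (partExp_spec hyp).1.mul_right' H.index
  rw [one_mul, ← card_eq hyp] at h
  exact (h.of_dvd (orderOf_dvd_natCard x)).symm

/-- Every `π`-element is conjugate into `H`. -/
theorem exists_isConj_mem {v : G} (hv : Nat.Coprime (orderOf v) H.index) :
    ∃ h ∈ H, IsConj v h := by
  obtain ⟨p, hpv, hp⟩ := Nat.exists_infinite_primes (orderOf v + 1)
  have hcard : Nat.card (Subgroup.zpowers v) = orderOf v := Nat.card_zpowers v
  have hel : Cfsg.IsElementary p (Subgroup.zpowers v) := by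
    let v' : Subgroup.zpowers v := ⟨v, Subgroup.mem_zpowers v⟩
    refine ⟨v', Subgroup.mem_center_iff.2 fun y => Subtype.ext ?_, ?_, 0, ?_⟩
    · obtain ⟨i, hi⟩ := y.2
      show (y : G) * v = v * (y : G)
      rw [← hi]
      exact (Commute.self_zpow v i).symm.eq
    · rw [← Subgroup.orderOf_coe v', Nat.coprime_comm, hp.coprime_iff_not_dvd]
      exact fun h => by
        have := Nat.le_of_dvd (orderOf_pos v) h
        omega
    · rw [pow_zero, Subgroup.index_eq_one, eq_top_iff]
      rintro ⟨y, i, rfl⟩ _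
      exact ⟨i, Subtype.ext rfl⟩
  obtain ⟨g, hg⟩ := hyp.elem _ p hp hel (hcard ▸ dvd_of_coprime_index hyp hv)
  exact ⟨_, hg ⟨v, Subgroup.mem_zpowers v, rfl⟩, isConj_iff.2 ⟨g, rfl⟩⟩

/-- The representative in `H` of the `π`-part. -/
def rep (x : G) : H :=
  ⟨(exists_isConj_mem hyp (pi_part_coprime hyp x)).choose,
    (exists_isConj_mem hyp (pi_part_coprime hyp x)).choose_spec.1⟩

theorem isConj_rep (x : G) : IsConj (x ^ partExp hyp) (rep hyp x : G) :=
  (exists_isConj_mem hyp (pi_part_coprime hyp x)).choose_spec.2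

/-- The transfer of a class function of `H` to `G`. -/
def lift (φ : H → ℂ) : G → ℂ := fun x => φ (rep hyp x)

theorem lift_eq {φ : H → ℂ} (hφ : Cfsg.IsClassFunction H φ) (x : G) {h : G} (hh : h ∈ H)
    (hc : IsConj (x ^ partExp hyp) h) : lift hyp φ x = φ ⟨h, hh⟩ := by
  obtain ⟨a, ha, hah⟩ := hyp.fus _ hh _ (rep hyp x).2 (hc.symm.trans (isConj_rep hyp x))
  have := hφ ⟨h, hh⟩ ⟨a, ha⟩
  rw [← this]
  exact congrArg φ (Subtype.ext hah.symm)

theorem coprime_of_mem {h : G} (hh : h ∈ H) : Nat.Coprime (orderOf h) H.index :=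
  hyp.hall.coprime_dvd_left (H.orderOf_dvd_natCard hh)

theorem lift_mem {φ : H → ℂ} (hφ : Cfsg.IsClassFunction H φ) (h : H) :
    lift hyp φ h = φ h :=
  lift_eq hyp hφ _ h.2 (by rw [pow_partExp_of_pi hyp (coprime_of_mem hyp h.2)])

theorem isClassFunction_lift {φ : H → ℂ} (hφ : Cfsg.IsClassFunction H φ) :
    Cfsg.IsClassFunction G (lift hyp φ) := by
  intro x g
  refine lift_eq hyp hφ _ (rep hyp x).2 ?_
  rw [conj_pow]
  exact (isConj_iff.2 ⟨g, rfl⟩ : IsConj (x ^ partExp hyp) (g * x ^ partExp hyp * g⁻¹)).symm.trans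
    (isConj_rep hyp x)

theorem isGeneralized_lift [Fintype G] {φ : H → ℂ} (hφc : Cfsg.IsCharacter H φ) :
    Cfsg.IsGeneralizedCharacter G (lift hyp φ) := by
  have hφ := isClassFunction_of_isCharacter hφc
  refine CfsgLib.Brauer.isGeneralizedCharacter_of_restrictions (isClassFunction_lift hyp hφ)
    fun E p hp hE => isGeneralizedCharacter_of_isCharacter ?_
  obtain ⟨U, hUn, hU⟩ := CfsgLib.ElemSection.exists_coprime_subgroup hp hE (Nat.card H)
  obtain ⟨V, hVn, hV⟩ := CfsgLib.ElemSection.exists_coprime_subgroup hp hE H.index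
  have hord : ∀ y : E, orderOf (y : G) = orderOf y := fun y => Subgroup.orderOf_coe y
  have hN1 : ∀ u ∈ U, u ^ partExp hyp = (1 : E) := fun u hu =>
    Subtype.ext (pow_partExp_of_pi' hyp (by rw [hord]; exact (hU u).1 hu))
  have hN2 : ∀ v ∈ V, v ^ partExp hyp = v := fun v hv =>
    Subtype.ext (pow_partExp_of_pi hyp (by rw [hord]; exact (hV v).1 hv))
  have hUV : ∀ u ∈ U, ∀ v ∈ V, Commute u v := by
    intro u hu v hv
    refine Subgroup.commute_of_normal_of_disjoint U V hUn hVn ?_ u v hu hv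
    rw [Subgroup.disjoint_def]
    intro z hz hz'
    have := hN2 z hz'
    rwa [hN1 z hz, eq_comm] at this
  have hmemV : ∀ e : E, e ^ partExp hyp ∈ V := fun e => by
    rw [hV, ← hord, Subgroup.coe_pow]
    exact pi_part_coprime hyp _
  have hmemU : ∀ e : E, e * (e ^ partExp hyp)⁻¹ ∈ U := fun e => by
    rw [hU, ← hord, Subgroup.coe_mul, Subgroup.coe_inv, Subgroup.coe_pow]
    exact pi'_part_coprime hyp _
  -- the projection onto the `π`-part
  let π : E →* V :=
    { toFun := fun e => ⟨e ^ partExp hyp, hmemV e⟩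
      map_one' := Subtype.ext (one_pow _)
      map_mul' := fun a b => Subtype.ext (by
        show (a * b) ^ partExp hyp = a ^ partExp hyp * b ^ partExp hyp
        have e1 : a * b = (a * (a ^ partExp hyp)⁻¹ * (b * (b ^ partExp hyp)⁻¹)) *
            (a ^ partExp hyp * b ^ partExp hyp) := by
          have h := (hUV _ (hmemU b) _ (hmemV a)).eq
          calc a * b = a * (a ^ partExp hyp)⁻¹ *
                ((a ^ partExp hyp) * (b * (b ^ partExp hyp)⁻¹)) * b ^ partExp hyp := by group
            _ = _ := by rw [← h]; simp only [mul_assoc]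
        conv_lhs => rw [e1]
        rw [(hUV _ (U.mul_mem (hmemU a) (hmemU b)) _ (V.mul_mem (hmemV a) (hmemV b))).mul_pow,
          hN1 _ (U.mul_mem (hmemU a) (hmemU b)), one_mul,
          hN2 _ (V.mul_mem (hmemV a) (hmemV b))]) }
  -- `V` is elementary of order dividing `|H|`
  let V' : Subgroup G := V.map E.subtype
  let eV : V ≃* V' := V.equivMapOfInjective E.subtype E.subtype_injective
  have hVel : Cfsg.IsElementary p V := by
    obtain ⟨x, hx, hxp, k, hk⟩ := hE
    let Z : Subgroup E := Subgroup.zpowers x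
    have : IsCyclic (Z.subgroupOf V) := by
      let f : Z.subgroupOf V →* Z :=
        { toFun := fun a => ⟨(a : V), a.2⟩, map_one' := rfl, map_mul' := fun _ _ => rfl }
      exact isCyclic_of_injective f fun a b h =>
        Subtype.ext (Subtype.ext (congrArg (fun z : Z => (z : E)) h))
    obtain ⟨w, hw⟩ := IsCyclic.exists_generator (α := Z.subgroupOf V)
    have hgen : Subgroup.zpowers (w : V) = Z.subgroupOf V := by
      refine le_antisymm (Subgroup.zpowers_le.2 w.2) fun y hy => ?_
      obtain ⟨i, hi⟩ := hw ⟨y, hy⟩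
      exact ⟨i, congrArg Subtype.val hi⟩
    refine ⟨w, Subgroup.mem_center_iff.2 fun y => Subtype.ext ?_, ?_, ?_⟩
    · exact Subgroup.mem_center_iff.1 ((Subgroup.zpowers_le.2 hx) w.2) (y : E)
    · refine hxp.coprime_dvd_left ?_
      rw [← Subgroup.orderOf_coe (w : V), ← Nat.card_zpowers x]
      exact Subgroup.orderOf_dvd_natCard Z (show ((w : V) : E) ∈ Z from w.2)
    · have hZn : Z.Normal := ⟨fun z hz g => by
        rw [Subgroup.mem_center_iff.1 ((Subgroup.zpowers_le.2 hx) hz) g, mul_inv_cancel_right]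
        exact hz⟩
      obtain ⟨j, -, hj⟩ := (Nat.dvd_prime_pow hp).1 (hk ▸ Subgroup.relIndex_dvd_index_of_normal Z V)
      exact ⟨j, by rw [hgen]; exact hj⟩
  have hVcard : Nat.card V' ∣ Nat.card H := by
    rw [← Nat.card_congr eV.toEquiv]
    refine Nat.Coprime.dvd_of_dvd_mul_right (Nat.coprime_of_dvd fun q hq hqV hqi => ?_)
      ((card_eq hyp) ▸ (Subgroup.card_subgroup_dvd_card V).trans (Subgroup.card_subgroup_dvd_card E))
    have : Fact q.Prime := ⟨hq⟩
    obtain ⟨y, hy⟩ := exists_prime_orderOf_dvd_card' q hqV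
    have h := (hV y).1 y.2
    rw [Subgroup.orderOf_coe, hy, hq.coprime_iff_not_dvd] at h
    exact h hqi
  obtain ⟨g, hg⟩ := hyp.elem V' p hp (CfsgLib.BrauerInd.isElementary_of_equiv eV hVel) hVcard
  let c : V →* H :=
    { toFun := fun v => ⟨g * ((v : E) : G) * g⁻¹, hg ⟨_, ⟨(v : E), v.2, rfl⟩, rfl⟩⟩
      map_one' := Subtype.ext (by simp)
      map_mul' := fun a b => Subtype.ext (by simp [mul_assoc]) }
  have hres : (fun e : E => lift hyp φ (e : G)) = fun e => φ (c.comp π e) := by
    funext e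
    refine lift_eq hyp hφ _ _ (isConj_iff.2 ⟨g, ?_⟩)
    rfl
  rw [hres]
  exact CfsgLib.Clifford.isCharacter_pullback hφc (c.comp π)

/-- `H`-centralisers of elements of `H` are Hall subgroups of the centralisers. -/
theorem coprime_centralizer_index {v : G} (hv : v ∈ H) :
    Nat.Coprime ((H.subgroupOf (Subgroup.centralizer ({v} : Set G))).index) (Nat.card H) := by
  classical
  refine Nat.coprime_of_dvd fun q hq hqi hqm => ?_
  have : Fact q.Prime := ⟨hq⟩
  let C : Subgroup G := Subgroup.centralizer ({v} : Set G)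
  let Q : Sylow q C := default
  let Q' : Subgroup G := (Q : Subgroup C).map C.subtype
  have hQcard : Nat.card Q' = Nat.card Q :=
    (Nat.card_congr ((Q : Subgroup C).equivMapOfInjective C.subtype C.subtype_injective).toEquiv).symm
  have hQC : ∀ y ∈ Q', y * v = v * y := fun y hy =>
    Subgroup.mem_centralizer_singleton_iff.1 (Subgroup.map_subtype_le _ hy)
  obtain ⟨s, x, hvsx, hsx, hs, hx, hspow, hxq⟩ := PermChar.exists_p_decomp hq v
  have hcx : ∀ y ∈ Q', Commute y x := fun y hy => by
    obtain ⟨i, rfl⟩ := hx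
    exact (show Commute y v from hQC y hy).zpow_right i
  -- `s` lies in `Q`
  have hsC : s ∈ C := by
    rw [Subgroup.mem_centralizer_singleton_iff]
    obtain ⟨i, rfl⟩ := hs
    exact (Commute.self_zpow v i).symm.eq
  have hsQ : s ∈ Q' := by
    let s' : C := ⟨s, hsC⟩
    have hsc : s' ∈ Subgroup.center C := Subgroup.mem_center_iff.2 fun y => Subtype.ext (by
      show (y : G) * s = s * y
      obtain ⟨i, rfl⟩ := hs
      exact ((show Commute (y : G) v from Subgroup.mem_centralizer_singleton_iff.1 y.2).zpow_right i).eq)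
    obtain ⟨a, ha⟩ := hspow
    obtain ⟨b, -, hb⟩ := (Nat.dvd_prime_pow hq).1 ha
    have hps : IsPGroup q (Subgroup.zpowers s') := IsPGroup.of_card (n := b) (by
      rw [Nat.card_zpowers, ← Subgroup.orderOf_coe s']; exact hb)
    have hnorm : Subgroup.zpowers s' ≤ Subgroup.normalizer ((Q : Subgroup C) : Set C) := by
      refine Subgroup.zpowers_le.2 (Subgroup.mem_normalizer_iff.2 fun y => ?_)
      rw [← Subgroup.mem_center_iff.1 hsc y, mul_inv_cancel_right]
    have hsup := hps.to_sup_of_normal_right' Q.2 hnorm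
    have hQ := Q.3 hsup le_sup_right
    exact ⟨s', hQ ▸ Subgroup.mem_sup_left (Subgroup.mem_zpowers s'), rfl⟩
  let X : Subgroup G := Subgroup.zpowers x
  let S : Subgroup G := Q' ⊔ X
  have hQX : Q' ≤ Subgroup.normalizer (X : Set G) := fun y hy => Subgroup.mem_normalizer_iff.2
    fun z => by
      constructor
      · rintro ⟨i, rfl⟩
        show y * x ^ i * y⁻¹ ∈ X
        rw [((hcx y hy).zpow_right i).eq, mul_inv_cancel_right]
        exact ⟨i, rfl⟩
      · intro h
        obtain ⟨i, hi⟩ := h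
        have hi' : z = y⁻¹ * x ^ i * y := by
          have hi'' : x ^ i = y * z * y⁻¹ := hi
          rw [hi'']
          group
        rw [hi', ((hcx y hy).inv_left.zpow_right i).eq, inv_mul_cancel_right]
        exact ⟨i, rfl⟩
  obtain ⟨b, hb⟩ := Q.2.exists_card_eq
  have hxcop : Nat.Coprime (orderOf x) (q ^ b) := hxq.pow_right b
  have hdisj : Q' ⊓ X = ⊥ :=
    CfsgLib.Coprime.inf_eq_bot_of_coprime_dvd (a := q ^ b) (b := orderOf x)
      (by rw [hQcard, hb]) (by rw [Nat.card_zpowers]) hxcop.symm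
  have hScard : Nat.card S = q ^ b * orderOf x := by
    rw [CfsgLib.Coprime.card_sup_of_disjoint hQX (inf_comm Q' X ▸ hdisj), hQcard, hb, Nat.card_zpowers]
  have hqb : q ^ b ∣ Nat.card H := by
    refine (((hq.coprime_iff_not_dvd).2 fun hd => ?_).pow_left b).dvd_of_dvd_mul_right
      ((card_eq hyp) ▸ hb ▸ hQcard ▸ Subgroup.card_subgroup_dvd_card Q')
    exact hq.one_lt.ne' (Nat.eq_one_of_dvd_coprimes hyp.hall hqm hd)
  have hxdvd : orderOf x ∣ Nat.card H := by
    refine dvd_trans ?_ (H.orderOf_dvd_natCard hv)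
    rw [← Nat.card_zpowers v]
    exact Subgroup.orderOf_dvd_natCard _ hx
  have hSdvd : Nat.card S ∣ Nat.card H := hScard ▸ hxcop.symm.mul_dvd_of_dvd_of_dvd hqb hxdvd
  have hSel : Cfsg.IsElementary q S := by
    let x' : S := ⟨x, Subgroup.mem_sup_right (Subgroup.mem_zpowers x)⟩
    refine ⟨x', Subgroup.mem_center_iff.2 fun y => Subtype.ext ?_, ?_, b, ?_⟩
    · have hle : S ≤ Subgroup.centralizer ({x} : Set G) := by
        refine sup_le (fun z hz => Subgroup.mem_centralizer_singleton_iff.2 (hcx z hz).eq)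
          (Subgroup.zpowers_le.2 (Subgroup.mem_centralizer_singleton_iff.2 rfl))
      exact Subgroup.mem_centralizer_singleton_iff.1 (hle y.2)
    · rw [← Subgroup.orderOf_coe x']
      exact hxq
    · have h := (Subgroup.zpowers x').card_mul_index
      rw [Nat.card_zpowers, ← Subgroup.orderOf_coe x', hScard, mul_comm (q ^ b)] at h
      exact Nat.eq_of_mul_eq_mul_left (orderOf_pos x) h
  obtain ⟨g, hg⟩ := hyp.elem S q hq hSel hSdvd
  have hvS : v ∈ S := by
    rw [hvsx]
    exact S.mul_mem (Subgroup.mem_sup_left hsQ) (Subgroup.mem_sup_right (Subgroup.mem_zpowers x))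
  obtain ⟨h, hh, hhv⟩ := hyp.fus v hv (g * v * g⁻¹) (hg ⟨v, hvS, rfl⟩) (isConj_iff.2 ⟨g, rfl⟩)
  let D : Subgroup C := H.subgroupOf C
  -- `Q` embeds in `C ∩ H`
  let ι : (Q : Subgroup C) →* D :=
    { toFun := fun y => ⟨⟨h⁻¹ * (g * ((y : C) : G) * g⁻¹) * h, by
          rw [Subgroup.mem_centralizer_singleton_iff]
          have hy := Subgroup.mem_centralizer_singleton_iff.1 (y : C).2
          calc h⁻¹ * (g * ((y : C) : G) * g⁻¹) * h * v
              = h⁻¹ * (g * ((y : C) : G) * g⁻¹) * (h * v * h⁻¹) * h := by group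
            _ = h⁻¹ * g * (((y : C) : G) * v) * g⁻¹ * h := by rw [hhv]; group
            _ = h⁻¹ * (h * v * h⁻¹) * (g * ((y : C) : G) * g⁻¹) * h := by rw [hy, hhv]; group
            _ = v * (h⁻¹ * (g * ((y : C) : G) * g⁻¹) * h) := by group⟩,
        Subgroup.mem_subgroupOf.2 (H.mul_mem (H.mul_mem (H.inv_mem hh)
          (hg ⟨_, Subgroup.mem_sup_left ⟨(y : C), y.2, rfl⟩, rfl⟩)) hh)⟩
      map_one' := Subtype.ext (Subtype.ext (by simp))
      map_mul' := fun a b => Subtype.ext (Subtype.ext (by simp [mul_assoc])) }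
  have hι : Function.Injective ι := fun a b hab => by
    have : h⁻¹ * (g * ((a : C) : G) * g⁻¹) * h = h⁻¹ * (g * ((b : C) : G) * g⁻¹) * h :=
      congrArg (fun z : D => ((z : C) : G)) hab
    simpa using this
  have hdvd := Subgroup.card_dvd_of_injective ι hι
  obtain ⟨c, hc⟩ := hdvd
  refine Q.not_dvd_index ?_
  obtain ⟨j, hj⟩ := hqi
  have h1 : Nat.card D * D.index = Nat.card C := D.card_mul_index
  have h2 : Nat.card (Q : Subgroup C) * (Q : Subgroup C).index = Nat.card C :=
    (Q : Subgroup C).card_mul_index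
  refine ⟨c * j, Nat.eq_of_mul_eq_mul_left (Nat.card_pos (α := (Q : Subgroup C))) ?_⟩
  rw [h2, ← h1, hc]
  have hj' : D.index = q * j := hj
  rw [hj']
  ring

/-- The elements with `π`-part `v`. -/
def fibre (v : G) : Set G := {x | x ^ partExp hyp = v}

theorem fibre_conj (a v : G) :
    (fibre hyp (a * v * a⁻¹)).ncard = (fibre hyp v).ncard := by
  rw [← Set.ncard_image_of_injective (fibre hyp v) (f := fun x => a * x * a⁻¹)
    (fun x y h => by simpa using h)]
  congr 1
  ext x
  constructor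
  · intro hx
    refine ⟨a⁻¹ * x * a, ?_, by group⟩
    have hx' : x ^ partExp hyp = a * v * a⁻¹ := hx
    show (a⁻¹ * x * a) ^ partExp hyp = v
    have e : (a⁻¹ * x * a) ^ partExp hyp = a⁻¹ * x ^ partExp hyp * a := by
      simpa using conj_pow (i := partExp hyp) (a := a⁻¹) (b := x)
    rw [e, hx']
    group
  · rintro ⟨y, hy, rfl⟩
    show (a * y * a⁻¹) ^ partExp hyp = a * v * a⁻¹
    rw [conj_pow, show y ^ partExp hyp = v from hy]

/-- A lower bound for the fibre over an element of `H`. -/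
theorem index_le_fibre {v : G} (hv : v ∈ H) :
    (H.subgroupOf (Subgroup.centralizer ({v} : Set G))).index ≤ (fibre hyp v).ncard := by
  classical
  let C : Subgroup G := Subgroup.centralizer ({v} : Set G)
  let D : Subgroup C := H.subgroupOf C
  have : Fintype C := Fintype.ofFinite C
  have hDm : Nat.card D ∣ Nat.card H :=
    Subgroup.card_dvd_of_injective
      ({ toFun := fun d => ⟨((d : C) : G), d.2⟩, map_one' := rfl, map_mul' := fun _ _ => rfl } : D →* H)
      fun a b h => Subtype.ext (Subtype.ext (congrArg (fun z : H => (z : G)) h))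
  have hcopD : Nat.Coprime D.index (Nat.card D) :=
    (coprime_centralizer_index hyp hv).coprime_dvd_right hDm
  have hidx : D.index ∣ H.index := (coprime_centralizer_index hyp hv).dvd_of_dvd_mul_left
    ((card_eq hyp) ▸ (Subgroup.index_dvd_card D).trans (Subgroup.card_subgroup_dvd_card C))
  let ϑ : C → ℂ := fun y =>
    if CfsgLib.ElemSection.InSection D.index (Nat.card D) 1 y then (Nat.card D : ℂ) else 0
  have hint := CfsgLib.ElemSection.isIntegral_classInner_section
    (G := C) (m := D.index) (n := Nat.card D) (by rw [mul_comm, D.card_mul_index]) hcopD 1 (ϑ := ϑ)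
    (fun y hy => if_pos hy) (fun y hy => if_neg hy)
  have h1 := hint.2 ⟨fun _ => 1, isIrrCharacter_one⟩
  let K : Finset C := Finset.univ.filter
    fun y => CfsgLib.ElemSection.InSection D.index (Nat.card D) 1 y
  have hval : Cfsg.classInner ϑ (fun _ => 1) = ((K.card : ℕ) : ℂ) / ((D.index : ℕ) : ℂ) := by
    unfold Cfsg.classInner
    simp only [map_one, mul_one, ϑ]
    rw [← Finset.sum_filter, Finset.sum_const, nsmul_eq_mul, ← D.card_mul_index]
    have h0 : (Nat.card D : ℂ) ≠ 0 := Nat.cast_ne_zero.2 Nat.card_pos.ne'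
    have h0' : (D.index : ℂ) ≠ 0 := Nat.cast_ne_zero.2 Subgroup.index_ne_zero_of_finite
    push_cast
    field_simp
    rfl
  rw [hval] at h1
  have hdvd : D.index ∣ K.card := nat_dvd_of_isIntegral_div Subgroup.index_ne_zero_of_finite h1
  have hpos : 0 < K.card := Finset.card_pos.2 ⟨1, Finset.mem_filter.2 ⟨Finset.mem_univ _,
    1, IsConj.refl 1, 1, (mul_one 1).symm, Commute.refl 1, by simp, by simp⟩⟩
  refine (Nat.le_of_dvd hpos hdvd).trans ?_
  rw [← Set.ncard_coe_finset]
  refine Set.ncard_le_ncard_of_injOn (fun y : C => v * (y : G)) ?_ ?_ (Set.toFinite _)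
  · intro y hy
    obtain ⟨w, hw, u, rfl, -, hu, -⟩ := (Finset.mem_filter.1 (Finset.mem_coe.1 hy)).2
    rw [isConj_one_left.1 hw, mul_one]
    show (v * (u : G)) ^ partExp hyp = v
    have hcomm : Commute v (u : G) := (Subgroup.mem_centralizer_singleton_iff.1 u.2).symm
    rw [hcomm.mul_pow, pow_partExp_of_pi hyp (coprime_of_mem hyp hv), pow_partExp_of_pi', mul_one]
    refine Nat.Coprime.coprime_dvd_left ?_ hyp.hall.symm
    rw [Subgroup.orderOf_coe]
    refine dvd_trans ?_ hidx
    exact hu.dvd_of_dvd_mul_right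
      (by rw [mul_comm, D.card_mul_index]; exact orderOf_dvd_natCard u)
  · exact fun a _ b _ h => Subtype.ext (mul_left_cancel h)

/-- The permutation character at an element of `H`. -/
theorem perm_eq [Fintype G] {v : G} (hv : v ∈ H) :
    Cfsg.indFun H (fun _ => 1) v =
      ((H.subgroupOf (Subgroup.centralizer ({v} : Set G))).index : ℂ) := by
  classical
  let C : Subgroup G := Subgroup.centralizer ({v} : Set G)
  let D : Subgroup C := H.subgroupOf C
  let S : Finset G := Finset.univ.filter fun x => x⁻¹ * v * x ∈ H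
  have hsum : Cfsg.indFun H (fun _ => 1) v = (Nat.card H : ℂ)⁻¹ * (S.card : ℂ) := by
    rw [CfsgLib.Induction.indFun_apply, ← Finset.sum_boole]
    congr 1
    refine Finset.sum_congr rfl fun x _ => ?_
    by_cases hx : x⁻¹ * v * x ∈ H
    · rw [if_pos hx, CfsgLib.Induction.extendByZero_mem H _ hx]
    · rw [if_neg hx, CfsgLib.Induction.extendByZero_notMem H _ hx]
  have hchoose : ∀ x : S, ∃ t : H, (x : G) * t ∈ C := by
    intro x
    have hx := (Finset.mem_filter.1 x.2).2
    obtain ⟨t, ht, htv⟩ := hyp.fus v hv _ hx (isConj_iff.2 ⟨(x : G)⁻¹, by rw [inv_inv]⟩)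
    refine ⟨⟨t, ht⟩, Subgroup.mem_centralizer_singleton_iff.2 ?_⟩
    calc (x : G) * t * v = (x : G) * (t * v * t⁻¹) * t := by group
      _ = v * ((x : G) * t) := by rw [htv]; group
  choose t ht using hchoose
  have hS : ∀ (c : C) (h : H), (c : G) * h ∈ S := fun c h => by
    refine Finset.mem_filter.2 ⟨Finset.mem_univ _, ?_⟩
    have e : ((c : G) * h)⁻¹ * v * ((c : G) * h) = (h : G)⁻¹ * v * h := by
      calc ((c : G) * h)⁻¹ * v * ((c : G) * h) = (h : G)⁻¹ * (c : G)⁻¹ * (v * (c : G)) * h := by group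
        _ = (h : G)⁻¹ * v * h := by
            rw [← Subgroup.mem_centralizer_singleton_iff.1 c.2]
            group
    rw [e]
    exact H.mul_mem (H.mul_mem (H.inv_mem h.2) hv) h.2
  have hk : ∀ (c : C) (h : H), (h : G) * t ⟨_, hS c h⟩ ∈ C := fun c h => by
    have := C.mul_mem (C.inv_mem c.2) (ht ⟨_, hS c h⟩)
    simpa [mul_assoc] using this
  let e : C × H ≃ S × D :=
    { toFun := fun ch => (⟨_, hS ch.1 ch.2⟩, ⟨⟨(ch.2 : G) * t ⟨_, hS ch.1 ch.2⟩, hk ch.1 ch.2⟩,
        H.mul_mem ch.2.2 (t _).2⟩)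
      invFun := fun xk => (⟨(xk.1 : G) * t xk.1 * (((xk.2 : C) : G))⁻¹,
          C.mul_mem (ht xk.1) (C.inv_mem (xk.2 : C).2)⟩,
        ⟨((xk.2 : C) : G) * (t xk.1 : G)⁻¹, H.mul_mem xk.2.2 (H.inv_mem (t xk.1).2)⟩)
      left_inv := fun ch => by
        refine Prod.ext (Subtype.ext ?_) (Subtype.ext ?_)
        · show (ch.1 : G) * ch.2 * _ * ((ch.2 : G) * _)⁻¹ = ch.1
          group
        · show (ch.2 : G) * _ * _⁻¹ = ch.2
          group
      right_inv := fun xk => by
        have key : ∀ (z : S), (z : G) = (xk.1 : G) → z = xk.1 := fun z hz => Subtype.ext hz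
        have hz : (xk.1 : G) * t xk.1 * (((xk.2 : C) : G))⁻¹ *
            (((xk.2 : C) : G) * (t xk.1 : G)⁻¹) = (xk.1 : G) := by group
        refine Prod.ext (Subtype.ext hz) (Subtype.ext (Subtype.ext ?_))
        show ((xk.2 : C) : G) * (t xk.1 : G)⁻¹ * t ⟨_, _⟩ = _
        refine (congrArg (fun z : S => ((xk.2 : C) : G) * (t xk.1 : G)⁻¹ * (t z : G))
          (key _ hz)).trans ?_
        group }
  have hc := Nat.card_congr e
  rw [Nat.card_prod, Nat.card_prod, Nat.card_eq_finsetCard, ← D.card_mul_index] at hc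
  have h3 : D.index * Nat.card H = S.card := by
    refine Nat.eq_of_mul_eq_mul_left (Nat.card_pos (α := D)) ?_
    rw [← mul_assoc, hc, mul_comm]
  rw [hsum, ← h3, Nat.cast_mul]
  have h0 : (Nat.card H : ℂ) ≠ 0 := Nat.cast_ne_zero.2 Nat.card_pos.ne'
  field_simp
  rfl

/-- The fibres count the permutation character. -/
theorem fibre_eq_perm [Fintype G] {v : G} (hv : Nat.Coprime (orderOf v) H.index) :
    ((fibre hyp v).ncard : ℂ) = Cfsg.indFun H (fun _ => 1) v := by
  classical
  let P : G → ℕ := fun w => if hw : ∃ h ∈ H, IsConj w h then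
    (H.subgroupOf (Subgroup.centralizer ({hw.choose} : Set G))).index else 0
  have hP : ∀ w, Cfsg.indFun H (fun _ => 1) w = (P w : ℂ) := by
    intro w
    by_cases hw : ∃ h ∈ H, IsConj w h
    · simp only [P, dif_pos hw]
      rw [← perm_eq hyp hw.choose_spec.1]
      exact classFunction_eq_of_isConj
        (CfsgLib.Induction.isClassFunction_indFun H _) hw.choose_spec.2
    · simp only [P, dif_neg hw, Nat.cast_zero]
      refine CfsgLib.Induction.indFun_eq_zero_of_forall H fun x hx => hw ⟨_, hx, ?_⟩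
      exact isConj_iff.2 ⟨x⁻¹, by rw [inv_inv]⟩
  have hle : ∀ w, P w ≤ (fibre hyp w).ncard := by
    intro w
    by_cases hw : ∃ h ∈ H, IsConj w h
    · simp only [P, dif_pos hw]
      obtain ⟨a, ha⟩ := isConj_iff.1 hw.choose_spec.2
      rw [← fibre_conj hyp a w]
      refine (index_le_fibre hyp hw.choose_spec.1).trans (le_of_eq ?_)
      rw [ha]
    · simp only [P, dif_neg hw]
      exact Nat.zero_le _
  have htot1 : ∑ w : G, P w = Fintype.card G := by
    have h := CfsgLib.Induction.sum_indFun_mul H (fun _ => (1 : ℂ)) (f := fun _ => (1 : ℂ))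
      (fun _ _ => rfl)
    simp only [mul_one, hP, Finset.sum_const, Finset.card_univ, nsmul_eq_mul] at h
    rw [← Nat.card_eq_fintype_card (α := H), inv_mul_cancel₀ (Nat.cast_ne_zero.2 Nat.card_pos.ne'),
      inv_mul_eq_iff_eq_mul₀ (Nat.cast_ne_zero.2 Nat.card_pos.ne'), mul_one] at h
    rw [← Nat.card_eq_fintype_card]
    exact_mod_cast h
  have hf : ∀ w, (fibre hyp w).ncard =
      (Finset.univ.filter fun x => x ^ partExp hyp = w).card := fun w => by
    rw [← Set.ncard_coe_finset]
    congr 1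
    ext x
    simp [fibre]
  have htot2 : ∑ w : G, (fibre hyp w).ncard = Fintype.card G := by
    simp only [hf]
    rw [← Finset.card_univ]
    exact (Finset.card_eq_sum_card_fiberwise (f := fun x => x ^ partExp hyp)
      (fun x _ => Finset.mem_univ _)).symm
  have heq := (Finset.sum_eq_sum_iff_of_le fun w _ => hle w).1 (htot1.trans htot2.symm) v
    (Finset.mem_univ v)
  rw [hP, heq]

theorem sum_lift [Fintype G] [Fintype H] {φ : H → ℂ} (hφ : Cfsg.IsClassFunction H φ) :
    (Nat.card G : ℂ)⁻¹ * ∑ x, lift hyp φ x = (Nat.card H : ℂ)⁻¹ * ∑ h : H, φ h := by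
  classical
  have hF := isClassFunction_lift hyp hφ
  have hN : ∀ x : G, lift hyp φ x = lift hyp φ (x ^ partExp hyp) := fun x =>
    lift_eq hyp hφ x (rep hyp _).2 (by
      have := isConj_rep hyp (x ^ partExp hyp)
      rwa [pow_partExp_of_pi hyp (pi_part_coprime hyp x)] at this)
  have key : ∀ v : G, ∑ x ∈ Finset.univ.filter (fun x => x ^ partExp hyp = v), lift hyp φ x =
      Cfsg.indFun H (fun _ => 1) v * lift hyp φ v := by
    intro v
    rw [Finset.sum_congr rfl fun x hx => by rw [hN x, (Finset.mem_filter.1 hx).2],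
      Finset.sum_const, nsmul_eq_mul]
    by_cases hv : Nat.Coprime (orderOf v) H.index
    · rw [← fibre_eq_perm hyp hv, ← Set.ncard_coe_finset]
      congr 3
      ext x
      simp [fibre]
    · rw [CfsgLib.Induction.indFun_eq_zero_of_forall H fun x hx => hv ?_,
        Finset.filter_false_of_mem fun x _ hx => hv (by
          have h := pi_part_coprime hyp x
          rwa [hx] at h),
        Finset.card_empty, Nat.cast_zero]
      have h := coprime_of_mem hyp hx
      rwa [show orderOf (x⁻¹ * v * x) = orderOf v from by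
        simpa using orderOf_injective (MulAut.conj x⁻¹).toMonoidHom (MulAut.conj x⁻¹).injective v] at h
  rw [← Finset.sum_fiberwise (Finset.univ : Finset G) (fun x => x ^ partExp hyp),
    Finset.sum_congr rfl fun v _ => key v,
    CfsgLib.Induction.sum_indFun_mul H (fun _ => (1 : ℂ)) (f := lift hyp φ) hF]
  simp only [one_mul, lift_mem hyp hφ]

theorem isIrr_lift [Fintype G] [Fintype H] {φ : H → ℂ} (hφ : Cfsg.IsIrrCharacter H φ) :
    Cfsg.IsIrrCharacter G (lift hyp φ) := by
  have hc := isClassFunction_of_isCharacter (isCharacter_of_irr hφ)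
  refine isIrrCharacter_of_generalized_norm_one (isGeneralized_lift hyp (isCharacter_of_irr hφ)) ?_ ?_
  · have hsq : Cfsg.IsClassFunction H (fun h => φ h * conj (φ h)) := fun a b => by
      simp only [hc a b]
    have h := sum_lift hyp hsq
    exact h.trans (classInner_irr_self hφ)
  · obtain ⟨d, -, hd⟩ := irr_exists_degree hφ
    rw [show (1 : G) = ((1 : H) : G) from rfl, lift_mem hyp hc, hd, Complex.natCast_re]
    exact Nat.cast_nonneg d

theorem normal_complement [Fintype G] [Fintype H] :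
    ∃ K : Subgroup G, K.Normal ∧ K ⊔ H = ⊤ ∧ K ⊓ H = ⊥ := by
  classical
  have hrep : ∀ θ : Cfsg.IrrCharacter H, ∃ (d : ℕ) (ρ : Representation ℂ G (Fin d → ℂ)),
      ρ.character = lift hyp (θ : H → ℂ) := fun θ => by
    obtain ⟨d, ρ, -, hρ⟩ := isIrr_lift hyp θ.2
    exact ⟨d, ρ, hρ⟩
  choose d ρ hρ using hrep
  let K : Subgroup G := ⨅ θ : Cfsg.IrrCharacter H, (ρ θ).asGroupHom.ker
  have hKn : K.Normal := Subgroup.normal_iInf_normal fun θ => MonoidHom.normal_ker _
  have hK : ∀ x, x ∈ K ↔ x ^ partExp hyp = 1 := by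
    intro x
    have h1 : ∀ θ : Cfsg.IrrCharacter H,
        x ∈ (ρ θ).asGroupHom.ker ↔ lift hyp (θ : H → ℂ) x = lift hyp (θ : H → ℂ) 1 := fun θ => by
      rw [← hρ θ, Representation.char_one, char_eq_degree_iff, MonoidHom.mem_ker, Units.ext_iff]
      rfl
    have h2 : ∀ θ : Cfsg.IrrCharacter H, lift hyp (θ : H → ℂ) 1 = (θ : H → ℂ) 1 := fun θ => by
      rw [← lift_mem hyp (irr_isClassFunction θ) 1]
      rfl
    simp only [K, Subgroup.mem_iInf, h1, h2]
    constructor
    · intro h
      have hconj := (isConj_iff_irr (rep hyp x) 1).2 h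
      rw [isConj_one_left] at hconj
      have hr := isConj_rep hyp x
      rw [hconj, Subgroup.coe_one, isConj_one_left] at hr
      exact hr
    · intro h θ
      rw [lift_eq hyp (irr_isClassFunction θ) x H.one_mem (by rw [h])]
      rfl
  have hdisj : K ⊓ H = ⊥ := by
    rw [eq_bot_iff]
    rintro x ⟨hxK, hxH⟩
    rw [Subgroup.mem_bot, ← pow_partExp_of_pi hyp (coprime_of_mem hyp hxH), (hK x).1 hxK]
  refine ⟨K, hKn, (Subgroup.isComplement'_of_card_mul_and_disjoint ?_
    (disjoint_iff.2 hdisj)).sup_eq_top, hdisj⟩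
  have h := fibre_eq_perm hyp (v := 1) (by simp)
  rw [CfsgLib.Induction.indFun_one_apply, mul_one, Nat.cast_inj] at h
  have hKcard : Nat.card K = H.index := by
    rw [← h]
    rw [← Nat.card_coe_set_eq]
    exact Nat.card_congr (Equiv.subtypeEquivRight hK)
  rw [hKcard, mul_comm, H.card_mul_index]

end CfsgLib.BrauerSuzuki
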