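import Cfsg.Agent.Lib.Characters.Values
import Mathlib.Algebra.Polynomial.BigOperators

/-!
# The Burnside–Brauer theorem on powers of a faithful character
-/

set_option autoImplicit false
set_option linter.style.haveILetI false

namespace CfsgLib.BurnsideBrauer

open Cfsg CfsgLib.Characters Polynomial
open scoped ComplexConjugate

variable {G : Type*} [Group G] [Fintype G]

theorem exists_pow_classInner_ne_zero {V : Type*} [AddCommGroup V] [Module ℂ V]
    [FiniteDimensional ℂ V] (ρ : Representation ℂ G V) (hfaithful : Function.Injective ρ)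
    {ψ : G → ℂ} (hψ : IsIrrCharacter G ψ) :
    ∃ i : ℕ, i < Nat.card (Set.range ρ.character) ∧
      classInner (fun g => ρ.character g ^ i) ψ ≠ 0 := by
  classical
  by_contra hne
  push Not at hne
  set s := (Finset.univ.image ρ.character).erase (ρ.character 1) with hs
  set P : Polynomial ℂ := ∏ a ∈ s, (X - C a) with hP
  have hdeg : P.natDegree < Nat.card (Set.range ρ.character) := by
    rw [hP, natDegree_finsetProd_X_sub_C_eq_card, hs,
      Nat.card_congr (Equiv.subtypeEquivRight (q := fun x => x ∈ Finset.univ.image ρ.character)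
        (fun x => by simp) : Set.range ρ.character ≃ (Finset.univ.image ρ.character : Finset ℂ)),
      Nat.card_eq_fintype_card, Fintype.card_coe]
    exact Finset.card_erase_lt_of_mem (Finset.mem_image_of_mem _ (Finset.mem_univ 1))
  have hval : ∀ g : G, g ≠ 1 → P.eval (ρ.character g) = 0 := by
    intro g hg
    rw [hP, eval_prod]
    refine Finset.prod_eq_zero (i := ρ.character g) ?_ (by simp)
    refine Finset.mem_erase.mpr ⟨fun h => hg ?_, Finset.mem_image_of_mem _ (Finset.mem_univ g)⟩
    rw [Representation.char_one] at h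
    exact hfaithful (((char_eq_degree_iff ρ g).mp h).trans (map_one ρ).symm)
  have h1 : P.eval (ρ.character 1) ≠ 0 := by
    rw [hP, eval_prod]
    refine Finset.prod_ne_zero_iff.mpr fun a ha => ?_
    simpa [sub_eq_zero] using (Finset.ne_of_mem_erase ha).symm
  have hzero : ∑ g : G, P.eval (ρ.character g) * conj (ψ g) = 0 := by
    simp only [eval_eq_sum_range, Finset.sum_mul, mul_assoc]
    rw [Finset.sum_comm]
    refine Finset.sum_eq_zero fun i hi => ?_
    rw [← Finset.mul_sum]
    have h := hne i (lt_of_le_of_lt (Nat.lt_succ_iff.mp (Finset.mem_range.mp hi)) hdeg)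
    rw [classInner, mul_eq_zero] at h
    rw [h.resolve_left (inv_ne_zero (Nat.cast_ne_zero.mpr Nat.card_pos.ne')), mul_zero]
  rw [Finset.sum_eq_single (1 : G) (fun g _ hg => by rw [hval g hg, zero_mul])
    (fun h => absurd (Finset.mem_univ _) h)] at hzero
  have := (mul_eq_zero.mp hzero).resolve_left h1
  rw [map_eq_zero] at this
  exact irr_one_ne_zero ⟨ψ, hψ⟩ this

end CfsgLib.BurnsideBrauer
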