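import Cfsg.Agent.Lib.Characters.LocalBrauer
import Cfsg.Agent.Lib.Characters.Ramified
import Cfsg.Agent.Lib.Characters.Extension
import Cfsg.Agent.Lib.Blocks.BrauerMap

/-!
# Detecting extendibility on elementary subgroups

Dade's lemma: for a `p`-power index and an invariant irreducible character there is a
`p`-elementary supplement with an invariant constituent of multiplicity prime to `p`; and the
resulting extension criterion.
-/

set_option autoImplicit false

noncomputable section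

namespace CfsgLib.DadeExt

open scoped ComplexConjugate
open CfsgLib.Characters CfsgLib.LinearExt CfsgLib.CharExtension

universe u

variable {G : Type u} [Group G] [Fintype G] (N : Subgroup G) [hN : N.Normal]

/-- `|G| |E ⊓ N| = [G : E ⊔ N] |E| |N|`. -/
theorem card_identity (E : Subgroup G) :
    Nat.card G * Nat.card ↥(E ⊓ N) = (E ⊔ N).index * (Nat.card E * Nat.card N) := by
  have h1 := (E ⊔ N).card_mul_index
  have h2 : N.relIndex (E ⊔ N) = N.relIndex E := Subgroup.relIndex_sup_right E N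
  have h3 : (E ⊓ N).relIndex E = N.relIndex E := by rw [inf_comm, Subgroup.inf_relIndex_right]
  have key : ∀ {A B : Subgroup G}, A ≤ B → Nat.card A * A.relIndex B = Nat.card B := fun {A B} h => by
    have := (A.subgroupOf B).card_mul_index
    rwa [Nat.card_congr (Subgroup.subgroupOfEquivOfLe h).toEquiv] at this
  rw [← h1, ← key (le_sup_right : N ≤ E ⊔ N), h2, ← key (inf_le_left : E ⊓ N ≤ E), h3]
  ring

variable {ϑ : N → ℂ}

theorem dade (p : ℕ) (hp : p.Prime) (hind : ∃ k : ℕ, N.index = p ^ k)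
    (hϑ : Cfsg.IsIrrCharacter N ϑ)
    (hinv : ∀ (g : G) (n : N), ϑ ⟨g * n * g⁻¹, hN.conj_mem (n : G) n.2 g⟩ = ϑ n) :
    ∃ (E : Subgroup G) (φ : ↥(E ⊓ N) → ℂ), Cfsg.IsElementary p E ∧ E ⊔ N = ⊤ ∧
      Cfsg.IsIrrCharacter ↥(E ⊓ N) φ ∧
      (∀ (g : G) (hg : g ∈ E) (x : ↥(E ⊓ N)), φ ⟨g * x * g⁻¹,
        ⟨(E.mul_mem (E.mul_mem hg x.2.1) (E.inv_mem hg)), hN.conj_mem (x : G) x.2.2 g⟩⟩ = φ x) ∧
      ∃ m : ℕ, ¬ p ∣ m ∧ (Nat.card ↥(E ⊓ N) : ℂ)⁻¹ *
        ∑ᶠ x : ↥(E ⊓ N), ϑ ⟨(x : G), x.2.2⟩ * conj (φ x) = (m : ℂ) := by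
  classical
  have hfact : Fact p.Prime := ⟨hp⟩
  have : Fintype N := Fintype.ofFinite _
  obtain ⟨k, hk⟩ := hind
  have hϑc := isCharacter_of_irr hϑ
  -- the pairing with the constant
  let W : N → ℂ := fun n => ϑ n * conj (ϑ n)
  let T : (G → ℂ) → ℂ := fun F => (Nat.card N : ℂ)⁻¹ * ∑ n : N, F n * W n
  have hres : ∀ (E : Subgroup G) [Fintype ↥(E ⊓ N)] (ψ : E → ℂ),
      T (Cfsg.indFun E ψ) = ((E ⊔ N).index : ℂ) * Cfsg.classInner
        (fun d : ↥(E ⊓ N) => ψ ⟨d, d.2.1⟩ * ϑ ⟨d, d.2.2⟩) (fun d : ↥(E ⊓ N) => ϑ ⟨d, d.2.2⟩) := by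
    intro E _ ψ
    let S : ℂ := ∑ d : ↥(E ⊓ N), ψ ⟨d, d.2.1⟩ * W ⟨d, d.2.2⟩
    have hx : ∀ x : G, ∑ n : N, Cfsg.extendByZero E ψ (x⁻¹ * n * x) * W n = S := by
      intro x
      have hmem : ∀ n : N, x⁻¹ * (n : G) * x ∈ N := fun n => hN.conj_mem' (n : G) n.2 x
      let e : N ≃ N :=
        { toFun := fun n => ⟨x⁻¹ * n * x, hmem n⟩
          invFun := fun n => ⟨x * n * x⁻¹, hN.conj_mem (n : G) n.2 x⟩
          left_inv := fun n => Subtype.ext (by simp [mul_assoc])
          right_inv := fun n => Subtype.ext (by simp [mul_assoc]) }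
      rw [← Equiv.sum_comp e.symm]
      have hW : ∀ n : N, W (e.symm n) = W n := fun n => by
        show ϑ ⟨x * n * x⁻¹, _⟩ * conj (ϑ ⟨x * n * x⁻¹, _⟩) = _
        rw [hinv x n]
      rw [Finset.sum_congr rfl (g := fun n : N => Cfsg.extendByZero E ψ n * W n) fun n _ => ?_]
      · rw [← Finset.sum_subset (Finset.subset_univ
          ((Finset.univ : Finset ↥(E ⊓ N)).map ⟨fun d : ↥(E ⊓ N) => (⟨d, d.2.2⟩ : N),
            fun a b h => Subtype.ext (congrArg (fun t : N => (t : G)) h)⟩))]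
        · rw [Finset.sum_map]
          refine Finset.sum_congr rfl fun d _ => ?_
          show Cfsg.extendByZero E ψ (d : G) * _ = _
          rw [CfsgLib.Induction.extendByZero_mem E ψ d.2.1]
          rfl
        · intro n _ hn
          rw [CfsgLib.Induction.extendByZero_notMem E ψ, zero_mul]
          intro hnE
          exact hn (Finset.mem_map.2 ⟨⟨n, hnE, n.2⟩, Finset.mem_univ _, rfl⟩)
      · rw [hW]
        congr 2
        show x⁻¹ * (x * n * x⁻¹) * x = n
        group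
    have hS : T (Cfsg.indFun E ψ) = (Nat.card N : ℂ)⁻¹ * ((Nat.card E : ℂ)⁻¹ * ((Nat.card G : ℂ) * S)) := by
      show (Nat.card N : ℂ)⁻¹ * _ = _
      congr 1
      simp only [CfsgLib.Induction.indFun_apply, mul_assoc, Finset.sum_mul, ← Finset.mul_sum]
      congr 1
      rw [Finset.sum_comm]
      simp only [← mul_assoc]
      rw [Finset.sum_congr rfl fun x _ => hx x, Finset.sum_const, Finset.card_univ, nsmul_eq_mul,
        ← Nat.card_eq_fintype_card]
    rw [hS]
    have hid : (Nat.card G : ℂ) * (Nat.card ↥(E ⊓ N) : ℂ) =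
        ((E ⊔ N).index : ℂ) * ((Nat.card E : ℂ) * (Nat.card N : ℂ)) := by
      exact_mod_cast card_identity N E
    have hinner : Cfsg.classInner (fun d : ↥(E ⊓ N) => ψ ⟨d, d.2.1⟩ * ϑ ⟨d, d.2.2⟩)
        (fun d : ↥(E ⊓ N) => ϑ ⟨d, d.2.2⟩) = (Nat.card ↥(E ⊓ N) : ℂ)⁻¹ * S := by
      unfold Cfsg.classInner
      congr 1
      exact Finset.sum_congr rfl fun d _ => mul_assoc _ _ _
    rw [hinner]
    have h1 : (Nat.card N : ℂ) ≠ 0 := Nat.cast_ne_zero.2 Nat.card_pos.ne'
    have h2 : (Nat.card E : ℂ) ≠ 0 := Nat.cast_ne_zero.2 Nat.card_pos.ne'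
    have h3 : (Nat.card ↥(E ⊓ N) : ℂ) ≠ 0 := Nat.cast_ne_zero.2 Nat.card_pos.ne'
    field_simp
    linear_combination S * hid
  -- some elementary supplement has an inner product prime to `p`
  obtain ⟨E, ψ, hE, hψ, hsup, a, ha, hpa⟩ : ∃ (E : Subgroup G) (ψ : E → ℂ),
      Cfsg.IsElementary p E ∧ Cfsg.IsCharacter E ψ ∧ E ⊔ N = ⊤ ∧ ∃ a : ℕ, Cfsg.classInner
        (fun d : ↥(E ⊓ N) => ψ ⟨d, d.2.1⟩ * ϑ ⟨d, d.2.2⟩) (fun d : ↥(E ⊓ N) => ϑ ⟨d, d.2.2⟩) = a ∧
        ¬ p ∣ a := by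
    by_contra hcon
    obtain ⟨m, hm, hmem⟩ := BrauerInd.brauer_local (G := G) p hp
    have key : ∀ F ∈ BrauerInd.indSpan p G, ∃ z : ℤ, T F = ((p : ℤ) * z : ℤ) := by
      intro F hF
      induction hF using AddSubgroup.closure_induction with
      | mem F hF =>
        obtain ⟨E, ψ, hE, hψ, rfl⟩ := hF
        have hD1 : Cfsg.IsCharacter ↥(E ⊓ N) (fun d : ↥(E ⊓ N) => ϑ ⟨d, d.2.2⟩) :=
          CfsgLib.Clifford.isCharacter_pullback hϑc (Subgroup.inclusion inf_le_right)
        obtain ⟨a, ha⟩ := classInner_char_nat (isCharacter_mul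
          (CfsgLib.Clifford.isCharacter_pullback hψ (Subgroup.inclusion (inf_le_left : E ⊓ N ≤ E))) hD1)
          hD1
        rw [hres E ψ]
        by_cases hsup : E ⊔ N = ⊤
        · have hdvd : p ∣ a := by
            by_contra h
            exact hcon ⟨E, ψ, hE, hψ, hsup, a, ha, h⟩
          obtain ⟨c, rfl⟩ := hdvd
          refine ⟨c, ?_⟩
          rw [hsup, Subgroup.index_top, Nat.cast_one, one_mul]
          refine ha.trans ?_
          push_cast
          rfl
        · obtain ⟨j, -, hj⟩ := (Nat.dvd_prime_pow hp).1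
            (hk ▸ Subgroup.index_dvd_of_le (le_sup_right : N ≤ E ⊔ N))
          rcases j with _ | j
          · exact absurd (Subgroup.index_eq_one.1 (by simpa using hj)) hsup
          · refine ⟨(p ^ j * a : ℕ), ?_⟩
            refine (congrArg (((E ⊔ N).index : ℂ) * ·) ha).trans ?_
            rw [hj]
            push_cast
            ring
      | zero => exact ⟨0, by simp [T]⟩
      | add a b _ _ ha hb =>
        obtain ⟨z, hz⟩ := ha
        obtain ⟨w, hw⟩ := hb
        refine ⟨z + w, ?_⟩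
        have : T (a + b) = T a + T b := by
          simp [T, add_mul, Finset.sum_add_distrib, mul_add]
        rw [this, hz, hw]
        push_cast
        ring
      | neg a _ ha =>
        obtain ⟨z, hz⟩ := ha
        refine ⟨-z, ?_⟩
        have : T (-a) = -T a := by simp [T, Finset.sum_neg_distrib]
        rw [this, hz]
        push_cast
        ring
    obtain ⟨z, hz⟩ := key _ hmem
    have hTm : T (fun _ => (m : ℂ)) = (m : ℂ) := by
      have h := classInner_irr_self hϑ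
      unfold Cfsg.classInner at h
      show (Nat.card N : ℂ)⁻¹ * ∑ n : N, (m : ℂ) * W n = _
      rw [← Finset.mul_sum, mul_left_comm, h, mul_one]
    rw [hTm] at hz
    exact hm ⟨z, by exact_mod_cast hz⟩
  let D : Subgroup G := E ⊓ N
  let θ : D → ℂ := fun d => ϑ ⟨d, d.2.2⟩
  let ψD : D → ℂ := fun d => ψ ⟨d, d.2.1⟩
  have hθ : Cfsg.IsCharacter D θ := CfsgLib.Clifford.isCharacter_pullback hϑc (Subgroup.inclusion inf_le_right)
  have hψD : Cfsg.IsCharacter D ψD := CfsgLib.Clifford.isCharacter_pullback hψ (Subgroup.inclusion inf_le_left)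
  obtain ⟨μ, hμ, hμs⟩ := CfsgLib.Clifford.exists_mult hθ
  have hc : ∀ γ : Cfsg.IrrCharacter D, ∃ c : ℕ, Cfsg.classInner (fun d => ψD d * (γ : D → ℂ) d) θ = c :=
    fun γ => classInner_char_nat (isCharacter_mul hψD (irr_isCharacter γ)) hθ
  choose c hcc using hc
  have hsum : a = ∑ γ : Cfsg.IrrCharacter D, μ γ * c γ := by
    have e : (fun d => ψD d * θ d) =
        ∑ γ : Cfsg.IrrCharacter D, (μ γ : ℂ) • fun d => ψD d * (γ : D → ℂ) d := by
      funext d
      rw [congrFun hμs d]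
      simp [Finset.mul_sum, mul_left_comm]
    have h : Cfsg.classInner (fun d => ψD d * θ d) θ = (a : ℂ) := ha
    rw [e, classInner_sum_left,
      Finset.sum_congr rfl (g := fun γ => (μ γ : ℂ) * (c γ : ℂ))
        (fun γ _ => by rw [classInner_smul_left, hcc])] at h
    exact_mod_cast h.symm
  -- conjugation by elements of `E`
  have hmemD : ∀ (g : E) (d : D), (g : G) * d * (g : G)⁻¹ ∈ D := fun g d =>
    ⟨E.mul_mem (E.mul_mem g.2 d.2.1) (E.inv_mem g.2), hN.conj_mem (d : G) d.2.2 _⟩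
  let cj : E → (D ≃* D) := fun g =>
    { toFun := fun d => ⟨(g : G) * d * (g : G)⁻¹, hmemD g d⟩
      invFun := fun d => ⟨((g⁻¹ : E) : G) * d * ((g⁻¹ : E) : G)⁻¹, hmemD g⁻¹ d⟩
      left_inv := fun d => Subtype.ext (by simp [mul_assoc])
      right_inv := fun d => Subtype.ext (by simp [mul_assoc])
      map_mul' := fun a b => Subtype.ext (by simp [mul_assoc]) }
  let act : MulAction E (Cfsg.IrrCharacter D) :=
    { smul := fun g γ => ⟨fun d => (γ : D → ℂ) (cj g⁻¹ d),
        CfsgLib.Clifford.isIrrCharacter_pullback γ.2 (cj g⁻¹).toMonoidHom (cj g⁻¹).surjective⟩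
      one_smul := fun γ => Subtype.ext (funext fun d => congrArg (γ : D → ℂ) (Subtype.ext (by simp [cj])))
      mul_smul := fun g h γ => Subtype.ext (funext fun d =>
        congrArg (γ : D → ℂ) (Subtype.ext (by simp [cj, mul_assoc]))) }
  have hsmul : ∀ (g : E) (γ : Cfsg.IrrCharacter D) (d : D),
      ((g • γ : Cfsg.IrrCharacter D) : D → ℂ) d = (γ : D → ℂ) (cj g⁻¹ d) := fun _ _ _ => rfl
  have hθinv : ∀ (g : E) (d : D), θ (cj g d) = θ d := fun g d => hinv (g : G) ⟨d, d.2.2⟩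
  have hψinv : ∀ (g : E) (d : D), ψD (cj g d) = ψD d := fun g d =>
    isClassFunction_of_isCharacter hψ ⟨d, d.2.1⟩ g
  have hμinv : ∀ (g : E) γ, μ (g • γ) = μ γ := fun g γ => by
    refine Nat.cast_injective (R := ℂ) ?_
    rw [← hμ, ← hμ]
    unfold Cfsg.classInner
    congr 1
    refine Fintype.sum_equiv (cj g⁻¹).toEquiv _ _ fun d => ?_
    rw [hsmul]
    show θ d * _ = θ (cj g⁻¹ d) * _
    rw [hθinv]
    rfl
  have hcinv : ∀ (g : E) γ, c (g • γ) = c γ := fun g γ => by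
    refine Nat.cast_injective (R := ℂ) ?_
    rw [← hcc, ← hcc]
    unfold Cfsg.classInner
    congr 1
    refine Fintype.sum_equiv (cj g⁻¹).toEquiv _ _ fun d => ?_
    dsimp only
    rw [hsmul]
    show _ = ψD (cj g⁻¹ d) * (γ : D → ℂ) (cj g⁻¹ d) * conj (θ (cj g⁻¹ d))
    rw [hθinv, hψinv]
  let P : Sylow p E := default
  obtain ⟨γ, hγfix, hγm⟩ : ∃ γ : Cfsg.IrrCharacter D,
      γ ∈ MulAction.fixedPoints (P : Subgroup E) (Cfsg.IrrCharacter D) ∧ ¬ p ∣ μ γ := by
    by_contra hcon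
    push Not at hcon
    have h0 := BlockAlg.sum_eq_sum_fixed (p := p) (A := ZMod p) (fun x => by simp [ZMod.natCast_self]) P.2
      (fun γ : Cfsg.IrrCharacter D => ((μ γ * c γ : ℕ) : ZMod p))
      (fun u γ => by
        show ((μ ((u : E) • γ) * c ((u : E) • γ) : ℕ) : ZMod p) = _
        rw [hμinv, hcinv])
    rw [← Nat.cast_sum, ← hsum, Finset.sum_eq_zero (fun γ hγ => ?_)] at h0
    · exact hpa ((CharP.cast_eq_zero_iff (ZMod p) p _).1 h0 |> id)
    · exact (CharP.cast_eq_zero_iff (ZMod p) p _).2 (dvd_mul_of_dvd_left (hcon γ (Finset.mem_filter.1 hγ).2) _)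
  have hsplit : ∀ g : E, g • γ = γ := by
    have hDn : (D.subgroupOf E).Normal :=
      ⟨fun d hd g => Subgroup.mem_subgroupOf.2 (hmemD g ⟨d, Subgroup.mem_subgroupOf.1 hd⟩)⟩
    have htop : D.subgroupOf E ⊔ (P : Subgroup E) = ⊤ := by
      rw [← Subgroup.index_eq_one]
      have h1 : (D.subgroupOf E ⊔ (P : Subgroup E)).index ∣ p ^ k := by
        refine (Subgroup.index_dvd_of_le le_sup_left).trans ?_
        show (E ⊓ N).relIndex E ∣ _
        rw [inf_comm, Subgroup.inf_relIndex_right]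
        exact hk ▸ Subgroup.relIndex_dvd_index_of_normal N E
      have h2 := Subgroup.index_dvd_of_le (le_sup_right : (P : Subgroup E) ≤ D.subgroupOf E ⊔ P)
      obtain ⟨j, -, hj⟩ := (Nat.dvd_prime_pow hp).1 h1
      rcases j with _ | j
      · simpa using hj
      · exact absurd ((hj ▸ dvd_pow_self p (Nat.succ_ne_zero j)).trans h2) P.not_dvd_index
    have hle : D.subgroupOf E ⊔ (P : Subgroup E) ≤ MulAction.stabilizer E γ := by
      refine sup_le (fun d hd => ?_) (fun u hu => hγfix ⟨u, hu⟩)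
      refine Subtype.ext (funext fun x => ?_)
      rw [hsmul]
      let dD : D := ⟨(d : G), Subgroup.mem_subgroupOf.1 hd⟩
      have := irr_isClassFunction γ x dD⁻¹
      convert this using 2
      exact Subtype.ext (by simp [cj, dD, mul_assoc])
    intro g
    exact hle (htop ▸ Subgroup.mem_top g)
  refine ⟨E, γ, hE, hsup, γ.2, fun g hg x => ?_, μ γ, hγm, ?_⟩
  · have h := congrFun (congrArg Subtype.val (hsplit (⟨g, hg⟩⁻¹ : E))) x
    rw [hsmul, inv_inv] at h
    exact h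
  · rw [← hμ γ, finsum_eq_sum_of_fintype]
    rfl

section Extend

/-- A linear character of a subgroup of a finite abelian group extends. -/
theorem exists_extend_abelian {A : Type u} [Group A] [Finite A] [IsMulCommutative A]
    (B : Subgroup A) (f : B →* ℂˣ) : ∃ g : A →* ℂˣ, ∀ b : B, g b = f b := by
  classical
  have := Fintype.ofFinite A
  have := Fintype.ofFinite B
  have hf : Cfsg.IsIrrCharacter B (fun b => (f b : ℂ)) := isIrrCharacter_of_hom f
  have hI := CfsgLib.Induction.isCharacter_indFun B (isCharacter_of_irr hf)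
  obtain ⟨χ, hχ⟩ := CfsgLib.Clifford.exists_constituent hI (by
    intro h0
    have h := congrFun h0 1
    rw [CfsgLib.Induction.indFun_one_apply] at h
    simp [Subgroup.index_ne_zero_of_finite] at h)
  have hBn : B.Normal := ⟨fun b hb g => by rwa [mul_comm' g b, mul_inv_cancel_right]⟩
  rw [CfsgLib.Induction.classInner_indFun B _ (irr_isClassFunction χ), classInner_conj_symm,
    map_ne_zero] at hχ
  have hres := CfsgLib.Ramified.res_eq_smul_of_invariant B χ.2 hf (fun g n => by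
    congr 2
    refine Subtype.ext ?_
    show g * (n : A) * g⁻¹ = n
    rw [mul_comm' g (n : A), mul_inv_cancel_right]) hχ
  have h1 : (χ : A → ℂ) 1 = 1 := by
    obtain ⟨d, ρ, hρ, hρc⟩ := χ.2
    rw [← hρc, Representation.char_one,
      Representation.IsIrreducible.finrank_eq_one_of_isMulCommutative ρ, Nat.cast_one]
  have he := congrFun hres 1
  simp only [OneMemClass.coe_one, h1, Pi.smul_apply, map_one, Units.val_one, smul_eq_mul, mul_one] at he
  obtain ⟨g, hg⟩ := exists_unitsHom (irr_isCharacter χ) h1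
  refine ⟨g, fun b => Units.ext ?_⟩
  have h := congrFun hres b
  simp only [← he, one_smul] at h
  rw [hg] at h
  exact h
where
  mul_comm' {A : Type u} [Group A] [IsMulCommutative A] (a b : A) : a * b = b * a :=
    isMulCommutative_iff.1 inferInstance a b

theorem extends_of_central_sylow (p : ℕ) [hfact : Fact p.Prime] (hind : ∃ k : ℕ, N.index = p ^ k)
    (P : Sylow p G) (hcent : ∀ x ∈ (P : Subgroup G) ⊓ N, ∀ y ∈ (P : Subgroup G), x * y = y * x)
    (hlin : ∀ f : ↥((P : Subgroup G) ⊓ N) →* ℂˣ, ∃ μ : ↥(P : Subgroup G) →* ℂˣ,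
      ∀ x : ↥((P : Subgroup G) ⊓ N), μ ⟨(x : G), x.2.1⟩ = f x)
    (hϑ : Cfsg.IsIrrCharacter N ϑ)
    (hinv : ∀ (g : G) (n : N), ϑ ⟨g * n * g⁻¹, hN.conj_mem (n : G) n.2 g⟩ = ϑ n) :
    ∃ χ : G → ℂ, Cfsg.IsIrrCharacter G χ ∧ ∀ n : N, χ n = ϑ n := by
  classical
  have hp : p.Prime := Fact.out
  have : Fintype N := Fintype.ofFinite _
  obtain ⟨E, φ, hE, hsup, hφ, -, m, hm, hmult⟩ := dade N p hp hind hϑ hinv
  obtain ⟨k, hk⟩ := hind
  obtain ⟨x, hx, hxc, l, hl⟩ := hE
  -- a Sylow subgroup of `E`, conjugated into `P`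
  let Q : Sylow p E := default
  have hQG : IsPGroup p ((Q : Subgroup E).map E.subtype) := Q.2.map _
  obtain ⟨P', hP'⟩ := hQG.exists_le_sylow
  obtain ⟨g, hg⟩ := MulAction.exists_smul_eq G P' P
  have hconj : ∀ {y : E}, y ∈ (Q : Subgroup E) → g * (y : G) * g⁻¹ ∈ (P : Subgroup G) := by
    intro y hy
    rw [← hg, Sylow.coe_subgroup_smul]
    exact ⟨(y : G), hP' ⟨y, hy, rfl⟩, rfl⟩
  have hZQ : Subgroup.zpowers x ⊔ (Q : Subgroup E) = ⊤ := by
    rw [← Subgroup.index_eq_one]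
    have h1 : (Subgroup.zpowers x ⊔ (Q : Subgroup E)).index ∣ p ^ l :=
      hl ▸ Subgroup.index_dvd_of_le le_sup_left
    have h2 := Subgroup.index_dvd_of_le (le_sup_right : (Q : Subgroup E) ≤ Subgroup.zpowers x ⊔ Q)
    obtain ⟨j, -, hj⟩ := (Nat.dvd_prime_pow hp).1 h1
    rcases j with _ | j
    · simpa using hj
    · exact absurd ((hj ▸ dvd_pow_self p (Nat.succ_ne_zero j)).trans h2) Q.not_dvd_index
  have hxN : (x : G) ∈ N := by
    refine PermChar.mem_of_coprime_of_pow_mem (k := p ^ k) ?_ ?_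
    · exact hk ▸ N.pow_index_mem (x : G)
    · have := orderOf_injective E.subtype E.subtype_injective x
      rw [Subgroup.coe_subtype] at this
      rw [this]
      exact hxc.symm.pow_left k
  have hdec : ∀ y : E, ∃ (z q : E), z ∈ Subgroup.zpowers x ∧ q ∈ (Q : Subgroup E) ∧ z * q = y := by
    intro y
    have hn : (Subgroup.zpowers x).Normal := ⟨fun z hz g' => by
      rw [Subgroup.mem_center_iff.1 (Subgroup.zpowers_le.2 hx hz) g', mul_inv_cancel_right]; exact hz⟩
    have hy : y ∈ ((Subgroup.zpowers x ⊔ (Q : Subgroup E) : Subgroup E) : Set E) :=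
      hZQ ▸ Subgroup.mem_top y
    rw [Subgroup.normal_mul] at hy
    obtain ⟨z, hz, q, hq, rfl⟩ := hy
    exact ⟨z, q, hz, hq, rfl⟩
  have hzN : ∀ {z : E}, z ∈ Subgroup.zpowers x → (z : G) ∈ N := fun hz =>
    (Subgroup.zpowers_le (H := N.subgroupOf E) |>.2 hxN) hz
  -- `E ⊓ N` is central in `E`
  have hcen : ∀ d : E, (d : G) ∈ N → d ∈ Subgroup.center E := by
    intro d hd
    obtain ⟨z, q, hz, hq, rfl⟩ := hdec d
    refine (Subgroup.center E).mul_mem (Subgroup.zpowers_le.2 hx hz) ?_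
    rw [Subgroup.mem_center_iff]
    intro y
    obtain ⟨w, r, hw, hr, rfl⟩ := hdec y
    have hwc : ∀ t : E, w * t = t * w := fun t =>
      (Subgroup.mem_center_iff.1 (Subgroup.zpowers_le.2 hx hw) t).symm
    have hqN : (q : G) ∈ N := by
      have := N.mul_mem (N.inv_mem (hzN hz)) hd
      rwa [Subgroup.coe_mul, inv_mul_cancel_left] at this
    have h := hcent _ ⟨hconj hq, hN.conj_mem _ hqN g⟩ _ (hconj hr)
    have hqr : q * r = r * q := by
      refine Subtype.ext ?_
      have h' : g * ((q : G) * r) * g⁻¹ = g * ((r : G) * q) * g⁻¹ := by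
        calc g * ((q : G) * r) * g⁻¹ = g * q * g⁻¹ * (g * r * g⁻¹) := by group
          _ = g * r * g⁻¹ * (g * q * g⁻¹) := h
          _ = g * ((r : G) * q) * g⁻¹ := by group
      exact mul_left_cancel (mul_right_cancel h')
    rw [mul_assoc, ← hqr, ← mul_assoc, hwc q, mul_assoc]
  let D : Subgroup G := E ⊓ N
  have hDcomm : IsMulCommutative D := isMulCommutative_iff.2 fun a b => Subtype.ext
    (congrArg (fun t : E => (t : G)) (Subgroup.mem_center_iff.1 (hcen ⟨b, b.2.1⟩ b.2.2) ⟨a, a.2.1⟩))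
  have hφ1 : φ 1 = 1 := by
    obtain ⟨d, ρ, hρ, hρc⟩ := hφ
    rw [← hρc, Representation.char_one,
      Representation.IsIrreducible.finrank_eq_one_of_isMulCommutative ρ, Nat.cast_one]
  obtain ⟨f, hf⟩ := exists_unitsHom (isCharacter_of_irr hφ) hφ1
  -- extend `f` to `E`
  obtain ⟨s, hs⟩ : ∃ s : E →* ℂˣ, ∀ d : D, s ⟨d, d.2.1⟩ = f d := by
    let PN : Subgroup G := (P : Subgroup G) ⊓ N
    have hPNc : IsMulCommutative PN := isMulCommutative_iff.2 fun a b =>
      Subtype.ext (hcent a a.2 b b.2.1)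
    let B : Subgroup PN :=
      { carrier := {t | ∃ h : g⁻¹ * (t : G) * g ∈ E, (⟨_, h⟩ : E) ∈ (Q : Subgroup E)}
        one_mem' := ⟨by simp [E.one_mem], by convert (Q : Subgroup E).one_mem; simp⟩
        mul_mem' := by
          rintro a b ⟨ha, ha'⟩ ⟨hb, hb'⟩
          have e : g⁻¹ * ((a * b : PN) : G) * g = (g⁻¹ * a * g) * (g⁻¹ * b * g) := by
            simp [mul_assoc]
          refine ⟨e ▸ E.mul_mem ha hb, ?_⟩
          convert (Q : Subgroup E).mul_mem ha' hb' using 1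
          exact Subtype.ext e
        inv_mem' := by
          rintro a ⟨ha, ha'⟩
          have e : g⁻¹ * ((a⁻¹ : PN) : G) * g = (g⁻¹ * a * g)⁻¹ := by simp [mul_assoc]
          refine ⟨e ▸ E.inv_mem ha, ?_⟩
          convert (Q : Subgroup E).inv_mem ha' using 1
          exact Subtype.ext e }
    let fB : B →* ℂˣ :=
      { toFun := fun t => f ⟨g⁻¹ * (t : G) * g, t.2.choose, hN.conj_mem' _ (t : PN).2.2 g⟩
        map_one' := by
          rw [← map_one f]
          congr 1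
          exact Subtype.ext (by simp)
        map_mul' := fun a b => by
          rw [← map_mul]
          congr 1
          exact Subtype.ext (by simp [mul_assoc]) }
    obtain ⟨fP, hfP⟩ := exists_extend_abelian B fB
    obtain ⟨μ, hμ⟩ := hlin fP
    let sQ : (Q : Subgroup E) →* ℂˣ :=
      { toFun := fun q => μ ⟨g * (q : E) * g⁻¹, hconj q.2⟩
        map_one' := by
          rw [← map_one μ]
          congr 1
          exact Subtype.ext (by simp)
        map_mul' := fun a b => by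
          rw [← map_mul]
          congr 1
          exact Subtype.ext (by simp [mul_assoc]) }
    let fD : D.subgroupOf E →* ℂˣ :=
      f.comp (Subgroup.subgroupOfEquivOfLe (inf_le_left : D ≤ E)).toMonoidHom
    have hagree : ∀ (d : D.subgroupOf E) (q : (Q : Subgroup E)), (d : E) = q → fD d = sQ q := by
      intro d q hdq
      have hdD : ((d : E) : G) ∈ D := Subgroup.mem_subgroupOf.1 d.2
      let t : PN := ⟨g * ((d : E) : G) * g⁻¹, hdq ▸ hconj q.2, hN.conj_mem _ hdD.2 g⟩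
      have e : g⁻¹ * (t : G) * g = ((d : E) : G) := by simp [t, mul_assoc]
      have htB : t ∈ B := by
        refine ⟨e ▸ (d : E).2, ?_⟩
        convert q.2 using 1
        exact Subtype.ext (e.trans (congrArg (fun y : E => (y : G)) hdq))
      show f _ = μ _
      have h1 := hfP ⟨t, htB⟩
      have h2 := hμ t
      rw [h1] at h2
      refine Eq.trans ?_ (h2.symm.trans ?_)
      · show _ = f _
        congr 1
        exact Subtype.ext e.symm
      · congr 1
        exact Subtype.ext (by simp [t, hdq])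
    have hsupE : ∀ y : E, ∃ (d : D.subgroupOf E) (q : (Q : Subgroup E)), (d : E) * q = y := fun y => by
      obtain ⟨z, q, hz, hq, rfl⟩ := hdec y
      exact ⟨⟨z, Subgroup.mem_subgroupOf.2 ⟨z.2, hzN hz⟩⟩, ⟨q, hq⟩, rfl⟩
    choose dd qq hdq using hsupE
    have hcd : ∀ (d : D.subgroupOf E) (y : E), (d : E) * y = y * d := fun d y =>
      (Subgroup.mem_center_iff.1 (hcen d (Subgroup.mem_subgroupOf.1 d.2).2) y).symm
    have hwd : ∀ y (d : D.subgroupOf E) (q : (Q : Subgroup E)), (d : E) * q = y →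
        fD (dd y) * sQ (qq y) = fD d * sQ q := by
      intro y d q h
      have h' := hagree (d⁻¹ * dd y) (q * (qq y)⁻¹) (by
        simp only [Subgroup.coe_mul, Subgroup.coe_inv]
        rw [inv_mul_eq_iff_eq_mul, ← mul_assoc, h, eq_mul_inv_iff_mul_eq, hdq y])
      rw [map_mul, map_inv, map_mul, map_inv, inv_mul_eq_iff_eq_mul] at h'
      rw [h', mul_assoc, mul_assoc, inv_mul_cancel, mul_one]
    refine ⟨MonoidHom.mk' (fun y => fD (dd y) * sQ (qq y)) fun a b => ?_, fun d => ?_⟩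
    · rw [hwd (a * b) (dd a * dd b) (qq a * qq b) (by
        conv_rhs => rw [← hdq a, ← hdq b]
        simp only [Subgroup.coe_mul]
        rw [mul_assoc, ← mul_assoc (dd b : E), hcd (dd b), mul_assoc, ← mul_assoc]), map_mul, map_mul, mul_mul_mul_comm]
    · show fD (dd _) * sQ (qq _) = _
      rw [hwd _ ⟨⟨d, d.2.1⟩, Subgroup.mem_subgroupOf.2 d.2⟩ 1 (by simp), map_one, mul_one]
      rfl
  -- the eigenspace of `f` inside the representation
  obtain ⟨n, ρ, hρ, rfl⟩ := hϑ
  let τ : Representation ℂ D (Fin n → ℂ) :=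
    { toFun := fun d => ((f d)⁻¹ : ℂˣ).val • ρ ⟨d, d.2.2⟩
      map_one' := by
        rw [show (⟨((1 : D) : G), (1 : D).2.2⟩ : N) = 1 from rfl, map_one, map_one, inv_one,
          Units.val_one, one_smul]
      map_mul' := fun a b => by
        rw [show (⟨((a * b : D) : G), (a * b).2.2⟩ : N) = ⟨a, a.2.2⟩ * ⟨b, b.2.2⟩ from rfl, map_mul ρ,
          map_mul f, mul_inv, Units.val_mul, smul_mul_smul_comm] }
  let W := τ.invariants
  have : Invertible (Nat.card D : ℂ) := invertibleOfNonzero (Nat.cast_ne_zero.2 Nat.card_pos.ne')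
  have hW : Module.finrank ℂ W = m := by
    have h := Representation.card_inv_mul_sum_char_eq_finrank τ
    rw [finsum_eq_sum_of_fintype] at hmult
    refine Nat.cast_injective (R := ℂ) (h.symm.trans (Eq.trans ?_ hmult))
    congr 1
    refine Finset.sum_congr rfl fun d _ => ?_
    show LinearMap.trace ℂ _ (((f d)⁻¹ : ℂˣ).val • ρ ⟨d, d.2.2⟩) = _
    rw [map_smul, smul_eq_mul, hf, mul_comm]
    congr 1
    rw [Units.val_inv_eq_inv_val, Complex.inv_eq_conj]
    have hfd : (f d : ℂ) ^ Nat.card D = 1 := by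
      rw [← Units.val_pow_eq_pow_val, ← map_pow, pow_card_eq_one', map_one, Units.val_one]
    exact Complex.norm_eq_one_of_pow_eq_one hfd Nat.card_pos.ne'
  let ΓE := E.comap (proj N ρ)
  have hopW : ∀ γ : ΓE, ∀ v ∈ W, (op N ρ γ).1 v ∈ W := by
    intro γ v hv d
    have h1 : ((f d)⁻¹ : ℂˣ).val • ρ ⟨d, d.2.2⟩ v = v := hv d
    show ((f d)⁻¹ : ℂˣ).val • ρ ⟨d, d.2.2⟩ ((op N ρ γ).1 v) = (op N ρ γ).1 v
    have h2 := congrArg Units.val (op_spec N ρ (γ : interGroup N ρ) ⟨d, d.2.2⟩)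
    have e : conjN N (proj N ρ γ) ⟨d, d.2.2⟩ = (⟨d, d.2.2⟩ : N) := by
      refine Subtype.ext ?_
      have := Subgroup.mem_center_iff.1 (hcen ⟨d, d.2.1⟩ d.2.2) ⟨proj N ρ γ, γ.2⟩
      have h3 : proj N ρ γ * (d : G) = (d : G) * proj N ρ γ := congrArg (fun t : E => (t : G)) this
      show proj N ρ γ * (d : G) * (proj N ρ γ)⁻¹ = d
      rw [h3, mul_inv_cancel_right]
    rw [e] at h2
    have h4 : (op N ρ γ).1 (ρ ⟨d, d.2.2⟩ v) = ρ ⟨d, d.2.2⟩ ((op N ρ γ).1 v) := LinearMap.congr_fun h2 v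
    rw [← h4, ← map_smul, h1]
  let R : ΓE →* Module.End ℂ W :=
    { toFun := fun γ => ((op N ρ γ).1).restrict (hopW γ)
      map_one' := LinearMap.ext fun v => Subtype.ext (by simp)
      map_mul' := fun a b => LinearMap.ext fun v => Subtype.ext (by simp) }
  let νE : ΓE →* ℂˣ := (LinearMap.det.comp R).toHomUnits *
    ((s.comp ((proj N ρ).subgroupComap E)) ^ m)⁻¹
  have hνE : ∀ γ : ΓE, (νE γ : ℂ) =
      LinearMap.det (R γ) * ((s ⟨proj N ρ γ, γ.2⟩ : ℂ) ^ m)⁻¹ := fun γ => by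
    simp only [νE, MonoidHom.mul_apply, MonoidHom.inv_apply, MonoidHom.pow_apply, Units.val_mul,
      Units.val_inv_eq_inv_val, Units.val_pow_eq_pow_val]
    rfl
  have hmn : Nat.Coprime m N.index := hk ▸ ((hp.coprime_iff_not_dvd.2 hm).symm.pow_right k)
  -- on scalars times lifts of `E ⊓ N` it is the `m`-th power of the coordinate
  have hνN : ∀ (γ : ΓE) (hγ : (γ : interGroup N ρ) ∈ preim N ρ N),
      νE γ = coordN N ρ ⟨γ, hγ⟩ ^ m := by
    intro γ hγ
    refine Units.ext ?_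
    set c := coordN N ρ ⟨(γ : interGroup N ρ), hγ⟩ with hc
    let d : D := ⟨proj N ρ γ, γ.2, hγ⟩
    have hspec : op N ρ γ = sc n c * rhoU N ρ ⟨proj N ρ γ, hγ⟩ := coordN_spec N ρ ⟨(γ : interGroup N ρ), hγ⟩
    have hRγ : R γ = ((c : ℂ) * (f d : ℂ)) • (1 : Module.End ℂ W) := by
      refine LinearMap.ext fun v => Subtype.ext ?_
      show (op N ρ γ).1 (v : Fin n → ℂ) = ((c : ℂ) * (f d : ℂ)) • (v : Fin n → ℂ)
      have hv : ((f d)⁻¹ : ℂˣ).val • ρ ⟨d, d.2.2⟩ (v : Fin n → ℂ) = v := v.2 d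
      rw [hspec, mul_smul]
      show algebraMap ℂ (Module.End ℂ (Fin n → ℂ)) (c : ℂ) (ρ ⟨d, d.2.2⟩ v) = _
      rw [Module.algebraMap_end_apply]
      congr 1
      conv_rhs => rw [← hv]
      rw [smul_smul, Units.mul_inv, one_smul]
    rw [hνE, hRγ, LinearMap.det_smul, hW, map_one, mul_one, mul_pow]
    have : s ⟨proj N ρ γ, γ.2⟩ = f d := hs d
    rw [this, mul_assoc, mul_inv_cancel₀ (pow_ne_zero _ (f d).ne_zero), mul_one,
      Units.val_pow_eq_pow_val]
  -- glue with the lifts of `N`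
  have hfact2 : ∀ γ : interGroup N ρ, ∃ (e : ΓE) (nn : N), γ = e * liftN N ρ nn := by
    intro γ
    have hy : proj N ρ γ ∈ ((E ⊔ N : Subgroup G) : Set G) := hsup ▸ Subgroup.mem_top _
    rw [Subgroup.mul_normal] at hy
    obtain ⟨e, he, nn, hnn, hen⟩ := hy
    refine ⟨⟨γ * (liftN N ρ ⟨nn, hnn⟩)⁻¹, ?_⟩, ⟨nn, hnn⟩, (inv_mul_cancel_right _ _).symm⟩
    show proj N ρ (γ * (liftN N ρ ⟨nn, hnn⟩)⁻¹) ∈ E
    rw [map_mul, map_inv, proj_liftN, ← hen]
    simpa using he
  choose ee nn henn using hfact2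
  have hinj := sc_injective (pos_of_irreducible ρ)
  have hlift1 : ∀ a : N, coordN N ρ ⟨liftN N ρ a, a.2⟩ = 1 := fun a => by
    refine hinj (mul_right_cancel (b := rhoU N ρ a) ?_)
    rw [map_one, one_mul]
    exact (coordN_spec N ρ ⟨liftN N ρ a, a.2⟩).symm
  have hwd : ∀ (γ : interGroup N ρ) (e : ΓE) (a : N), γ = e * liftN N ρ a → νE (ee γ) = νE e := by
    intro γ e a h
    have h0 : (((e⁻¹ * ee γ : ΓE)) : interGroup N ρ) = liftN N ρ (a * (nn γ)⁻¹) := by
      rw [Subgroup.coe_mul, Subgroup.coe_inv, map_mul, map_inv]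
      rw [inv_mul_eq_iff_eq_mul, ← mul_assoc, ← h, eq_mul_inv_iff_mul_eq]
      exact (henn γ).symm
    have hmem : (((e⁻¹ * ee γ : ΓE)) : interGroup N ρ) ∈ preim N ρ N := by
      rw [h0]
      exact (a * (nn γ)⁻¹).2
    have h1 := hνN _ hmem
    have e1 : coordN N ρ ⟨_, hmem⟩ = 1 := by
      have e2 : (⟨_, hmem⟩ : preim N ρ N) = ⟨liftN N ρ (a * (nn γ)⁻¹), (a * (nn γ)⁻¹).2⟩ :=
        Subtype.ext h0
      rw [e2, hlift1]
    rw [e1, one_pow, map_mul, map_inv, inv_mul_eq_one] at h1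
    exact h1.symm
  let μ : interGroup N ρ →* ℂˣ := MonoidHom.mk' (fun γ => νE (ee γ)) fun a b => by
    have hc : ∀ (t : interGroup N ρ) (q : N), ∃ q' : N, liftN N ρ q * t = t * liftN N ρ q' := by
      intro t q
      refine ⟨conjN N (proj N ρ t)⁻¹ q, ?_⟩
      refine Subtype.ext (Prod.ext ?_ ?_)
      · show (q : G) * proj N ρ t = proj N ρ t * ((proj N ρ t)⁻¹ * q * (proj N ρ t)⁻¹⁻¹)
        group
      · show rhoU N ρ q * op N ρ t = op N ρ t * rhoU N ρ _
        rw [op_spec, conjN_inv]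
    obtain ⟨q', hq'⟩ := hc (ee b) (nn a)
    show νE (ee (a * b)) = νE (ee a) * νE (ee b)
    rw [hwd (a * b) (ee a * ee b) (q' * nn b) (by
      conv_lhs => rw [henn a, henn b]
      rw [Subgroup.coe_mul, map_mul, mul_assoc, mul_assoc, ← mul_assoc (liftN N ρ (nn a)), hq',
        mul_assoc]), map_mul]
  have hpow : PowExtends (preim N ρ N) (coordN N ρ) m := by
    refine ⟨μ, fun γ => ?_⟩
    rw [zpow_natCast]
    show νE (ee γ) = _
    have hmemE : ((ee γ : ΓE) : interGroup N ρ) ∈ preim N ρ N := by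
      have h := congrArg (proj N ρ) (henn γ)
      rw [map_mul, proj_liftN] at h
      show proj N ρ (ee γ) ∈ N
      rw [eq_mul_inv_of_mul_eq h.symm]
      exact N.mul_mem γ.2 (N.inv_mem (nn γ).2)
    rw [hνN _ hmemE]
    congr 1
    have e2 : γ = ⟨_, hmemE⟩ * ⟨liftN N ρ (nn γ), (nn γ).2⟩ := Subtype.ext (henn γ)
    conv_rhs => rw [e2, map_mul, hlift1, mul_one]
  obtain ⟨μ', hμ'⟩ := extends_of_coprime hmn hpow (powExtends_index_top N ρ hinv)
  exact exists_irr_of_hom N ρ (extends_of_linear N ρ hinv μ' hμ')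

end Extend

end CfsgLib.DadeExt
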