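import Cfsg.Agent.Lib.Characters.NormalAvg
import Cfsg.Agent.Lib.Characters.Ito
import Mathlib.Data.Real.Sqrt

/-!
# The degree bound of Feit and Thompson

If the centralisers of the non-central elements meet at most one conjugate of the abelian
subgroup `H` (which meets the centre trivially), then an irreducible character `χ` with
`H` outside its kernel satisfies `χ(1)² > |H| (χ|_H, 1)²`.
-/

set_option autoImplicit false

noncomputable section

namespace CfsgLib.DegreeBound

open scoped ComplexConjugate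
open CfsgLib.Characters

universe u

variable {G : Type u} [Group G] [Fintype G]

/-- The sum of squared norms of an irreducible character. -/
theorem sum_normSq_irr {χ : G → ℂ} (hχ : Cfsg.IsIrrCharacter G χ) :
    ∑ g : G, Complex.normSq (χ g) = (Nat.card G : ℝ) := by
  have h := classInner_irr_self hχ
  unfold Cfsg.classInner at h
  have hne : (Nat.card G : ℂ) ≠ 0 := Nat.cast_ne_zero.2 Nat.card_pos.ne'
  rw [inv_mul_eq_one₀ hne] at h
  refine Complex.ofReal_injective ?_
  rw [Complex.ofReal_natCast, h]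
  push_cast
  exact Finset.sum_congr rfl fun g _ => (Complex.mul_conj _).symm

/-- A nonzero character has norm at least one. -/
theorem card_le_sum_normSq {F : G → ℂ} (hF : Cfsg.IsCharacter G F) (h1 : F 1 ≠ 0) :
    (Nat.card G : ℝ) ≤ ∑ g : G, Complex.normSq (F g) := by
  obtain ⟨k, hk⟩ := classInner_char_nat hF hF
  unfold Cfsg.classInner at hk
  have hne : (Nat.card G : ℂ) ≠ 0 := Nat.cast_ne_zero.2 Nat.card_pos.ne'
  rw [inv_mul_eq_iff_eq_mul₀ hne] at hk
  have hk' : ∑ g : G, Complex.normSq (F g) = (Nat.card G : ℝ) * k := by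
    refine Complex.ofReal_injective ?_
    push_cast
    rw [← hk]
    exact Finset.sum_congr rfl fun g _ => (Complex.mul_conj _).symm
  have hpos : 0 < ∑ g : G, Complex.normSq (F g) :=
    lt_of_lt_of_le (Complex.normSq_pos.2 h1)
      (Finset.single_le_sum (fun g _ => Complex.normSq_nonneg (F g)) (Finset.mem_univ 1))
  rw [hk'] at hpos ⊢
  have : (1 : ℝ) ≤ k := by
    rcases Nat.eq_zero_or_pos k with h | h
    · simp [h] at hpos
    · exact_mod_cast h
  exact le_mul_of_one_le_right (by positivity) this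

/-- The difference of a character and its average over a normal subgroup is a character. -/
theorem isCharacter_sub_avgN (N : Subgroup G) [N.Normal] [Fintype N] {F : G → ℂ}
    (hF : Cfsg.IsCharacter G F) : Cfsg.IsCharacter G (F - CfsgLib.NormalAvg.avgN N F) := by
  classical
  obtain ⟨m, -, hsum⟩ := CfsgLib.Clifford.exists_mult hF
  rw [hsum, CfsgLib.NormalAvg.avgN_sum, ← Finset.sum_sub_distrib]
  refine isCharacter_sum _ fun γ _ => ?_
  rcases CfsgLib.NormalAvg.avgN_irr N γ.2 with h | h <;> rw [h]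
  · rw [sub_self]; exact isCharacter_zero
  · rw [smul_zero, sub_zero]
    exact isCharacter_natCast_smul (irr_isCharacter γ) (m γ)

open Classical in
/-- `χ(1)² > |H| c²`. -/
theorem degree_sq_gt (H : Subgroup G) [Fintype H] (hab : ∀ a ∈ H, ∀ b ∈ H, a * b = b * a)
    (hZ : H ⊓ Subgroup.center G = ⊥)
    (hone : ∀ g : G, g ∉ Subgroup.center G → ∀ a b : G,
      Subgroup.centralizer ({g} : Set G) ⊓ H.map (MulAut.conj a).toMonoidHom ≠ ⊥ →
      Subgroup.centralizer ({g} : Set G) ⊓ H.map (MulAut.conj b).toMonoidHom ≠ ⊥ →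
      H.map (MulAut.conj a).toMonoidHom = H.map (MulAut.conj b).toMonoidHom)
    {χ : G → ℂ} (hχ : Cfsg.IsIrrCharacter G χ) (hker : ∃ h ∈ H, χ h ≠ χ 1)
    {d c : ℕ} (hd : χ 1 = d)
    (hc : Cfsg.classInner (fun h : H => χ h) (fun _ => 1) = c) :
    Nat.card H * c ^ 2 < d ^ 2 := by
  obtain ⟨h₀, hh₀, hne₀⟩ := hker
  have hh1 : h₀ ≠ 1 := fun e => hne₀ (by rw [e])
  have hχc := isCharacter_of_irr hχ
  have hcls := isClassFunction_of_isCharacter hχc
  -- the TI set
  let T' : G → Prop := fun g => ∃ k ∈ H, k ≠ 1 ∧ k * g = g * k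
  have hmeet : ∀ (g a : G) (k : G), k ∈ H → k ≠ 1 → (a * k * a⁻¹) * g = g * (a * k * a⁻¹) →
      Subgroup.centralizer ({g} : Set G) ⊓ H.map (MulAut.conj a).toMonoidHom ≠ ⊥ := by
    intro g a k hk hk1 hcm hbot
    have hmem : a * k * a⁻¹ ∈ Subgroup.centralizer ({g} : Set G) ⊓ H.map (MulAut.conj a).toMonoidHom :=
      Subgroup.mem_inf.2 ⟨Subgroup.mem_centralizer_singleton_iff.2 hcm, ⟨k, hk, rfl⟩⟩
    rw [hbot, Subgroup.mem_bot, conj_eq_one_iff] at hmem
    exact hk1 hmem
  have hnc : ∀ k ∈ H, k ≠ 1 → k ∉ Subgroup.center G := fun k hk hk1 hkc => hk1 (by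
    have : k ∈ H ⊓ Subgroup.center G := ⟨hk, hkc⟩
    rwa [hZ, Subgroup.mem_bot] at this)
  have hTI : ∀ g x, g ∉ Subgroup.center G → T' g → T' (x * g * x⁻¹) →
      x ∈ Subgroup.normalizer (H : Set G) := by
    rintro g x hg ⟨k, hk, hk1, hkg⟩ ⟨l, hl, hl1, hlg⟩
    have hg' : x * g * x⁻¹ ∉ Subgroup.center G := fun e => hg (by
      have := (Subgroup.Normal.conj_mem inferInstance _ e x⁻¹)
      simpa [mul_assoc] using this)
    have hA := hmeet (x * g * x⁻¹) 1 l hl hl1 (by simpa using hlg)
    have hB := hmeet (x * g * x⁻¹) x k hk hk1 (by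
      calc x * k * x⁻¹ * (x * g * x⁻¹) = x * (k * g) * x⁻¹ := by group
        _ = x * (g * k) * x⁻¹ := by rw [hkg]
        _ = x * g * x⁻¹ * (x * k * x⁻¹) := by group)
    have he := hone _ hg' 1 x hA hB
    have h1 : H.map (MulAut.conj (1 : G)).toMonoidHom = H := by
      rw [map_one]; exact Subgroup.map_id H
    rw [h1] at he
    refine Subgroup.mem_normalizer_iff.2 fun w => ?_
    constructor
    · intro hw
      rw [he]
      exact ⟨w, hw, rfl⟩
    · intro hw
      rw [he] at hw
      obtain ⟨v, hv, hvw⟩ := hw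
      have : v = w := by
        simpa [mul_assoc] using hvw
      exact this ▸ hv
  set N := Subgroup.normalizer (H : Set G) with hN
  have hHN : H ≤ N := Subgroup.le_normalizer
  have hZT : ∀ z ∈ Subgroup.center G, T' z := fun z hz =>
    ⟨h₀, hh₀, hh1, Subgroup.mem_center_iff.1 hz h₀⟩
  have hT'N : ∀ g, T' g → g ∈ N := by
    intro g hg
    by_cases hgc : g ∈ Subgroup.center G
    · refine Subgroup.mem_normalizer_iff.2 fun w => ?_
      rw [← Subgroup.mem_center_iff.1 hgc w, mul_inv_cancel_right]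
    · obtain ⟨k, hk, hk1, hkg⟩ := hg
      refine hTI k g (hnc k hk hk1) ⟨k, hk, hk1, rfl⟩ ⟨k, hk, hk1, ?_⟩
      rw [← hkg, mul_inv_cancel_right]
  have hT'mul : ∀ g (k : H), T' (↑k * g) ↔ T' g := by
    intro g k
    constructor
    · rintro ⟨l, hl, hl1, h⟩
      refine ⟨l, hl, hl1, mul_left_cancel (a := (k : G)) ?_⟩
      calc (k : G) * (l * g) = (k : G) * l * g := by group
        _ = l * ((k : G) * g) := by rw [hab _ k.2 _ hl]; group
        _ = (k : G) * g * l := h
        _ = _ := by group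
    · rintro ⟨l, hl, hl1, h⟩
      refine ⟨l, hl, hl1, ?_⟩
      calc l * ((k : G) * g) = (l * k) * g := by group
        _ = (k : G) * (l * g) := by rw [hab _ hl _ k.2]; group
        _ = (k : G) * (g * l) := by rw [h]
        _ = _ := by group
  -- the average over the cosets of `H`
  let χ₀ : G → ℂ := fun g => (Nat.card H : ℂ)⁻¹ * ∑ k : H, χ (↑k * g)
  have hcard : (Nat.card H : ℂ) ≠ 0 := Nat.cast_ne_zero.2 Nat.card_pos.ne'
  have h0inv : ∀ (k : H) g, χ₀ (↑k * g) = χ₀ g := fun k g => by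
    simp only [χ₀]
    congr 1
    exact Fintype.sum_equiv (Equiv.mulRight k) _ _ fun l => by simp [mul_assoc]
  have hoff : ∀ g ∈ N, ¬ T' g → χ₀ g = χ g := by
    intro g hgN hgT
    have hmemH : ∀ k : H, (k : G) * g * (k : G)⁻¹ * g⁻¹ ∈ H := fun k => by
      have := H.mul_mem k.2 ((Subgroup.mem_normalizer_iff.1 hgN _).1 (H.inv_mem k.2))
      simpa [mul_assoc] using this
    let φ : H → H := fun k => ⟨_, hmemH k⟩
    have hφ : Function.Injective φ := by
      intro k k' hkk
      have e : (k : G) * g * (k : G)⁻¹ = (k' : G) * g * (k' : G)⁻¹ :=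
        mul_right_cancel (b := g⁻¹) (congrArg Subtype.val hkk)
      by_contra hne
      refine hgT ⟨(k' : G)⁻¹ * k, H.mul_mem (H.inv_mem k'.2) k.2, ?_, ?_⟩
      · intro e1
        exact hne (Subtype.ext (inv_mul_eq_one.1 e1).symm)
      · calc (k' : G)⁻¹ * k * g = (k' : G)⁻¹ * ((k : G) * g * (k : G)⁻¹) * k := by group
          _ = g * ((k' : G)⁻¹ * k) := by rw [e]; group
    have hb : Function.Bijective φ := Finite.injective_iff_bijective.1 hφ
    have hsum : ∑ k : H, χ (↑k * g) = ∑ _k : H, χ g := by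
      refine (Fintype.sum_bijective φ hb _ _ fun k => ?_).symm
      show χ g = χ ((k : G) * g * (k : G)⁻¹ * g⁻¹ * g)
      rw [inv_mul_cancel_right, hcls g k]
    simp only [χ₀]
    rw [hsum, Finset.sum_const, Finset.card_univ, nsmul_eq_mul, ← Nat.card_eq_fintype_card,
      inv_mul_cancel_left₀ hcard]
  -- the part orthogonal to the average is a character of `N`
  haveI : (H.subgroupOf N).Normal := Subgroup.normal_subgroupOf_iff_le_normalizer hHN |>.2 le_rfl
  let χN : N → ℂ := fun g => χ g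
  have hχN : Cfsg.IsCharacter N χN := by
    obtain ⟨n, ρ, rfl⟩ := hχc
    exact ⟨n, ρ.comp N.subtype, rfl⟩
  have havg : ∀ g : N, CfsgLib.NormalAvg.avgN (H.subgroupOf N) χN g = χ₀ g := by
    intro g
    simp only [CfsgLib.NormalAvg.avgN, χ₀, Nat.card_congr (Subgroup.subgroupOfEquivOfLe hHN).toEquiv]
    congr 1
    exact Fintype.sum_equiv (Subgroup.subgroupOfEquivOfLe hHN).toEquiv _ _ fun k => rfl
  have hfchar : Cfsg.IsCharacter N (fun g : N => χ g - χ₀ g) := by
    have := isCharacter_sub_avgN (H.subgroupOf N) hχN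
    convert this using 1
    funext g
    simp [havg, χN]
  have hχ₀1 : χ₀ 1 = (c : ℂ) := by
    rw [← hc]
    simp [χ₀, Cfsg.classInner]
  have hf1 : χ (1 : G) - χ₀ 1 ≠ 0 := by
    intro e
    have he : χ₀ 1 = (d : ℂ) := by rw [← hd]; exact (sub_eq_zero.1 e).symm
    have hle : ∀ k : H, (χ k).re ≤ d := fun k => by
      refine (Complex.re_le_norm _).trans ?_
      have := norm_le_degree_of_isCharacter hχc (k : G)
      simpa [hd] using this
    have hsumre : ∑ k : H, (χ k).re = ∑ _k : H, (d : ℝ) := by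
      have : ∑ k : H, χ k = (Nat.card H : ℂ) * d := by
        rw [← he]
        simp [χ₀, mul_inv_cancel_left₀ hcard]
      have := congrArg Complex.re this
      rw [Complex.re_sum] at this
      simpa [Finset.sum_const, Nat.card_eq_fintype_card] using this
    have heq := (Finset.sum_eq_sum_iff_of_le fun k _ => hle k).1 hsumre ⟨h₀, hh₀⟩ (Finset.mem_univ _)
    have hn := norm_le_degree_of_isCharacter hχc h₀
    simp only [hd, Complex.norm_natCast, Complex.natCast_re] at hn
    refine hne₀ ?_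
    rw [hd]
    have hnn : ‖χ h₀‖ ^ 2 ≤ (d : ℝ) ^ 2 := pow_le_pow_left₀ (norm_nonneg _) hn 2
    rw [Complex.sq_norm, Complex.normSq_apply, heq] at hnn
    have him : (χ h₀).im = 0 := by nlinarith
    exact Complex.ext (by simpa using heq) (by simpa using him)
  have hfbound : (Nat.card N : ℝ) ≤ ∑ g : N, Complex.normSq (χ g - χ₀ g) :=
    card_le_sum_normSq hfchar hf1
  -- sums over `T'`
  let A := Finset.univ.filter T'
  have hsupp : ∑ g : N, Complex.normSq (χ g - χ₀ g) = ∑ g ∈ A, Complex.normSq (χ g - χ₀ g) := by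
    rw [← Finset.sum_subtype (Finset.univ.filter (· ∈ N)) (fun g => by simp)
      (fun g => Complex.normSq (χ g - χ₀ g))]
    refine (Finset.sum_subset (fun g hg => ?_) fun g hg hgA => ?_).symm
    · simp only [A, Finset.mem_filter, Finset.mem_univ, true_and] at hg ⊢
      exact hT'N g hg
    · simp only [A, Finset.mem_filter, Finset.mem_univ, true_and] at hg hgA
      simp [hoff g hg hgA]
  have horth : ∑ g ∈ A, (χ g - χ₀ g) * conj (χ₀ g) = 0 := by
    have hk : ∀ k : H, ∑ g ∈ A, χ (↑k * g) * conj (χ₀ g) = ∑ g ∈ A, χ g * conj (χ₀ g) := fun k => by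
      refine Finset.sum_equiv (Equiv.mulLeft (k : G)) (fun g => ?_) fun g _ => ?_
      · simp [A, hT'mul]
      · simp [h0inv]
    have : ∑ g ∈ A, χ₀ g * conj (χ₀ g) = ∑ g ∈ A, χ g * conj (χ₀ g) := by
      calc ∑ g ∈ A, χ₀ g * conj (χ₀ g)
          = (Nat.card H : ℂ)⁻¹ * ∑ g ∈ A, ∑ k : H, χ (↑k * g) * conj (χ₀ g) := by
            rw [Finset.mul_sum]
            refine Finset.sum_congr rfl fun g _ => ?_
            conv_lhs => arg 1; simp only [χ₀]
            rw [mul_assoc, Finset.sum_mul]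
        _ = _ := by
            rw [Finset.sum_comm, Finset.sum_congr rfl fun k _ => hk k, Finset.sum_const,
              Finset.card_univ, nsmul_eq_mul, ← Nat.card_eq_fintype_card,
              inv_mul_cancel_left₀ hcard]
    simp only [sub_mul, Finset.sum_sub_distrib, this, sub_self]
  have hpyth : ∑ g ∈ A, Complex.normSq (χ g) =
      ∑ g ∈ A, Complex.normSq (χ g - χ₀ g) + ∑ g ∈ A, Complex.normSq (χ₀ g) := by
    have e : ∀ g, Complex.normSq (χ g) = Complex.normSq (χ g - χ₀ g) + Complex.normSq (χ₀ g) +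
        2 * ((χ g - χ₀ g) * conj (χ₀ g)).re := fun g => by
      have := Complex.normSq_add (χ g - χ₀ g) (χ₀ g)
      rwa [sub_add_cancel] at this
    rw [Finset.sum_congr rfl fun g _ => e g, Finset.sum_add_distrib, Finset.sum_add_distrib,
      ← Finset.mul_sum, ← Complex.re_sum, horth]
    simp
  -- the centre
  set Zc := Finset.univ.filter (· ∈ Subgroup.center G) with hZc
  have hscal : ∀ z ∈ Subgroup.center G, ∃ a : ℂ, Complex.normSq a = 1 ∧ ∀ k, χ (k * z) = a * χ k := by
    intro z hz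
    obtain ⟨n, ρ, hρ, rfl⟩ := hχ
    haveI := hρ
    obtain ⟨a, ha⟩ := CfsgLib.CharScalar.center_scalar ρ hz
    have hpos := CfsgLib.CharScalar.finrank_pos (ρ := ρ)
    refine ⟨a, ?_, fun k => ?_⟩
    · have h1 := (norm_char_eq_iff_scalar ρ z).2 ⟨a, ha⟩
      rw [Representation.character, ha, CfsgLib.CharScalar.trace_smul_one, norm_mul,
        Complex.norm_natCast] at h1
      have : ‖a‖ = 1 := (mul_eq_right₀ (Nat.cast_ne_zero.2 hpos.ne')).1 h1
      rw [← Complex.sq_norm, this, one_pow]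
    · simp only [Representation.character, map_mul, ha, mul_smul_comm, mul_one, map_smul, smul_eq_mul]
  have hd0 : 0 < d := by
    have := irr_one_ne_zero ⟨χ, hχ⟩
    change χ 1 ≠ 0 at this
    rw [hd, Nat.cast_ne_zero] at this
    omega
  have hZsum : ∑ z ∈ Zc, Complex.normSq (χ z) = Zc.card * (d : ℝ) ^ 2 := by
    rw [Finset.sum_congr rfl fun z hz => ?_, Finset.sum_const, nsmul_eq_mul]
    obtain ⟨a, ha, hak⟩ := hscal z (by simpa [Zc] using hz)
    have := hak 1
    rw [one_mul] at this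
    rw [this, map_mul, ha, one_mul, hd, Complex.normSq_natCast, sq]
  have hlow : (Zc.card : ℝ) * Nat.card H * (c : ℝ) ^ 2 ≤ ∑ g ∈ A, Complex.normSq (χ₀ g) := by
    have hinj : Set.InjOn (fun p : G × H => (p.2 : G) * p.1) (Zc ×ˢ (Finset.univ : Finset H) : Finset (G × H)) := by
      rintro ⟨z, k⟩ hp ⟨z', k'⟩ hp' e
      simp only [Finset.coe_product, Set.mem_prod, Finset.mem_coe, Zc, Finset.mem_filter,
        Finset.mem_univ, true_and, and_true] at hp hp'
      have e' : (k' : G)⁻¹ * k = z' * z⁻¹ := by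
        have e0 : (k : G) * z = k' * z' := e
        rw [inv_mul_eq_iff_eq_mul, ← mul_assoc, ← e0, mul_inv_cancel_right]
      have : (k' : G)⁻¹ * k ∈ H ⊓ Subgroup.center G :=
        ⟨H.mul_mem (H.inv_mem k'.2) k.2, e' ▸ Subgroup.mul_mem _ hp' (Subgroup.inv_mem _ hp)⟩
      rw [hZ, Subgroup.mem_bot] at this
      obtain rfl : k' = k := Subtype.ext (inv_mul_eq_one.1 this)
      exact Prod.ext (mul_left_cancel e) rfl
    calc (Zc.card : ℝ) * Nat.card H * (c : ℝ) ^ 2
        = ∑ p ∈ Zc ×ˢ (Finset.univ : Finset H), Complex.normSq (χ₀ ((p.2 : G) * p.1)) := by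
          rw [Finset.sum_congr rfl fun p hp => ?_, Finset.sum_const, Finset.card_product, nsmul_eq_mul,
            Finset.card_univ, ← Nat.card_eq_fintype_card, Nat.cast_mul]
          simp only [Finset.mem_product, Zc, Finset.mem_filter, Finset.mem_univ, true_and, and_true] at hp
          obtain ⟨a, ha, hak⟩ := hscal p.1 hp
          rw [h0inv]
          have : χ₀ p.1 = a * χ₀ 1 := by
            simp only [χ₀, mul_one, hak, ← Finset.mul_sum]
            ring
          rw [this, map_mul, ha, one_mul, hχ₀1, Complex.normSq_natCast, sq]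
      _ = ∑ g ∈ (Zc ×ˢ (Finset.univ : Finset H)).image (fun p : G × H => (p.2 : G) * p.1),
            Complex.normSq (χ₀ g) := (Finset.sum_image (f := fun g => Complex.normSq (χ₀ g)) hinj).symm
      _ ≤ _ := by
          refine Finset.sum_le_sum_of_subset_of_nonneg ?_ fun g _ _ => Complex.normSq_nonneg _
          intro g hg
          simp only [Finset.mem_image, Finset.mem_product, Zc, Finset.mem_filter, Finset.mem_univ,
            true_and, and_true] at hg
          obtain ⟨p, hp, rfl⟩ := hg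
          simp [A, hT'mul, hZT _ hp]
  -- the norm bound
  set B := A \ Zc with hB
  have hsplit : ∑ g ∈ A, Complex.normSq (χ g) =
      ∑ g ∈ B, Complex.normSq (χ g) + ∑ z ∈ Zc, Complex.normSq (χ z) := by
    rw [hB, Finset.sum_sdiff]
    intro z hz
    simp only [Zc, A, Finset.mem_filter, Finset.mem_univ, true_and] at hz ⊢
    exact hZT z hz
  have hupper : (Nat.card G : ℝ) * ∑ g ∈ B, Complex.normSq (χ g) ≤
      (Nat.card N : ℝ) * ((Nat.card G : ℝ) - ∑ z ∈ Zc, Complex.normSq (χ z)) := by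
    have h1 : (Nat.card G : ℝ) * ∑ g ∈ B, Complex.normSq (χ g) =
        ∑ x : G, ∑ g : G, if x⁻¹ * g * x ∈ B then Complex.normSq (χ g) else 0 := by
      have : ∀ x : G, (∑ g : G, if x⁻¹ * g * x ∈ B then Complex.normSq (χ g) else 0) =
          ∑ g ∈ B, Complex.normSq (χ g) := fun x => by
        rw [← Finset.sum_filter]
        refine Finset.sum_equiv (MulAut.conj x⁻¹).toEquiv (fun g => ?_) fun g _ => ?_
        · simp [MulAut.conj_apply]
        · simp only [MulEquiv.toEquiv_eq_coe, EquivLike.coe_coe, MulAut.conj_apply]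
          rw [hcls]
      rw [Finset.sum_congr rfl fun x _ => this x, Finset.sum_const, Finset.card_univ, nsmul_eq_mul,
        Nat.card_eq_fintype_card]
    have h2 : ∀ g : G, (∑ x : G, if x⁻¹ * g * x ∈ B then Complex.normSq (χ g) else 0) ≤
        if g ∈ Zc then 0 else (Nat.card N : ℝ) * Complex.normSq (χ g) := by
      intro g
      rw [← Finset.sum_filter, Finset.sum_const, nsmul_eq_mul]
      have hmemB : ∀ x : G, x⁻¹ * g * x ∈ B →
          x⁻¹ * g * x ∉ Subgroup.center G ∧ T' (x⁻¹ * g * x) := by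
        intro x hx
        simp only [hB, Finset.mem_sdiff, Zc, A, Finset.mem_filter, Finset.mem_univ, true_and] at hx
        exact ⟨hx.2, hx.1⟩
      split_ifs with hg
      · rw [Finset.filter_false_of_mem, Finset.card_empty, Nat.cast_zero, zero_mul]
        intro x _ hx
        refine (hmemB x hx).1 ?_
        simp only [Zc, Finset.mem_filter, Finset.mem_univ, true_and] at hg
        have := (Subgroup.Normal.conj_mem inferInstance g hg x⁻¹)
        simpa using this
      · refine mul_le_mul_of_nonneg_right ?_ (Complex.normSq_nonneg _)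
        rw [Nat.cast_le]
        rcases (Finset.univ.filter fun x : G => x⁻¹ * g * x ∈ B).eq_empty_or_nonempty with h | ⟨x₀, hx₀⟩
        · rw [h, Finset.card_empty]; exact Nat.zero_le _
        · simp only [Finset.mem_filter, Finset.mem_univ, true_and] at hx₀
          rw [Nat.card_eq_fintype_card, ← Finset.card_univ]
          refine Finset.card_le_card_of_injOn
            (fun x => if h : x⁻¹ * x₀ ∈ N then (⟨x⁻¹ * x₀, h⟩ : N) else 1)
            (fun x _ => Finset.mem_univ _) ?_
          intro x hx y hy e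
          have key : ∀ x : G, x⁻¹ * g * x ∈ B → x⁻¹ * x₀ ∈ N := fun x hx => by
            refine hTI _ _ (hmemB x₀ hx₀).1 (hmemB x₀ hx₀).2 ?_
            have := (hmemB x hx).2
            convert this using 1
            group
          simp only [Finset.coe_filter, Finset.mem_univ, true_and, Set.mem_setOf_eq] at hx hy
          simp only [dif_pos (key x hx), dif_pos (key y hy), Subtype.mk.injEq, mul_left_inj,
            inv_inj] at e
          exact e
    rw [h1, Finset.sum_comm]
    refine (Finset.sum_le_sum fun g _ => h2 g).trans (le_of_eq ?_)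
    rw [← sum_normSq_irr hχ, Finset.sum_ite, Finset.sum_const_zero, zero_add, mul_sub,
      ← Finset.sum_filter_add_sum_filter_not Finset.univ (· ∈ Zc) (fun g => Complex.normSq (χ g)),
      Finset.filter_univ_mem, mul_add, add_sub_cancel_left, Finset.mul_sum]
  by_contra hle
  rw [not_lt] at hle
  have hle' : (d : ℝ) ^ 2 ≤ Nat.card H * (c : ℝ) ^ 2 := by exact_mod_cast hle
  have hzpos : (0 : ℝ) < Zc.card := by
    exact_mod_cast Finset.card_pos.2 ⟨1, by simp [Zc]⟩
  have hB' : (Nat.card N : ℝ) ≤ ∑ g ∈ B, Complex.normSq (χ g) := by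
    rw [hsupp] at hfbound
    nlinarith [mul_le_mul_of_nonneg_left hle' hzpos.le]
  have hG : (0 : ℝ) < Nat.card G := Nat.cast_pos.2 Nat.card_pos
  have hNpos : (0 : ℝ) < Nat.card N := Nat.cast_pos.2 Nat.card_pos
  have h3 := mul_le_mul_of_nonneg_left hB' hG.le
  have h4 : 0 < (Nat.card N : ℝ) * ((Zc.card : ℝ) * (d : ℝ) ^ 2) := by positivity
  rw [hZsum, mul_sub] at hupper
  linarith

open Classical in
/-- `(1 + χ(1))² > |H|`. -/
theorem one_add_degree_sq_gt (H : Subgroup G) [Fintype H]
    (hab : ∀ a ∈ H, ∀ b ∈ H, a * b = b * a)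
    (hZ : H ⊓ Subgroup.center G = ⊥)
    (hone : ∀ g : G, g ∉ Subgroup.center G → ∀ a b : G,
      Subgroup.centralizer ({g} : Set G) ⊓ H.map (MulAut.conj a).toMonoidHom ≠ ⊥ →
      Subgroup.centralizer ({g} : Set G) ⊓ H.map (MulAut.conj b).toMonoidHom ≠ ⊥ →
      H.map (MulAut.conj a).toMonoidHom = H.map (MulAut.conj b).toMonoidHom)
    (hgen : ∀ M : Subgroup G, M.Normal → H ≤ M → M = ⊤)
    {χ : G → ℂ} (hχ : Cfsg.IsIrrCharacter G χ) (hker : ∃ h ∈ H, χ h ≠ χ 1)
    {d : ℕ} (hd : χ 1 = d) (hd2 : 2 ≤ d) : Nat.card H < (1 + d) ^ 2 := by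
  have hχc := isCharacter_of_irr hχ
  have hres : ∀ {F : G → ℂ}, Cfsg.IsCharacter G F → Cfsg.IsCharacter H (fun h : H => F h) := by
    rintro F ⟨n, ρ, rfl⟩
    exact ⟨n, ρ.comp H.subtype, rfl⟩
  obtain ⟨c, hc⟩ := classInner_char_nat (hres hχc) isCharacter_one
  rcases Nat.eq_zero_or_pos c with hc0 | hcpos
  swap
  · have h := degree_sq_gt H hab hZ hone hχ hker hd (c := c) hc
    calc Nat.card H ≤ Nat.card H * c ^ 2 := Nat.le_mul_of_pos_right _ (pow_pos hcpos 2)
      _ < d ^ 2 := h
      _ ≤ (1 + d) ^ 2 := Nat.pow_le_pow_left (Nat.le_add_left d 1) 2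
  -- decompose `χ χ̄`
  let F : G → ℂ := χ * fun g => conj (χ g)
  have hF : Cfsg.IsCharacter G F := isCharacter_mul hχc (isCharacter_conj hχc)
  obtain ⟨m, hm, hsum⟩ := CfsgLib.Clifford.exists_mult hF
  let one : Cfsg.IrrCharacter G := principalIrr G
  have hm1 : m one = 1 := by
    have := hm one
    have e : Cfsg.classInner F (one : G → ℂ) = Cfsg.classInner χ χ := by
      simp [Cfsg.classInner, F, one]
    rw [e, classInner_irr_self hχ] at this
    exact_mod_cast this.symm
  choose e he using fun γ : Cfsg.IrrCharacter G =>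
    classInner_char_nat (hres (irr_isCharacter γ)) isCharacter_one
  choose D hD using fun γ : Cfsg.IrrCharacter G => irr_exists_degree γ.2
  have hdeg : ∑ γ, (m γ : ℝ) * D γ = (d : ℝ) ^ 2 := by
    have h1 := congrFun hsum 1
    simp only [F, Pi.mul_apply, hd, Complex.conj_natCast, Finset.sum_apply, Pi.smul_apply,
      smul_eq_mul] at h1
    rw [Finset.sum_congr rfl fun γ _ => by rw [(hD γ).2]] at h1
    have : ((∑ γ, m γ * D γ : ℕ) : ℂ) = ((d * d : ℕ) : ℂ) := by push_cast; exact h1.symm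
    have := Nat.cast_injective this
    rw [sq]
    exact_mod_cast this
  have hmult : (d : ℝ) ≤ ∑ γ, (m γ : ℝ) * e γ := by
    haveI : IsMulCommutative H := ⟨⟨fun a b => Subtype.ext (hab _ a.2 _ b.2)⟩⟩
    obtain ⟨a, ha, hasum⟩ := CfsgLib.Clifford.exists_mult (hres hχc)
    have h1 : ((∑ l, a l : ℕ) : ℂ) = d := by
      rw [← hd]
      have := congrFun hasum 1
      simp only [OneMemClass.coe_one, Finset.sum_apply, Pi.smul_apply, smul_eq_mul] at this
      rw [this, Nat.cast_sum]
      exact Finset.sum_congr rfl fun l _ => by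
        rw [CfsgLib.CharIto.degree_one_of_comm l.2, mul_one]
    have h2 := classInner_self_eq_sum_sq (isClassFunction_of_isCharacter (hres hχc))
      (m := fun l => (a l : ℤ)) (fun l => by rw [ha l, Int.cast_natCast])
    have h3 : Cfsg.classInner (fun h : H => χ h) (fun h : H => χ h) = ((∑ γ, m γ * e γ : ℕ) : ℂ) := by
      have : Cfsg.classInner (fun h : H => χ h) (fun h : H => χ h) =
          Cfsg.classInner (fun h : H => F h) (1 : H → ℂ) := by
        simp [Cfsg.classInner, F]
      rw [this, show (fun h : H => F h) = ∑ γ, (m γ : ℂ) • (fun h : H => (γ : G → ℂ) h) by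
        funext h
        rw [hsum]
        simp [Finset.sum_apply], classInner_sum_left, Nat.cast_sum]
      exact Finset.sum_congr rfl fun γ _ => by
        rw [classInner_smul_left, he γ, Nat.cast_mul]
    rw [h3] at h2
    have h4 : ((∑ γ, m γ * e γ : ℕ) : ℤ) = ∑ l, (a l : ℤ) ^ 2 := by exact_mod_cast h2
    have h5 : (∑ l, a l) = d := Nat.cast_injective h1
    have h6 : (d : ℤ) ≤ ((∑ γ, m γ * e γ : ℕ) : ℤ) := by
      rw [h4, ← h5, Nat.cast_sum]
      exact Finset.sum_le_sum fun l _ => by nlinarith [sq_nonneg ((a l : ℤ) - 1), Int.natCast_nonneg (a l)]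
    have : d ≤ ∑ γ, m γ * e γ := by exact_mod_cast h6
    exact_mod_cast this
  have hker' : ∀ γ : Cfsg.IrrCharacter G, γ ≠ one → ∃ h ∈ H, (γ : G → ℂ) h ≠ (γ : G → ℂ) 1 := by
    intro γ hγ
    by_contra hall
    push_neg at hall
    obtain ⟨n, ρ, hρ, hρe⟩ := γ.2
    haveI := hρ
    let M : Subgroup G := (MonoidHom.ker ρ)
    have hMtop : M = ⊤ := hgen M (MonoidHom.normal_ker ρ) fun h hh => by
      refine MonoidHom.mem_ker.2 ((char_eq_degree_iff ρ h).1 ?_)
      rw [← Representation.char_one ρ, hρe]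
      exact hall h hh
    have hconst : ∀ g, (γ : G → ℂ) g = (D γ : ℂ) := fun g => by
      have hg : g ∈ M := hMtop ▸ Subgroup.mem_top g
      rw [← (hD γ).2, ← hρe, Representation.char_one]
      exact (char_eq_degree_iff ρ g).2 (MonoidHom.mem_ker.1 hg)
    have hs := classInner_irr_self γ.2
    simp only [Cfsg.classInner, hconst, Complex.conj_natCast, Finset.sum_const, Finset.card_univ,
      nsmul_eq_mul, ← Nat.card_eq_fintype_card] at hs
    rw [inv_mul_cancel_left₀ (Nat.cast_ne_zero.2 Nat.card_pos.ne'), ← Nat.cast_mul,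
      Nat.cast_eq_one] at hs
    refine hγ (Subtype.ext (funext fun g => ?_))
    rw [hconst g, Nat.eq_one_of_mul_eq_one_left hs]
    simp [one]
  have hbound : ∀ γ : Cfsg.IrrCharacter G, γ ≠ one →
      Real.sqrt (Nat.card H) * e γ ≤ D γ ∧ (0 < e γ → Real.sqrt (Nat.card H) * e γ < D γ) := by
    intro γ hγ
    have h := degree_sq_gt H hab hZ hone γ.2 (hker' γ hγ) (hD γ).2 (he γ)
    have hlt : Real.sqrt (Nat.card H) * e γ < D γ := by
      refine lt_of_pow_lt_pow_left₀ 2 (Nat.cast_nonneg _) ?_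
      rw [mul_pow, Real.sq_sqrt (Nat.cast_nonneg _)]
      exact_mod_cast h
    exact ⟨hlt.le, fun _ => hlt⟩
  have hone1 : D one = 1 ∧ e one = 1 := by
    refine ⟨?_, ?_⟩
    · have := (hD one).2
      simp [one] at this
      exact_mod_cast this.symm
    · have := he one
      simp [one, Cfsg.classInner] at this
      exact_mod_cast this.symm
  rw [← Finset.add_sum_erase _ _ (Finset.mem_univ one), hm1, hone1.1] at hdeg
  rw [← Finset.add_sum_erase _ _ (Finset.mem_univ one), hm1, hone1.2] at hmult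
  set s := Real.sqrt (Nat.card H) with hs
  set S := Finset.univ.erase one
  have hd2' : (2 : ℝ) ≤ d := by exact_mod_cast hd2
  have hex : ∃ γ ∈ S, 0 < m γ * e γ := by
    by_contra hno
    push_neg at hno
    have : ∑ γ ∈ S, (m γ : ℝ) * e γ = 0 := Finset.sum_eq_zero fun γ hγ => by
      have := Nat.le_zero.1 (hno γ hγ)
      exact_mod_cast this
    rw [this] at hmult
    norm_num at hmult
    omega
  obtain ⟨γ₀, hγ₀, hpos⟩ := hex
  have hlt : ∑ γ ∈ S, s * ((m γ : ℝ) * e γ) < ∑ γ ∈ S, (m γ : ℝ) * D γ := by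
    refine Finset.sum_lt_sum (fun γ hγ => ?_) ⟨γ₀, hγ₀, ?_⟩
    · rw [mul_left_comm]
      exact mul_le_mul_of_nonneg_left (hbound γ (Finset.ne_of_mem_erase hγ)).1 (Nat.cast_nonneg _)
    · rw [mul_left_comm]
      exact mul_lt_mul_of_pos_left ((hbound γ₀ (Finset.ne_of_mem_erase hγ₀)).2
        (Nat.pos_of_mul_pos_left hpos)) (Nat.cast_pos.2 (Nat.pos_of_mul_pos_right hpos))
  rw [← Finset.mul_sum] at hlt
  have hs0 : 0 ≤ s := Real.sqrt_nonneg _
  push_cast at hdeg hmult
  have h1 : s * ((d : ℝ) - 1) < ((d : ℝ) + 1) * ((d : ℝ) - 1) := by nlinarith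
  have h2 : s < (d : ℝ) + 1 := lt_of_mul_lt_mul_right h1 (by linarith)
  have h3 : (Nat.card H : ℝ) < (1 + (d : ℝ)) ^ 2 := by
    rw [← Real.sq_sqrt (Nat.cast_nonneg (Nat.card H)), ← hs, add_comm (1 : ℝ)]
    exact pow_lt_pow_left₀ h2 hs0 two_ne_zero
  exact_mod_cast h3

end CfsgLib.DegreeBound
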