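import Cfsg.Agent.Lib.PGroup.Extraspecial
import Cfsg.Agent.Lib.Characters.Clifford
import Cfsg.Agent.Lib.Characters.Scalar
import Cfsg.Agent.Lib.Characters.Counting
import Cfsg.Agent.Lib.Characters.Monomial

/-!
# Characters of extraspecial groups
-/

set_option autoImplicit false

noncomputable section

namespace CfsgLib.ExtraspecialChar

open scoped ComplexConjugate commutatorElement
open CfsgLib.Characters

universe u

variable {P : Type u} [Group P] [Finite P] {p n : ℕ} [hp : Fact p.Prime]

/-- An irreducible character either is linear or vanishes off the centre with degree `p ^ n`. -/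
theorem irr_cases (hP : Cfsg.IsExtraspecial p P) (hcard : Nat.card P = p ^ (2 * n + 1))
    {χ : P → ℂ} (hχ : Cfsg.IsIrrCharacter P χ) :
    ((∀ z ∈ Subgroup.center P, χ z = χ 1) ∧ χ 1 = 1) ∨
      ((∃ z ∈ Subgroup.center P, χ z ≠ χ 1) ∧ (∀ x, x ∉ Subgroup.center P → χ x = 0) ∧
        χ 1 = (p : ℂ) ^ n) := by
  classical
  by_cases htriv : ∀ z ∈ Subgroup.center P, χ z = χ 1
  · refine Or.inl ⟨htriv, CfsgLib.CharMonomial.degree_one_of_commutator hχ fun a b => htriv _ ?_⟩
    have := CfsgLib.PGroup.extraspecial_comm_mem_center hP a b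
    rw [commutatorElement_def] at this
    simpa [mul_inv_rev, mul_assoc] using this
  · push Not at htriv
    refine Or.inr ⟨htriv, ?_⟩
    obtain ⟨d, ρ, hρ, rfl⟩ := hχ
    obtain ⟨z₀, hz₀, hz₀1⟩ := htriv
    have hsc : ∀ z ∈ Subgroup.center P, ∃ c : ℂ, ∀ x, ρ.character (z * x) = c * ρ.character x := by
      intro z hz
      obtain ⟨c, hc⟩ := CfsgLib.CharScalar.center_scalar ρ hz
      refine ⟨c, fun x => ?_⟩
      show LinearMap.trace ℂ _ (ρ (z * x)) = _
      rw [map_mul, hc, smul_mul_assoc, one_mul, map_smul, smul_eq_mul]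
      rfl
    have hd : (d : ℂ) ≠ 0 := by
      intro h0
      apply hz₀1
      have : d = 0 := by exact_mod_cast h0
      subst this
      simp [Representation.character, Subsingleton.elim (ρ z₀) (ρ 1)]
    have hne : ∀ w ∈ Subgroup.center P, w ≠ 1 →
        ∀ c : ℂ, (∀ x, ρ.character (w * x) = c * ρ.character x) → c ≠ 1 := by
      intro w hw hw1 c hc hc1
      apply hz₀1
      rw [← CfsgLib.PGroup.extraspecial_zpowers_eq_center hP hw hw1, ← mem_powers_iff_mem_zpowers]
        at hz₀
      obtain ⟨i, rfl⟩ := hz₀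
      have : ∀ (i : ℕ) x, ρ.character (w ^ i * x) = ρ.character x := by
        intro i
        induction i with
        | zero => simp
        | succ i ih => intro x; rw [pow_succ, mul_assoc, ih, hc, hc1, one_mul]
      simpa using this i 1
    have hvan : ∀ x, x ∉ Subgroup.center P → ρ.character x = 0 := by
      intro x hx
      obtain ⟨y, hy⟩ : ∃ y, y * x ≠ x * y := by
        by_contra h
        push Not at h
        exact hx (Subgroup.mem_center_iff.2 h)
      set w := ⁅y, x⁆ with hw
      have hwc : w ∈ Subgroup.center P := CfsgLib.PGroup.extraspecial_comm_mem_center hP y x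
      have hw1 : w ≠ 1 := fun h => hy (commutatorElement_eq_one_iff_mul_comm.1 h)
      obtain ⟨c, hc⟩ := hsc w hwc
      have h1 := hc x
      have e : w * x = y * x * y⁻¹ := by rw [hw, commutatorElement_def]; group
      rw [e, Representation.char_conj] at h1
      by_contra h0
      exact hne w hwc hw1 c hc ((mul_eq_right₀ h0).1 h1.symm)
    refine ⟨hvan, ?_⟩
    have := Fintype.ofFinite P
    have hnorm : ∑ x : P, ρ.character x * conj (ρ.character x) = (Nat.card P : ℂ) := by
      have h := classInner_irr_self (G := P) ⟨d, ρ, hρ, rfl⟩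
      unfold Cfsg.classInner at h
      rwa [inv_mul_eq_iff_eq_mul₀ (Nat.cast_ne_zero.2 Nat.card_pos.ne'), mul_one] at h
    have hZ : ∀ z ∈ Subgroup.center P, ρ.character z * conj (ρ.character z) = (d : ℂ) ^ 2 := by
      intro z hz
      obtain ⟨c, hc⟩ := hsc z hz
      obtain ⟨c', hc'⟩ := hsc z⁻¹ ((Subgroup.center P).inv_mem hz)
      have h1 := hc 1
      have h2 := hc' z
      rw [mul_one] at h1
      rw [inv_mul_cancel, h1, Representation.char_one, Module.finrank_fin_fun] at h2
      have hcc : c' * c = 1 := by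
        refine (mul_eq_right₀ hd).1 ?_
        rw [mul_assoc, ← h2]
      have h3 := char_inv_eq_conj ρ z
      have h4 := hc' 1
      rw [mul_one] at h4
      rw [← h3, h1, h4, Representation.char_one, Module.finrank_fin_fun]
      linear_combination (d : ℂ) ^ 2 * hcc
    rw [← Finset.sum_filter_add_sum_filter_not Finset.univ (fun x => x ∈ Subgroup.center P),
      Finset.sum_eq_zero (s := Finset.univ.filter fun x => ¬ x ∈ Subgroup.center P)
        (fun x hx => by rw [hvan x (Finset.mem_filter.1 hx).2, zero_mul]), add_zero,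
      Finset.sum_congr rfl (fun x hx => hZ x (Finset.mem_filter.1 hx).2), Finset.sum_const,
      nsmul_eq_mul] at hnorm
    have hcardZ : (Finset.univ.filter fun x => x ∈ Subgroup.center P).card = p := by
      have hZ2 := hP.2
      rw [Nat.card_eq_fintype_card] at hZ2
      rw [← hZ2, ← Fintype.card_subtype]
    rw [hcardZ, hcard] at hnorm
    have hN : p * d ^ 2 = p ^ (2 * n + 1) := by exact_mod_cast hnorm
    rw [pow_succ' p (2 * n), mul_comm 2 n, pow_mul] at hN
    have hd2 := Nat.eq_of_mul_eq_mul_left hp.out.pos hN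
    rw [Representation.char_one, Module.finrank_fin_fun,
      Nat.pow_left_injective two_ne_zero hd2, Nat.cast_pow]

/-- Exactly `p - 1` irreducible characters of degree `p ^ n` (for `0 < n`). -/
theorem card_big (hP : Cfsg.IsExtraspecial p P) (hcard : Nat.card P = p ^ (2 * n + 1)) :
    Nat.card {χ : Cfsg.IrrCharacter P // (χ : P → ℂ) 1 = (p : ℂ) ^ n} = p - 1 := by
  classical
  have := Fintype.ofFinite P
  have hp1 := hp.out.one_lt
  have hn : n ≠ 0 := by
    rintro rfl
    have h1 : Nat.card (Subgroup.center P) = Nat.card P := by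
      rw [hP.2, hcard]
      simp
    exact CfsgLib.PGroup.extraspecial_center_ne_top hP (Subgroup.card_eq_iff_eq_top _ |>.1 h1)
  have hne : (p : ℂ) ^ n ≠ 1 := by
    rw [← Nat.cast_pow, Ne, Nat.cast_eq_one]
    exact (Nat.one_lt_pow hn hp1).ne'
  have hidx : (commutator P).index = p ^ (2 * n) := by
    have h := (commutator P).card_mul_index
    rw [show commutator P = Subgroup.center P from hP.1.2.2] at h ⊢
    rw [hP.2, hcard, pow_succ'] at h
    exact Nat.eq_of_mul_eq_mul_left hp.out.pos h
  have hsum := sum_sq_degrees (G := P)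
  rw [← Finset.sum_filter_add_sum_filter_not Finset.univ
    (fun χ : Cfsg.IrrCharacter P => (χ : P → ℂ) 1 = 1)] at hsum
  have hA : (Finset.univ.filter fun χ : Cfsg.IrrCharacter P => (χ : P → ℂ) 1 = 1).card =
      p ^ (2 * n) := by
    rw [← hidx, ← card_linear_irr, Nat.card_eq_fintype_card, Fintype.card_subtype]
  have hB : (Finset.univ.filter fun χ : Cfsg.IrrCharacter P => ¬ (χ : P → ℂ) 1 = 1) =
      Finset.univ.filter fun χ : Cfsg.IrrCharacter P => (χ : P → ℂ) 1 = (p : ℂ) ^ n := by
    ext χ
    simp only [Finset.mem_filter, Finset.mem_univ, true_and]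
    constructor
    · intro h
      rcases irr_cases hP hcard χ.2 with h1 | h1
      · exact absurd h1.2 h
      · exact h1.2.2
    · intro h h1
      exact hne (h.symm.trans h1)
  rw [hB] at hsum
  rw [Finset.sum_congr rfl (fun χ hχ => by rw [(Finset.mem_filter.1 hχ).2]) (g := fun _ => (1 : ℂ) ^ 2)
      (s₁ := Finset.univ.filter fun χ : Cfsg.IrrCharacter P => (χ : P → ℂ) 1 = 1),
    Finset.sum_congr rfl (fun χ hχ => by rw [(Finset.mem_filter.1 hχ).2])
      (g := fun _ => ((p : ℂ) ^ n) ^ 2)
      (s₁ := Finset.univ.filter fun χ : Cfsg.IrrCharacter P => (χ : P → ℂ) 1 = (p : ℂ) ^ n),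
    Finset.sum_const, Finset.sum_const, hA, one_pow, nsmul_one, nsmul_eq_mul, hcard] at hsum
  rw [Nat.card_eq_fintype_card, Fintype.card_subtype]
  set B := (Finset.univ.filter fun χ : Cfsg.IrrCharacter P => (χ : P → ℂ) 1 = (p : ℂ) ^ n).card
  have hN : p ^ (2 * n) + B * (p ^ n) ^ 2 = p ^ (2 * n + 1) := by exact_mod_cast hsum
  rw [← pow_mul, mul_comm n 2, pow_succ'] at hN
  have : (1 + B) * p ^ (2 * n) = p * p ^ (2 * n) := by rw [add_mul, one_mul]; exact hN
  have := Nat.eq_of_mul_eq_mul_right (pow_pos hp.out.pos _) this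
  omega

end CfsgLib.ExtraspecialChar
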