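import Cfsg.Agent.Lib.Characters.Clifford
import Cfsg.Agent.Lib.Characters.Values
import Cfsg.Agent.S0181

/-!
# Characters over a normal subgroup acted on freely by the elements outside it
-/

set_option autoImplicit false

noncomputable section

namespace CfsgLib.FrobKernelChar

open Cfsg CfsgLib.Characters
open scoped ComplexConjugate

universe u

variable {N : Type u} [Group N] (K : Subgroup N)

/-- `χ` is non-constant on `K`. -/
def Relevant (χ : N → ℂ) : Prop := ∃ k ∈ K, χ k ≠ χ 1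

variable {K}

theorem eq_of_not_relevant {χ : N → ℂ} (h : ¬ Relevant K χ) {k : N} (hk : k ∈ K) : χ k = χ 1 := by
  by_contra hne
  exact h ⟨k, hk, hne⟩

/-- Relevant irreducible characters vanish outside `K`. -/
theorem vanish_off [Finite N] [K.Normal] (hfree : ∀ x ∉ K, ∀ k ∈ K, k * x = x * k → k = 1)
    {χ : N → ℂ} (hχ : IsIrrCharacter N χ) (hrel : Relevant K χ) {x : N} (hx : x ∉ K) : χ x = 0 := by
  obtain ⟨n, ρ, hρ, rfl⟩ := hχ
  haveI := hρ
  obtain ⟨k, hk, hne⟩ := hrel
  refine Cfsg.Agent.S0181.result ρ K ⟨k, hk, fun h => hne ?_⟩ x (hfree x hx)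
  rw [(char_eq_degree_iff ρ k).2 h, Representation.char_one]

open scoped Classical in
/-- A relevant irreducible character sums to zero over `K`. -/
theorem sum_eq_zero [Fintype N] [hK : K.Normal] {χ : N → ℂ} (hχ : IsIrrCharacter N χ)
    (hrel : Relevant K χ) : ∑ k : K, χ k = 0 := by
  by_contra hne
  have hinner : classInner (fun k : K => χ k) (fun _ => 1) ≠ 0 := by
    rw [classInner, mul_ne_zero_iff]
    exact ⟨inv_ne_zero (Nat.cast_ne_zero.2 Nat.card_pos.ne'), by simpa using hne⟩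
  have h := CfsgLib.Clifford.clifford hK hχ (isIrrCharacter_one (G := K)) hinner
  obtain ⟨k, hk, hkne⟩ := hrel
  apply hkne
  have h1 := congrFun h ⟨k, hk⟩
  have h2 := congrFun h 1
  simp only [Pi.smul_apply, Finset.sum_apply] at h1 h2
  have horb : ∀ ψ ∈ (CfsgLib.Clifford.conjOrbit_finite hK (fun _ : K => (1 : ℂ))).toFinset,
      ∀ y : K, ψ y = 1 := by
    intro ψ hψ y
    obtain ⟨g, rfl⟩ := (Set.Finite.mem_toFinset _).1 hψ
    rfl
  rw [Finset.sum_congr rfl (fun ψ hψ => horb ψ hψ _)] at h1 h2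
  exact h1.trans h2.symm

variable [Fintype N]

open scoped Classical in
/-- The relevant irreducible characters. -/
def relSet (K : Subgroup N) : Finset (IrrCharacter N) :=
  Finset.univ.filter fun χ => Relevant K (χ : N → ℂ)

theorem mem_relSet {χ : IrrCharacter N} : χ ∈ relSet K ↔ Relevant K (χ : N → ℂ) := by
  simp [relSet]

open scoped Classical in
theorem eq_on_of_notMem {χ : IrrCharacter N} (h : χ ∈ (relSet K)ᶜ) {k : N} (hk : k ∈ K) :
    (χ : N → ℂ) k = (χ : N → ℂ) 1 :=
  eq_of_not_relevant (fun h' => Finset.mem_compl.1 h (mem_relSet.2 h')) hk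

open scoped Classical in
/-- The squares of the degrees of the irrelevant characters add up to the index. -/
theorem sum_sq_irrelevant [K.Normal] :
    ∑ η ∈ (relSet K)ᶜ, (η : N → ℂ) 1 * (η : N → ℂ) 1 = (K.index : ℂ) := by
  have h : ∑ k : K, ∑ η : IrrCharacter N, (η : N → ℂ) 1 * (η : N → ℂ) k = (Nat.card N : ℂ) := by
    simp only [sum_degree_mul_irr]
    rw [Finset.sum_eq_single (1 : K)]
    · simp
    · intro k _ hk
      exact if_neg fun h => hk (Subtype.ext h)
    · simp
  rw [Finset.sum_comm, ← Finset.sum_add_sum_compl (relSet K)] at h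
  rw [Finset.sum_eq_zero (fun η hη => by
      rw [← Finset.mul_sum, sum_eq_zero η.2 (mem_relSet.1 hη), mul_zero]), zero_add] at h
  rw [Finset.sum_congr rfl (g := fun η : IrrCharacter N =>
      (Nat.card K : ℂ) * ((η : N → ℂ) 1 * (η : N → ℂ) 1)) (fun η hη => by
        rw [Finset.sum_congr rfl (fun (k : K) _ => show (η : N → ℂ) 1 * (η : N → ℂ) k =
            (η : N → ℂ) 1 * (η : N → ℂ) 1 by rw [eq_on_of_notMem hη k.2]), Finset.sum_const,
          Finset.card_univ, nsmul_eq_mul, ← Nat.card_eq_fintype_card]),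
    ← Finset.mul_sum, ← K.card_mul_index, Nat.cast_mul] at h
  exact mul_left_cancel₀ (Nat.cast_ne_zero.2 Nat.card_pos.ne') h

open scoped Classical in
/-- `∑ χ(1) χ(k)` over relevant characters is minus the index at nontrivial elements of `K`. -/
theorem sum_degree_mul_relevant [K.Normal] {k : N} (hk : k ∈ K) (hk1 : k ≠ 1) :
    ∑ χ ∈ relSet K, (χ : N → ℂ) 1 * (χ : N → ℂ) k = -(K.index : ℂ) := by
  have h := sum_degree_mul_irr (G := N) k
  rw [if_neg hk1, ← Finset.sum_add_sum_compl (relSet K), Finset.sum_congr rfl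
    (fun η (hη : η ∈ (relSet K)ᶜ) => show (η : N → ℂ) 1 * (η : N → ℂ) k = (η : N → ℂ) 1 * (η : N → ℂ) 1 by
      rw [eq_on_of_notMem hη hk]), sum_sq_irrelevant] at h
  exact eq_neg_of_add_eq_zero_left h

open scoped Classical in
/-- Expansion on `K`: the irrelevant part of a class function is constant on `K`. -/
theorem expansion {φ : N → ℂ} (hφ : IsClassFunction N φ) :
    ∃ C : ℂ, ∀ k ∈ K, φ k = C + ∑ χ ∈ relSet K, classInner φ (χ : N → ℂ) * (χ : N → ℂ) k := by
  refine ⟨∑ η ∈ (relSet K)ᶜ, classInner φ (η : N → ℂ) * (η : N → ℂ) 1, fun k hk => ?_⟩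
  have h := congrFun (classFunction_eq_sum hφ) k
  simp only [Finset.sum_apply, Pi.smul_apply, smul_eq_mul] at h
  rw [h, ← Finset.sum_add_sum_compl (relSet K), add_comm]
  congr 1
  exact Finset.sum_congr rfl fun η hη => by rw [eq_on_of_notMem hη hk]

/-- With at least two relevant characters, none is constant on the nontrivial elements of `K`. -/
theorem exists_ne_of_two [K.Normal] (hfree : ∀ x ∉ K, ∀ k ∈ K, k * x = x * k → k = 1)
    {χ ξ : IrrCharacter N} (hχ : Relevant K (χ : N → ℂ)) (hξ : Relevant K (ξ : N → ℂ))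
    (hne : χ ≠ ξ) : ∃ a ∈ K, ∃ b ∈ K, a ≠ 1 ∧ b ≠ 1 ∧ (χ : N → ℂ) a ≠ (χ : N → ℂ) b := by
  classical
  by_contra hc
  push Not at hc
  obtain ⟨a, ha, hane⟩ := hχ
  have ha1 : a ≠ 1 := fun h => hane (h ▸ rfl)
  have hval : ∀ k ∈ K, k ≠ 1 → (χ : N → ℂ) k = (χ : N → ℂ) a := fun k hk hk1 =>
    (hc a ha k hk ha1 hk1).symm
  set c := (χ : N → ℂ) a with hcdef
  -- the sum over `K`
  have h1 : (χ : N → ℂ) 1 + ((Nat.card K : ℂ) - 1) * c = 0 := by
    have hs := sum_eq_zero χ.2 (⟨a, ha, hane⟩ : Relevant K (χ : N → ℂ))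
    rw [← Finset.add_sum_erase _ _ (Finset.mem_univ (1 : K)), Finset.sum_congr rfl
      (fun k hk => hval _ k.2 fun h => (Finset.mem_erase.1 hk).1 (Subtype.ext h)),
      Finset.sum_const, Finset.card_erase_of_mem (Finset.mem_univ (1 : K)), Finset.card_univ,
      nsmul_eq_mul, Nat.cast_sub Fintype.card_pos, ← Nat.card_eq_fintype_card, Nat.cast_one] at hs
    exact hs
  -- orthogonality with `ξ`
  have h2 : (χ : N → ℂ) 1 * (ξ : N → ℂ) 1 - c * (ξ : N → ℂ) 1 = 0 := by
    have ho := classInner_irr_ne χ.2 ξ.2 fun h => hne (Subtype.ext h)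
    rw [classInner, mul_eq_zero] at ho
    have ho' := ho.resolve_left (inv_ne_zero (Nat.cast_ne_zero.2 Nat.card_pos.ne'))
    rw [← Finset.sum_subset (s₁ := (Finset.univ : Finset K).map (Function.Embedding.subtype _))
      (Finset.subset_univ _)] at ho'
    · rw [Finset.sum_map] at ho'
      obtain ⟨dξ, hdξ⟩ := exists_degree (irr_isCharacter ξ)
      have hsξ := congrArg conj (sum_eq_zero ξ.2 hξ)
      rw [map_sum, map_zero, ← Finset.add_sum_erase _ _ (Finset.mem_univ (1 : K))] at hsξ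
      rw [← Finset.add_sum_erase _ _ (Finset.mem_univ (1 : K)), Finset.sum_congr rfl
        (fun k hk => by
          rw [Function.Embedding.subtype_apply, hval _ k.2 fun h => (Finset.mem_erase.1 hk).1 (Subtype.ext h)]),
        ← Finset.mul_sum] at ho'
      simp only [Function.Embedding.subtype_apply, OneMemClass.coe_one, hdξ, map_natCast] at ho' hsξ ⊢
      linear_combination ho' - c * hsξ
    · intro x _ hx
      have hxK : x ∉ K := fun h => hx (Finset.mem_map.2 ⟨⟨x, h⟩, Finset.mem_univ _, rfl⟩)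
      rw [vanish_off hfree χ.2 ⟨a, ha, hane⟩ hxK, zero_mul]
  have h3 : c = (χ : N → ℂ) 1 := by
    rw [← sub_mul, mul_eq_zero] at h2
    exact (sub_eq_zero.1 (h2.resolve_right (irr_one_ne_zero ξ))).symm
  exact hane h3

end CfsgLib.FrobKernelChar
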