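import Cfsg.Agent.Lib.Characters.Clifford
import Cfsg.Agent.Lib.Characters.Generalized
import Cfsg.Agent.Lib.Characters.BrauerPerm
import Mathlib.GroupTheory.Complement

/-!
# Classes and induced characters in a Frobenius group given by kernel and complement
-/

set_option autoImplicit false
set_option linter.style.haveILetI false

namespace CfsgLib.FrobClasses

open Cfsg CfsgLib.Characters
open scoped ComplexConjugate

universe u

variable {G : Type u} [Group G] {K H : Subgroup G} [hKn : K.Normal]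

theorem exists_decomp (hsup : K ⊔ H = ⊤) (g : G) : ∃ k ∈ K, ∃ h ∈ H, g = k * h := by
  obtain ⟨k, hk, h, hh, rfl⟩ := Subgroup.mem_sup_of_normal_left.mp (hsup ▸ Subgroup.mem_top g)
  exact ⟨k, hk, h, hh, rfl⟩

omit hKn in
theorem eq_one_of_fpf
    (hfpf : ∀ h ∈ H, h ≠ 1 → ∀ k ∈ K, h * k = k * h → k = 1) {h k : G} (hh : h ∈ H) (h1 : h ≠ 1)
    (hk : k ∈ K) (hc : Commute h k) : k = 1 := hfpf h hh h1 k hk hc.eq

/-- Every element of the coset `K * h` is conjugate to `h` under `K`. -/
theorem exists_conj_eq [Finite G]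
    (hfpf : ∀ h ∈ H, h ≠ 1 → ∀ k ∈ K, h * k = k * h → k = 1) {h : G} (hh : h ∈ H) (h1 : h ≠ 1)
    {k : G} (hk : k ∈ K) : ∃ a ∈ K, a * h * a⁻¹ = k * h := by
  let f : K → K := fun a =>
    ⟨(a : G) * (h * (a : G)⁻¹ * h⁻¹), K.mul_mem a.2 (hKn.conj_mem _ (K.inv_mem a.2) h)⟩
  have hf : Function.Injective f := by
    intro a b hab
    have e : (a : G) * h * (a : G)⁻¹ = b * h * (b : G)⁻¹ := by
      have := congrArg (fun x : K => (x : G) * h) hab
      simpa [f, mul_assoc] using this
    have hc : Commute h ((b : G)⁻¹ * a) := by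
      show h * ((b : G)⁻¹ * a) = (b : G)⁻¹ * a * h
      calc h * ((b : G)⁻¹ * a) = (b : G)⁻¹ * ((b : G) * h * (b : G)⁻¹) * a := by group
        _ = (b : G)⁻¹ * ((a : G) * h * (a : G)⁻¹) * a := by rw [e]
        _ = (b : G)⁻¹ * a * h := by group
    exact Subtype.ext (inv_mul_eq_one.mp
      (eq_one_of_fpf hfpf hh h1 (K.mul_mem (K.inv_mem b.2) a.2) hc)).symm
  obtain ⟨a, ha⟩ := Finite.surjective_of_injective hf ⟨k, hk⟩
  refine ⟨a, a.2, ?_⟩
  have := congrArg (fun x : K => (x : G) * h) ha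
  simpa [f, mul_assoc] using this

/-- An element outside `K` centralizes no nontrivial element of `K`. -/
theorem eq_one_of_commute [Finite G] (hsup : K ⊔ H = ⊤)
    (hfpf : ∀ h ∈ H, h ≠ 1 → ∀ k ∈ K, h * k = k * h → k = 1) {x n : G} (hx : x ∉ K) (hn : n ∈ K)
    (hc : Commute x n) : n = 1 := by
  obtain ⟨k, hk, h, hh, rfl⟩ := exists_decomp hsup x
  have h1 : h ≠ 1 := fun e => hx (by simpa [e] using hk)
  obtain ⟨a, ha, e⟩ := exists_conj_eq hfpf hh h1 hk
  have hc' : Commute h (a⁻¹ * n * a) := by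
    show h * (a⁻¹ * n * a) = a⁻¹ * n * a * h
    calc h * (a⁻¹ * n * a) = a⁻¹ * ((a * h * a⁻¹) * n) * a := by group
      _ = a⁻¹ * (n * (a * h * a⁻¹)) * a := by rw [e, hc.eq]
      _ = a⁻¹ * n * a * h := by group
  have := eq_one_of_fpf hfpf hh h1 (by simpa using hKn.conj_mem n hn a⁻¹) hc'
  calc n = a * (a⁻¹ * n * a) * a⁻¹ := by group
    _ = 1 := by rw [this]; group

/-- An element outside `K` fixes only the trivial class of `K`. -/
theorem eq_one_of_conj_isConj [Finite G] (hsup : K ⊔ H = ⊤)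
    (hfpf : ∀ h ∈ H, h ≠ 1 → ∀ k ∈ K, h * k = k * h → k = 1) {x : G} (hx : x ∉ K) {n : K}
    (hc : IsConj (MulAut.conjNormal x n) n) : n = 1 := by
  obtain ⟨b, hb⟩ := isConj_iff.mp hc
  have hb' : (b : G) * (x * n * x⁻¹) * (b : G)⁻¹ = n := by
    simpa using congrArg Subtype.val hb
  refine Subtype.ext (eq_one_of_commute hsup hfpf (x := (b : G) * x)
    (fun h => hx (by simpa using K.mul_mem (K.inv_mem b.2) h)) n.2 ?_)
  show (b : G) * x * n = n * ((b : G) * x)
  calc (b : G) * x * n = (b : G) * (x * n * x⁻¹) * (b : G)⁻¹ * ((b : G) * x) := by group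
    _ = n * ((b : G) * x) := by rw [hb']

/-- A nonprincipal irreducible character of `K` is moved by every element outside `K`. -/
theorem conjChar_ne [Finite G] (hsup : K ⊔ H = ⊤)
    (hfpf : ∀ h ∈ H, h ≠ 1 → ∀ k ∈ K, h * k = k * h → k = 1) {τ : K → ℂ}
    (hτ : IsIrrCharacter K τ) (hτ1 : τ ≠ fun _ => 1) {x : G} (hx : x ∉ K) :
    CfsgLib.Clifford.conjChar hKn τ x ≠ τ := by
  classical
  intro hfix
  let α : K ≃* K := MulAut.conjNormal x
  have hcard := CfsgLib.BrauerPerm.card_fixed_eq (CfsgLib.BrauerPerm.twistIrr α) α α.bijective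
    (fun χ k => by simp)
  haveI : Finite (ConjClasses K) := Finite.of_surjective _ ConjClasses.mk_surjective
  have hle : Nat.card {c : ConjClasses K //
      ∀ k : K, ConjClasses.mk k = c → ConjClasses.mk (α k) = c} ≤ 1 := by
    rw [Finite.card_le_one_iff_subsingleton]
    refine ⟨fun c d => Subtype.ext ?_⟩
    obtain ⟨c', hc'⟩ := ConjClasses.mk_surjective c.1
    obtain ⟨d', hd'⟩ := ConjClasses.mk_surjective d.1
    rw [← hc', ← hd',
      eq_one_of_conj_isConj hsup hfpf hx (n := c')
        (ConjClasses.mk_eq_mk_iff_isConj.mp ((c.2 c' hc').trans hc'.symm)),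
      eq_one_of_conj_isConj hsup hfpf hx (n := d')
        (ConjClasses.mk_eq_mk_iff_isConj.mp ((d.2 d' hd').trans hd'.symm))]
  rw [← hcard, Finite.card_le_one_iff_subsingleton] at hle
  have hτfix : CfsgLib.BrauerPerm.twistIrr α ⟨τ, hτ⟩ = ⟨τ, hτ⟩ := by
    refine Subtype.ext (funext fun k => ?_)
    rw [CfsgLib.BrauerPerm.twistIrr_apply]
    have h2 := congrFun hfix (α.symm k)
    show τ (α.symm k) = τ k
    rw [← h2]
    exact congrArg τ (α.apply_symm_apply k)
  have h1fix : CfsgLib.BrauerPerm.twistIrr α (principalIrr K) = principalIrr K :=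
    Subtype.ext (funext fun k => by simp)
  have := congrArg (fun z => ((z.1 : IrrCharacter K) : K → ℂ))
    (Subsingleton.elim (α := {χ : IrrCharacter K // CfsgLib.BrauerPerm.twistIrr α χ = χ})
      ⟨_, hτfix⟩ ⟨_, h1fix⟩)
  exact hτ1 this

theorem isIrrCharacter_indFun [Fintype G] (hsup : K ⊔ H = ⊤)
    (hfpf : ∀ h ∈ H, h ≠ 1 → ∀ k ∈ K, h * k = k * h → k = 1) {τ : K → ℂ}
    (hτ : IsIrrCharacter K τ) (hτ1 : τ ≠ fun _ => 1) : IsIrrCharacter G (indFun K τ) := by
  classical
  have : Fintype K := Fintype.ofFinite K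
  have hchar := CfsgLib.Induction.isCharacter_indFun K (isCharacter_of_irr hτ)
  refine (isIrrCharacter_iff_classInner_self hchar).mpr ?_
  have hcl := isClassFunction_of_isCharacter (isCharacter_of_irr hτ)
  rw [CfsgLib.Clifford.classInner_indFun_indFun hKn hcl]
  have hterm : ∀ x : G, classInner τ (CfsgLib.Clifford.conjChar hKn τ x) =
      if x ∈ K then 1 else 0 := by
    intro x
    split_ifs with hx
    · rw [show CfsgLib.Clifford.conjChar hKn τ x = τ from CfsgLib.Clifford.le_inertia hKn hcl hx,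
        classInner_irr_self hτ]
    · exact classInner_irr_ne hτ (CfsgLib.Clifford.isIrrCharacter_conjChar hKn hτ x)
        (conjChar_ne hsup hfpf hτ hτ1 hx).symm
  rw [Finset.sum_congr rfl fun x _ => hterm x, ← Finset.sum_filter, Finset.sum_const, nsmul_one,
    ← Fintype.card_subtype, ← Nat.card_eq_fintype_card]
  exact inv_mul_cancel₀ (Nat.cast_ne_zero.mpr Nat.card_pos.ne')

theorem sum_card_centralizer (X : Type u) [Group X] [Fintype X] :
    ∑ x : X, Nat.card (Subgroup.centralizer ({x} : Set X)) =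
      Nat.card X * Nat.card (ConjClasses X) := by
  classical
  have h := CfsgLib.BrauerPerm.sum_card_centralizer_eq (K := X) (fun _ => True)
  simp only [if_true] at h
  rw [Nat.card_congr (Equiv.subtypeUnivEquiv (fun _ : ConjClasses X => trivial))] at h
  exact_mod_cast h

theorem card_centralizer_conj [Finite G] (a g : G) :
    Nat.card (Subgroup.centralizer ({a * g * a⁻¹} : Set G)) =
      Nat.card (Subgroup.centralizer ({g} : Set G)) := by
  refine (Nat.card_congr ((MulAut.conj a).toEquiv.subtypeEquiv fun x => ?_)).symm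
  simp [Subgroup.mem_centralizer_singleton_iff]

theorem class_count [Finite G] (hinf : K ⊓ H = ⊥) (hsup : K ⊔ H = ⊤)
    (hfpf : ∀ h ∈ H, h ≠ 1 → ∀ k ∈ K, h * k = k * h → k = 1) :
    Nat.card H * Nat.card (ConjClasses G) + 1 =
      Nat.card H * Nat.card (ConjClasses H) + Nat.card (ConjClasses K) := by
  classical
  have : Fintype G := Fintype.ofFinite G
  have hcompl : Function.Bijective (fun a : K × H => (a.1 : G) * a.2) := by
    refine ⟨fun a b h => ?_, fun g => ?_⟩
    · have h' : (b.1 : G)⁻¹ * a.1 = (b.2 : G) * (a.2 : G)⁻¹ := by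
        calc (b.1 : G)⁻¹ * a.1 = (b.1 : G)⁻¹ * ((a.1 : G) * a.2) * (a.2 : G)⁻¹ := by group
          _ = (b.1 : G)⁻¹ * ((b.1 : G) * b.2) * (a.2 : G)⁻¹ :=
            congrArg (fun z => (b.1 : G)⁻¹ * z * (a.2 : G)⁻¹) h
          _ = (b.2 : G) * (a.2 : G)⁻¹ := by group
      have h0 : (b.1 : G)⁻¹ * a.1 = 1 := by
        have : (b.1 : G)⁻¹ * a.1 ∈ K ⊓ H := ⟨K.mul_mem (K.inv_mem b.1.2) a.1.2,
          h' ▸ H.mul_mem b.2.2 (H.inv_mem a.2.2)⟩
        rwa [hinf, Subgroup.mem_bot] at this
      refine Prod.ext (Subtype.ext (inv_mul_eq_one.mp h0).symm) (Subtype.ext ?_)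
      exact (mul_inv_eq_one.mp (h'.symm.trans h0)).symm
    · obtain ⟨k, hk, h, hh, rfl⟩ := exists_decomp hsup g
      exact ⟨(⟨k, hk⟩, ⟨h, hh⟩), rfl⟩
  have hHK : ∀ h : H, (h : G) ∈ K → h = 1 := fun h hk =>
    Subtype.ext (by
      have : (h : G) ∈ K ⊓ H := ⟨hk, h.2⟩
      rwa [hinf, Subgroup.mem_bot] at this)
  -- centralizers of complement elements
  have hcH : ∀ h : H, h ≠ 1 →
      Nat.card (Subgroup.centralizer ({(h : G)} : Set G)) =
        Nat.card (Subgroup.centralizer ({h} : Set H)) := by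
    intro h h1
    have hsub : ∀ x ∈ Subgroup.centralizer ({(h : G)} : Set G), x ∈ H := by
      intro x hx
      rw [Subgroup.mem_centralizer_singleton_iff] at hx
      obtain ⟨k, hk, y, hy, rfl⟩ := exists_decomp hsup x
      have e : (k * y) * h * (k * y)⁻¹ = h := by
        rw [hx]; group
      have hy' : y * h * y⁻¹ = (h : G) := by
        have hmem : k⁻¹ * ((h : G) * k * (h : G)⁻¹) ∈ K :=
          K.mul_mem (K.inv_mem hk) (hKn.conj_mem k hk h)
        have heq : (k⁻¹ * ((h : G) * k * (h : G)⁻¹)) = y * h * y⁻¹ * (h : G)⁻¹ := by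
          conv_lhs => rw [← e]
          rw [show k⁻¹ * ((k * y) * h * (k * y)⁻¹ * k * ((k * y) * h * (k * y)⁻¹)⁻¹) =
            y * h * y⁻¹ * ((k * y) * h * (k * y)⁻¹)⁻¹ by group, e]
        have : y * h * y⁻¹ * (h : G)⁻¹ ∈ K ⊓ H := ⟨heq ▸ hmem,
          H.mul_mem (H.mul_mem (H.mul_mem hy h.2) (H.inv_mem hy)) (H.inv_mem h.2)⟩
        rw [hinf, Subgroup.mem_bot, mul_inv_eq_one] at this
        exact this
      have hc : Commute (h : G) k := by
        show (h : G) * k = k * h
        calc (h : G) * k = ((k * y) * h * (k * y)⁻¹) * k := by rw [e]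
          _ = k * (y * h * y⁻¹) := by group
          _ = k * h := by rw [hy']
      rw [eq_one_of_fpf hfpf h.2 (fun h0 => h1 (Subtype.ext h0)) hk hc, one_mul]
      exact hy
    refine Nat.card_congr
      { toFun := fun x => ⟨⟨x.1, hsub x.1 x.2⟩, ?_⟩
        invFun := fun x => ⟨(x.1 : G), ?_⟩
        left_inv := fun x => rfl
        right_inv := fun x => rfl }
    · have := Subgroup.mem_centralizer_singleton_iff.mp x.2
      exact Subgroup.mem_centralizer_singleton_iff.mpr (Subtype.ext this)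
    · have := Subgroup.mem_centralizer_singleton_iff.mp x.2
      exact Subgroup.mem_centralizer_singleton_iff.mpr (congrArg Subtype.val this)
  have hcK : ∀ k : K, k ≠ 1 →
      Nat.card (Subgroup.centralizer ({(k : G)} : Set G)) =
        Nat.card (Subgroup.centralizer ({k} : Set K)) := by
    intro k k1
    have hsub : ∀ x ∈ Subgroup.centralizer ({(k : G)} : Set G), x ∈ K := by
      intro x hx
      by_contra hxK
      exact k1 (Subtype.ext (eq_one_of_commute hsup hfpf hxK k.2
        (Subgroup.mem_centralizer_singleton_iff.mp hx)))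
    refine Nat.card_congr
      { toFun := fun x => ⟨⟨x.1, hsub x.1 x.2⟩, ?_⟩
        invFun := fun x => ⟨(x.1 : G), ?_⟩
        left_inv := fun x => rfl
        right_inv := fun x => rfl }
    · have := Subgroup.mem_centralizer_singleton_iff.mp x.2
      exact Subgroup.mem_centralizer_singleton_iff.mpr (Subtype.ext this)
    · have := Subgroup.mem_centralizer_singleton_iff.mp x.2
      exact Subgroup.mem_centralizer_singleton_iff.mpr (congrArg Subtype.val this)
  have hc1 : ∀ (X : Type u) [Group X],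
      Nat.card (Subgroup.centralizer ({(1 : X)} : Set X)) = Nat.card X := by
    intro X _
    rw [show Subgroup.centralizer ({(1 : X)} : Set X) = ⊤ from
      eq_top_iff.mpr fun x _ => Subgroup.mem_centralizer_singleton_iff.mpr (by simp),
      Subgroup.card_top]
  have hG := sum_card_centralizer G
  rw [← hcompl.sum_comp, Fintype.sum_prod_type, Finset.sum_comm,
    ← Finset.add_sum_erase _ _ (Finset.mem_univ (1 : H))] at hG
  have h1 : ∑ k : K, Nat.card (Subgroup.centralizer ({(k : G) * ((1 : H) : G)} : Set G)) + Nat.card K =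
      Nat.card K * Nat.card (ConjClasses K) + Nat.card G := by
    rw [← sum_card_centralizer K, ← Finset.add_sum_erase _ _ (Finset.mem_univ (1 : K)),
      ← Finset.add_sum_erase (Finset.univ : Finset K)
        (fun k => Nat.card (Subgroup.centralizer ({k} : Set K))) (Finset.mem_univ 1)]
    simp only [Subgroup.coe_one, mul_one, hc1]
    rw [Finset.sum_congr rfl fun k hk => hcK k (Finset.ne_of_mem_erase hk)]
    omega
  have h2 : (∑ h ∈ (Finset.univ : Finset H).erase 1,
      ∑ k : K, Nat.card (Subgroup.centralizer ({(k : G) * (h : G)} : Set G))) +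
        Nat.card K * Nat.card H = Nat.card K * (Nat.card H * Nat.card (ConjClasses H)) := by
    rw [← sum_card_centralizer H, ← Finset.add_sum_erase _ _ (Finset.mem_univ (1 : H)), hc1,
      Nat.mul_add, add_comm, Finset.mul_sum]
    congr 1
    refine Finset.sum_congr rfl fun h hh => ?_
    have h1 := Finset.ne_of_mem_erase hh
    rw [Finset.sum_congr rfl fun k _ => ?_, Finset.sum_const, Finset.card_univ, smul_eq_mul,
      ← Nat.card_eq_fintype_card]
    obtain ⟨a, _, e⟩ := exists_conj_eq hfpf h.2 (fun h0 => h1 (Subtype.ext h0)) k.2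
    rw [← e, card_centralizer_conj, hcH h h1]
  have hcardG : Nat.card G = Nat.card K * Nat.card H := by
    rw [← Nat.card_prod]; exact (Nat.card_eq_of_bijective _ hcompl).symm
  simp only at hG
  rw [hcardG] at hG h1
  rw [Nat.mul_assoc] at hG
  refine Nat.eq_of_mul_eq_mul_left (Nat.card_pos (α := K)) ?_
  rw [Nat.mul_add, Nat.mul_add]
  simp only [Nat.mul_one]
  omega

end CfsgLib.FrobClasses
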