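import Cfsg.Agent.Lib.Characters.LinearTwist

/-!
# Counting linear characters against characters induced from an inertia group
-/

set_option autoImplicit false
set_option linter.unusedSectionVars false
set_option linter.style.haveILetI false

namespace CfsgLib.LinearCount

open Cfsg CfsgLib.Characters CfsgLib.Clifford CfsgLib.LinearTwist

universe u

variable {G : Type u} [Group G] [Finite G]

theorem card_linear_le (N : Subgroup G) (hN : N.Normal)
    (hmin : ∀ M : Subgroup G, M.Normal → M ≤ N → M = ⊥ ∨ M = N) (hna : ¬ IsMulCommutative N)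
    (φ : IrrCharacter N) (I : Subgroup G)
    (hI : ∀ g : G, g ∈ I ↔ ∀ n n' : N, (n' : G) = g * (n : G) * g⁻¹ →
      (φ : N → ℂ) n' = (φ : N → ℂ) n) (hNI : N ≤ I)
    (ψ : IrrCharacter I) (hψ : ∀ n : N, (ψ : I → ℂ) (Subgroup.inclusion hNI n) = (φ : N → ℂ) n)
    (P : ∀ {X : Type u} [Group X], (X → ℂ) → Prop)
    (hres : ∀ f : G →* ℂˣ, P (fun g : G => (f g : ℂ)) → P (fun x : I => (f (x : G) : ℂ)))
    (hind : ∀ f : G →* ℂˣ, P (fun x : I => (f (x : G) : ℂ)) →
      ∀ [Fintype G], P (indFun I (fun x : I => (ψ : I → ℂ) x * (f (x : G) : ℂ)))) :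
    Nat.card {χ : IrrCharacter G // Cfsg.charDegree (χ : G → ℂ) = 1 ∧ P (χ : G → ℂ)} ≤
      I.index * Nat.card {χ : IrrCharacter G //
        Cfsg.charDegree (χ : G → ℂ) = Cfsg.charDegree (φ : N → ℂ) * I.index ∧ P (χ : G → ℂ)} := by
  classical
  haveI := Fintype.ofFinite G
  haveI := Fintype.ofFinite N
  haveI := Fintype.ofFinite I
  have hIeq : I = inertia hN (φ : N → ℂ) := by
    ext g
    rw [hI, mem_inertia]
    exact ⟨fun h n => h n _ rfl, fun h n n' hn => by
      rw [← h n]; exact congrArg _ (Subtype.ext hn)⟩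
  let A := {χ : IrrCharacter G // Cfsg.charDegree (χ : G → ℂ) = 1 ∧ P (χ : G → ℂ)}
  choose f hf using fun χ : A => exists_hom_of_charDegree_one (irr_isCharacter χ.1) χ.2.1
  have htriv : ∀ μ : G →* ℂˣ, ∀ n : N, μ n = 1 := fun μ n =>
    hom_trivial_of_minimal hN hmin hna μ n n.2
  let B := {g : I →* ℂˣ // ∃ χ : A, (f χ).comp I.subtype = g}
  let r : A → B := fun χ => ⟨(f χ).comp I.subtype, χ, rfl⟩
  have h1 : Nat.card A ≤ I.index * Nat.card B := by
    refine card_le_mul_of_fibres r _ fun b => ?_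
    by_cases he : Nonempty {a // r a = b}
    · obtain ⟨⟨a₀, ha₀⟩⟩ := he
      refine le_trans (Nat.card_le_card_of_injective
        (fun a : {a // r a = b} => (⟨f a.1 / f a₀, fun h hh => ?_⟩ :
          {g : G →* ℂˣ // ∀ h ∈ I, g h = 1})) ?_) (card_hom_trivial_le I)
      · have := congrArg Subtype.val (a.2.trans ha₀.symm)
        have h2 : f a.1 h = f a₀ h := DFunLike.congr_fun this ⟨h, hh⟩
        simp [h2]
      · intro a b hab
        have h2 : f a.1 = f b.1 := div_left_injective (congrArg Subtype.val hab)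
        exact Subtype.ext (Subtype.ext (Subtype.ext (by rw [hf a.1, hf b.1, h2])))
    · rw [not_nonempty_iff] at he
      simp
  refine h1.trans (Nat.mul_le_mul_left _ ?_)
  have hirr : ∀ g : I →* ℂˣ, IsIrrCharacter I (fun x : I => (ψ : I → ℂ) x * (g x : ℂ)) :=
    fun g => isIrr_mul_hom ψ.2 g
  have hresN : ∀ b : B, ∀ n : N,
      (ψ : I → ℂ) (Subgroup.inclusion hNI n) * (b.1 (Subgroup.inclusion hNI n) : ℂ) =
        (φ : N → ℂ) n := by
    rintro ⟨_, χ, rfl⟩ n
    rw [hψ]
    simp [htriv (f χ) n]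
  have hinf : ∀ b : B, _ := fun b => indFun_irr_of_inertia hN φ.2 I hIeq hNI (hirr b.1) (hresN b)
  refine Nat.card_le_card_of_injective
    (fun b : B => ⟨⟨_, (hinf b).1⟩, ?_, ?_⟩) ?_
  · refine charDegree_eq_of_apply_one ((hinf b).2.1.trans ?_)
    rw [apply_one_eq_charDegree (irr_isCharacter φ)]
    push_cast
    ring
  · obtain ⟨_, χ, rfl⟩ := b
    exact hind (f χ) (hres (f χ) (by rw [← hf χ]; exact χ.2.2))
  · intro a b hab
    have h2 := congrArg (fun c => (c.1 : G → ℂ)) hab
    have h3 := (hinf b).2.2.2 _ (hirr a.1) (hresN a) h2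
    apply Subtype.ext
    let N' : Subgroup I := N.subgroupOf I
    refine hom_eq_of_mul_eq N' (irr_isCharacter ψ) ?_ a.1 b.1 (fun n => ?_) (congrFun h3)
    · have : (fun n : N' => (ψ : I → ℂ) n) =
          fun n => (φ : N → ℂ) (Subgroup.subgroupOfEquivOfLe hNI n) := by
        funext n
        rw [← hψ]
        rfl
      rw [this]
      exact isIrrCharacter_pullback φ.2 (Subgroup.subgroupOfEquivOfLe hNI).toMonoidHom
        (Subgroup.subgroupOfEquivOfLe hNI).surjective
    · obtain ⟨_, χa, rfl⟩ := a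
      obtain ⟨_, χb, rfl⟩ := b
      change f χa ((n : I) : G) = f χb ((n : I) : G)
      exact (htriv (f χa) ⟨_, n.2⟩).trans (htriv (f χb) ⟨_, n.2⟩).symm

end CfsgLib.LinearCount
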