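import Cfsg.Agent.Lib.Characters.Induction
import Mathlib.GroupTheory.Sylow
import Mathlib.GroupTheory.GroupAction.Quotient
import Mathlib.GroupTheory.PGroup

/-!
# Solomon: the constant one is an integral combination of proper permutation characters
-/

set_option autoImplicit false
set_option linter.style.haveILetI false

namespace CfsgLib.Brauer

open MulAction

universe u

/-- A finite group is quasi-elementary for `p`: a cyclic normal subgroup of order prime to `p`
has `p`-power index. -/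
def IsQE (p : ℕ) (G : Type u) [Group G] : Prop :=
  ∃ x : G, (Subgroup.zpowers x).Normal ∧ (orderOf x).Coprime p ∧
    ∃ k, (Subgroup.zpowers x).index = p ^ k

variable {G : Type u} [Group G]

/-- Fixed-point counting functions of actions without global fixed points. -/
def properPermFun (G : Type u) [Group G] : Set (G → ℤ) :=
  {f | ∃ (X : Type u) (_ : MulAction G X), Finite X ∧ (∀ x : X, stabilizer G x ≠ ⊤) ∧
    f = fun g => (Nat.card (fixedBy X g) : ℤ)}

theorem properPermFun_mul {f f' : G → ℤ} (h : f ∈ properPermFun G) (h' : f' ∈ properPermFun G) :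
    f * f' ∈ properPermFun G := by
  obtain ⟨X, aX, hX, hs, rfl⟩ := h
  obtain ⟨Y, aY, hY, _, rfl⟩ := h'
  letI := aX; letI := aY
  refine ⟨X × Y, inferInstance, inferInstance, fun x hx => hs x.1 ?_, funext fun g => ?_⟩
  · rw [eq_top_iff] at hx ⊢
    intro g hg
    exact congrArg Prod.fst (hx hg)
  · simp only [Pi.mul_apply, ← Nat.cast_mul, ← Nat.card_prod]
    refine congrArg Nat.cast (Nat.card_congr ⟨fun a => ⟨(a.1.1, a.2.1), Prod.ext a.1.2 a.2.2⟩,
      fun a => (⟨a.1.1, congrArg Prod.fst a.2⟩, ⟨a.1.2, congrArg Prod.snd a.2⟩),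
      fun a => rfl, fun a => rfl⟩)

theorem closure_properPermFun_mul {f f' : G → ℤ}
    (h : f ∈ AddSubgroup.closure (properPermFun G)) (h' : f' ∈ AddSubgroup.closure (properPermFun G)) :
    f * f' ∈ AddSubgroup.closure (properPermFun G) := by
  induction h using AddSubgroup.closure_induction with
  | mem x hx =>
    induction h' using AddSubgroup.closure_induction with
    | mem y hy => exact AddSubgroup.subset_closure (properPermFun_mul hx hy)
    | zero => simp
    | add a b _ _ ha hb => rw [mul_add]; exact add_mem ha hb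
    | neg a _ ha => rw [mul_neg]; exact neg_mem ha
  | zero => simp
  | add a b _ _ ha hb => rw [add_mul]; exact add_mem ha hb
  | neg a _ ha => rw [neg_mul]; exact neg_mem ha

omit [Group G] in
/-- Banaschewski's lemma. -/
theorem one_mem_of_forall_exists_not_dvd [Finite G] {R : AddSubgroup (G → ℤ)}
    (hmul : ∀ f ∈ R, ∀ f' ∈ R, f * f' ∈ R)
    (h : ∀ (x : G) (p : ℕ), p.Prime → ∃ f ∈ R, ¬ (p : ℤ) ∣ f x) : (1 : G → ℤ) ∈ R := by
  classical
  have : Fintype G := Fintype.ofFinite G
  have hx : ∀ x : G, ∃ f ∈ R, f x = 1 := by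
    intro x
    obtain ⟨a, ha⟩ := Int.subgroup_cyclic (R.map (Pi.evalAddMonoidHom (fun _ : G => ℤ) x))
    have hdiv : ∀ f ∈ R, a ∣ f x := by
      intro f hf
      have hm : f x ∈ R.map (Pi.evalAddMonoidHom (fun _ : G => ℤ) x) := ⟨f, hf, rfl⟩
      rw [ha, AddSubgroup.mem_closure_singleton] at hm
      obtain ⟨n, hn⟩ := hm
      exact ⟨n, by rw [← hn, zsmul_eq_mul, mul_comm, Int.cast_eq]⟩
    by_cases h1 : a.natAbs = 1
    · have hm : (1 : ℤ) ∈ R.map (Pi.evalAddMonoidHom (fun _ : G => ℤ) x) := by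
        rw [ha, AddSubgroup.mem_closure_singleton]
        refine ⟨a, ?_⟩
        rcases Int.natAbs_eq a with h2 | h2 <;> rw [h2, h1] <;> norm_num
      obtain ⟨f, hf, hfx⟩ := hm
      exact ⟨f, hf, hfx⟩
    · obtain ⟨p, hp, hpa⟩ := Nat.exists_prime_and_dvd h1
      obtain ⟨f, hf, hfx⟩ := h x p hp
      exact absurd ((Int.natCast_dvd.mpr hpa).trans (hdiv f hf)) hfx
  have hs : ∀ s : Finset G, ∃ f ∈ R, ∀ x ∈ s, f x = 1 := by
    intro s
    induction s using Finset.induction with
    | empty => exact ⟨0, R.zero_mem, by simp⟩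
    | insert a s _ ih =>
      obtain ⟨f, hf, hfs⟩ := ih
      obtain ⟨f', hf', hfa⟩ := hx a
      refine ⟨f + f' - f * f', sub_mem (add_mem hf hf') (hmul f hf f' hf'), fun x hxs => ?_⟩
      rcases Finset.mem_insert.mp hxs with rfl | hxs
      · simp [hfa]
      · simp [hfs x hxs]
  obtain ⟨f, hf, hfs⟩ := hs Finset.univ
  exact (funext fun x => hfs x (Finset.mem_univ x) : f = 1) ▸ hf

/-- A quasi-elementary subgroup with prime-to-`p` fixed-point count at `x`. -/
theorem exists_qe_not_dvd [Finite G] (x : G) {p : ℕ} (hp : p.Prime) :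
    ∃ H : Subgroup G, IsQE p H ∧ ¬ p ∣ Nat.card (fixedBy (G ⧸ H) x) := by
  classical
  haveI := Fact.mk hp
  obtain ⟨a, m, hm, hom⟩ := Nat.exists_eq_pow_mul_and_not_dvd (orderOf_pos x).ne' p hp.ne_one
  set c := x ^ p ^ a with hc
  set u := x ^ m with hu
  have hoc : orderOf c = m := by
    rw [hc, orderOf_pow_of_dvd (pow_ne_zero _ hp.ne_zero) (hom ▸ dvd_mul_right _ _), hom,
      Nat.mul_div_cancel_left _ (pow_pos hp.pos a)]
  have hm0 : m ≠ 0 := fun h => hm (h ▸ dvd_zero p)
  have hou : orderOf u = p ^ a := by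
    rw [hu, orderOf_pow_of_dvd hm0 (hom ▸ dvd_mul_left _ _), hom,
      Nat.mul_div_cancel _ (Nat.pos_of_ne_zero hm0)]
  have hcop : m.Coprime p := ((hp.coprime_iff_not_dvd.mpr hm)).symm
  set C := Subgroup.zpowers c with hC
  set N := Subgroup.normalizer (C : Set G) with hN
  have hxN : x ∈ N := by
    rw [hN, Subgroup.mem_normalizer_iff]
    intro h
    have : ∀ g ∈ C, x * g * x⁻¹ = g := fun g hg => by
      obtain ⟨i, rfl⟩ := Subgroup.mem_zpowers_iff.mp hg
      rw [mul_inv_eq_iff_eq_mul]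
      exact ((Commute.refl x).pow_right _).zpow_right i
    refine ⟨fun hg => by rw [this h hg]; exact hg, fun hg => ?_⟩
    have h3 : x * h * x⁻¹ = h := (MulAut.conj x).injective (by simpa using this _ hg)
    rwa [← h3]
  have huN : u ∈ N := pow_mem hxN m
  let C' : Subgroup N := C.subgroupOf N
  haveI hC'n : C'.Normal := Subgroup.normal_in_normalizer
  let U : Subgroup N := Subgroup.zpowers ⟨u, huN⟩
  have hU : IsPGroup p U := IsPGroup.of_card (n := a) (by
    rw [Nat.card_zpowers, Subgroup.orderOf_mk, hou])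
  obtain ⟨P, hUP⟩ := hU.exists_le_sylow
  let H' : Subgroup N := C' ⊔ (P : Subgroup N)
  let H : Subgroup G := H'.map N.subtype
  have hHN : H ≤ N := Subgroup.map_subtype_le _
  have hC'card : Nat.card C' = m := by
    rw [Nat.card_congr (Subgroup.subgroupOfEquivOfLe (Subgroup.le_normalizer)).toEquiv, hC,
      Nat.card_zpowers, hoc]
  obtain ⟨k, hk⟩ := IsPGroup.iff_card.mp P.isPGroup'
  have hrel : C'.relIndex H' = p ^ k := by
    have h1 := Subgroup.relIndex_sup_left (P : Subgroup N) C'
    have h2 : Disjoint C' (P : Subgroup N) := Subgroup.disjoint_of_coprime_natCard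
      (hC'card ▸ (show (Nat.card (P : Subgroup N)) = p ^ k from hk) ▸ hcop.pow_right k)
    have h3 : C'.relIndex (P : Subgroup N) = p ^ k := by
      rw [Subgroup.relIndex, Subgroup.subgroupOf_eq_bot.mpr h2, Subgroup.index_bot]
      exact hk
    rw [← h3, ← h1]
  have hcH : c ∈ H := ⟨⟨c, pow_mem hxN _⟩, Subgroup.mem_sup_left (Subgroup.mem_zpowers c), rfl⟩
  have hxH : x ∈ H := by
    have huH : u ∈ H := ⟨⟨u, huN⟩, Subgroup.mem_sup_right (hUP (Subgroup.mem_zpowers _)), rfl⟩
    obtain ⟨r, s, hrs⟩ := Int.isCoprime_iff_gcd_eq_one.mpr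
      (show Int.gcd ((p ^ a : ℕ) : ℤ) (m : ℤ) = 1 from (hcop.symm.pow_left a))
    have : x = c ^ r * u ^ s := by
      rw [hc, hu, ← zpow_natCast, ← zpow_natCast x m, ← zpow_mul, ← zpow_mul, ← zpow_add,
        mul_comm ((p ^ a : ℕ) : ℤ), mul_comm (m : ℤ), hrs, zpow_one]
    rw [this]
    exact mul_mem (zpow_mem hcH r) (zpow_mem huH s)
  -- elements of `H` of order dividing `m` lie in `C`
  have hin : ∀ h ∈ H, h ^ m = 1 → h ∈ C := by
    rintro _ ⟨y, hy, rfl⟩ hym
    have h1 : (⟨y, hy⟩ : H') ^ m = 1 := Subtype.ext (Subtype.ext hym)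
    have h2 : (QuotientGroup.mk' (C'.subgroupOf H')) (⟨y, hy⟩ : H') = 1 := by
      rw [← orderOf_eq_one_iff]
      refine Nat.eq_one_of_dvd_coprimes (hcop.pow_right k) ?_ ?_
      · exact orderOf_dvd_of_pow_eq_one (by rw [← map_pow, h1, map_one])
      · refine (orderOf_dvd_natCard _).trans (dvd_of_eq ?_)
        rw [← Subgroup.index_eq_card]; exact hrel
    exact ((QuotientGroup.eq_one_iff _).mp h2 : (⟨y, hy⟩ : H') ∈ C'.subgroupOf H')
  refine ⟨H, ⟨⟨c, hcH⟩, ?_, ?_, k, ?_⟩, ?_⟩
  · have : Subgroup.zpowers (⟨c, hcH⟩ : H) = C.subgroupOf H := by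
      apply Subgroup.map_injective H.subtype_injective
      rw [MonoidHom.map_zpowers, Subgroup.map_subgroupOf_eq_of_le (Subgroup.zpowers_le.mpr hcH)]
      rfl
    rw [this]
    exact Subgroup.normal_subgroupOf_of_le_normalizer hHN
  · rw [Subgroup.orderOf_mk, hoc]; exact hcop
  · have hmap : Subgroup.zpowers (⟨c, hcH⟩ : H) = C.subgroupOf H := by
      apply Subgroup.map_injective H.subtype_injective
      rw [MonoidHom.map_zpowers, Subgroup.map_subgroupOf_eq_of_le (Subgroup.zpowers_le.mpr hcH)]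
      rfl
    rw [hmap]
    change C.relIndex H = p ^ k
    rw [← hrel, ← Subgroup.relIndex_comap C N.subtype H']
    rfl
  · -- counting fixed points
    have hsmul : ∀ (y : N) (n : N), y • (QuotientGroup.mk n : N ⧸ H') = QuotientGroup.mk (y * n) :=
      fun y n => rfl
    have hH'mem : ∀ y : N, y ∈ H' ↔ (y : G) ∈ H := fun y => by
      constructor
      · exact fun hy => ⟨y, hy, rfl⟩
      · rintro ⟨z, hz, hzy⟩
        exact (Subtype.ext hzy : z = y) ▸ hz
    -- `c` acts trivially on `N ⧸ H'`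
    have hctriv : ∀ q : N ⧸ H', (⟨c, pow_mem hxN _⟩ : N) • q = q := by
      intro q
      obtain ⟨n, rfl⟩ := QuotientGroup.mk_surjective q
      rw [hsmul, QuotientGroup.eq]
      refine Subgroup.mem_sup_left ?_
      have : n⁻¹ * (⟨c, pow_mem hxN _⟩ : N)⁻¹ * n⁻¹⁻¹ ∈ C' :=
        hC'n.conj_mem _ (inv_mem (Subgroup.mem_zpowers c)) n⁻¹
      simpa [mul_inv_rev] using this
    have hfix : ∀ q : N ⧸ H', ((⟨x, hxN⟩ : N) • q = q ↔ q ∈ fixedPoints U (N ⧸ H')) := by
      intro q
      constructor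
      · rintro hq ⟨y, hy⟩
        obtain ⟨i, rfl⟩ := Subgroup.mem_zpowers_iff.mp hy
        have hu' : (⟨u, huN⟩ : N) = (⟨x, hxN⟩ : N) ^ m := Subtype.ext (by simp [hu])
        show ((⟨u, huN⟩ : N) ^ i) • q = q
        rw [hu']
        have h1 : ((⟨x, hxN⟩ : N) ^ m) • q = q :=
          (stabilizer N q).pow_mem (mem_stabilizer_iff.mpr hq) m
        exact (stabilizer N q).zpow_mem (mem_stabilizer_iff.mpr h1) i
      · intro hq
        have hu1 : (⟨u, huN⟩ : N) ∈ stabilizer N q :=
          hq ⟨⟨u, huN⟩, Subgroup.mem_zpowers _⟩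
        have hc1 : (⟨c, pow_mem hxN _⟩ : N) ∈ stabilizer N q := hctriv q
        obtain ⟨r, s, hrs⟩ := Int.isCoprime_iff_gcd_eq_one.mpr
          (show Int.gcd ((p ^ a : ℕ) : ℤ) (m : ℤ) = 1 from (hcop.symm.pow_left a))
        have h' : (⟨x, hxN⟩ : N) = (⟨c, pow_mem hxN _⟩ : N) ^ r * (⟨u, huN⟩ : N) ^ s := by
          apply Subtype.ext
          simp only [Subgroup.coe_mul, Subgroup.coe_zpow]
          rw [hc, hu, ← zpow_natCast, ← zpow_natCast x m, ← zpow_mul, ← zpow_mul, ← zpow_add,
            mul_comm ((p ^ a : ℕ) : ℤ), mul_comm (m : ℤ), hrs, zpow_one]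
        rw [h']
        exact mul_mem (zpow_mem hc1 r) (zpow_mem hu1 s)
    have hcard : Nat.card (fixedPoints U (N ⧸ H')) = Nat.card (fixedBy (G ⧸ H) x) := by
      let ψ : fixedPoints U (N ⧸ H') → fixedBy (G ⧸ H) x := fun q =>
        ⟨QuotientGroup.mk ((q.1.out : N) : G), by
          have h1 := (hfix q.1).mpr q.2
          rw [← q.1.out_eq', hsmul, QuotientGroup.eq, hH'mem] at h1
          show (x • (QuotientGroup.mk ((q.1.out : N) : G) : G ⧸ H)) = _
          rw [MulAction.Quotient.smul_mk, QuotientGroup.eq]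
          simpa using h1⟩
      refine Nat.card_eq_of_bijective ψ ⟨fun q r hqr => ?_, fun ⟨q, hq⟩ => ?_⟩
      · have h1 := QuotientGroup.eq.mp (congrArg Subtype.val hqr)
        apply Subtype.ext
        rw [← q.1.out_eq', ← r.1.out_eq', QuotientGroup.eq, hH'mem]
        simpa using h1
      · obtain ⟨g, rfl⟩ := QuotientGroup.mk_surjective q
        rw [mem_fixedBy, MulAction.Quotient.smul_mk, QuotientGroup.eq] at hq
        have hconj : g⁻¹ * x * g ∈ H := by
          have h0 : g⁻¹ * x * g = ((x • g)⁻¹ * g)⁻¹ := by simp [smul_eq_mul, mul_assoc]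
          rw [h0]; exact inv_mem hq
        have hgc : g⁻¹ * c * g ∈ C := by
          have h0 : g⁻¹ * c * g = (g⁻¹ * x * g) ^ p ^ a := by
            have := conj_pow (i := p ^ a) (a := g⁻¹) (b := x)
            rw [inv_inv] at this
            rw [hc, this]
          refine hin _ (h0 ▸ pow_mem hconj _) ?_
          have h2 := conj_pow (i := m) (a := g⁻¹) (b := c)
          rw [inv_inv] at h2
          rw [h2, ← hoc, pow_orderOf_eq_one, mul_one, inv_mul_cancel]
        have hgN : g ∈ N := by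
          have hle : C.map (MulAut.conj g⁻¹).toMonoidHom ≤ C := by
            rw [hC, MonoidHom.map_zpowers, Subgroup.zpowers_le]
            simpa [hC] using hgc
          have heq := Subgroup.eq_of_le_of_card_ge hle
            (by rw [Subgroup.card_map_of_injective (MulAut.conj g⁻¹).injective])
          refine (Subgroup.inv_mem_iff N).mp ?_
          rw [hN, Subgroup.mem_normalizer_iff]
          intro h
          constructor
          · intro hh
            rw [← heq]
            exact ⟨h, hh, by simp⟩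
          · intro hh
            rw [← heq] at hh
            obtain ⟨h', hh', he⟩ := hh
            have : h' = h := (MulAut.conj g⁻¹).injective (by simpa using he)
            exact this ▸ hh'
        have hn : (⟨x, hxN⟩ : N) • (QuotientGroup.mk (⟨g, hgN⟩ : N) : N ⧸ H') =
            QuotientGroup.mk (⟨g, hgN⟩ : N) := by
          rw [hsmul, QuotientGroup.eq, hH'mem]
          simpa using hq
        refine ⟨⟨_, (hfix _).mp hn⟩, Subtype.ext ?_⟩
        show (QuotientGroup.mk ((Quotient.out (QuotientGroup.mk (⟨g, hgN⟩ : N) : N ⧸ H') : N) : G) : G ⧸ H) = _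
        rw [QuotientGroup.eq]
        obtain ⟨h0, he⟩ := QuotientGroup.mk_out_eq_mul H' (⟨g, hgN⟩ : N)
        rw [he]
        simpa using H.inv_mem ((hH'mem _).mp h0.2)
    rw [← hcard]
    intro hdvd
    have hmod := hU.card_modEq_card_fixedPoints (N ⧸ H')
    refine P.not_dvd_index ?_
    have h1 : p ∣ H'.index := by
      rw [Subgroup.index_eq_card]
      exact (Nat.ModEq.dvd_iff hmod dvd_rfl).mpr hdvd
    exact h1.trans (Subgroup.index_dvd_of_le le_sup_right)

/-- For a group that is not quasi-elementary, one is a combination of proper permutation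
characters. -/
theorem one_mem_closure_properPermFun [Finite G] (hG : ∀ p : ℕ, p.Prime → ¬ IsQE p G) :
    (1 : G → ℤ) ∈ AddSubgroup.closure (properPermFun G) := by
  refine one_mem_of_forall_exists_not_dvd (fun f hf f' hf' => closure_properPermFun_mul hf hf')
    fun x p hp => ?_
  obtain ⟨H, hH, hnd⟩ := exists_qe_not_dvd x hp
  have hne : H ≠ ⊤ := by
    rintro rfl
    obtain ⟨z, hz1, hz2, k, hk⟩ := hH
    refine hG p hp ⟨(z : G), ?_, by rwa [Subgroup.orderOf_coe], k, ?_⟩
    · have h := hz1.map (Subgroup.topEquiv (G := G)).toMonoidHom Subgroup.topEquiv.surjective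
      rwa [MonoidHom.map_zpowers] at h
    · rw [← hk, ← Subgroup.index_map_equiv (Subgroup.zpowers z) (Subgroup.topEquiv (G := G))]
      congr 1
      exact (MonoidHom.map_zpowers (Subgroup.topEquiv (G := G)).toMonoidHom z).symm
  refine ⟨_, AddSubgroup.subset_closure ⟨G ⧸ H, inferInstance, inferInstance, fun q hq => ?_, rfl⟩,
    by exact_mod_cast hnd⟩
  apply hne
  rw [eq_top_iff] at hq ⊢
  obtain ⟨g, rfl⟩ := QuotientGroup.mk_surjective q
  intro h _
  have := hq (Subgroup.mem_top (g * h⁻¹ * g⁻¹))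
  rw [mem_stabilizer_iff, MulAction.Quotient.smul_mk, QuotientGroup.eq] at this
  simpa [smul_eq_mul, mul_assoc] using this

end CfsgLib.Brauer
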