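import Cfsg.Agent.Lib.Characters.BrauerPerm
import Mathlib.GroupTheory.GroupAction.Quotient

/-!
# Orbits on real characters and real classes of a normal subgroup of odd index
-/

set_option autoImplicit false
set_option linter.unusedSectionVars false
set_option linter.style.haveILetI false

namespace CfsgLib.RealOrbits

open Cfsg CfsgLib.Characters CfsgLib.BrauerPerm
open scoped ComplexConjugate

universe u

variable {G : Type u} [Group G] [Finite G] (K : Subgroup G) [K.Normal]

/-- An element fixing nothing but a square, in odd index. -/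
theorem fix_of_sq_fix {α : Type*} (act : G → α → α) (hmul : ∀ a b x, act (a * b) x = act a (act b x))
    (hK : ∀ k ∈ K, ∀ x, act k x = x) (hodd : Odd K.index) (g : G) (x : α)
    (h2 : act g (act g x) = x) : act g x = x := by
  obtain ⟨j, hj⟩ := hodd
  have hgen : ∀ n : ℕ, act (g ^ (2 * n + 1)) x = act g x := by
    intro n
    induction n with
    | zero => simp
    | succ n ih =>
      rw [show 2 * (n + 1) + 1 = (2 * n + 1) + 2 from by ring, pow_add, hmul, sq, hmul, h2, ih]
  rw [← hgen j, ← hj]
  exact hK _ (K.pow_index_mem g) x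

theorem card_fixed_real (hodd : Odd K.index) (g : G) :
    Nat.card {θ : IrrCharacter K // (∀ k, ((θ : K → ℂ) k).im = 0) ∧
        twistIrr (MulAut.conjNormal g) θ = θ} =
      Nat.card {c : ConjClasses K // (∀ k, ConjClasses.mk k = c → IsConj k k⁻¹) ∧
        ∀ k, ConjClasses.mk k = c → ConjClasses.mk (MulAut.conjNormal g k) = c} := by
  classical
  have hperm := card_fixed_eq (fun θ => conjIrr (twistIrr (MulAut.conjNormal g) θ))
    (fun k : K => (MulAut.conjNormal g k)⁻¹)
    ((MulEquiv.inv' K).toEquiv.bijective.comp (MulAut.conjNormal g).bijective |> fun h => by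
      refine ⟨fun a b hab => (MulAut.conjNormal g).injective (inv_injective hab), fun y => ?_⟩
      obtain ⟨x, hx⟩ := (MulAut.conjNormal g).surjective y⁻¹
      exact ⟨x, by simp [hx]⟩)
    (fun χ k => by
      simp only [conjIrr_apply, twistIrr_apply]
      rw [← irr_apply_inv, map_inv, MulEquiv.symm_apply_apply, inv_inv])
  refine Eq.trans ?_ (hperm.trans ?_)
  · refine Nat.card_congr (Equiv.subtypeEquivRight fun θ => ?_)
    constructor
    · rintro ⟨hr, hg⟩
      rw [hg, (conjIrr_eq_self_iff θ).mpr hr]
    · intro h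
      have h1 : twistIrr (MulAut.conjNormal g) θ = conjIrr θ := by
        apply Subtype.ext
        funext k
        have := congrFun (congrArg Subtype.val h) k
        simp only [conjIrr_apply, twistIrr_apply] at this ⊢
        rw [← this, Complex.conj_conj]
      have h2 : twistIrr (MulAut.conjNormal g) (twistIrr (MulAut.conjNormal g) θ) = θ := by
        rw [h1]
        refine (Subtype.ext ?_ : _ = conjIrr (twistIrr (MulAut.conjNormal g) θ)).trans h
        rfl
      have hfix : twistIrr (MulAut.conjNormal g) θ = θ := by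
        refine fix_of_sq_fix K (fun a θ => twistIrr (MulAut.conjNormal a) θ) ?_ ?_ hodd g θ h2
        · intro a b x
          rw [map_mul]
          rfl
        · intro k hk x
          apply Subtype.ext
          funext y
          rw [twistIrr_apply]
          refine classFunction_eq_of_isConj (irr_isClassFunction x) (isConj_iff.mpr ⟨⟨k, hk⟩, ?_⟩)
          apply Subtype.ext
          simp [MulAut.conjNormal_symm_apply, mul_assoc]
      exact ⟨(conjIrr_eq_self_iff θ).mp (h1.symm.trans hfix), hfix⟩
  · refine Nat.card_congr (Equiv.subtypeEquivRight fun c => ?_)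
    constructor
    · intro h
      obtain ⟨x, rfl⟩ := ConjClasses.exists_rep c
      have h1 := h x rfl
      have h2 : ConjClasses.mk (MulAut.conjNormal g (MulAut.conjNormal g x)) = ConjClasses.mk x := by
        have := h _ h1
        rwa [map_inv, inv_inv] at this
      have hfix : ConjClasses.mk (MulAut.conjNormal g x) = ConjClasses.mk x := by
        refine fix_of_sq_fix K (fun a => ConjClasses.map (MulAut.conjNormal a).toMonoidHom) ?_ ?_
          hodd g (ConjClasses.mk x) h2
        · intro a b y
          obtain ⟨y, rfl⟩ := ConjClasses.exists_rep y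
          change ConjClasses.mk _ = ConjClasses.mk _
          rw [map_mul]
          rfl
        · intro k hk y
          obtain ⟨y, rfl⟩ := ConjClasses.exists_rep y
          refine ConjClasses.mk_eq_mk_iff_isConj.mpr (isConj_iff.mpr ⟨⟨k, hk⟩, ?_⟩).symm
          apply Subtype.ext
          simp [MulAut.conjNormal_apply]
      have hinv : ∀ a b : K, IsConj a b → IsConj a⁻¹ b⁻¹ := fun a b hab => by
        obtain ⟨d, hd⟩ := isConj_iff.mp hab
        exact isConj_iff.mpr ⟨d, by rw [← hd]; group⟩
      refine ⟨fun k hk => ?_, fun k hk => ?_⟩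
      · have h3 : IsConj (MulAut.conjNormal g x) x := ConjClasses.mk_eq_mk_iff_isConj.mp hfix
        have h4 := ConjClasses.mk_eq_mk_iff_isConj.mp h1
        have h5 : IsConj k x := ConjClasses.mk_eq_mk_iff_isConj.mp hk
        exact h5.trans (((hinv _ _ h3).symm.trans h4).symm.trans (hinv _ _ h5.symm))
      · have h5 : IsConj k x := ConjClasses.mk_eq_mk_iff_isConj.mp hk
        rw [← hfix]
        exact ConjClasses.mk_eq_mk_iff_isConj.mpr
          ((MulAut.conjNormal g).toMonoidHom.map_isConj h5)
    · rintro ⟨hr, hg⟩ k hk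
      rw [← hg k hk]
      exact ConjClasses.mk_eq_mk_iff_isConj.mpr (hr _ (hg k hk)).symm

theorem card_orbits_mul [Fintype G] {α : Type*} [Finite α] [MulAction G α] :
    ∑ g : G, Nat.card {x : α // g • x = x} =
      Nat.card (Quot fun x y : α => ∃ g : G, g • x = y) * Nat.card G := by
  classical
  haveI := Fintype.ofFinite α
  have h : (fun x y : α => ∃ g : G, g • x = y) = fun x y => MulAction.orbitRel G α y x := rfl
  have hcard : Nat.card (Quot fun x y : α => ∃ g : G, g • x = y) =
      Nat.card (Quotient (MulAction.orbitRel G α)) :=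
    Nat.card_congr (Quot.congrRight fun x y => by
      rw [MulAction.orbitRel_apply, MulAction.mem_orbit_symm]
      exact Iff.rfl)
  rw [hcard, Nat.card_eq_fintype_card, Nat.card_eq_fintype_card,
    ← MulAction.sum_card_fixedBy_eq_card_orbits_mul_card_group]
  refine Finset.sum_congr rfl fun g _ => ?_
  rw [← Nat.card_eq_fintype_card]
  exact Nat.card_congr (Equiv.refl _)

theorem card_orbits_real (hodd : Odd K.index) :
    Nat.card (Quot (fun θ η : {θ : IrrCharacter ↥K // (∀ k : ↥K, ((θ : ↥K → ℂ) k).im = 0)} =>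
      ∃ g : G, ∀ k k' : ↥K, (k' : G) = g * (k : G) * g⁻¹ → (η.1 : ↥K → ℂ) k' = (θ.1 : ↥K → ℂ) k)) =
    Nat.card (Quot (fun x y : {x : ↥K // IsConj x x⁻¹} =>
      ∃ g : G, (y.1 : G) = g * x.1 * g⁻¹)) := by
  classical
  haveI := Fintype.ofFinite G
  haveI : Finite (ConjClasses K) := Finite.of_surjective _ ConjClasses.mk_surjective
  let A : Type u := {θ : IrrCharacter ↥K // (∀ k : ↥K, ((θ : ↥K → ℂ) k).im = 0)}
  let B : Type u := {c : ConjClasses K // ∀ k, ConjClasses.mk k = c → IsConj k k⁻¹}
  letI actA : MulAction G A :=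
    { smul := fun g θ => ⟨twistIrr (MulAut.conjNormal g) θ.1, fun k => θ.2 _⟩
      one_smul := fun θ => Subtype.ext (Subtype.ext (funext fun k => by
        change (θ.1 : K → ℂ) ((MulAut.conjNormal (1 : G)).symm k) = _
        rw [map_one]
        rfl))
      mul_smul := fun a b θ => Subtype.ext (Subtype.ext (funext fun k => by
        change (θ.1 : K → ℂ) ((MulAut.conjNormal (a * b)).symm k) = _
        rw [map_mul]
        rfl)) }
  have hBmem : ∀ (g : G) (c : B) (k : K),
      ConjClasses.mk k = ConjClasses.map (MulAut.conjNormal g).toMonoidHom c.1 → IsConj k k⁻¹ := by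
    intro g c k hk
    obtain ⟨x, hx⟩ := ConjClasses.exists_rep c.1
    rw [← hx] at hk
    have h1 : IsConj k (MulAut.conjNormal g x) := ConjClasses.mk_eq_mk_iff_isConj.mp hk
    obtain ⟨d, hd⟩ := isConj_iff.mp h1
    have h2 : IsConj (MulAut.conjNormal g x) (MulAut.conjNormal g x)⁻¹ := by
      rw [← map_inv]
      exact (MulAut.conjNormal g).toMonoidHom.map_isConj (c.2 x hx)
    refine h1.trans (h2.trans (isConj_iff.mpr ⟨d⁻¹, ?_⟩))
    rw [← hd]; group
  letI actB : MulAction G B :=
    { smul := fun g c => ⟨ConjClasses.map (MulAut.conjNormal g).toMonoidHom c.1, hBmem g c⟩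
      one_smul := fun c => Subtype.ext (by
        obtain ⟨x, hx⟩ := ConjClasses.exists_rep c.1
        change ConjClasses.map _ c.1 = c.1
        rw [← hx, map_one]
        rfl)
      mul_smul := fun a b c => Subtype.ext (by
        obtain ⟨x, hx⟩ := ConjClasses.exists_rep c.1
        change ConjClasses.map _ c.1 = ConjClasses.map _ (ConjClasses.map _ c.1)
        rw [← hx, map_mul]
        rfl) }
  have hA : Nat.card (Quot (fun θ η : A =>
      ∃ g : G, ∀ k k' : ↥K, (k' : G) = g * (k : G) * g⁻¹ → (η.1 : ↥K → ℂ) k' = (θ.1 : ↥K → ℂ) k)) =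
      Nat.card (Quot fun x y : A => ∃ g : G, g • x = y) := by
    refine Nat.card_congr (Quot.congrRight fun θ η => exists_congr fun g => ⟨fun h => ?_, ?_⟩)
    · refine Subtype.ext (Subtype.ext (funext fun k => ?_))
      exact (h ((MulAut.conjNormal g).symm k) k (by simp [MulAut.conjNormal_symm_apply, mul_assoc])).symm
    · rintro rfl k k' hk
      change (θ.1 : K → ℂ) ((MulAut.conjNormal g).symm k') = _
      refine congrArg (θ.1 : K → ℂ) ?_
      apply Subtype.ext
      simp [MulAut.conjNormal_symm_apply, hk, mul_assoc]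
  have hB : Nat.card (Quot (fun x y : {x : ↥K // IsConj x x⁻¹} =>
      ∃ g : G, (y.1 : G) = g * x.1 * g⁻¹)) = Nat.card (Quot fun x y : B => ∃ g : G, g • x = y) := by
    let π : {x : ↥K // IsConj x x⁻¹} → B := fun x => ⟨ConjClasses.mk x.1, fun k hk => by
      have h1 : IsConj k x.1 := ConjClasses.mk_eq_mk_iff_isConj.mp hk
      obtain ⟨d, hd⟩ := isConj_iff.mp h1
      refine h1.trans (x.2.trans (isConj_iff.mpr ⟨d⁻¹, ?_⟩))
      rw [← hd]; group⟩
    have hmap : ∀ x y : {x : ↥K // IsConj x x⁻¹}, (∃ g : G, (y.1 : G) = g * x.1 * g⁻¹) →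
        ∃ g : G, g • π x = π y := by
      rintro x y ⟨g, hg⟩
      refine ⟨g, Subtype.ext ?_⟩
      change ConjClasses.mk (MulAut.conjNormal g x.1) = ConjClasses.mk y.1
      congr 1
      apply Subtype.ext
      simp [MulAut.conjNormal_apply, hg]
    refine Nat.card_eq_of_bijective (Quot.map π hmap) ⟨?_, ?_⟩
    · rintro ⟨x⟩ ⟨y⟩ hxy
      have h1 : MulAction.orbit G (π x) = MulAction.orbit G (π y) := by
        have h2 := Quot.eqvGen_exact hxy
        change Relation.EqvGen (fun x y : B => ∃ g : G, g • x = y) (π x) (π y) at h2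
        clear hxy
        generalize π x = a, π y = b at h2
        induction h2 with
        | rel a b h =>
          obtain ⟨g, rfl⟩ := h
          rw [MulAction.orbit_smul]
        | refl a => rfl
        | symm a b _ ih => exact ih.symm
        | trans a b c _ _ ih1 ih2 => exact ih1.trans ih2
      obtain ⟨g, hg⟩ : π y ∈ MulAction.orbit G (π x) := h1 ▸ MulAction.mem_orbit_self _
      have h3 : ConjClasses.mk (MulAut.conjNormal g x.1) = ConjClasses.mk y.1 :=
        congrArg Subtype.val hg
      obtain ⟨d, hd⟩ := isConj_iff.mp (ConjClasses.mk_eq_mk_iff_isConj.mp h3)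
      refine Quot.sound ⟨(d : G) * g, ?_⟩
      rw [← hd]
      simp [MulAut.conjNormal_apply, mul_assoc]
    · rintro ⟨c⟩
      obtain ⟨x, hx⟩ := ConjClasses.exists_rep c.1
      exact ⟨Quot.mk _ ⟨x, c.2 x hx⟩, congrArg (Quot.mk _) (Subtype.ext hx)⟩
  rw [hA, hB]
  refine Nat.eq_of_mul_eq_mul_right (Nat.card_pos (α := G)) ?_
  rw [← card_orbits_mul, ← card_orbits_mul]
  refine Finset.sum_congr rfl fun g _ => ?_
  refine (Nat.card_congr ((Equiv.subtypeEquivRight fun θ : A => ?_).trans
    (Equiv.subtypeSubtypeEquivSubtypeInter _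
      (fun θ : IrrCharacter K => twistIrr (MulAut.conjNormal g) θ = θ)))).trans
    ((card_fixed_real K hodd g).trans (Nat.card_congr
      ((Equiv.subtypeEquivRight fun c : B => ?_).trans (Equiv.subtypeSubtypeEquivSubtypeInter _
      (fun c : ConjClasses K => ∀ k, ConjClasses.mk k = c →
        ConjClasses.mk (MulAut.conjNormal g k) = c))).symm))
  · exact Subtype.ext_iff
  · constructor
    · intro h k hk
      have h1 : ConjClasses.map (MulAut.conjNormal g).toMonoidHom c.1 = c.1 := congrArg Subtype.val h
      rw [← hk] at h1 ⊢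
      exact h1
    · intro h
      apply Subtype.ext
      obtain ⟨x, hx⟩ := ConjClasses.exists_rep c.1
      change ConjClasses.map (MulAut.conjNormal g).toMonoidHom c.1 = c.1
      conv_lhs => rw [← hx]
      exact h x hx

end CfsgLib.RealOrbits
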