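import Cfsg.Agent.Lib.Characters.RealOrbits
import Cfsg.Agent.Lib.Characters.NormalRes
import Cfsg.Agent.Lib.Characters.FrobSchur

/-!
# Real characters over a normal subgroup of odd index
-/

set_option autoImplicit false
set_option linter.unusedSectionVars false
set_option linter.style.haveILetI false

namespace CfsgLib.RealOverNormal

open Cfsg CfsgLib.Characters CfsgLib.BrauerPerm CfsgLib.NormalRes CfsgLib.FrobSchur
open scoped ComplexConjugate

universe u

variable {G : Type u} [Group G] [Finite G] (N : Subgroup G) [N.Normal]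

theorem mem_of_sq_mem (hodd : Odd N.index) {g : G} (h : g * g ∈ N) : g ∈ N := by
  obtain ⟨j, hj⟩ := hodd
  have h1 := N.pow_index_mem g
  rw [hj, pow_succ, pow_mul, sq] at h1
  exact (N.mul_mem_cancel_left (N.pow_mem h j)).mp h1

/-- The weighted indicator sum over a character of a normal subgroup of odd index. -/
theorem sum_mult_fsInd [Fintype G] [Fintype N] (hodd : Odd N.index) (φ : IrrCharacter N) :
    ∑ χ : IrrCharacter G, mult N (χ : G → ℂ) φ * fsInd (χ : G → ℂ) = fsInd (φ : N → ℂ) := by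
  classical
  have h1 : ∑ χ : IrrCharacter G, mult N (χ : G → ℂ) φ * fsInd (χ : G → ℂ) =
      fsInd (indFun N (φ : N → ℂ)) := by
    rw [indFun_eq_sum, fsInd_eq_sum]
    simp only [fsInd_eq_sum, Finset.sum_apply, Pi.smul_apply, smul_eq_mul, Finset.mul_sum]
    rw [Finset.sum_comm]
    exact Finset.sum_congr rfl fun g _ => Finset.sum_congr rfl fun χ _ => by ring
  rw [h1, fsInd_eq_sum, fsInd_eq_sum]
  have h2 : ∑ g : G, indFun N (φ : N → ℂ) (g * g) =
      ∑ n : N, indFun N (φ : N → ℂ) ((n * n : N) : G) := by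
    rw [← Finset.sum_filter_add_sum_filter_not Finset.univ (· ∈ N),
      Finset.sum_eq_zero (s := Finset.univ.filter fun g => g ∉ N) (fun g hg => ?_), add_zero]
    · exact (Finset.sum_subtype _ (fun x => by simp) _)
    · exact CfsgLib.Induction.indFun_normal_eq_zero N
        fun h => (Finset.mem_filter.mp hg).2 (mem_of_sq_mem N hodd h)
  rw [h2]
  simp only [indFun_res, ← Finset.mul_sum]
  rw [Finset.sum_comm]
  have h3 : ∀ x : G, ∑ n : N, (twistIrr (MulAut.conjNormal x) φ : N → ℂ) (n * n) =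
      ∑ n : N, (φ : N → ℂ) (n * n) := fun x =>
    Fintype.sum_equiv (MulAut.conjNormal x).symm.toEquiv _ _ fun n => by
      simp [twistIrr_apply]
  rw [Finset.sum_congr rfl fun x _ => h3 x, Finset.sum_const, Finset.card_univ, nsmul_eq_mul,
    ← Nat.card_eq_fintype_card]
  have := natCard_cast_ne_zero (G := G)
  field_simp

theorem exists_real_over [Fintype N] (hodd : Odd N.index) (φ : IrrCharacter N)
    (hφ : ∀ n, ((φ : N → ℂ) n).im = 0) :
    ∃ χ : IrrCharacter G, (∀ g, ((χ : G → ℂ) g).im = 0) ∧ mult N (χ : G → ℂ) φ ≠ 0 := by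
  haveI := Fintype.ofFinite G
  by_contra hne
  push Not at hne
  have h := sum_mult_fsInd N hodd φ
  rw [Finset.sum_eq_zero (fun χ _ => ?_)] at h
  · exact (fsInd_eq_zero_iff φ.2).mp h.symm hφ
  · by_cases hr : ∀ g, ((χ : G → ℂ) g).im = 0
    · rw [hne χ hr, zero_mul]
    · rw [(fsInd_eq_zero_iff χ.2).mpr hr, mul_zero]

theorem isConj_inv_congr {H : Type*} [Group H] {a b : H} (h : IsConj a b) :
    IsConj a⁻¹ b⁻¹ := by
  obtain ⟨d, hd⟩ := isConj_iff.mp h
  exact isConj_iff.mpr ⟨d, by rw [← hd]; group⟩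

theorem card_real_irr : Nat.card {χ : IrrCharacter G // ∀ g, ((χ : G → ℂ) g).im = 0} =
    Nat.card {c : ConjClasses G // ∀ g, ConjClasses.mk g = c → IsConj g g⁻¹} := by
  classical
  refine Eq.trans ?_ ((card_fixed_eq (conjIrr (K := G)) (fun g => g⁻¹)
    (Equiv.inv G).bijective (fun χ k => ?_)).trans ?_)
  · exact Nat.card_congr (Equiv.subtypeEquivRight fun χ => (conjIrr_eq_self_iff χ).symm)
  · rw [conjIrr_apply, ← irr_apply_inv, inv_inv]
  · refine Nat.card_congr (Equiv.subtypeEquivRight fun c => forall_congr' fun g => ?_)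
    refine imp_congr_right fun hg => ?_
    rw [← hg, ConjClasses.mk_eq_mk_iff_isConj]
    exact isConj_comm

theorem mem_of_real (hodd : Odd N.index) {g : G} (hg : IsConj g g⁻¹) : g ∈ N := by
  rw [← QuotientGroup.eq_one_iff]
  obtain ⟨d, hd⟩ := isConj_iff.mp hg
  set x : G ⧸ N := QuotientGroup.mk g with hx
  set y : G ⧸ N := QuotientGroup.mk d with hy
  have h1 : y * x * y⁻¹ = x⁻¹ := by
    rw [hx, hy, ← QuotientGroup.mk_inv, ← QuotientGroup.mk_mul, ← QuotientGroup.mk_mul,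
      ← QuotientGroup.mk_inv, hd]
  have hoddq : ∀ z : G ⧸ N, Odd (orderOf z) := fun z =>
    hodd.of_dvd_nat (by rw [Subgroup.index_eq_card]; exact orderOf_dvd_natCard z)
  have hc : Commute (y ^ 2) x := by
    have : y * (y * x * y⁻¹) * y⁻¹ = x := by
      rw [h1]
      calc y * x⁻¹ * y⁻¹ = (y * x * y⁻¹)⁻¹ := by group
        _ = x := by rw [h1, inv_inv]
    calc y ^ 2 * x = (y * (y * x * y⁻¹) * y⁻¹) * y ^ 2 := by
          simp [sq, mul_assoc]
      _ = x * y ^ 2 := by rw [this]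
  have hc' : Commute y x := by
    obtain ⟨j, hj⟩ := hoddq y
    have h2 : y = (y ^ 2) ^ (j + 1) := by
      rw [← pow_mul, show 2 * (j + 1) = orderOf y + 1 by omega, pow_succ, pow_orderOf_eq_one,
        one_mul]
    rw [h2]
    exact hc.pow_left _
  have h3 : x ^ 2 = 1 := by
    rw [hc'.eq, mul_inv_cancel_right] at h1
    rw [sq]
    nth_rw 2 [h1]
    exact mul_inv_cancel x
  obtain ⟨j, hj⟩ := hoddq x
  have := pow_orderOf_eq_one x
  rwa [hj, pow_succ, pow_mul, h3, one_pow, one_mul] at this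

theorem real_in_sub (hodd : Odd N.index) (x : N) (hx : IsConj (x : G) (x : G)⁻¹) :
    IsConj x x⁻¹ := by
  obtain ⟨g, hg⟩ := isConj_iff.mp hx
  let act : G → ConjClasses N → ConjClasses N :=
    fun a => ConjClasses.map (MulAut.conjNormal a).toMonoidHom
  have h1 : MulAut.conjNormal g x = x⁻¹ := Subtype.ext (by simp [MulAut.conjNormal_apply, hg])
  have h2 : act g (act g (ConjClasses.mk x)) = ConjClasses.mk x := by
    change ConjClasses.mk (MulAut.conjNormal g (MulAut.conjNormal g x)) = _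
    rw [h1, map_inv, h1, inv_inv]
  have h3 := CfsgLib.RealOrbits.fix_of_sq_fix N act ?_ ?_ hodd g (ConjClasses.mk x) h2
  · change ConjClasses.mk (MulAut.conjNormal g x) = _ at h3
    rw [h1] at h3
    exact (ConjClasses.mk_eq_mk_iff_isConj.mp h3).symm
  · intro a b y
    obtain ⟨y, rfl⟩ := ConjClasses.exists_rep y
    change ConjClasses.mk _ = ConjClasses.mk _
    rw [map_mul]
    rfl
  · intro k hk y
    obtain ⟨y, rfl⟩ := ConjClasses.exists_rep y
    refine ConjClasses.mk_eq_mk_iff_isConj.mpr (isConj_iff.mpr ⟨⟨k, hk⟩, ?_⟩).symm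
    apply Subtype.ext
    simp [MulAut.conjNormal_apply]

theorem card_real_classes (hodd : Odd N.index) :
    Nat.card (Quot (fun x y : {x : N // IsConj x x⁻¹} =>
      ∃ g : G, (y.1 : G) = g * x.1 * g⁻¹)) =
    Nat.card {c : ConjClasses G // ∀ g, ConjClasses.mk g = c → IsConj g g⁻¹} := by
  refine Nat.card_eq_of_bijective (Quot.lift
    (fun x => ⟨ConjClasses.mk (x.1 : G), fun g hg => ?_⟩) ?_) ⟨?_, ?_⟩
  · have h1 : IsConj g (x.1 : G) := ConjClasses.mk_eq_mk_iff_isConj.mp hg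
    exact h1.trans ((N.subtype.map_isConj x.2).trans (isConj_inv_congr h1.symm))
  · rintro x y ⟨g, hg⟩
    exact Subtype.ext (ConjClasses.mk_eq_mk_iff_isConj.mpr (isConj_iff.mpr ⟨g, hg.symm⟩))
  · rintro ⟨x⟩ ⟨y⟩ hxy
    obtain ⟨g, hg⟩ := isConj_iff.mp
      (ConjClasses.mk_eq_mk_iff_isConj.mp (congrArg Subtype.val hxy))
    exact Quot.sound ⟨g, hg.symm⟩
  · rintro ⟨c, hc⟩
    obtain ⟨g, rfl⟩ := ConjClasses.exists_rep c
    have hg := hc g rfl
    exact ⟨Quot.mk _ ⟨⟨g, mem_of_real N hodd hg⟩, real_in_sub N hodd _ hg⟩, rfl⟩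

/-- Over a real character of a normal subgroup of odd index lies exactly one real character. -/
theorem eq_of_real_over [Fintype N] (hodd : Odd N.index) (φ : IrrCharacter N)
    (hφ : ∀ n, ((φ : N → ℂ) n).im = 0) (χ χ' : IrrCharacter G)
    (hr : ∀ g, ((χ : G → ℂ) g).im = 0) (hm : mult N (χ : G → ℂ) φ ≠ 0)
    (hr' : ∀ g, ((χ' : G → ℂ) g).im = 0) (hm' : mult N (χ' : G → ℂ) φ ≠ 0) : χ = χ' := by
  classical
  let R := {χ : IrrCharacter G // ∀ g, ((χ : G → ℂ) g).im = 0}
  let rel := fun θ η : {θ : IrrCharacter N // ∀ k : N, ((θ : N → ℂ) k).im = 0} =>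
      ∃ g : G, ∀ k k' : N, (k' : G) = g * (k : G) * g⁻¹ → (η.1 : N → ℂ) k' = (θ.1 : N → ℂ) k
  have hcard : Nat.card (Quot rel) = Nat.card R :=
    (CfsgLib.RealOrbits.card_orbits_real N hodd).trans
      ((card_real_classes N hodd).trans card_real_irr.symm)
  choose F hF using fun q : Quot rel => exists_real_over N hodd q.out.1 q.out.2
  let F' : Quot rel → R := fun q => ⟨F q, (hF q).1⟩
  have hinj : Function.Injective F' := by
    intro q q' hqq
    have hFF : F q = F q' := congrArg Subtype.val hqq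
    obtain ⟨x, hx⟩ := exists_conj_of_constituents N (F q) (hF q).2 (hFF ▸ (hF q').2)
    rw [← q.out_eq, ← q'.out_eq]
    exact Quot.sound ⟨x, (twist_eq_iff N x _ _).mp hx⟩
  have hbij : Function.Bijective F' := hinj.bijective_of_nat_card_le hcard.ge
  have key : ∀ ψ : R, mult N (ψ.1 : G → ℂ) φ ≠ 0 → ψ = F' (Quot.mk rel ⟨φ, hφ⟩) := by
    intro ψ hψ
    obtain ⟨q, rfl⟩ := hbij.2 ψ
    congr 1
    obtain ⟨x, hx⟩ := exists_conj_of_constituents N (F q) (hF q).2 hψ
    rw [← q.out_eq]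
    exact Quot.sound ⟨x, (twist_eq_iff N x _ _).mp hx⟩
  exact congrArg Subtype.val ((key ⟨χ, hr⟩ hm).trans (key ⟨χ', hr'⟩ hm').symm)

/-- Over a strongly real character of a normal subgroup of odd index lies exactly one strongly real
character. -/
theorem existsUnique_fsInd_one [Fintype N] (hodd : Odd N.index) (φ : IrrCharacter N)
    (hφ : fsInd (φ : N → ℂ) = 1) :
    ∃! χ : IrrCharacter G, fsInd (χ : G → ℂ) = 1 ∧ mult N (χ : G → ℂ) φ ≠ 0 := by
  classical
  haveI := Fintype.ofFinite G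
  have hr : ∀ n, ((φ : N → ℂ) n).im = 0 := real_of_fsInd_ne_zero φ.2 (by rw [hφ]; exact one_ne_zero)
  obtain ⟨χ, hχr, hχm⟩ := exists_real_over N hodd φ hr
  have h := sum_mult_fsInd N hodd φ
  rw [Finset.sum_eq_single χ (fun ψ _ hne => ?_) (fun h => absurd (Finset.mem_univ _) h), hφ] at h
  · refine ⟨χ, ⟨?_, hχm⟩, fun ψ hψ => eq_of_real_over N hodd φ hr ψ χ
      (real_of_fsInd_ne_zero ψ.2 (by rw [hψ.1]; exact one_ne_zero)) hψ.2 hχr hχm⟩
    obtain ⟨m, hm⟩ := mult_nat N (irr_isCharacter χ) φ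
    rw [hm] at h
    rcases fsInd_cases χ.2 with ⟨-, h1 | h1⟩ | ⟨h1, -⟩
    · exact h1
    · rw [h1, mul_neg, mul_one] at h
      have : ((m + 1 : ℕ) : ℂ) = 0 := by push_cast; linear_combination (-1 : ℂ) * h
      exact absurd this (Nat.cast_ne_zero.mpr (Nat.succ_ne_zero m))
    · exact absurd hχr h1
  · by_cases hψ : ∀ g, ((ψ : G → ℂ) g).im = 0
    · by_cases hmψ : mult N (ψ : G → ℂ) φ = 0
      · rw [hmψ, zero_mul]
      · exact absurd (eq_of_real_over N hodd φ hr ψ χ hψ hmψ hχr hχm) hne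
    · rw [(fsInd_eq_zero_iff ψ.2).mpr hψ, mul_zero]

end CfsgLib.RealOverNormal
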