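import Cfsg.Agent.Lib.Characters.Monomial
import Cfsg.Agent.Lib.Characters.Induction
import Mathlib.GroupTheory.Nilpotent

/-!
# Characters irreducible on a normal subgroup with abelian Sylow subgroups
-/

set_option autoImplicit false

noncomputable section

namespace CfsgLib.RelMonomial

open Cfsg CfsgLib.Characters CfsgLib.Clifford

universe u

/-- A nilpotent image of a group with abelian Sylow subgroups is commutative. -/
theorem comm_of_sylow_comm {A B : Type*} [Group A] [Finite A] [Group B] [Group.IsNilpotent B]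
    (hA : ∀ (p : ℕ) [Fact p.Prime] (P : Sylow p A), ∀ a ∈ P, ∀ b ∈ P, a * b = b * a)
    (f : A →* B) (hf : Function.Surjective f) (x y : B) : x * y = y * x := by
  have : Finite B := Finite.of_surjective f hf
  let e := Sylow.directProductOfNormal (G := B) fun {p} _ P => inferInstance
  obtain ⟨s, rfl⟩ := e.surjective x
  obtain ⟨t, rfl⟩ := e.surjective y
  rw [← map_mul, ← map_mul]
  refine congrArg e (funext fun q => funext fun P => Subtype.ext ?_)
  haveI : Fact (q : ℕ).Prime := ⟨Nat.prime_of_mem_primeFactors q.2⟩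
  obtain ⟨Q, rfl⟩ := Sylow.mapSurjective_surjective hf q P
  obtain ⟨a, ha, hae⟩ := (s q (Q.mapSurjective hf)).2
  obtain ⟨b, hb, hbe⟩ := (t q (Q.mapSurjective hf)).2
  show ((s q (Q.mapSurjective hf) : B) * (t q (Q.mapSurjective hf) : B)) =
    (t q (Q.mapSurjective hf) : B) * (s q (Q.mapSurjective hf) : B)
  rw [← hae, ← hbe, ← map_mul, ← map_mul, hA q Q a ha b hb]

/-- Abelian Sylow subgroups descend along injective homomorphisms. -/
theorem sylow_comm_of_injective {A N : Type*} [Group A] [Group N] [Finite N]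
    (hN : ∀ (p : ℕ) [Fact p.Prime] (P : Sylow p N), ∀ a ∈ P, ∀ b ∈ P, a * b = b * a)
    (i : A →* N) (hi : Function.Injective i) (p : ℕ) [Fact p.Prime] (P : Sylow p A) :
    ∀ a ∈ P, ∀ b ∈ P, a * b = b * a := by
  intro a ha b hb
  obtain ⟨Q, hQ⟩ := (P.2.map i).exists_le_sylow
  refine hi ?_
  rw [map_mul, map_mul]
  exact hN p Q _ (hQ ⟨a, ha, rfl⟩) _ (hQ ⟨b, hb, rfl⟩)

/-- A group with commutative central quotient is nilpotent. -/
theorem isNilpotent_of_commutator_central {B : Type*} [Group B]
    (h : ∀ x y : B, x * y * (y * x)⁻¹ ∈ Subgroup.center B) : Group.IsNilpotent B := by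
  letI : CommGroup (B ⧸ Subgroup.center B) :=
    { (inferInstance : Group (B ⧸ Subgroup.center B)) with
      mul_comm := fun a b => by
        obtain ⟨x, rfl⟩ := QuotientGroup.mk'_surjective _ a
        obtain ⟨y, rfl⟩ := QuotientGroup.mk'_surjective _ b
        rw [← map_mul, ← map_mul, ← mul_inv_eq_one, ← map_inv, ← map_mul, QuotientGroup.mk'_apply,
          QuotientGroup.eq_one_iff]
        exact h x y }
  exact Subgroup.isNilpotent_of_ker_le_center (QuotientGroup.mk' (Subgroup.center B))
    (QuotientGroup.ker_mk' _).le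

/-- Induction step: a character induced from a subgroup supplementing `N`. -/
theorem irr_res_of_supplement {G : Type u} [Group G] [Fintype G] (N T : Subgroup G)
    [Fintype T] (hNT : ∀ x : G, ∃ m ∈ N, m⁻¹ * x ∈ T) {χ : G → ℂ}
    (hres : IsIrrCharacter N (fun n : N => χ n)) (hχ : IsIrrCharacter G χ) {ψ : T → ℂ}
    (hψ : IsIrrCharacter T ψ) (hind : indFun T ψ = χ) :
    IsIrrCharacter (T.subgroupOf N) (fun u : T.subgroupOf N => ψ ⟨((u : N) : G), u.2⟩) := by
  classical
  have : Fintype N := Fintype.ofFinite _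
  let U : Subgroup N := T.subgroupOf N
  have : Fintype U := Fintype.ofFinite _
  let ι : U →* T :=
    { toFun := fun u => ⟨((u : N) : G), u.2⟩, map_one' := rfl, map_mul' := fun _ _ => rfl }
  set κ : U → ℂ := fun u => ψ (ι u) with hκdef
  have hκ : IsCharacter U κ := isCharacter_pullback (isCharacter_of_irr hψ) ι
  have hκc := isClassFunction_of_isCharacter hκ
  have hψc : IsClassFunction T ψ := irr_isClassFunction ⟨ψ, hψ⟩
  have : Fintype (G ⧸ T) := Fintype.ofFinite _
  have : Fintype (N ⧸ U) := Fintype.ofFinite _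
  have mack : indFun U κ = fun n : N => χ n := by
    funext n
    rw [← hind, CfsgLib.Induction.indFun_eq_sum_quotient U hκc,
      CfsgLib.Induction.indFun_eq_sum_quotient T hψc]
    let Φ : N ⧸ U → G ⧸ T := fun q => QuotientGroup.mk ((q.out : N) : G)
    refine Fintype.sum_bijective Φ ⟨fun q q' h => ?_, fun c => ?_⟩ _ _ fun q => ?_
    · rw [← QuotientGroup.out_eq' q, ← QuotientGroup.out_eq' q']
      exact QuotientGroup.eq.2 (Subgroup.mem_subgroupOf.2 (QuotientGroup.eq.1 h))
    · obtain ⟨m, hm, hmc⟩ := hNT c.out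
      refine ⟨QuotientGroup.mk ⟨m, hm⟩, ?_⟩
      obtain ⟨u, hu⟩ := QuotientGroup.mk_out_eq_mul U (⟨m, hm⟩ : N)
      rw [← QuotientGroup.out_eq' c]
      refine QuotientGroup.eq.2 ?_
      rw [hu]
      show ((m : G) * ((u : N) : G))⁻¹ * c.out ∈ T
      rw [mul_inv_rev, mul_assoc]
      exact T.mul_mem (T.inv_mem u.2) hmc
    · obtain ⟨t, ht⟩ := QuotientGroup.mk_out_eq_mul T ((q.out : N) : G)
      show _ = extendByZero T ψ ((Φ q).out⁻¹ * (n : G) * (Φ q).out)
      rw [show (Φ q).out = ((q.out : N) : G) * (t : G) from ht]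
      rw [show ((((q.out : N) : G) * (t : G))⁻¹ * (n : G) * (((q.out : N) : G) * (t : G))) =
        ((t⁻¹ : T) : G) * ((((q.out : N) : G))⁻¹ * (n : G) * ((q.out : N) : G)) *
          ((t⁻¹ : T) : G)⁻¹ by simp [mul_assoc], CfsgLib.Induction.extendByZero_conj T hψc]
      by_cases hq : q.out⁻¹ * n * q.out ∈ U
      · rw [CfsgLib.Induction.extendByZero_mem U κ hq,
          CfsgLib.Induction.extendByZero_mem T ψ
            (g := ((q.out : N) : G)⁻¹ * (n : G) * ((q.out : N) : G))
            (Subgroup.mem_subgroupOf.1 hq)]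
        rfl
      · rw [CfsgLib.Induction.extendByZero_notMem U κ hq,
          CfsgLib.Induction.extendByZero_notMem T ψ
            (g := ((q.out : N) : G)⁻¹ * (n : G) * ((q.out : N) : G))
            fun h => hq (Subgroup.mem_subgroupOf.2 h)]
  have hresU : (classInner (fun u : U => χ ((u : N) : G)) κ) = 1 := by
    have h := CfsgLib.Induction.classInner_indFun_right U κ
      (isClassFunction_of_isCharacter (isCharacter_of_irr hres))
    rw [mack, classInner_irr_self hres] at h
    exact h.symm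
  obtain ⟨m, hm, hsum⟩ := exists_mult (isCharacter_subtype (isCharacter_of_irr hχ) T)
  have ha : ∀ ξ : IrrCharacter T, ∃ a : ℕ,
      classInner (fun u : U => (ξ : T → ℂ) (ι u)) κ = (a : ℂ) := fun ξ =>
    classInner_char_nat (isCharacter_pullback (irr_isCharacter ξ) ι) hκ
  choose a ha using ha
  have hmψ : m ⟨ψ, hψ⟩ ≠ 0 := by
    intro h0
    have h := hm ⟨ψ, hψ⟩
    rw [h0, Nat.cast_zero, ← CfsgLib.Induction.classInner_indFun_right T ψ
      (irr_isClassFunction ⟨χ, hχ⟩), hind, classInner_irr_self hχ] at h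
    exact one_ne_zero h
  have hexp : (∑ ξ : IrrCharacter T, m ξ * a ξ : ℕ) = 1 := by
    have h : (fun u : U => χ ((u : N) : G)) =
        ∑ ξ : IrrCharacter T, (m ξ : ℂ) • fun u : U => (ξ : T → ℂ) (ι u) := by
      funext u
      have := congrFun hsum (ι u)
      simp only [Finset.sum_apply, Pi.smul_apply, smul_eq_mul] at this ⊢
      exact this
    rw [h, classInner_sum_left, Finset.sum_congr rfl fun ξ _ => by
      rw [classInner_smul_left, ha ξ]] at hresU
    exact_mod_cast hresU
  have haψ : a ⟨ψ, hψ⟩ ≠ 0 := by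
    intro h0
    have h := ha ⟨ψ, hψ⟩
    rw [h0, Nat.cast_zero] at h
    obtain ⟨j, hj, hjsum⟩ := exists_mult hκ
    obtain ⟨ξ, hξ⟩ := exists_constituent hκ fun hz => by
      obtain ⟨d, hd, hd1⟩ := irr_exists_degree hψ
      have h1 := congrFun hz 1
      simp only [hκdef, map_one, hd1, Pi.zero_apply, Nat.cast_eq_zero] at h1
      omega
    rw [show (fun u : U => ψ (ι u)) = κ from rfl] at h
    rw [classInner_eq_sum_mul (φ := κ) hκc, Finset.sum_congr rfl fun η _ => by
      rw [hj η, map_natCast]] at h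
    have h' : ∑ η : IrrCharacter U, j η * j η = 0 := by exact_mod_cast h
    exact hξ (by rw [hj ξ, mul_self_eq_zero.1 (Finset.sum_eq_zero_iff.1 h' ξ (Finset.mem_univ _)),
      Nat.cast_zero])
  refine isIrr_of_norm_one hκ ?_
  have hle : m ⟨ψ, hψ⟩ * a ⟨ψ, hψ⟩ ≤ 1 := by
    rw [← hexp]
    exact Finset.single_le_sum (f := fun ξ => m ξ * a ξ) (fun _ _ => Nat.zero_le _)
      (Finset.mem_univ _)
  have h1 : a ⟨ψ, hψ⟩ = 1 := by
    have := Nat.mul_le_mul_right (a ⟨ψ, hψ⟩) (Nat.pos_of_ne_zero hmψ)
    omega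
  have h := ha ⟨ψ, hψ⟩
  rw [h1, Nat.cast_one] at h
  exact h

/-- A character irreducible on a solvable normal subgroup with abelian Sylow subgroups is
monomial. -/
theorem monomial_of_res_irr : ∀ (n : ℕ) (G : Type u) [Group G] [Fintype G], Nat.card G = n →
    ∀ (N : Subgroup G) [N.Normal], Group.IsSolvable N →
    (∀ (p : ℕ) [Fact p.Prime] (P : Sylow p N), ∀ a ∈ P, ∀ b ∈ P, a * b = b * a) →
    ∀ χ : G → ℂ, IsIrrCharacter G χ → IsIrrCharacter N (fun x : N => χ x) →
      ∃ (H : Subgroup G) (lam : H →* ℂˣ), χ = indFun H (fun h => (lam h : ℂ)) := by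
  intro n
  induction n using Nat.strong_induction_on with
  | _ n ih =>
    intro G _ _ hn N hNn hsol hab χ hχ hres
    classical
    obtain ⟨d, ρ, hρ, rfl⟩ := hχ
    haveI := hρ
    have hχ : IsIrrCharacter G ρ.character := ⟨d, ρ, hρ, rfl⟩
    let S : Set N := {x | ∃ c : ℂ, ρ (x : G) = c • (1 : Module.End ℂ (Fin d → ℂ))}
    -- the last derived subgroup not acting by scalars
    have hex : ∃ k, ∀ x ∈ derivedSeries N k, x ∈ S := by
      obtain ⟨k, hk⟩ := (Group.isSolvable_def N).1 hsol
      refine ⟨k, fun x hx => ?_⟩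
      rw [hk, Subgroup.mem_bot] at hx
      exact ⟨1, by rw [hx, one_smul]; exact map_one ρ⟩
    have hsc : ∀ (x : G) (y : Module.End ℂ (Fin d → ℂ)) (c : ℂ),
        ρ x = c • (1 : Module.End ℂ (Fin d → ℂ)) → ρ x * y = y * ρ x := fun x y c hc => by
      rw [hc, smul_mul_assoc, one_mul, mul_smul_comm, mul_one]
    have hcomm_deg : ∀ {A : Subgroup G}, (∀ x ∈ A, ∀ y ∈ A, ρ x * ρ y = ρ y * ρ x) →
        ∀ a b : A, ρ.character ((a * b * (b * a)⁻¹ : A) : G) = ρ.character ((1 : A) : G) := by
      intro A hA a b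
      show LinearMap.trace ℂ _ (ρ ((a : G) * b * ((b : G) * a)⁻¹)) = LinearMap.trace ℂ _ (ρ 1)
      rw [map_mul, show ρ ((a : G) * b) = ρ ((b : G) * a) by
        rw [map_mul, map_mul, hA a a.2 b b.2], ← map_mul, mul_inv_cancel]
    cases hk : Nat.find hex with
    | zero =>
      have h0 := Nat.find_spec hex
      rw [hk, derivedSeries_zero] at h0
      have hd1 : ρ.character 1 = 1 := by
        refine CfsgLib.CharMonomial.degree_one_of_commutator (θ := fun x : N => ρ.character x) hres ?_
        exact hcomm_deg fun x hx y _ => by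
          obtain ⟨c, hc⟩ := h0 ⟨x, hx⟩ (Subgroup.mem_top _)
          exact hsc x _ c hc
      exact CfsgLib.CharMonomial.monomial_of_degree_one (isCharacter_of_irr hχ) hd1
    | succ k =>
    have hk1 := Nat.find_spec hex
    rw [hk] at hk1
    have hk0 : ¬ ∀ x ∈ derivedSeries N k, x ∈ S := Nat.find_min hex (by omega)
    let D : Subgroup N := derivedSeries N k
    let A : Subgroup G := D.map N.subtype
    have hA : A.Normal := inferInstance
    -- `ρ` is commutative on `A`
    let f : A →* (Module.End ℂ (Fin d → ℂ))ˣ := ρ.asGroupHom.comp A.subtype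
    have hf : ∀ a : A, ((f a : (Module.End ℂ (Fin d → ℂ))ˣ) : Module.End ℂ (Fin d → ℂ)) = ρ (a : G) :=
      fun _ => rfl
    have : Group.IsNilpotent f.range := by
      refine isNilpotent_of_commutator_central ?_
      rintro ⟨_, a, rfl⟩ ⟨_, b, rfl⟩
      refine Subgroup.mem_center_iff.2 fun z => ?_
      obtain ⟨_, c, rfl⟩ := z
      obtain ⟨a', ha', hae⟩ := a.2
      obtain ⟨b', hb', hbe⟩ := b.2
      have hcS : a' * b' * (b' * a')⁻¹ ∈ S := by
        refine hk1 _ ?_
        rw [derivedSeries_succ]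
        have := Subgroup.commutator_mem_commutator ha' hb'
        rw [commutatorElement_def] at this
        simpa [mul_assoc] using this
      obtain ⟨s, hs⟩ := hcS
      refine Subtype.ext (Units.ext ?_)
      show ((f c : (Module.End ℂ (Fin d → ℂ))ˣ) : Module.End ℂ (Fin d → ℂ)) *
          ((f a * f b * (f b * f a)⁻¹ : (Module.End ℂ (Fin d → ℂ))ˣ) : Module.End ℂ (Fin d → ℂ)) =
        ((f a * f b * (f b * f a)⁻¹ : (Module.End ℂ (Fin d → ℂ))ˣ) : Module.End ℂ (Fin d → ℂ)) *
          ((f c : (Module.End ℂ (Fin d → ℂ))ˣ) : Module.End ℂ (Fin d → ℂ))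
      rw [← map_mul, ← map_mul, ← map_inv, ← map_mul, hf, hf]
      refine (hsc _ _ s ?_).symm
      convert hs using 2
      rw [Subgroup.coe_mul, Subgroup.coe_inv, Subgroup.coe_mul, Subgroup.coe_mul, ← hae, ← hbe]
      simp
    have hcommA : ∀ x ∈ A, ∀ y ∈ A, ρ x * ρ y = ρ y * ρ x := by
      intro x hx y hy
      have hN' : ∀ a : A, (a : G) ∈ N := fun a => Subgroup.map_subtype_le D a.2
      let i : A →* N :=
        { toFun := fun a => ⟨(a : G), hN' a⟩, map_one' := rfl, map_mul' := fun _ _ => rfl }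
      have hi : Function.Injective i := fun a b h => Subtype.ext (congrArg (fun z : N => (z : G)) h)
      have h := comm_of_sylow_comm (fun p _ P => sylow_comm_of_injective hab i hi p P)
        f.rangeRestrict f.rangeRestrict_surjective (f.rangeRestrict ⟨x, hx⟩) (f.rangeRestrict ⟨y, hy⟩)
      exact congrArg (fun z : f.range => ((z : (Module.End ℂ (Fin d → ℂ))ˣ) :
        Module.End ℂ (Fin d → ℂ))) h
    have : Fintype A := Fintype.ofFinite A
    have hresA := isCharacter_subtype (isCharacter_of_irr hχ) A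
    obtain ⟨θ, hθ⟩ := exists_constituent hresA
      (fun h => irr_one_ne_zero ⟨ρ.character, hχ⟩ (congrFun h 1))
    have hθ1 : (θ : A → ℂ) 1 = 1 :=
      CfsgLib.CharMonomial.degree_one_of_commutator θ.2 fun x y =>
        CfsgLib.CharMonomial.constituent_eq_degree hresA hθ (hcomm_deg hcommA x y)
    let T := inertia hA (θ : A → ℂ)
    have : Fintype T := Fintype.ofFinite T
    have hAT : A ≤ T := le_inertia hA (irr_isClassFunction θ)
    have hT : T ≠ ⊤ := by
      intro hT
      apply hk0
      intro x hx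
      have hxA : (x : G) ∈ A := ⟨x, hx, rfl⟩
      have hclif := clifford hA hχ θ.2 hθ
      have horb : (conjOrbit_finite hA (θ : A → ℂ)).toFinset = {(θ : A → ℂ)} := by
        refine Finset.eq_singleton_iff_unique_mem.2 ⟨?_, ?_⟩
        · exact (Set.Finite.mem_toFinset _).2 ⟨1, (conjChar_one hA _).symm⟩
        · intro ψ hψ
          obtain ⟨g, rfl⟩ := (Set.Finite.mem_toFinset _).1 hψ
          exact funext (mem_inertia.1 (show g ∈ T from hT ▸ Subgroup.mem_top g))
      rw [horb, Finset.sum_singleton] at hclif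
      refine (norm_char_eq_iff_scalar ρ (x : G)).1 ?_
      have h1 := congrFun hclif ⟨x, hxA⟩
      have h2 := congrFun hclif 1
      simp only [Pi.smul_apply, smul_eq_mul] at h1 h2
      rw [hθ1, mul_one] at h2
      rw [← h2] at h1
      change ρ.character (x : G) = ρ.character 1 * _ at h1
      have hroot : ‖(θ : A → ℂ) ⟨x, hxA⟩‖ = 1 := by
        let l := CfsgLib.CharIto.linearHom (irr_isCharacter θ) hθ1
        refine Complex.norm_eq_one_of_pow_eq_one (n := Nat.card A) ?_ Nat.card_pos.ne'
        show (l ⟨x, hxA⟩ : ℂ) ^ Nat.card A = 1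
        rw [← Units.val_pow_eq_pow_val, ← map_pow, pow_card_eq_one', map_one, Units.val_one]
      rw [h1, norm_mul, hroot, mul_one, Representation.char_one, Complex.norm_natCast]
    obtain ⟨ψ, hψ, hind, -⟩ := correspondence hA θ.2 T rfl hAT hχ hθ
    -- `N` is transitive on the constituents
    have hNT : ∀ x : G, ∃ m ∈ N, m⁻¹ * x ∈ T := by
      intro x
      let A' : Subgroup N := A.subgroupOf N
      have hA' : A'.Normal := hA.subgroupOf N
      let e : A' ≃* A := Subgroup.subgroupOfEquivOfLe (Subgroup.map_subtype_le D)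
      have : Fintype A' := Fintype.ofFinite _
      have : Fintype N := Fintype.ofFinite _
      have hirr : ∀ φ : A → ℂ, IsIrrCharacter A φ → IsIrrCharacter A' (fun a => φ (e a)) :=
        fun φ h => isIrrCharacter_pullback h e.toMonoidHom e.surjective
      have hin : ∀ φ : A → ℂ,
          classInner (fun a : A' => ρ.character ((a : N) : G)) (fun a => φ (e a)) =
          classInner (fun a : A => ρ.character (a : G)) φ := by
        intro φ
        unfold Cfsg.classInner
        rw [Nat.card_congr e.toEquiv]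
        congr 1
        exact Fintype.sum_equiv e.toEquiv _ _ fun a => rfl
      obtain ⟨m, hm⟩ := exists_conj_of_constituent hA' hres (hirr _ θ.2)
        (hirr _ (isIrrCharacter_conjChar hA θ.2 x⁻¹)) (by rw [hin]; exact hθ)
        (by rw [hin, classInner_res_conjChar hA (irr_isClassFunction ⟨_, hχ⟩)]; exact hθ)
      have hxm : x⁻¹ * (m : G)⁻¹ ∈ T := mem_inertia.2 fun a => by
        set a' : A := ⟨(m : G)⁻¹ * a * (m : G), hA.conj_mem' _ a.2 _⟩ with ha'
        have h1 := congrFun hm (e.symm a')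
        simp only [MulEquiv.apply_symm_apply] at h1
        refine Eq.trans ?_ (h1.trans ?_)
        · refine congrArg (θ : A → ℂ) (Subtype.ext ?_)
          show x⁻¹ * (m : G)⁻¹ * a * (x⁻¹ * (m : G)⁻¹)⁻¹ =
            x⁻¹ * ((m : G)⁻¹ * a * (m : G)) * x⁻¹⁻¹
          group
        · show (θ : A → ℂ) (e _) = _
          refine congrArg (θ : A → ℂ) (Subtype.ext ?_)
          show (m : G) * ((m : G)⁻¹ * a * (m : G)) * (m : G)⁻¹ = a
          group
      refine ⟨(m : G)⁻¹, N.inv_mem m.2, ?_⟩
      have h := T.inv_mem hxm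
      rwa [mul_inv_rev, inv_inv, inv_inv, ← inv_inv (m : G)] at h
    have hU := irr_res_of_supplement N T hNT hres hχ hψ hind
    let U : Subgroup T := N.subgroupOf T
    have hlt : Nat.card T < n :=
      hn ▸ lt_of_le_of_ne T.card_le_card_group fun h => hT (T.eq_top_of_card_eq h)
    let i : U →* N :=
      { toFun := fun u => ⟨((u : T) : G), u.2⟩, map_one' := rfl, map_mul' := fun _ _ => rfl }
    have hi : Function.Injective i := fun a b h =>
      Subtype.ext (Subtype.ext (congrArg (fun z : N => (z : G)) h))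
    haveI := hsol
    let j : U ≃* T.subgroupOf N :=
      { toFun := fun u => ⟨⟨((u : T) : G), u.2⟩, (u : T).2⟩
        invFun := fun u => ⟨⟨((u : N) : G), u.2⟩, (u : N).2⟩
        left_inv := fun _ => rfl, right_inv := fun _ => rfl, map_mul' := fun _ _ => rfl }
    obtain ⟨H, lam, hH⟩ := CfsgLib.CharMonomial.exists_monomial_of_indFun T
      (ih _ hlt T rfl U (Group.isSolvable_of_isSolvable_injective (f := i) hi)
        (fun p _ P => sylow_comm_of_injective hab i hi p P) ψ hψ
        (isIrrCharacter_pullback hU j.toMonoidHom j.surjective))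
    exact ⟨H, lam, hind.symm.trans hH⟩

end CfsgLib.RelMonomial
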