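import Cfsg.Agent.Lib.Characters.LinearTwist
import Cfsg.Prelude.Def_Transfer
import Mathlib.GroupTheory.FiniteAbelian.Duality
import Mathlib.RingTheory.IntegralDomain
import Mathlib.RingTheory.RootsOfUnity.AlgebraicallyClosed

/-!
# Strongly real characters of an odd elementary abelian group extended by a 2-group
-/

set_option autoImplicit false
set_option linter.unusedSectionVars false
set_option linter.style.haveILetI false

namespace CfsgLib.SemiTwoStrong

open Cfsg CfsgLib.Characters CfsgLib.Clifford CfsgLib.LinearTwist CfsgLib.FrobSchur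

universe u

variable {G : Type u} [Group G] [Finite G]

/-- Decomposition of elements of `N ⊔ H` for `N` normal and disjoint from `H`. -/
theorem exists_decomp {N H : Subgroup G} [N.Normal] {x : G} (hx : x ∈ N ⊔ H) :
    ∃ (n : N) (h : H), (n : G) * h = x := by
  obtain ⟨n, hn, h, hh, rfl⟩ := Subgroup.mem_sup_of_normal_left.mp hx
  exact ⟨⟨n, hn⟩, ⟨h, hh⟩, rfl⟩

theorem decomp_unique {N H : Subgroup G} (hd : N ⊓ H = ⊥) {n n' : N} {h h' : H}
    (he : (n : G) * h = n' * h') : n = n' ∧ h = h' := by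
  have h1 : (n' : G)⁻¹ * n = h' * (h : G)⁻¹ := by
    rw [eq_mul_inv_iff_mul_eq, mul_assoc, he, inv_mul_cancel_left]
  have h2 : (n' : G)⁻¹ * n ∈ N ⊓ H :=
    ⟨N.mul_mem (N.inv_mem n'.2) n.2, h1 ▸ H.mul_mem h'.2 (H.inv_mem h.2)⟩
  rw [hd, Subgroup.mem_bot, inv_mul_eq_one] at h2
  refine ⟨Subtype.ext h2.symm, Subtype.ext ?_⟩
  rw [h2] at he
  exact mul_left_cancel he

/-- A homomorphism on `N ⊔ H` from compatible homomorphisms on the factors. -/
theorem exists_hom_sup {N H : Subgroup G} [N.Normal] (hd : N ⊓ H = ⊥) {A : Type*} [CommGroup A]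
    (a : N →* A) (b : H →* A)
    (hcomp : ∀ (h : H) (n : N), a (MulAut.conjNormal (h : G) n) = a n) :
    ∃ f : (N ⊔ H : Subgroup G) →* A, ∀ (n : N) (h : H) (x : (N ⊔ H : Subgroup G)),
      (x : G) = (n : G) * h → f x = a n * b h := by
  choose n h hnh using fun x : (N ⊔ H : Subgroup G) => exists_decomp x.2
  let F : (N ⊔ H : Subgroup G) → A := fun x => a (n x) * b (h x)
  have hF : ∀ (m : N) (k : H) (x : (N ⊔ H : Subgroup G)), (x : G) = (m : G) * k →
      F x = a m * b k := by
    intro m k x hx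
    obtain ⟨h1, h2⟩ := decomp_unique hd ((hnh x).trans hx)
    simp only [F, h1, h2]
  have hmul : ∀ x y, F (x * y) = F x * F y := by
    intro x y
    rw [hF (n x * MulAut.conjNormal (h x : G) (n y)) (h x * h y) (x * y), map_mul, map_mul, hcomp,
      mul_mul_mul_comm]
    simp only [Subgroup.coe_mul, MulAut.conjNormal_apply]
    rw [← hnh x, ← hnh y]
    group
  exact ⟨MonoidHom.mk' F hmul, hF⟩

/-- A hom squaring to one kills a group of odd order. -/
theorem hom_trivial_of_odd {X : Type*} [Group X] {q : ℕ} (hq : Odd q) {x : X} (hx : x ^ q = 1)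
    (f : X →* ℂˣ) (h2 : f x ^ 2 = 1) : f x = 1 := by
  have h1 : f x ^ q = 1 := by rw [← map_pow, hx, map_one]
  obtain ⟨j, rfl⟩ := hq
  rwa [pow_succ, pow_mul, h2, one_pow, one_mul] at h1

theorem sq_of_fsInd_one (f : G →* ℂˣ) (h : fsInd (fun g => (f g : ℂ)) = 1) (g : G) :
    f g ^ 2 = 1 := by
  have hr := real_of_fsInd_ne_zero (isIrrCharacter_of_hom f) (by rw [h]; exact one_ne_zero)
  have h1 := irr_apply_inv ⟨_, isIrrCharacter_of_hom f⟩ g
  simp only [Complex.conj_eq_iff_im.mpr (hr g)] at h1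
  have h2 : f g⁻¹ = f g := Units.ext h1
  rw [map_inv] at h2
  rw [sq]
  nth_rw 1 [← h2]
  exact inv_mul_cancel _

theorem main (N P : Subgroup G) (hN : N.Normal) (q : ℕ) [Fact q.Prime] (hq : q ≠ 2)
    (hNel : Cfsg.IsElementaryAbelian q N) (hP : IsPGroup 2 P) (hP1 : P ≠ ⊥) (hdisj : N ⊓ P = ⊥)
    (hprod : N ⊔ P = ⊤) (hmin : N ≠ ⊥ ∧ ∀ M : Subgroup G, M.Normal → M ≠ ⊥ → N ≤ M) :
    4 * Nat.card {χ : IrrCharacter G //
      (charDegree (χ : G → ℂ) = 1 ∨ 2 ∣ charDegree (χ : G → ℂ)) ∧ fsInd (χ : G → ℂ) = 1} ≤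
    3 * (∑ᶠ χ : {χ : IrrCharacter G //
      (charDegree (χ : G → ℂ) = 1 ∨ 2 ∣ charDegree (χ : G → ℂ)) ∧ fsInd (χ : G → ℂ) = 1},
      charDegree (χ.1 : G → ℂ)) := by
  classical
  haveI := hN
  haveI := Fintype.ofFinite G
  haveI := Fintype.ofFinite N
  obtain ⟨hcomm, hexp⟩ := hNel
  have hqodd : Odd q := (Fact.out : q.Prime).odd_of_ne_two hq
  have hNcomm : ∀ a ∈ N, ∀ b ∈ N, a * b = b * a := fun a ha b hb =>
    congrArg Subtype.val (hcomm.is_comm.comm (⟨a, ha⟩ : N) ⟨b, hb⟩)
  -- a central involution of `P`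
  haveI : Nontrivial P := (Subgroup.nontrivial_iff_ne_bot P).mpr hP1
  haveI : Nontrivial (Subgroup.center P) := hP.center_nontrivial
  obtain ⟨z₀, hz₀⟩ := exists_prime_orderOf_dvd_card' (G := Subgroup.center P) 2 (by
    obtain ⟨k, hk⟩ := IsPGroup.iff_card.mp (hP.to_subgroup (Subgroup.center P))
    rcases k with _ | k
    · exact absurd hk (Finite.one_lt_card (α := Subgroup.center P)).ne'
    · rw [hk]; exact dvd_pow_self 2 (Nat.succ_ne_zero k))
  set z : G := ((z₀ : P) : G) with hz
  have hzP : z ∈ P := (z₀ : P).2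
  have hzord : orderOf z = 2 := by
    rw [hz, Subgroup.orderOf_coe, Subgroup.orderOf_coe, hz₀]
  have hzz : z * z = 1 := by rw [← sq, ← hzord, pow_orderOf_eq_one]
  have hzinv : z⁻¹ = z := inv_eq_of_mul_eq_one_right hzz
  have hzc : ∀ p ∈ P, p * z = z * p := fun p hp =>
    congrArg Subtype.val (Subgroup.mem_center_iff.mp z₀.2 (⟨p, hp⟩ : P))
  have hzfix : ∀ n ∈ N, z * n = n * z → n = 1 := by
    set C := N ⊓ Subgroup.centralizer ({z} : Set G) with hC
    have hCn : C.Normal := by
      refine ⟨fun c hc g => ⟨hN.conj_mem c hc.1 g, ?_⟩⟩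
      obtain ⟨n, p, hnp⟩ := exists_decomp (N := N) (H := P) (x := g) (by rw [hprod]; trivial)
      show g * c * g⁻¹ ∈ Subgroup.centralizer ({z} : Set G)
      rw [Subgroup.mem_centralizer_singleton_iff, ← hnp]
      have h1 : (p : G) * c * (p : G)⁻¹ ∈ N := hN.conj_mem c hc.1 p
      have h2 : (n : G) * p * c * ((n : G) * p)⁻¹ = (p : G) * c * (p : G)⁻¹ := by
        calc (n : G) * p * c * ((n : G) * p)⁻¹ = (n : G) * ((p : G) * c * (p : G)⁻¹) * (n : G)⁻¹ := by
              group
          _ = (p : G) * c * (p : G)⁻¹ := by rw [hNcomm _ n.2 _ h1, mul_inv_cancel_right]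
      rw [h2]
      have h3 : c * z = z * c := Subgroup.mem_centralizer_singleton_iff.mp hc.2
      have h4 := hzc p p.2
      have h5 := hzc _ (P.inv_mem p.2)
      calc (p : G) * c * (p : G)⁻¹ * z = (p : G) * c * ((p : G)⁻¹ * z) := by group
        _ = (p : G) * (c * z) * (p : G)⁻¹ := by rw [h5]; group
        _ = (p : G) * z * c * (p : G)⁻¹ := by rw [h3]; group
        _ = z * ((p : G) * c * (p : G)⁻¹) := by rw [h4]; group
    intro n hn hcz
    by_contra hn1
    have hCne : C ≠ ⊥ := fun hb => hn1 (by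
      have : n ∈ C := ⟨hn, Subgroup.mem_centralizer_singleton_iff.mpr hcz.symm⟩
      rwa [hb, Subgroup.mem_bot] at this)
    have hNC : ∀ m ∈ N, m * z = z * m := fun m hm =>
      Subgroup.mem_centralizer_singleton_iff.mp ((hmin.2 C hCn hCne) hm).2
    have hzn : (Subgroup.zpowers z).Normal := by
      refine ⟨fun x hx g => ?_⟩
      obtain ⟨m, p, hmp⟩ := exists_decomp (N := N) (H := P) (x := g) (by rw [hprod]; trivial)
      have hgz : g * z = z * g := by
        rw [← hmp, mul_assoc, hzc p p.2, ← mul_assoc, hNC m m.2, mul_assoc]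
      obtain ⟨k, rfl⟩ := Subgroup.mem_zpowers_iff.mp hx
      rw [((show Commute g z from hgz).zpow_right k).eq, mul_inv_cancel_right]
      exact Subgroup.zpow_mem_zpowers z k
    have hle := hmin.2 _ hzn (by rw [Ne, Subgroup.zpowers_eq_bot]; intro h; rw [h, orderOf_one] at hzord; omega)
    obtain ⟨m, hmN, hm1⟩ := (Subgroup.bot_or_exists_ne_one N).resolve_left hmin.1
    obtain ⟨k, hk⟩ := Subgroup.mem_zpowers_iff.mp (hle hmN)
    have h6 : m ^ 2 = 1 := by
      rw [← hk, ← zpow_natCast, ← zpow_mul, mul_comm, zpow_mul, zpow_natCast, sq, hzz, one_zpow]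
    have h7 := hexp m hmN
    obtain ⟨j, hj⟩ := hqodd
    rw [hj, pow_succ, pow_mul, h6, one_pow, one_mul] at h7
    exact hm1 h7
  have hzconj : ∀ n : N, MulAut.conjNormal z n = n⁻¹ := by
    intro n
    have hm : z * n * z ∈ N := by simpa [hzinv] using hN.conj_mem n n.2 z
    have h1 := hzfix ((n : G) * (z * n * z)) (N.mul_mem n.2 hm) (by
      rw [hNcomm _ n.2 _ hm]
      calc z * (z * n * z * n) = (z * z) * n * z * n := by group
        _ = n * z * n := by rw [hzz, one_mul]
        _ = (z * n * z * n) * z := by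
          have := hNcomm _ n.2 _ hm
          rw [← this]
          calc (n : G) * z * n = n * z * n * (z * z) := by rw [hzz, mul_one]
            _ = (n : G) * (z * n * z) * z := by group)
    apply Subtype.ext
    rw [MulAut.conjNormal_apply, hzinv, Subgroup.coe_inv]
    exact (inv_eq_of_mul_eq_one_right h1).symm
  -- a nontrivial linear character of `N`
  letI : CommGroup N := { (inferInstance : Group N) with mul_comm := fun a b => hcomm.is_comm.comm a b }
  haveI : NeZero (Monoid.exponent N) := ⟨Monoid.exponent_ne_zero_of_finite⟩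
  haveI : HasEnoughRootsOfUnity ℂ (Monoid.exponent N) := inferInstance
  obtain ⟨m₀, hm₀N, hm₀⟩ := (Subgroup.bot_or_exists_ne_one N).resolve_left hmin.1
  obtain ⟨lam, hlam⟩ := CommGroup.exists_apply_ne_one_of_hasEnoughRootsOfUnity N ℂ
    (a := (⟨m₀, hm₀N⟩ : N)) (fun h => hm₀ (congrArg Subtype.val h))
  have hnn : ∀ n : N, n ^ q = 1 := fun n => Subtype.ext (by simpa using hexp n n.2)
  -- the stabiliser in `P`
  let H : Subgroup G :=
    { carrier := {p | p ∈ P ∧ ∀ n : N, lam (MulAut.conjNormal p n) = lam n}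
      one_mem' := ⟨P.one_mem, fun n => by rw [map_one]; rfl⟩
      mul_mem' := fun {a b} ha hb => ⟨P.mul_mem ha.1 hb.1, fun n => by
        rw [map_mul, MulAut.mul_apply, ha.2, hb.2]⟩
      inv_mem' := fun {a} ha => ⟨P.inv_mem ha.1, fun n => by
        conv_rhs => rw [← MulEquiv.apply_symm_apply (MulAut.conjNormal a) n, ha.2]
        rw [map_inv]; rfl⟩ }
  have hHP : H ≤ P := fun p hp => hp.1
  have hzH : z ∉ H := by
    intro hzH
    refine hlam (hom_trivial_of_odd hqodd (hnn _) lam ?_)
    have := hzH.2 ⟨m₀, hm₀N⟩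
    rw [hzconj, map_inv] at this
    rw [sq]
    nth_rw 1 [← this]
    exact inv_mul_cancel _
  have hd : N ⊓ H = ⊥ := le_bot_iff.mp ((inf_le_inf_left N hHP).trans hdisj.le)
  set T : Subgroup G := N ⊔ H with hTdef
  haveI := Fintype.ofFinite T
  haveI := Fintype.ofFinite H
  haveI := Fintype.ofFinite P
  have hTI : T = inertia hN (fun n : N => (lam n : ℂ)) := by
    ext g
    rw [mem_inertia]
    obtain ⟨n, p, hnp⟩ := exists_decomp (N := N) (H := P) (x := g) (by rw [hprod]; trivial)
    have hval : ∀ m : N, lam ⟨g * m * g⁻¹, hN.conj_mem m m.2 g⟩ =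
        lam (MulAut.conjNormal (p : G) m) := by
      intro m
      have : (⟨g * m * g⁻¹, hN.conj_mem m m.2 g⟩ : N) = n * MulAut.conjNormal (p : G) m * n⁻¹ := by
        apply Subtype.ext
        simp only [Subgroup.coe_mul, Subgroup.coe_inv, MulAut.conjNormal_apply, ← hnp]
        group
      rw [this, map_mul, map_mul, map_inv, mul_comm (lam n), mul_inv_cancel_right]
    constructor
    · intro hg m
      obtain ⟨n', h', hh⟩ := exists_decomp hg
      obtain ⟨-, hp'⟩ := decomp_unique hdisj (h := p) (h' := ⟨h', hHP h'.2⟩) (hnp.trans hh.symm)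
      rw [hval, hp']
      exact congrArg Units.val (h'.2.2 m)
    · intro hg
      rw [hTdef, ← hnp]
      exact Subgroup.mul_mem_sup n.2 ⟨p.2, fun m => by rw [← hval m]; exact Units.ext (hg m)⟩
  have hNT : N ≤ T := le_sup_left
  -- the extensions
  let R := {μ : H →* ℂˣ // μ ^ 2 = 1}
  choose θ hθ using fun μ : R => exists_hom_sup hd lam μ.1 (fun h n => h.2.2 n)
  have hθN : ∀ (μ : R) (n : N), (θ μ (Subgroup.inclusion hNT n) : ℂ) = (lam n : ℂ) := fun μ n => by
    rw [hθ μ n 1 _ (by simp), map_one, mul_one]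
  have hind := fun μ : R => indFun_irr_of_inertia hN (isIrrCharacter_of_hom lam) T hTI hNT
    (isIrrCharacter_of_hom (θ μ)) (hθN μ)
  have hidx : 2 ∣ T.index := by
    obtain ⟨a, ha⟩ : ∃ a, T.index = 2 ^ a := by
      obtain ⟨k, hk⟩ := IsPGroup.iff_card.mp hP
      have h1 : T.index ∣ N.index := Subgroup.index_dvd_of_le hNT
      have h2 : N.index = Nat.card P :=
        (Subgroup.isComplement'_of_disjoint_and_mul_eq_univ (disjoint_iff.mpr hdisj)
          (by rw [← Subgroup.normal_mul, hprod, Subgroup.coe_top])).symm.index_eq_card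
      rw [h2, hk] at h1
      obtain ⟨a, -, ha⟩ := (Nat.dvd_prime_pow Nat.prime_two).mp h1
      exact ⟨a, ha⟩
    rcases a with _ | a
    · exfalso
      rw [pow_zero, Subgroup.index_eq_one] at ha
      obtain ⟨n', h', hh⟩ := exists_decomp (N := N) (H := H) (x := z) (ha.symm ▸ Subgroup.mem_top z : z ∈ T)
      obtain ⟨-, hp'⟩ := decomp_unique hdisj (n := 1) (n' := n') (h := ⟨z, hzP⟩)
        (h' := ⟨h', hHP h'.2⟩) (by rw [Subgroup.coe_one, one_mul]; exact hh.symm)
      exact hzH (by rw [show z = (h' : G) from congrArg Subtype.val hp']; exact h'.2)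
    · exact ha ▸ dvd_pow_self 2 (Nat.succ_ne_zero a)
  -- the indicator
  have hν : ∀ μ : R, fsInd (indFun T (fun x => (θ μ x : ℂ))) = 1 := by
    intro μ
    set θ' : T → ℂ := fun x => (θ μ x : ℂ)
    have h1 : ∑ g : G, indFun T θ' (g * g) =
        (Nat.card T : ℂ)⁻¹ * ((Nat.card G : ℂ) * ∑ g : G, extendByZero T θ' (g * g)) := by
      simp only [CfsgLib.Induction.indFun_apply, ← Finset.mul_sum]
      rw [Finset.sum_comm]
      have : ∀ x : G, ∑ g : G, extendByZero T θ' (x⁻¹ * (g * g) * x) =
          ∑ g : G, extendByZero T θ' (g * g) := fun x =>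
        Fintype.sum_equiv (MulAut.conj x⁻¹).toEquiv _ _ fun g => by
          simp only [MulEquiv.toEquiv_eq_coe, EquivLike.coe_coe, MulAut.conj_apply, inv_inv]
          congr 1
          group
      rw [Finset.sum_congr rfl fun x _ => this x, Finset.sum_const, nsmul_eq_mul, Finset.card_univ,
        Nat.card_eq_fintype_card (α := G)]
    let e : N × P ≃ G := Equiv.ofBijective (fun x => (x.1 : G) * x.2)
      ⟨fun x y h => Prod.ext_iff.mpr (decomp_unique hdisj h),
        fun g => by
          obtain ⟨n, p, hnp⟩ := exists_decomp (N := N) (H := P) (x := g) (by rw [hprod]; trivial)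
          exact ⟨(n, p), hnp⟩⟩
    have h2 : ∀ p : P, ∑ n : N, extendByZero T θ' (((n : G) * p) * ((n : G) * p)) =
        if (p : G) * z ∈ H then (Nat.card N : ℂ) else 0 := by
      intro p
      have hsq : ∀ n : N, ((n : G) * p) * ((n : G) * p) =
          ((n * MulAut.conjNormal (p : G) n : N) : G) * ((p : G) * p) := by
        intro n
        simp only [Subgroup.coe_mul, MulAut.conjNormal_apply]
        group
      by_cases hp2 : (p : G) * p ∈ H
      · let φ : N →* ℂ := (Units.coeHom ℂ).comp (lam * lam.comp (MulAut.conjNormal (p : G)).toMonoidHom)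
        have hterm : ∀ n : N, extendByZero T θ' (((n : G) * p) * ((n : G) * p)) =
            (μ.1 ⟨_, hp2⟩ : ℂ) * φ n := by
          intro n
          have hmem : ((n * MulAut.conjNormal (p : G) n : N) : G) * ((p : G) * p) ∈ T :=
            Subgroup.mul_mem_sup (n * MulAut.conjNormal (p : G) n).2 hp2
          rw [hsq, CfsgLib.Induction.extendByZero_mem T θ' hmem]
          simp only [θ', hθ μ (n * MulAut.conjNormal (p : G) n) ⟨_, hp2⟩ ⟨_, hmem⟩ rfl, map_mul,
            Units.val_mul, φ, MonoidHom.comp_apply, MonoidHom.mul_apply, Units.coeHom_apply,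
            MulEquiv.coe_toMonoidHom]
          ring
        rw [Finset.sum_congr rfl fun n _ => hterm n, ← Finset.mul_sum, sum_hom_units]
        have hiff : φ = 1 ↔ (p : G) * z ∈ H := by
          constructor
          · intro hφ
            refine ⟨P.mul_mem p.2 hzP, fun n => ?_⟩
            have h3 := DFunLike.congr_fun hφ n
            simp only [φ, MonoidHom.comp_apply, MonoidHom.mul_apply, Units.coeHom_apply,
              MonoidHom.one_apply, MulEquiv.coe_toMonoidHom] at h3
            have h4 : lam (MulAut.conjNormal (p : G) n) = (lam n)⁻¹ :=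
              eq_inv_of_mul_eq_one_right (Units.ext h3)
            rw [map_mul, MulAut.mul_apply, hzconj, map_inv, map_inv, h4, inv_inv]
          · intro hpz
            ext n
            have h3 := hpz.2 n
            rw [map_mul, MulAut.mul_apply, hzconj, map_inv, map_inv] at h3
            simp only [φ, MonoidHom.comp_apply, MonoidHom.mul_apply, Units.coeHom_apply,
              MonoidHom.one_apply, MulEquiv.coe_toMonoidHom]
            rw [← h3, inv_mul_cancel, Units.val_one]
        by_cases hpz : (p : G) * z ∈ H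
        · rw [if_pos (hiff.mpr hpz), if_pos hpz]
          have h5 : (⟨_, hp2⟩ : H) = ⟨_, hpz⟩ ^ 2 := by
            apply Subtype.ext
            rw [Subgroup.coe_pow, sq]
            change (p : G) * p = (p : G) * z * ((p : G) * z)
            rw [mul_assoc (p : G) z, ← mul_assoc z, ← hzc p p.2, mul_assoc (p : G) z z, hzz, mul_one]
          rw [h5, map_pow, ← MonoidHom.pow_apply, μ.2, MonoidHom.one_apply, Units.val_one, one_mul,
            Nat.card_eq_fintype_card]
        · rw [if_neg (fun h => hpz (hiff.mp h)), if_neg hpz, Nat.cast_zero, mul_zero]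
      · have hpz : (p : G) * z ∉ H := fun h => hp2 (by
          have := H.mul_mem h h
          rwa [mul_assoc (p : G) z, ← mul_assoc z, ← hzc p p.2, mul_assoc (p : G) z z, hzz,
            mul_one] at this)
        rw [if_neg hpz]
        refine Finset.sum_eq_zero fun n _ => CfsgLib.Induction.extendByZero_notMem T θ' ?_
        rw [hsq]
        intro hmem
        obtain ⟨n', h', hh⟩ := exists_decomp hmem
        obtain ⟨-, hp'⟩ := decomp_unique hdisj (h := ⟨(p : G) * p, P.mul_mem p.2 p.2⟩)
          (h' := ⟨h', hHP h'.2⟩) hh.symm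
        exact hp2 (by rw [show (p : G) * p = (h' : G) from congrArg Subtype.val hp']; exact h'.2)
    have h3 : ∑ g : G, extendByZero T θ' (g * g) = (Nat.card T : ℂ) := by
      rw [← e.sum_comp, Fintype.sum_prod_type_right]
      change ∑ p : P, ∑ n : N, extendByZero T θ' (((n : G) * p) * ((n : G) * p)) = _
      rw [Finset.sum_congr rfl fun p _ => h2 p, ← Finset.sum_filter, Finset.sum_const,
        nsmul_eq_mul]
      have hc : (Finset.univ.filter fun p : P => (p : G) * z ∈ H).card = Nat.card H := by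
        rw [← Fintype.card_subtype, ← Nat.card_eq_fintype_card]
        exact Nat.card_congr
          { toFun := fun p => ⟨_, p.2⟩
            invFun := fun h => ⟨⟨(h : G) * z, P.mul_mem (hHP h.2) hzP⟩, by
              rw [mul_assoc, hzz, mul_one]; exact h.2⟩
            left_inv := fun p => by
              apply Subtype.ext; apply Subtype.ext
              change ((p.1 : P) : G) * z * z = _
              rw [mul_assoc, hzz, mul_one]
            right_inv := fun h => by
              apply Subtype.ext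
              change (h : G) * z * z = _
              rw [mul_assoc, hzz, mul_one] }
      have hT : Nat.card T = Nat.card N * Nat.card H := by
        rw [← Nat.card_prod]
        refine (Nat.card_eq_of_bijective (fun x : N × H =>
          (⟨(x.1 : G) * x.2, Subgroup.mul_mem_sup x.1.2 x.2.2⟩ : T)) ⟨?_, ?_⟩).symm
        · intro x y h
          exact Prod.ext_iff.mpr (decomp_unique hd (congrArg Subtype.val h))
        · rintro ⟨g, hg⟩
          obtain ⟨n, h, hh⟩ := exists_decomp hg
          exact ⟨(n, h), Subtype.ext hh⟩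
      rw [hc, hT]
      push_cast
      ring
    rw [fsInd_eq_sum, h1, h3]
    have := natCard_cast_ne_zero (G := G)
    have := natCard_cast_ne_zero (G := T)
    field_simp
  -- counting
  set S := Finset.univ.filter (fun χ : IrrCharacter G =>
    (charDegree (χ : G → ℂ) = 1 ∨ 2 ∣ charDegree (χ : G → ℂ)) ∧ fsInd (χ : G → ℂ) = 1) with hS
  rw [Nat.card_eq_fintype_card, Fintype.card_subtype, finsum_eq_sum_of_fintype,
    ← Finset.sum_subtype (p := fun χ : IrrCharacter G =>
      (charDegree (χ : G → ℂ) = 1 ∨ 2 ∣ charDegree (χ : G → ℂ)) ∧ fsInd (χ : G → ℂ) = 1) S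
      (fun x => by simp [hS]) (fun χ => charDegree (χ : G → ℂ)), ← hS]
  let ι : R → IrrCharacter G := fun μ => ⟨_, (hind μ).1⟩
  have hdeg : ∀ μ : R, charDegree ((ι μ : IrrCharacter G) : G → ℂ) = T.index := fun μ =>
    charDegree_eq_of_apply_one ((hind μ).2.1.trans (by simp))
  have hιinj : Function.Injective ι := by
    intro μ μ' h
    have h1 := (hind μ').2.2.2 _ (isIrrCharacter_of_hom (θ μ)) (hθN μ)
      (congrArg Subtype.val h)
    refine Subtype.ext (MonoidHom.ext fun k => Units.ext ?_)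
    have h2 := congrFun h1 ⟨(k : G), Subgroup.mem_sup_right k.2⟩
    rwa [hθ μ 1 k _ (by simp), hθ μ' 1 k _ (by simp), map_one, one_mul, one_mul] at h2
  haveI : Fintype R := Fintype.ofFinite R
  set I := Finset.univ.image ι
  have hIcard : I.card = Nat.card R := by
    rw [Finset.card_image_of_injective _ hιinj, Finset.card_univ, Nat.card_eq_fintype_card]
  have hm2 : 2 ≤ T.index := Nat.le_of_dvd
    (Nat.pos_of_ne_zero Subgroup.index_ne_zero_of_finite) hidx
  have hIdeg : ∀ χ ∈ I, charDegree (χ : G → ℂ) = T.index := by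
    intro χ hχ
    obtain ⟨μ, -, rfl⟩ := Finset.mem_image.mp hχ
    exact hdeg μ
  have hIS : I ⊆ S.filter (fun χ : IrrCharacter G => charDegree (χ : G → ℂ) ≠ 1) := by
    intro χ hχ
    obtain ⟨μ, -, rfl⟩ := Finset.mem_image.mp hχ
    simp only [hS, Finset.mem_filter, Finset.mem_univ, true_and]
    exact ⟨⟨Or.inr (hdeg μ ▸ hidx), hν μ⟩, by rw [hdeg μ]; omega⟩
  -- linear ones
  have hL : (S.filter (fun χ : IrrCharacter G => charDegree (χ : G → ℂ) = 1)).card ≤ T.index * Nat.card R := by
    let L := {χ : IrrCharacter G // χ ∈ S.filter (fun χ : IrrCharacter G => charDegree (χ : G → ℂ) = 1)}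
    have hLd : ∀ χ : L, charDegree (χ.1 : G → ℂ) = 1 := fun χ => (Finset.mem_filter.mp χ.2).2
    choose f hf using fun χ : L => exists_hom_of_charDegree_one (irr_isCharacter χ.1) (hLd χ)
    have hf2 : ∀ (χ : L) (g : G), f χ g ^ 2 = 1 := fun χ g => by
      refine sq_of_fsInd_one (f χ) ?_ g
      rw [← hf χ]
      exact (Finset.mem_filter.mp (Finset.mem_filter.mp χ.2).1).2.2
    let r : L → R := fun χ => ⟨(f χ).comp H.subtype, MonoidHom.ext fun h => hf2 χ h⟩
    refine le_trans (le_of_eq (Nat.card_eq_finsetCard _).symm) (card_le_mul_of_fibres r _ fun b => ?_)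
    rcases isEmpty_or_nonempty {a // r a = b} with he | ⟨⟨a₀, ha₀⟩⟩
    · simp
    have hTker : ∀ a : {a // r a = b}, ∀ x ∈ T, (f a.1 / f a₀) x = 1 := by
      intro a x hx
      obtain ⟨n, h, rfl⟩ := exists_decomp hx
      have h1 : ∀ χ : L, f χ (n : G) = 1 := fun χ =>
        hom_trivial_of_odd hqodd (hexp n n.2) (f χ) (hf2 χ n)
      have h2 : f a.1 (h : G) = f a₀ (h : G) :=
        DFunLike.congr_fun (congrArg Subtype.val (a.2.trans ha₀.symm)) h
      simp [h1, h2]
    refine le_trans (Nat.card_le_card_of_injective (fun a : {a // r a = b} =>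
      (⟨f a.1 / f a₀, hTker a⟩ : {g : G →* ℂˣ // ∀ x ∈ T, g x = 1})) ?_) (card_hom_trivial_le T)
    intro a c hac
    have h3 : f a.1 = f c.1 := div_left_injective (congrArg Subtype.val hac)
    exact Subtype.ext (Subtype.ext (Subtype.ext (by rw [hf a.1, hf c.1, h3])))
  -- arithmetic
  set L1 := S.filter (fun χ : IrrCharacter G => charDegree (χ : G → ℂ) = 1)
  set L2 := S.filter (fun χ : IrrCharacter G => charDegree (χ : G → ℂ) ≠ 1)
  have hsplit : L1.card + L2.card = S.card := Finset.card_filter_add_card_filter_not _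
  have hsum : ∑ χ ∈ L1, charDegree (χ : G → ℂ) + ∑ χ ∈ L2, charDegree (χ : G → ℂ) =
      ∑ χ ∈ S, charDegree (χ : G → ℂ) := Finset.sum_filter_add_sum_filter_not _ _ _
  have hs1 : ∑ χ ∈ L1, charDegree (χ : G → ℂ) = L1.card := by
    rw [Finset.sum_congr rfl fun χ hχ => (Finset.mem_filter.mp hχ).2, Finset.sum_const,
      smul_eq_mul, mul_one]
  have hge : ∀ χ ∈ L2, 2 ≤ charDegree (χ : G → ℂ) := by
    intro χ hχ
    obtain ⟨hχS, hne⟩ := Finset.mem_filter.mp hχ
    rcases (Finset.mem_filter.mp hχS).2.1 with h | h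
    · exact absurd h hne
    · obtain ⟨n, hn, h'⟩ := irr_exists_degree χ.2
      exact Nat.le_of_dvd (by rw [charDegree_eq_of_apply_one h']; exact hn) h
  have hs2 : ∑ χ ∈ L2, (4 + if χ ∈ I then T.index else 0) ≤
      ∑ χ ∈ L2, 3 * charDegree (χ : G → ℂ) := by
    refine Finset.sum_le_sum fun χ hχ => ?_
    have := hge χ hχ
    split_ifs with h
    · rw [hIdeg χ h]; omega
    · omega
  rw [Finset.sum_add_distrib, Finset.sum_const, smul_eq_mul, ← Finset.mul_sum,
    Finset.sum_ite_mem, Finset.inter_eq_right.mpr hIS, Finset.sum_const, smul_eq_mul, hIcard] at hs2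
  rw [mul_comm] at hL
  omega

end CfsgLib.SemiTwoStrong
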