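import Cfsg.Agent.Lib.Characters.BrauerInduction
import Cfsg.Agent.Lib.Characters.Equivalence
import Mathlib.RingTheory.RootsOfUnity.Complex
import Mathlib.FieldTheory.IntermediateField.Adjoin.Basic

/-!
# Brauer's splitting field theorem
-/

set_option autoImplicit false
set_option linter.style.haveILetI false

namespace CfsgLib.SplittingField

open Cfsg Representation CfsgLib.Characters
open scoped ComplexConjugate

universe u v

variable {G : Type u} [Group G] (K : IntermediateField ℚ ℂ)

/-- A class function afforded by matrices over `K`. -/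
def Realized (χ : G → ℂ) : Prop :=
  ∃ (n : ℕ) (R : G →* Matrix (Fin n) (Fin n) K), χ = fun g => (((R g).trace : K) : ℂ)

theorem realized_of_matrix {ι : Type*} [Fintype ι] [DecidableEq ι] (R : G →* Matrix ι ι K) :
    Realized K (fun g => (((R g).trace : K) : ℂ)) := by
  refine ⟨Fintype.card ι,
    (Matrix.reindexAlgEquiv K K (Fintype.equivFin ι)).toAlgHom.toRingHom.toMonoidHom.comp R, ?_⟩
  funext g
  congr 1
  show ∑ i, (R g) i i = ∑ j, (R g) ((Fintype.equivFin ι).symm j) ((Fintype.equivFin ι).symm j)
  exact ((Fintype.equivFin ι).symm.sum_comp (fun i => (R g) i i)).symm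

theorem realized_of_rep {V : Type v} [AddCommGroup V] [Module K V] [FiniteDimensional K V]
    (ρ : Representation K G V) : Realized K (fun g => ((ρ.character g : K) : ℂ)) := by
  classical
  refine ⟨Module.finrank K V,
    (LinearMap.toMatrixAlgEquiv (Module.finBasis K V)).toAlgHom.toRingHom.toMonoidHom.comp ρ, ?_⟩
  funext g
  rw [Representation.character, LinearMap.trace_eq_matrix_trace K (Module.finBasis K V)]
  rfl

theorem realized_zero : Realized K (0 : G → ℂ) := by
  refine ⟨0, 1, funext fun g => ?_⟩
  simp [Matrix.trace]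

theorem realized_add {χ ψ : G → ℂ} (hχ : Realized K χ) (hψ : Realized K ψ) :
    Realized K (χ + ψ) := by
  classical
  obtain ⟨a, A, rfl⟩ := hχ
  obtain ⟨b, B, rfl⟩ := hψ
  let R : G →* Matrix (Fin a ⊕ Fin b) (Fin a ⊕ Fin b) K :=
    { toFun := fun g => Matrix.fromBlocks (A g) 0 0 (B g)
      map_one' := by simp [Matrix.fromBlocks_one]
      map_mul' := fun g h => by simp [Matrix.fromBlocks_multiply] }
  have h : (fun g => (((R g).trace : K) : ℂ)) =
      (fun g => (((A g).trace : K) : ℂ)) + (fun g => (((B g).trace : K) : ℂ)) := by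
    funext g
    simp [R, Matrix.trace, Fintype.sum_sum_type]
  exact h ▸ realized_of_matrix K R

theorem isCharacter_of_realized {χ : G → ℂ} (h : Realized K χ) : IsCharacter G χ := by
  obtain ⟨n, R, rfl⟩ := h
  have := CfsgLib.Induction.isCharacter_of_matrix
    ((RingHom.mapMatrix (algebraMap K ℂ)).toMonoidHom.comp R)
  convert this using 1
  funext g
  simp [Matrix.trace]

/-- A function induced from a linear character with values in `K` is realized. -/
theorem realized_indFun [Fintype G] (E : Subgroup G) (l : E →* ℂˣ)
    (hl : ∀ e, ((l e : ℂˣ) : ℂ) ∈ K) :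
    Realized K (indFun E (fun e => (l e : ℂ))) := by
  classical
  let M : G → Matrix (G ⧸ E) (G ⧸ E) K := fun g => Matrix.of fun a b =>
    if h : a.out⁻¹ * g * b.out ∈ E then ⟨(l ⟨_, h⟩ : ℂ), hl _⟩ else 0
  have hone : M 1 = 1 := by
    ext a b
    simp only [M, Matrix.of_apply, mul_one]
    by_cases hab : a = b
    · subst hab
      simp [show (⟨(1 : G), E.one_mem⟩ : E) = 1 from rfl]
    · rw [Matrix.one_apply_ne hab, dif_neg]
      intro h
      exact hab (by simpa using QuotientGroup.eq.2 h)
  have hmul : ∀ g g', M (g * g') = M g * M g' := by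
    intro g g'
    ext a b
    set c : G ⧸ E := QuotientGroup.mk (g' * b.out) with hc
    have hy : c.out⁻¹ * g' * b.out ∈ E := by
      rw [mul_assoc, ← QuotientGroup.eq, QuotientGroup.out_eq']
    rw [Matrix.mul_apply, Finset.sum_eq_single c]
    · simp only [M, Matrix.of_apply, dif_pos hy]
      by_cases hx : a.out⁻¹ * g * c.out ∈ E
      · have hm : a.out⁻¹ * (g * g') * b.out ∈ E := by
          have := E.mul_mem hx hy
          rwa [show a.out⁻¹ * g * c.out * (c.out⁻¹ * g' * b.out) =
            a.out⁻¹ * (g * g') * b.out by group] at this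
        rw [dif_pos hx, dif_pos hm]
        have he : (⟨_, hm⟩ : E) = ⟨_, hx⟩ * ⟨_, hy⟩ := Subtype.ext (by simp only [Subgroup.coe_mul]; group)
        simp only [he, map_mul, Units.val_mul]
        rfl
      · have hm : a.out⁻¹ * (g * g') * b.out ∉ E := by
          intro h
          apply hx
          have := E.mul_mem h (E.inv_mem hy)
          rwa [show a.out⁻¹ * (g * g') * b.out * (c.out⁻¹ * g' * b.out)⁻¹ =
            a.out⁻¹ * g * c.out by group] at this
        simp [dif_neg hx, dif_neg hm]
    · intro d _ hd
      simp only [M, Matrix.of_apply]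
      rw [dif_neg (c := d.out⁻¹ * g' * b.out ∈ E), mul_zero]
      intro h
      apply hd
      rw [hc]
      rw [mul_assoc, ← QuotientGroup.eq, QuotientGroup.out_eq'] at h
      exact h
    · exact fun h => absurd (Finset.mem_univ _) h
  let R : G →* Matrix (G ⧸ E) (G ⧸ E) K := { toFun := M, map_one' := hone, map_mul' := hmul }
  have hcl : IsClassFunction E (fun e => (l e : ℂ)) := fun a b => by simp [mul_comm]
  have h : (fun g => (((R g).trace : K) : ℂ)) = indFun E (fun e => (l e : ℂ)) := by
    funext g
    rw [CfsgLib.Induction.indFun_eq_sum_quotient E hcl g]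
    simp only [Matrix.trace, Matrix.diag, IntermediateField.coe_sum]
    refine Finset.sum_congr rfl fun q _ => ?_
    by_cases hq : q.out⁻¹ * g * q.out ∈ E
    · rw [CfsgLib.Induction.extendByZero_mem E _ hq]
      simp [R, M, dif_pos hq]
    · rw [CfsgLib.Induction.extendByZero_notMem E _ hq]
      simp [R, M, dif_neg hq]
  exact h ▸ realized_of_matrix K R

variable [Fintype G]

/-- The inner product of characters over `K` is a dimension over `K`. -/
theorem classInner_eq_finrank {V W : Type*} [AddCommGroup V] [Module K V] [FiniteDimensional K V]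
    [AddCommGroup W] [Module K W] [FiniteDimensional K W]
    (ρ : Representation K G V) (σ : Representation K G W) :
    classInner (fun g => ((σ.character g : K) : ℂ)) (fun g => ((ρ.character g : K) : ℂ)) =
      (Module.finrank K (IntertwiningMap ρ σ) : ℂ) := by
  haveI : Invertible (Nat.card G : K) := invertibleOfNonzero (Nat.cast_ne_zero.mpr Nat.card_pos.ne')
  have hinv : ∀ g : G, conj ((ρ.character g : K) : ℂ) = ((ρ.character g⁻¹ : K) : ℂ) := fun g =>
    (char_apply_inv (isCharacter_of_realized K (realized_of_rep K ρ)) g).symm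
  have h := Representation.card_inv_mul_sum_char_mul_char_eq_finrank ρ σ
  simp only [classInner, hinv]
  have h' := congrArg (fun z : K => (z : ℂ)) h
  simpa using h'

/-- Splitting a representation at an intertwining map. -/
theorem character_eq_ker_add_range {V W : Type*} [AddCommGroup V] [Module K V]
    [FiniteDimensional K V] [AddCommGroup W] [Module K W] [FiniteDimensional K W]
    (ρ : Representation K G V) (σ : Representation K G W) (f : IntertwiningMap ρ σ) :
    ρ.character = f.ker.toRepresentation.character +
        f.range.toRepresentation.character := by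
  haveI : NeZero (Nat.card G : K) := ⟨Nat.cast_ne_zero.mpr Nat.card_pos.ne'⟩
  obtain ⟨U, hU⟩ := exists_isCompl f.ker
  have hc : IsCompl f.ker.toSubmodule U.toSubmodule :=
    ⟨disjoint_iff.mpr (congrArg Subrepresentation.toSubmodule hU.inf_eq_bot),
      codisjoint_iff.mpr (congrArg Subrepresentation.toSubmodule hU.sup_eq_top)⟩
  let e₁ : (f.ker.toRepresentation.prod U.toRepresentation).Equiv ρ :=
    Representation.Equiv.mk (Submodule.prodEquivOfIsCompl _ _ hc) (fun g => by
      refine LinearMap.ext fun x => ?_
      simp only [LinearMap.coe_comp, LinearEquiv.coe_coe, Function.comp_apply,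
        Submodule.coe_prodEquivOfIsCompl', Representation.prod_apply_apply, map_add]
      rfl)
  have hmem : ∀ v : V, f v ∈ f.range.toSubmodule := fun v =>
    (f.mem_range ρ σ _).mpr ⟨v, rfl⟩
  let F : U.toSubmodule →ₗ[K] f.range.toSubmodule :=
    (f.toLinearMap.comp U.toSubmodule.subtype).codRestrict _ (fun x => hmem x.1)
  have hF : Function.Bijective F := by
    refine ⟨?_, fun y => ?_⟩
    · rw [injective_iff_map_eq_zero]
      intro x hx
      have h0 : (x : V) ∈ f.ker.toSubmodule :=
        (f.mem_ker ρ σ _).mpr (congrArg Subtype.val hx)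
      exact Subtype.ext (Submodule.disjoint_def.mp hc.disjoint _ h0 x.2)
    · obtain ⟨v, hv⟩ := (f.mem_range ρ σ _).mp y.2
      obtain ⟨⟨a, b⟩, rfl⟩ := (Submodule.prodEquivOfIsCompl _ _ hc).surjective v
      refine ⟨b, Subtype.ext ?_⟩
      rw [← hv, Submodule.coe_prodEquivOfIsCompl', map_add,
        (f.mem_ker ρ σ _).mp a.2, zero_add]
      rfl
  let e₂ : U.toRepresentation.Equiv f.range.toRepresentation :=
    Representation.Equiv.mk (LinearEquiv.ofBijective F hF) (fun g => LinearMap.ext fun x =>
      Subtype.ext (LinearMap.congr_fun (f.isIntertwining' g) x))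
  rw [← Representation.char_iso e₁, ← Representation.char_iso e₂]
  funext g
  exact LinearMap.trace_prodMap' (f.ker.toRepresentation g) (U.toRepresentation g)

theorem char_split_top {W : Type*} [AddCommGroup W] [Module K W] [FiniteDimensional K W]
    (σ : Representation K G W) (U : Subrepresentation σ) :
    ∃ U' : Subrepresentation σ,
      σ.character = U.toRepresentation.character + U'.toRepresentation.character ∧
      Module.finrank K U.toSubmodule + Module.finrank K U'.toSubmodule = Module.finrank K W := by
  haveI : NeZero (Nat.card G : K) := ⟨Nat.cast_ne_zero.mpr Nat.card_pos.ne'⟩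
  obtain ⟨U', hU⟩ := exists_isCompl U
  have hc : IsCompl U.toSubmodule U'.toSubmodule :=
    ⟨disjoint_iff.mpr (congrArg Subrepresentation.toSubmodule hU.inf_eq_bot),
      codisjoint_iff.mpr (congrArg Subrepresentation.toSubmodule hU.sup_eq_top)⟩
  let e₁ : (U.toRepresentation.prod U'.toRepresentation).Equiv σ :=
    Representation.Equiv.mk (Submodule.prodEquivOfIsCompl _ _ hc) (fun g => by
      refine LinearMap.ext fun x => ?_
      simp only [LinearMap.coe_comp, LinearEquiv.coe_coe, Function.comp_apply,
        Submodule.coe_prodEquivOfIsCompl', Representation.prod_apply_apply, map_add]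
      rfl)
  refine ⟨U', ?_, Submodule.finrank_add_eq_of_isCompl hc⟩
  rw [← Representation.char_iso e₁]
  funext g
  exact LinearMap.trace_prodMap' (U.toRepresentation g) (U'.toRepresentation g)

/-- A virtual `K`-character that is an irreducible complex character is realized over `K`. -/
theorem realized_of_virtual {χ : G → ℂ} (hχ : IsIrrCharacter G χ) :
    ∀ (b a : ℕ) (A : Representation K G (Fin a → K)) (B : Representation K G (Fin b → K)),
      χ = (fun g => ((A.character g : K) : ℂ)) - (fun g => ((B.character g : K) : ℂ)) →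
      Realized K χ := by
  intro b
  induction b using Nat.strong_induction_on with
  | _ b ih =>
    intro a A B hAB
    by_cases hb : b = 0
    · subst hb
      have h0 : (fun g => ((B.character g : K) : ℂ)) = 0 := funext fun g => by
        simp [Representation.character, Subsingleton.elim (B g) 0]
      rw [hAB, h0, sub_zero]
      exact realized_of_rep K A
    by_cases hhom : Module.finrank K (IntertwiningMap A B) = 0
    · exfalso
      haveI : Nontrivial (Fin b → K) := by
        haveI : Nonempty (Fin b) := ⟨⟨0, Nat.pos_of_ne_zero hb⟩⟩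
        infer_instance
      have hBA : classInner (fun g => ((B.character g : K) : ℂ))
          (fun g => ((A.character g : K) : ℂ)) = 0 := by
        rw [classInner_eq_finrank, hhom, Nat.cast_zero]
      have hAB' : classInner (fun g => ((A.character g : K) : ℂ))
          (fun g => ((B.character g : K) : ℂ)) = 0 := by
        rw [classInner_conj_symm, hBA, map_zero]
      have h1 := classInner_irr_self hχ
      rw [hAB, classInner_sub_left, classInner_sub_right, classInner_sub_right, hBA, hAB',
        classInner_eq_finrank, classInner_eq_finrank] at h1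
      simp only [sub_zero, zero_sub, sub_neg_eq_add] at h1
      have h1' : Module.finrank K (IntertwiningMap A A) +
          Module.finrank K (IntertwiningMap B B) = 1 := by exact_mod_cast h1
      have hB1 : 0 < Module.finrank K (IntertwiningMap B B) := by
        rw [Module.finrank_pos_iff]
        obtain ⟨v, hv⟩ := exists_ne (0 : Fin b → K)
        exact ⟨⟨IntertwiningMap.id B, 0, fun h => hv (DFunLike.congr_fun h v)⟩⟩
      obtain ⟨n, hn, hn'⟩ := irr_exists_degree hχ
      have hdeg := congrFun hAB 1
      simp only [Pi.sub_apply, Representation.char_one, hn', Module.finrank_fin_fun] at hdeg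
      have hdeg' : (n : ℤ) = (a : ℤ) - b := by
        have hcast : (n : ℂ) = (a : ℂ) - (b : ℂ) := by
          rw [hdeg]; simp
        exact_mod_cast hcast
      haveI : Nontrivial (Fin a → K) := by
        haveI : Nonempty (Fin a) := ⟨⟨0, by omega⟩⟩
        infer_instance
      have hA1 : 0 < Module.finrank K (IntertwiningMap A A) := by
        rw [Module.finrank_pos_iff]
        obtain ⟨v, hv⟩ := exists_ne (0 : Fin a → K)
        exact ⟨⟨IntertwiningMap.id A, 0, fun h => hv (DFunLike.congr_fun h v)⟩⟩
      omega
    · haveI : Nontrivial (IntertwiningMap A B) :=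
        Module.nontrivial_of_finrank_pos (R := K) (Nat.pos_of_ne_zero hhom)
      obtain ⟨f, hf⟩ := exists_ne (0 : IntertwiningMap A B)
      obtain ⟨R, hR, hdim⟩ := char_split_top K B f.range
      have hpos : 0 < Module.finrank K f.range.toSubmodule := by
        rw [Module.finrank_pos_iff, Submodule.nontrivial_iff_ne_bot]
        intro h0
        refine hf (IntertwiningMap.ext (LinearMap.ext fun v => ?_))
        have hm : f v ∈ f.range.toSubmodule :=
          (f.mem_range A B _).mpr ⟨v, rfl⟩
        rwa [h0, Submodule.mem_bot] at hm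
      obtain ⟨a', A', hA'⟩ := realized_of_rep K f.ker.toRepresentation
      let eR := Module.finBasis K R.toSubmodule
      let B' : Representation K G (Fin (Module.finrank K R.toSubmodule) → K) :=
        { toFun := fun g => eR.equivFun.conj (R.toRepresentation g)
          map_one' := by rw [map_one]; exact LinearEquiv.conj_id _
          map_mul' := fun g h => by rw [map_mul]; exact LinearEquiv.conj_comp _ _ _ }
      have hB' : B'.character = R.toRepresentation.character := funext fun g =>
        LinearMap.trace_conj' (R.toRepresentation g) eR.equivFun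
      let A'' : Representation K G (Fin a' → K) :=
        (Matrix.toLinAlgEquiv' (R := K)).toAlgHom.toRingHom.toMonoidHom.comp A'
      have hA'' : ∀ g, A''.character g = (A' g).trace := fun g => by
        show LinearMap.trace K _ (Matrix.toLinAlgEquiv' (A' g)) = _
        exact Matrix.trace_toLin'_eq (A' g)
      refine ih (Module.finrank K R.toSubmodule) (by
        rw [Module.finrank_fin_fun] at hdim
        omega) a' A'' B' ?_
      rw [hAB]
      funext g
      have hg := congrFun hA' g
      simp only [Pi.sub_apply, hA'', hB', ← hg, character_eq_ker_add_range K A B f, hR,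
        Pi.add_apply, IntermediateField.coe_add]
      ring

omit [Fintype G] in
theorem exists_virtual_of_realized {χ ψ : G → ℂ} (hχ : Realized K χ) (hψ : Realized K ψ) :
    ∃ (a b : ℕ) (A : Representation K G (Fin a → K)) (B : Representation K G (Fin b → K)),
      χ - ψ = (fun g => ((A.character g : K) : ℂ)) - (fun g => ((B.character g : K) : ℂ)) := by
  obtain ⟨a, A, rfl⟩ := hχ
  obtain ⟨b, B, rfl⟩ := hψ
  refine ⟨a, b, (Matrix.toLinAlgEquiv' (R := K)).toAlgHom.toRingHom.toMonoidHom.comp A,
    (Matrix.toLinAlgEquiv' (R := K)).toAlgHom.toRingHom.toMonoidHom.comp B, ?_⟩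
  funext g
  simp only [Pi.sub_apply, Representation.character]
  congr 2
  · exact (Matrix.trace_toLin'_eq (A g)).symm
  · exact (Matrix.trace_toLin'_eq (B g)).symm

/-- Every character is realized over a field containing enough roots of unity. -/
theorem realized_of_isCharacter (hK : ∀ z : ℂ, z ^ Monoid.exponent G = 1 → z ∈ K)
    {χ : G → ℂ} (hχ : IsCharacter G χ) : Realized K χ := by
  have hvirt : ∀ f ∈ CfsgLib.Brauer.brauerSpan G,
      ∃ α β : G → ℂ, Realized K α ∧ Realized K β ∧ f = α - β := by
    intro f hf
    induction hf using AddSubgroup.closure_induction with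
    | mem x hx =>
      obtain ⟨E, p, l, _, _, rfl⟩ := hx
      refine ⟨_, 0, realized_indFun K E l (fun e => hK _ ?_), realized_zero K, (sub_zero _).symm⟩
      rw [← Units.val_pow_eq_pow_val, ← map_pow,
        show e ^ Monoid.exponent G = 1 from Subtype.ext (Monoid.pow_exponent_eq_one (e : G)),
        map_one, Units.val_one]
    | zero => exact ⟨0, 0, realized_zero K, realized_zero K, (sub_zero _).symm⟩
    | add a b _ _ ha hb =>
      obtain ⟨α, β, hα, hβ, rfl⟩ := ha
      obtain ⟨γ, δ, hγ, hδ, rfl⟩ := hb
      exact ⟨α + γ, β + δ, realized_add K hα hγ, realized_add K hβ hδ, by abel⟩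
    | neg a _ ha =>
      obtain ⟨α, β, hα, hβ, rfl⟩ := ha
      exact ⟨β, α, hβ, hα, neg_sub α β⟩
  obtain ⟨m, _, hm⟩ := CfsgLib.Clifford.exists_mult hχ
  rw [hm]
  refine Finset.sum_induction _ (Realized K) (fun _ _ => realized_add K) (realized_zero K)
    fun ψ _ => ?_
  have hψ : Realized K (ψ : G → ℂ) := by
    obtain ⟨α, β, hα, hβ, h⟩ := hvirt _ (CfsgLib.Brauer.irr_mem_brauerSpan G _ ψ.2)
    obtain ⟨a, b, A, B, h'⟩ := exists_virtual_of_realized K hα hβ
    exact realized_of_virtual K ψ.2 b a A B (h.trans h')
  generalize m ψ = k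
  induction k with
  | zero => simpa using realized_zero K
  | succ k ihk => rw [Nat.cast_succ, add_smul, one_smul]; exact realized_add K ihk hψ

/-- Brauer's splitting field theorem. -/
theorem exists_cyclotomic_model (n : ℕ) (ρ : Representation ℂ G (Fin n → ℂ)) :
    ∃ σ : Representation ℂ G (Fin n → ℂ), Nonempty (ρ.Equiv σ) ∧
      ∀ g : G, ∀ i j : Fin n, LinearMap.toMatrix' (σ g) i j ∈
        Algebra.adjoin ℚ
          ({Complex.exp (2 * Real.pi * Complex.I / (Monoid.exponent G : ℂ))} : Set ℂ) := by
  classical
  set ζ : ℂ := Complex.exp (2 * Real.pi * Complex.I / (Monoid.exponent G : ℂ)) with hζ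
  have he : Monoid.exponent G ≠ 0 := Monoid.exponent_ne_zero_of_finite
  haveI : NeZero (Monoid.exponent G) := ⟨he⟩
  have hprim : IsPrimitiveRoot ζ (Monoid.exponent G) := Complex.isPrimitiveRoot_exp _ he
  have halg : IsAlgebraic ℚ ζ :=
    (IsIntegral.of_pow (Nat.pos_of_ne_zero he) (by rw [hprim.pow_eq_one]; exact isIntegral_one) :
      IsIntegral ℚ ζ).isAlgebraic
  have hK : ∀ z : ℂ, z ^ Monoid.exponent G = 1 → z ∈ IntermediateField.adjoin ℚ ({ζ} : Set ℂ) := by
    intro z hz
    obtain ⟨i, _, rfl⟩ := hprim.eq_pow_of_pow_eq_one hz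
    exact pow_mem (IntermediateField.mem_adjoin_simple_self ℚ ζ) i
  obtain ⟨m, R, hR⟩ := realized_of_isCharacter _ hK (χ := ρ.character) ⟨n, ρ, rfl⟩
  have hnm : m = n := by
    have := congrFun hR 1
    rw [Representation.char_one, Module.finrank_fin_fun, map_one, Matrix.trace_one] at this
    have h2 : (n : ℂ) = (m : ℂ) := by rw [this]; simp
    exact_mod_cast h2.symm
  subst hnm
  let σ : Representation ℂ G (Fin m → ℂ) :=
    (Matrix.toLinAlgEquiv' (R := ℂ)).toAlgHom.toRingHom.toMonoidHom.comp
      ((RingHom.mapMatrix (algebraMap (IntermediateField.adjoin ℚ ({ζ} : Set ℂ)) ℂ)).toMonoidHom.comp R)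
  have hσ : ∀ g, LinearMap.toMatrix' (σ g) =
      (R g).map (algebraMap (IntermediateField.adjoin ℚ ({ζ} : Set ℂ)) ℂ) := fun g =>
    LinearMap.toMatrix'_toLin' _
  refine ⟨σ, nonempty_equiv_of_character_eq ρ σ ?_, fun g i j => ?_⟩
  · funext g
    rw [hR, show σ.character g = LinearMap.trace ℂ (Fin m → ℂ) (σ g) from rfl,
      LinearMap.trace_eq_matrix_trace ℂ (Pi.basisFun ℂ (Fin m)), LinearMap.toMatrix_eq_toMatrix',
      hσ]
    simp [Matrix.trace]
  · rw [hσ, Matrix.map_apply, ← IntermediateField.adjoin_simple_toSubalgebra_of_isAlgebraic halg]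
    exact ((R g) i j).2

end CfsgLib.SplittingField
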