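import Cfsg.Agent.Lib.Characters.Induction

/-!
# Induction from the normalizer of a trivial-intersection subset
-/

set_option autoImplicit false

namespace CfsgLib.CharTI

open CfsgLib.Induction
open scoped ComplexConjugate

variable {G : Type*} [Group G] [Fintype G] {T : Set G}

/-- On nontrivial elements of `T`, induction from the normalizer of `T` is extension. -/
theorem indFun_eq_of_ti
    (hTI : ∀ g : G, g ∉ Subgroup.normalizer T → ∀ t ∈ T, g * t * g⁻¹ ∈ T → t = 1)
    {ψ : Subgroup.normalizer T → ℂ} (hψ : Cfsg.IsClassFunction (Subgroup.normalizer T) ψ)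
    (hψT : ∀ x : Subgroup.normalizer T, (x : G) ∉ T → ψ x = 0)
    (t : Subgroup.normalizer T) (htT : (t : G) ∈ T) (ht1 : t ≠ 1) :
    Cfsg.indFun (Subgroup.normalizer T) ψ t = ψ t := by
  classical
  have hterm : ∀ x : G, Cfsg.extendByZero (Subgroup.normalizer T) ψ (x⁻¹ * (t : G) * x) = if x ∈ (Subgroup.normalizer T) then ψ t else 0 := by
    intro x
    split_ifs with hx
    · have := extendByZero_conj (Subgroup.normalizer T) hψ (⟨x, hx⟩⁻¹ : (Subgroup.normalizer T)) (t : G)
      rw [show ((⟨x, hx⟩⁻¹ : (Subgroup.normalizer T)) : G) = x⁻¹ from rfl, inv_inv] at this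
      rw [this]
      exact extendByZero_mem (Subgroup.normalizer T) ψ t.2
    · by_cases hy : x⁻¹ * (t : G) * x ∈ (Subgroup.normalizer T)
      · rw [extendByZero_mem (Subgroup.normalizer T) ψ hy]
        refine hψT _ fun hT => ht1 (Subtype.ext ?_)
        exact hTI x⁻¹ (fun h => hx (by simpa using (Subgroup.normalizer T).inv_mem h)) t htT (by simpa using hT)
      · exact extendByZero_notMem (Subgroup.normalizer T) ψ hy
  rw [indFun_apply, Finset.sum_congr rfl fun x _ => hterm x, ← Finset.sum_filter, Finset.sum_const,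
    nsmul_eq_mul]
  have hc : (Finset.univ.filter fun x => x ∈ (Subgroup.normalizer T)).card = Nat.card (Subgroup.normalizer T) := by
    rw [Nat.card_eq_fintype_card, Fintype.card_subtype]
  rw [hc, inv_mul_cancel_left₀ natCard_ne_zero']

/-- Induction is an isometry on functions on `T` vanishing at the identity. -/
theorem classInner_indFun_of_ti [Fintype (Subgroup.normalizer T)]
    (hTI : ∀ g : G, g ∉ Subgroup.normalizer T → ∀ t ∈ T, g * t * g⁻¹ ∈ T → t = 1)
    {ψ θ : Subgroup.normalizer T → ℂ}
    (hθ : Cfsg.IsClassFunction (Subgroup.normalizer T) θ)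
    (hψT : ∀ x : Subgroup.normalizer T, (x : G) ∉ T → ψ x = 0)
    (hθT : ∀ x : Subgroup.normalizer T, (x : G) ∉ T → θ x = 0) (hψ1 : ψ 1 = 0) :
    Cfsg.classInner (Cfsg.indFun (Subgroup.normalizer T) ψ)
      (Cfsg.indFun (Subgroup.normalizer T) θ) = Cfsg.classInner ψ θ := by
  rw [classInner_indFun _ _ (isClassFunction_indFun _ θ)]
  unfold Cfsg.classInner
  congr 1
  refine Finset.sum_congr rfl fun x _ => ?_
  by_cases hx : (x : G) ∈ T ∧ x ≠ 1
  · simp only
    rw [indFun_eq_of_ti hTI hθ hθT x hx.1 hx.2]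
  · rcases not_and_or.mp hx with h | h
    · rw [hψT x h, zero_mul, zero_mul]
    · rw [not_not.mp h, hψ1, zero_mul, zero_mul]

end CfsgLib.CharTI
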